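import Groth.Agent.DualCx.Residue
import Groth.Agent.Depth.Local
import Mathlib.RingTheory.KrullDimension.Regular

/-!
# `Ext(M, ω)` for a dualizing complex: finiteness; normalized complexes over local rings
-/

universe u

open CategoryTheory CategoryTheory.Limits IsLocalRing
open scoped Pointwise

attribute [local instance] HasDerivedCategory.standard

namespace Groth.Agent.DualCx.Normal

variable {A : Type u} [CommRing A] {ω : Dual.D A}

open Devissage (E pre)

theorem pre_add {M' M : Type u} [AddCommGroup M'] [Module A M'] [AddCommGroup M] [Module A M]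
    (f g : M' →ₗ[A] M) (j : ℤ) (e : E M ω j) : pre (f + g) ω j e = pre f ω j e + pre g ω j e := by
  change (DerivedCategory.singleFunctor (ModuleCat.{u} A) 0).map (ModuleCat.ofHom (f + g)) ≫ e = _
  rw [show ModuleCat.ofHom (f + g) = ModuleCat.ofHom f + ModuleCat.ofHom g from rfl,
    Functor.map_add, Preadditive.add_comp]
  rfl

theorem pre_sum {M' M : Type u} [AddCommGroup M'] [Module A M'] [AddCommGroup M] [Module A M]
    {ι : Type*} (s : Finset ι) (f : ι → M' →ₗ[A] M) (j : ℤ) (e : E M ω j) :
    pre (∑ i ∈ s, f i) ω j e = ∑ i ∈ s, pre (f i) ω j e := by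
  classical
  induction s using Finset.induction_on with
  | empty =>
    simp only [Finset.sum_empty]
    rw [← zero_smul A (0 : M' →ₗ[A] M), Devissage.pre_smul, zero_smul]
  | insert a s ha ih => rw [Finset.sum_insert ha, Finset.sum_insert ha, pre_add, ih]

theorem finite_E_free [IsNoetherianRing A] (hω : Dual.IsDualizing A ω) (n : ℕ) (j : ℤ) :
    Module.Finite A (E (Fin n → A) ω j) := by
  classical
  have := hω.finite_cohomology j
  have h1 : Module.Finite A (E A ω j) := Module.Finite.equiv (Cx.homUnitEquivShift ω j).symm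
  let g : (Fin n → E A ω j) →ₗ[A] E (Fin n → A) ω j :=
    ∑ i, (pre (LinearMap.proj i : (Fin n → A) →ₗ[A] A) ω j).comp (LinearMap.proj i)
  refine Module.Finite.of_surjective g fun e => ⟨fun i => pre (LinearMap.single A (fun _ => A) i) ω j e, ?_⟩
  have hid : (LinearMap.id : (Fin n → A) →ₗ[A] (Fin n → A)) =
      ∑ i, (LinearMap.single A (fun _ => A) i).comp (LinearMap.proj i) := by
    ext i k
    simp [Pi.single_apply]
  conv_rhs => rw [← Devissage.pre_id j e, hid, pre_sum]
  simp only [g, LinearMap.sum_apply, LinearMap.comp_apply, LinearMap.proj_apply]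
  exact Finset.sum_congr rfl fun i _ => (Devissage.pre_comp _ _ j e).symm

/-- `Ext^i(M, ω)` is finite for finite `M`. -/
theorem finite_E [IsNoetherianRing A] (hω : Dual.IsDualizing A ω) (M : Type u) [AddCommGroup M]
    [Module A M] [Module.Finite A M] (j : ℤ) : Module.Finite A (E M ω j) := by
  obtain ⟨a, b, hab⟩ := hω.finite_injective_dimension
  suffices ∀ (n : ℕ) (M : Type u) [AddCommGroup M] [Module A M] [Module.Finite A M] (j : ℤ),
      j < a + n → Module.Finite A (E M ω j) from this ((j - a).toNat + 1) M j (by omega)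
  intro n
  induction n with
  | zero => intro M _ _ _ j hj; have := hab M j (Or.inl (by omega)); infer_instance
  | succ n ih =>
    intro M _ _ _ j hj
    obtain ⟨m, g, hg⟩ := Module.Finite.exists_fin' A M
    have hf := Submodule.injective_subtype (LinearMap.ker g)
    have hx : Function.Exact (LinearMap.ker g).subtype g := LinearMap.exact_subtype_ker_map g
    have h1 : Module.Finite A (E (LinearMap.ker g) ω (j - 1)) := ih _ _ (by omega)
    have := finite_E_free hω m j
    have hx2 := Hom.exact_cδ_pre A ω
      (Devissage.sc_shortExact hf hg hx).singleTriangle_distinguished (j - 1) j (by omega)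
    have h2 : Module.Finite A (LinearMap.ker (pre g ω j)) := by
      have : LinearMap.ker (pre g ω j) = LinearMap.range (Hom.cδ A
          (Devissage.sc_shortExact hf hg hx).singleTriangle ω (j - 1) j (by omega)) :=
        Submodule.ext fun e => hx2 e
      rw [this]
      have : Module.Finite A
          ((Devissage.sc_shortExact hf hg hx).singleTriangle.obj₁ ⟶ ω⟦j - 1⟧) := h1
      exact @Module.Finite.of_surjective A _ _ _ _ _ _ _ _ _ _ this (Hom.cδ A
        (Devissage.sc_shortExact hf hg hx).singleTriangle ω (j - 1) j (by omega)).rangeRestrict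
        (LinearMap.surjective_rangeRestrict _)
    have : IsNoetherian A (E (Fin m → A) ω j) := inferInstance
    have h3 : Module.Finite A (E M ω j ⧸ LinearMap.ker (pre g ω j)) :=
      Module.Finite.equiv (pre g ω j).quotKerEquivRange.symm
    exact Module.Finite.of_submodule_quotient (LinearMap.ker (pre g ω j))

section Local

variable [IsLocalRing A] [IsNoetherianRing A] (hω : Dual.IsDualizing A ω)
  (hn : Dual.IsNormalized A ω)

include hω hn

theorem nonempty_residue : Nonempty (E (ResidueField A) ω 0 ≃ₗ[A] ResidueField A) := by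
  obtain ⟨n, hvan, ⟨e⟩⟩ := Residue.residue_single hω
  by_cases h : n = 0
  · subst h; exact ⟨e⟩
  · have := hn n h
    exact absurd (e.symm.toEquiv.subsingleton) (not_subsingleton _)

omit [IsNoetherianRing A] hω in
theorem subsingleton_finiteLength {N : Type u} [AddCommGroup N] [Module A N] (hN : IsFiniteLength A N)
    (i : ℤ) (hi : i ≠ 0) : Subsingleton (E N ω i) :=
  Devissage.subsingleton_finiteLength i (hn i hi) hN

theorem length_finiteLength {N : Type u} [AddCommGroup N] [Module A N] (hN : IsFiniteLength A N) :
    Module.length A (E N ω 0) = Module.length A N := by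
  obtain ⟨e⟩ := nonempty_residue hω hn
  have : IsSimpleModule A (ResidueField A) := isSimpleModule_iff_quot_maximal.mpr
    ⟨maximalIdeal A, inferInstance, ⟨LinearEquiv.refl _ _⟩⟩
  rw [Residue.length_E hn hN, e.length_eq, Module.length_eq_one A (ResidueField A), one_mul]

omit hn in
theorem subsingleton_of_smul_surjective {M : Type u} [AddCommGroup M] [Module A M]
    [Module.Finite A M] {x : A} (hx : x ∈ maximalIdeal A) (i : ℤ)
    (h : ∀ e : E M ω i, ∃ e', x • e' = e) : Subsingleton (E M ω i) := by
  have := finite_E hω M i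
  have h2 : (⊤ : Submodule A (E M ω i)) = ⊥ :=
    Submodule.eq_bot_of_le_smul_of_le_jacobson_bot (Ideal.span {x}) ⊤ Module.Finite.fg_top
      (fun e _ => by
        obtain ⟨e', rfl⟩ := h e
        exact Submodule.smul_mem_smul (Ideal.mem_span_singleton_self x) trivial)
      (by rwa [IsLocalRing.jacobson_eq_maximalIdeal _ bot_ne_top, Ideal.span_le,
        Set.singleton_subset_iff, SetLike.mem_coe])
  exact (Submodule.subsingleton_iff A).mp (subsingleton_of_bot_eq_top h2.symm)

omit [IsLocalRing A] [IsNoetherianRing A] hω hn in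
theorem exists_smul_eq_of_exact {M : Type u} [AddCommGroup M] [Module A M] {x : A}
    (hreg : IsSMulRegular M x) (i : ℤ) (h : Subsingleton (E (QuotSMulTop x M) ω (i + 1)))
    (e : E M ω i) : ∃ e', x • e' = e := by
  obtain ⟨e', he'⟩ := Devissage.surjective_pre (f := x • (LinearMap.id : M →ₗ[A] M))
    (g := (x • (⊤ : Submodule A M)).mkQ) hreg (Submodule.mkQ_surjective _) (fun m => by
      simp [Submodule.mem_smul_pointwise_iff_exists]) i h e
  exact ⟨e', by rw [← he', Devissage.pre_smul, Devissage.pre_id]⟩

/-- Vanishing outside `[-dim M, 0]`. -/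
theorem subsingleton_E : ∀ (d : ℕ) (M : Type u) [AddCommGroup M] [Module A M] [Module.Finite A M],
    Module.supportDim A M ≤ d → ∀ i : ℤ, (i < -(d : ℤ) ∨ 0 < i) → Subsingleton (E M ω i) := by
  intro d
  induction d using Nat.strong_induction_on with
  | _ d ih =>
  intro M _ _ hM
  induction hM using IsNoetherianRing.induction_on_isQuotientEquivQuotientPrime A with
  | subsingleton N =>
    intro _ i _
    exact Devissage.subsingleton_of_subsingleton i
  | quotient N p e =>
    intro hd i hi
    rw [Module.supportDim_eq_of_equiv e] at hd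
    refine (Devissage.congrE e ω i).toEquiv.subsingleton_congr.mpr ?_
    by_cases hp : p.1 = maximalIdeal A
    · rw [hp]
      exact hn i (by omega)
    · obtain ⟨x, hxm, hxp⟩ := SetLike.exists_of_lt
        (lt_of_le_of_ne (IsLocalRing.le_maximalIdeal p.2.ne_top) hp)
      have hreg : IsSMulRegular (A ⧸ p.1) x := by
        intro a b hab
        obtain ⟨a, rfl⟩ := Ideal.Quotient.mk_surjective a
        obtain ⟨b, rfl⟩ := Ideal.Quotient.mk_surjective b
        simp only [Algebra.smul_def, Ideal.Quotient.algebraMap_eq, ← map_mul] at hab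
        rw [Ideal.Quotient.eq, ← mul_sub] at hab
        rw [Ideal.Quotient.eq]
        exact (p.2.mem_or_mem hab).resolve_left hxp
      have hdim := Module.supportDim_quotSMulTop_succ_eq_supportDim_mem_jacobson (M := A ⧸ p.1) hreg
        (by rwa [Ideal.annihilator_quotient, IsLocalRing.jacobson_eq_maximalIdeal _ p.2.ne_top])
      have hQ : Nontrivial (QuotSMulTop x (A ⧸ p.1)) :=
        Submodule.Quotient.nontrivial_iff.mpr fun h => by
          have := Submodule.eq_bot_of_le_smul_of_le_jacobson_bot (Ideal.span {x})
            (⊤ : Submodule A (A ⧸ p.1)) Module.Finite.fg_top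
            (by rw [Submodule.ideal_span_singleton_smul, h]) (by
              rwa [IsLocalRing.jacobson_eq_maximalIdeal _ bot_ne_top, Ideal.span_le,
                Set.singleton_subset_iff, SetLike.mem_coe])
          exact not_subsingleton (A ⧸ p.1)
            ((Submodule.subsingleton_iff A).mp (subsingleton_of_bot_eq_top this.symm))
      have hle : Module.supportDim A (QuotSMulTop x (A ⧸ p.1)) + 1 ≤ d := hdim ▸ hd
      obtain ⟨d', rfl⟩ : ∃ d', d = d' + 1 := by
        rcases Nat.eq_zero_or_pos d with rfl | hpos
        · exfalso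
          have h0 : (0 : WithBot ℕ∞) ≤ Module.supportDim A (QuotSMulTop x (A ⧸ p.1)) := by
            rw [Module.supportDim_eq_ringKrullDim_quotient_annihilator]
            have : Nontrivial (A ⧸ Module.annihilator A (QuotSMulTop x (A ⧸ p.1))) :=
              Ideal.Quotient.nontrivial_iff.mpr fun h => not_subsingleton (QuotSMulTop x (A ⧸ p.1))
                (subsingleton_of_forall_eq 0 fun m => by
                  rw [← one_smul A m]
                  exact Module.mem_annihilator.mp (h ▸ trivial) m)
            exact ringKrullDim_nonneg_of_nontrivial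
          have := le_trans (add_le_add h0 le_rfl) hle
          norm_num at this
        · exact ⟨d - 1, by omega⟩
      have hle' : Module.supportDim A (QuotSMulTop x (A ⧸ p.1)) ≤ (d' : ℕ) := by
        push_cast at hle
        generalize Module.supportDim A (QuotSMulTop x (A ⧸ p.1)) = s at hle ⊢
        cases s with
        | bot => exact bot_le
        | coe s =>
          cases s with
          | top =>
            exfalso
            rw [← WithBot.coe_one, ← WithBot.coe_add, top_add] at hle
            exact absurd (WithBot.coe_le_coe.mp (by exact_mod_cast hle :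
              ((⊤ : ℕ∞) : WithBot ℕ∞) ≤ (((d' + 1 : ℕ) : ℕ∞) : WithBot ℕ∞))) (by simp)
          | coe s => norm_cast at hle ⊢; omega
      exact subsingleton_of_smul_surjective hω hxm i (exists_smul_eq_of_exact hreg i
        (ih d' (by omega) _ hle' (i + 1) (by omega)))
  | exact N₁ N₂ N₃ f g hf hg hfg h₁ h₃ =>
    intro hd i hi
    exact Devissage.subsingleton_mid hf hg hfg i
      (h₁ ((Module.supportDim_le_of_injective f hf).trans hd) i hi)
      (h₃ ((Module.supportDim_le_of_surjective g hg).trans hd) i hi)

omit hω hn in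
theorem exists_supportDim (M : Type u) [AddCommGroup M] [Module A M] :
    ∃ d : ℕ, Module.supportDim A M ≤ d := by
  obtain ⟨d, hd⟩ : ∃ d : ℕ, ringKrullDim A = d := by
    have h1 := ringKrullDim_lt_top (R := A)
    have h2 : (0 : WithBot ℕ∞) ≤ ringKrullDim A := ringKrullDim_nonneg_of_nontrivial
    obtain ⟨a, ha⟩ := WithBot.ne_bot_iff_exists.mp (ne_bot_of_le_ne_bot (by simp) h2)
    rw [← ha] at h1
    lift a to ℕ using (by rintro rfl; exact lt_irrefl _ h1)
    exact ⟨a, ha.symm⟩
  exact ⟨d, (Module.supportDim_le_ringKrullDim A M).trans hd.le⟩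

theorem subsingleton_E_pos (M : Type u) [AddCommGroup M] [Module A M] [Module.Finite A M] (i : ℤ)
    (hi : 0 < i) : Subsingleton (E M ω i) := by
  obtain ⟨d, hd⟩ := exists_supportDim (A := A) M
  exact subsingleton_E hω hn d M hd i (Or.inr hi)

/-- depth through `Ext(-, ω)` -/
theorem depth_spec : ∀ (n : ℕ) (M : Type u) [AddCommGroup M] [Module A M] [Module.Finite A M]
    [Nontrivial M], LocCoh.depth A M = n →
      (∀ δ : ℕ, δ < n → Subsingleton (E M ω (-(δ : ℤ)))) ∧ Nontrivial (E M ω (-(n : ℤ))) := by
  intro n
  induction n with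
  | zero =>
    intro M _ _ _ _ h
    refine ⟨fun δ hδ => absurd hδ (Nat.not_lt_zero δ), ?_⟩
    rw [Depth.depth_eq_idealDepth] at h
    obtain ⟨p, hp, hle⟩ := (Depth.idealDepth_eq_zero_iff (I := maximalIdeal A) (M := M)).mp h
    obtain rfl : maximalIdeal A = p :=
      (maximalIdeal.isMaximal A).eq_of_le hp.isPrime.ne_top hle
    obtain ⟨-, v, hv⟩ := isAssociatedPrime_iff.mp hp
    have hker : maximalIdeal A = LinearMap.ker (LinearMap.toSpanSingleton A M v) := by
      rw [hv]; ext a; simp [Submodule.mem_colon_singleton]
    let f : A ⧸ maximalIdeal A →ₗ[A] M :=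
      Submodule.liftQ _ (LinearMap.toSpanSingleton A M v) hker.le
    have hf : Function.Injective f :=
      LinearMap.ker_eq_bot.mp (Submodule.ker_liftQ_eq_bot _ _ _ hker.ge)
    obtain ⟨e⟩ := nonempty_residue hω hn
    have : Nontrivial (E (A ⧸ maximalIdeal A) ω 0) := e.toEquiv.nontrivial
    have hs : Function.Surjective (pre f ω 0) :=
      Devissage.surjective_pre hf (Submodule.mkQ_surjective _)
        (LinearMap.exact_map_mkQ_range f) 0 (subsingleton_E_pos hω hn _ _ (by norm_num))
    exact hs.nontrivial
  | succ n ih =>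
    intro M _ _ _ _ h
    rw [Depth.depth_eq_idealDepth] at h
    obtain ⟨x, hx, hreg⟩ := Depth.exists_isSMulRegular_of_one_le_idealDepth
      (I := maximalIdeal A) (M := M) (by rw [h]; simp)
    have : Nontrivial (QuotSMulTop x M) := Submodule.Quotient.nontrivial_iff.mpr fun hxM => by
      have := Submodule.eq_bot_of_le_smul_of_le_jacobson_bot (Ideal.span {x})
        (⊤ : Submodule A M) Module.Finite.fg_top
        (by rw [Submodule.ideal_span_singleton_smul, hxM]) (by
          rwa [IsLocalRing.jacobson_eq_maximalIdeal _ bot_ne_top, Ideal.span_le,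
            Set.singleton_subset_iff, SetLike.mem_coe])
      exact not_subsingleton M
        ((Submodule.subsingleton_iff A).mp (subsingleton_of_bot_eq_top this.symm))
    have hdep : LocCoh.depth A (QuotSMulTop x M) = n := by
      rw [Depth.depth_eq_idealDepth]
      have := Depth.idealDepth_quotSMulTop_add_one (I := maximalIdeal A) (M := M) hx hreg
      rw [h] at this
      push_cast at this
      exact (WithTop.add_right_inj ENat.one_ne_top).mp this
    obtain ⟨hv, hnt⟩ := ih (QuotSMulTop x M) hdep
    have hvan : ∀ δ : ℕ, δ < n + 1 → Subsingleton (E M ω (-(δ : ℤ))) := fun δ hδ => by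
      refine subsingleton_of_smul_surjective hω hx _ (exists_smul_eq_of_exact hreg _ ?_)
      rcases δ with _ | δ
      · exact subsingleton_E_pos hω hn _ _ (by norm_num)
      · have := hv δ (by omega)
        rwa [show -((δ + 1 : ℕ) : ℤ) + 1 = -(δ : ℤ) by push_cast; ring]
    refine ⟨hvan, ?_⟩
    rw [← not_subsingleton_iff_nontrivial]
    intro hz
    have hinj := Devissage.injective_pre (f := x • (LinearMap.id : M →ₗ[A] M))
      (g := (x • (⊤ : Submodule A M)).mkQ) hreg (Submodule.mkQ_surjective _) (fun m => by
        simp [Submodule.mem_smul_pointwise_iff_exists]) (K := ω) (-(n : ℤ))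
      (by rwa [show -(n : ℤ) - 1 = -((n + 1 : ℕ) : ℤ) by push_cast; ring])
    have := hvan n (by omega)
    exact not_subsingleton (E (QuotSMulTop x M) ω (-(n : ℤ))) hinj.subsingleton

/-- characterisation of the depth -/
theorem depth_eq_iff (M : Type u) [AddCommGroup M] [Module A M] [Module.Finite A M] [Nontrivial M]
    (n : ℕ) : LocCoh.depth A M = n ↔
      ((∀ δ : ℕ, δ < n → Subsingleton (E M ω (-(δ : ℤ)))) ∧ Nontrivial (E M ω (-(n : ℤ)))) := by
  refine ⟨fun h => depth_spec hω hn n M h, fun ⟨h1, h2⟩ => ?_⟩
  obtain ⟨m, hm⟩ : ∃ m : ℕ, LocCoh.depth A M = m :=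
    ⟨_, (ENat.natCast_toNat (Depth.depth_lt_top (M := M)).ne).symm⟩
  obtain ⟨g1, g2⟩ := depth_spec hω hn m M hm
  rcases lt_trichotomy n m with h | rfl | h
  · exact absurd h2 (not_nontrivial_iff_subsingleton.mpr (g1 n h))
  · exact hm
  · exact absurd g2 (not_nontrivial_iff_subsingleton.mpr (h1 m h))

end Local

end Groth.Agent.DualCx.Normal
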