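import Groth.Agent.DualCx.Amplitude
import Groth.Agent.DualCx.Normal
import Mathlib.RingTheory.Nakayama
import Groth.Agent.DTrunc.WayOut

/-!
# Finite injective dimension from residue fields; bounded objects with finite cohomology
-/

universe u

open CategoryTheory CategoryTheory.Limits

attribute [local instance] HasDerivedCategory.standard

namespace Groth.Agent.DualCx.Criterion

variable {A : Type u} [CommRing A] {K : Dual.D A}

open Devissage (E pre)

theorem finite_E_free [IsNoetherianRing A] (hf : ∀ i, Module.Finite A (Dual.HD A K i)) (n : ℕ)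
    (j : ℤ) : Module.Finite A (E (Fin n → A) K j) := by
  classical
  have := hf j
  have h1 : Module.Finite A (E A K j) := Module.Finite.equiv (Cx.homUnitEquivShift K j).symm
  let g : (Fin n → E A K j) →ₗ[A] E (Fin n → A) K j :=
    ∑ i, (pre (LinearMap.proj i : (Fin n → A) →ₗ[A] A) K j).comp (LinearMap.proj i)
  refine Module.Finite.of_surjective g fun e =>
    ⟨fun i => pre (LinearMap.single A (fun _ => A) i) K j e, ?_⟩
  have hid : (LinearMap.id : (Fin n → A) →ₗ[A] (Fin n → A)) =
      ∑ i, (LinearMap.single A (fun _ => A) i).comp (LinearMap.proj i) := by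
    ext i k
    simp [Pi.single_apply]
  conv_rhs => rw [← Devissage.pre_id j e, hid, Normal.pre_sum]
  simp only [g, LinearMap.sum_apply, LinearMap.comp_apply, LinearMap.proj_apply]
  exact Finset.sum_congr rfl fun i _ => (Devissage.pre_comp _ _ j e).symm

/-- `Ext^i(M, K)` is finite. -/
theorem finite_E [IsNoetherianRing A] (a : ℤ) [K.IsGE a]
    (hf : ∀ i, Module.Finite A (Dual.HD A K i)) (M : Type u) [AddCommGroup M] [Module A M]
    [Module.Finite A M] (j : ℤ) : Module.Finite A (E M K j) := by
  suffices ∀ (n : ℕ) (M : Type u) [AddCommGroup M] [Module A M] [Module.Finite A M] (j : ℤ),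
      j < a + n → Module.Finite A (E M K j) from this ((j - a).toNat + 1) M j (by omega)
  intro n
  induction n with
  | zero =>
    intro M _ _ _ j hj
    have := Amplitude.subsingleton_of_lt (K := K) a M j (by omega)
    infer_instance
  | succ n ih =>
    intro M _ _ _ j hj
    obtain ⟨m, g, hg⟩ := Module.Finite.exists_fin' A M
    have hf' := Submodule.injective_subtype (LinearMap.ker g)
    have hx : Function.Exact (LinearMap.ker g).subtype g := LinearMap.exact_subtype_ker_map g
    have h1 : Module.Finite A (E (LinearMap.ker g) K (j - 1)) := ih _ _ (by omega)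
    have := finite_E_free hf m j
    let T := (Devissage.sc_shortExact hf' hg hx).singleTriangle
    have hx2 := Hom.exact_cδ_pre A K
      (Devissage.sc_shortExact hf' hg hx).singleTriangle_distinguished (j - 1) j (by omega)
    have h2 : Module.Finite A (LinearMap.ker (pre g K j)) := by
      have : LinearMap.ker (pre g K j) = LinearMap.range (Hom.cδ A T K (j - 1) j (by omega)) :=
        Submodule.ext fun e => hx2 e
      rw [this]
      have : Module.Finite A (T.obj₁ ⟶ K⟦j - 1⟧) := h1
      exact @Module.Finite.of_surjective A _ _ _ _ _ _ _ _ _ _ this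
        (Hom.cδ A T K (j - 1) j (by omega)).rangeRestrict (LinearMap.surjective_rangeRestrict _)
    have h3 : Module.Finite A (E M K j ⧸ LinearMap.ker (pre g K j)) :=
      Module.Finite.equiv (pre g K j).quotKerEquivRange.symm
    exact Module.Finite.of_submodule_quotient (LinearMap.ker (pre g K j))

theorem subsingleton_of_primes [IsNoetherianRing A] (i : ℤ) (N : Type u) [AddCommGroup N]
    [Module A N] [Module.Finite A N]
    (h : ∀ q : PrimeSpectrum A, Module.annihilator A N ≤ q.1 → Subsingleton (E (A ⧸ q.1) K i)) :
    Subsingleton (E N K i) := by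
  revert h
  induction ‹Module.Finite A N› using IsNoetherianRing.induction_on_isQuotientEquivQuotientPrime A with
  | subsingleton N => intro _; exact Devissage.subsingleton_of_subsingleton i
  | quotient N p e =>
    intro h
    refine (Devissage.congrE e K i).toEquiv.subsingleton_congr.mpr (h p ?_)
    rw [LinearEquiv.annihilator_eq e, Ideal.annihilator_quotient]
  | exact N₁ N₂ N₃ f g hf hg hfg h₁ h₃ =>
    intro h
    exact Devissage.subsingleton_mid hf hg hfg i
      (h₁ fun q hq => h q ((f.annihilator_le_of_injective hf).trans hq))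
      (h₃ fun q hq => h q ((g.annihilator_le_of_surjective hg).trans hq))

/-- vanishing above `b` can be checked on residue fields -/
theorem subsingleton_E_quotient [IsNoetherianRing A] (a : ℤ) [K.IsGE a]
    (hf : ∀ i, Module.Finite A (Dual.HD A K i)) (b : ℤ)
    (hb : ∀ i, b < i → ∀ m : Ideal A, m.IsMaximal → Subsingleton (E (A ⧸ m) K i)) :
    ∀ (J : Ideal A) (i : ℤ), b < i → Subsingleton (E (A ⧸ J) K i) := by
  have hp : ∀ (p : Ideal A), p.IsPrime → ∀ i, b < i → Subsingleton (E (A ⧸ p) K i) := by
    intro p
    induction p using WellFoundedGT.induction with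
    | ind p ih =>
    intro hp i hi
    have := finite_E a hf (A ⧸ p) i
    suffices h : Module.annihilator A (E (A ⧸ p) K i) = ⊤ by
      refine subsingleton_of_forall_eq 0 fun e => ?_
      rw [← one_smul A e]
      exact Module.mem_annihilator.mp (h ▸ trivial) e
    by_contra hne
    obtain ⟨m, hm, hle⟩ := Ideal.exists_le_maximal _ hne
    have hpann : p ≤ Module.annihilator A (E (A ⧸ p) K i) := fun x hx =>
      Module.mem_annihilator.mpr fun e => by
        have h0 : x • (LinearMap.id : A ⧸ p →ₗ[A] A ⧸ p) = (0 : A) • LinearMap.id := by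
          refine LinearMap.ext fun y => ?_
          obtain ⟨y, rfl⟩ := Submodule.Quotient.mk_surjective p y
          rw [LinearMap.smul_apply, LinearMap.smul_apply, zero_smul, LinearMap.id_apply,
            ← Submodule.Quotient.mk_smul, Submodule.Quotient.mk_eq_zero]
          exact Ideal.mul_mem_right _ _ hx
        rw [← Devissage.pre_id i e, ← Devissage.pre_smul, h0, Devissage.pre_smul, zero_smul]
    by_cases hpm : p = m
    · subst hpm
      have := hb i hi p hm
      exact hne (Module.annihilator_eq_top_iff.mpr this)
    obtain ⟨x, hxm, hxp⟩ := SetLike.exists_of_lt (lt_of_le_of_ne (hpann.trans hle) hpm)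
    have hreg : IsSMulRegular (A ⧸ p) x := by
      intro y z hyz
      obtain ⟨y, rfl⟩ := Ideal.Quotient.mk_surjective y
      obtain ⟨z, rfl⟩ := Ideal.Quotient.mk_surjective z
      simp only [Algebra.smul_def, Ideal.Quotient.algebraMap_eq, ← map_mul] at hyz
      rw [Ideal.Quotient.eq, ← mul_sub] at hyz
      rw [Ideal.Quotient.eq]
      exact (hp.mem_or_mem hyz).resolve_left hxp
    have hQ : Subsingleton (E (QuotSMulTop x (A ⧸ p)) K (i + 1)) := by
      refine subsingleton_of_primes _ _ fun q hq => ih q.1 (lt_of_le_of_ne ?_ ?_) q.2 _ (by omega)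
      · refine le_trans ?_ hq
        exact (le_of_eq (Ideal.annihilator_quotient (I := p)).symm).trans
          (LinearMap.annihilator_le_of_surjective (Submodule.mkQ _) (Submodule.mkQ_surjective _))
      · intro h
        refine hxp (h ▸ hq (Module.mem_annihilator.mpr fun y => ?_))
        obtain ⟨y, rfl⟩ := Submodule.Quotient.mk_surjective _ y
        rw [← Submodule.Quotient.mk_smul, Submodule.Quotient.mk_eq_zero]
        exact Submodule.smul_mem_pointwise_smul y x ⊤ trivial
    obtain ⟨r, hr1, hr0⟩ := Submodule.exists_sub_one_mem_and_smul_eq_zero_of_fg_of_le_smul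
      (Ideal.span {x}) (⊤ : Submodule A (E (A ⧸ p) K i)) Module.Finite.fg_top fun e _ => by
        obtain ⟨e', rfl⟩ := Normal.exists_smul_eq_of_exact hreg i hQ e
        exact Submodule.smul_mem_smul (Ideal.mem_span_singleton_self x) trivial
    have hrm : r ∈ m := hle (Module.mem_annihilator.mpr fun e => hr0 e trivial)
    refine hm.ne_top ((Ideal.eq_top_iff_one m).mpr ?_)
    have := m.sub_mem hrm ((Ideal.span_le.mpr (by simpa using hxm)) hr1)
    simpa using this
  intro J i hi
  exact subsingleton_of_primes i _ fun q _ => hp q.1 q.2 i hi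

/-- finite injective dimension from the residue fields -/
theorem exists_amplitude [IsNoetherianRing A] (a : ℤ) [K.IsGE a]
    (hf : ∀ i, Module.Finite A (Dual.HD A K i)) (b : ℤ)
    (hb : ∀ i, b < i → ∀ m : Ideal A, m.IsMaximal → Subsingleton (E (A ⧸ m) K i)) :
    ∀ (M : Type u) [AddCommGroup M] [Module A M] (i : ℤ), (i < a ∨ b < i) →
      Subsingleton (E M K i) := by
  rintro M _ _ i (hi | hi)
  · exact Amplitude.subsingleton_of_lt a M i hi
  · exact Amplitude.subsingleton_E_of_cyclic a b
      (fun j hj J => subsingleton_E_quotient a hf b hb J j hj) M i hi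

/-- induction on bounded objects -/
theorem bounded_induction {P : Dual.D A → Prop} (hzero : ∀ X, IsZero X → P X)
    (hiso : ∀ X Y : Dual.D A, (X ≅ Y) → P X → P Y)
    (hmid : ∀ T : Pretriangulated.Triangle (Dual.D A), T ∈ distTriang (Dual.D A) →
      P T.obj₁ → P T.obj₃ → P T.obj₂)
    (hsingle : ∀ (q : ℤ) (M : ModuleCat.{u} A), Module.Finite A M →
      P ((DerivedCategory.singleFunctor (ModuleCat.{u} A) q).obj M))
    (X : Dual.D A) (a b : ℤ) (hge : X.IsGE a) (hle : X.IsLE b)
    (hf : ∀ i, Module.Finite A (Dual.HD A X i)) : P X := by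
  suffices h : ∀ (k : ℕ) (X : Dual.D A), X.IsGE a → X.IsLE (a + k - 1) →
      (∀ i, Module.Finite A (Dual.HD A X i)) → P X by
    refine h (b - a + 1).toNat X hge ?_ hf
    exact DerivedCategory.TStructure.t.isLE_of_le X b _ (by omega)
  intro k
  induction k with
  | zero =>
    intro X _ _ _
    exact hzero X (DerivedCategory.TStructure.t.isZero X (a + ((0 : ℕ) : ℤ) - 1) a (by simp))
  | succ k ih =>
    intro X hge hle hf
    let T := (DerivedCategory.TStructure.t.triangleLTGE (a + k)).obj X
    have hT : T ∈ distTriang (Dual.D A) :=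
      DerivedCategory.TStructure.t.triangleLTGE_distinguished (a + k) X
    have h1 : T.obj₁.IsLE (a + k - 1) :=
      (inferInstance : DerivedCategory.TStructure.t.IsLE
        ((DerivedCategory.TStructure.t.triangleLTGE (a + k)).obj X).obj₁ _)
    have h3 : T.obj₃.IsGE (a + k) :=
      (inferInstance : DerivedCategory.TStructure.t.IsGE
        ((DerivedCategory.TStructure.t.triangleLTGE (a + k)).obj X).obj₃ _)
    have hge2 : T.obj₂.IsGE a := hge
    have hle2 : T.obj₂.IsLE (a + k) := by
      have := hle
      rwa [show a + ((k + 1 : ℕ) : ℤ) - 1 = a + k by omega] at this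
    have h1' : T.obj₁.IsGE a := by
      rw [DerivedCategory.isGE_iff]
      intro i hi
      have := DTrunc.isIso_homology_mor₁ T hT (a + k) i (by omega)
      exact (DerivedCategory.isZero_of_isGE T.obj₂ a i hi).of_iso
        (asIso ((DRing.DBasic.HF i).map T.mor₁))
    have h3' : T.obj₃.IsLE (a + k) := by
      rw [DerivedCategory.isLE_iff]
      intro i hi
      have := DTrunc.isIso_homology_mor₂ T hT (a + k - 1) i (by omega)
      exact (DerivedCategory.isZero_of_isLE T.obj₂ (a + k) i hi).of_iso
        (asIso ((DRing.DBasic.HF i).map T.mor₂)).symm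
    refine hmid T hT (ih _ h1' h1 fun i => ?_) ?_
    · by_cases hi : i < a + k
      · have := DTrunc.isIso_homology_mor₁ T hT (a + k) i hi
        have : Module.Finite A (Dual.HD A T.obj₂ i) := hf i
        exact Module.Finite.equiv (asIso ((DRing.DBasic.HF i).map T.mor₁)).toLinearEquiv.symm
      · have : Subsingleton (Dual.HD A T.obj₁ i) :=
          (DRing.DBasic.subsingleton_HD_iff_isZero _ i).mpr
            (DerivedCategory.isZero_of_isLE T.obj₁ (a + k - 1) i (by omega))
        infer_instance
    · obtain ⟨Y, ⟨e⟩⟩ :=
        DerivedCategory.exists_iso_singleFunctor_obj_of_isGE_of_isLE T.obj₃ (a + k)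
      have := DTrunc.isIso_homology_mor₂ T hT (a + k - 1) (a + k) (by omega)
      have : Module.Finite A (Dual.HD A T.obj₂ (a + k)) := hf _
      exact hiso _ _ e.symm (hsingle (a + k) Y (Module.Finite.equiv
        (asIso ((DRing.DBasic.HF (a + k)).map T.mor₂) ≪≫
          (DRing.DBasic.HF (a + k)).mapIso e ≪≫
            DTrunc.homologySingleIso Y (a + k)).toLinearEquiv))

end Groth.Agent.DualCx.Criterion
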