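import Groth.Agent.DualCx.Dc
import Groth.Agent.DualCx.Criterion

/-!
# Biduality from the residue fields
-/

universe u

open CategoryTheory CategoryTheory.Limits
open CochainComplex.HomComplex

attribute [local instance] HasDerivedCategory.standard

namespace Groth.Agent.DualCx.Biduality

variable {A : Type u} [CommRing A]

/-- the map on cohomology -/
noncomputable abbrev Hm {X Y : DRing.Cx A} (f : X ⟶ Y) (i : ℤ) : X.homology i →ₗ[A] Y.homology i :=
  (HomologicalComplex.homologyMap f i).hom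

theorem Hm_comp {X Y Z : DRing.Cx A} (f : X ⟶ Y) (g : Y ⟶ Z) (i : ℤ) (x : X.homology i) :
    Hm (f ≫ g) i x = Hm g i (Hm f i x) := by
  simp [Hm, HomologicalComplex.homologyMap_comp]

theorem Hm_smul_id (a : A) (X : DRing.Cx A) (i : ℤ) (x : X.homology i) :
    Hm (a • 𝟙 X) i x = a • x := by
  have : HomologicalComplex.homologyMap (a • 𝟙 X) i = a • 𝟙 (X.homology i) := by
    change (HomologicalComplex.homologyFunctor (ModuleCat.{u} A) (ComplexShape.up ℤ) i).map (a • 𝟙 X) = _
    rw [Functor.map_smul, CategoryTheory.Functor.map_id]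
    rfl
  simp [Hm, this]

section FiveLemma

variable {S₁ S₂ : ShortComplex (DRing.Cx A)} (φ : S₁ ⟶ S₂) (h₁ : S₁.ShortExact) (h₂ : S₂.ShortExact)

/-- connecting map -/
noncomputable abbrev dl {S : ShortComplex (DRing.Cx A)} (h : S.ShortExact) (i j : ℤ) (hij : i + 1 = j) :
    S.X₃.homology i →ₗ[A] S.X₁.homology j :=
  (h.δ i j hij).hom

theorem ex₁ {S : ShortComplex (DRing.Cx A)} (h : S.ShortExact) (i j : ℤ) (hij : i + 1 = j) :
    Function.Exact (dl h i j hij) (Hm S.f j) :=
  (ShortComplex.ShortExact.moduleCat_exact_iff_function_exact _).mp (h.homology_exact₁ i j hij)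

theorem ex₂ {S : ShortComplex (DRing.Cx A)} (h : S.ShortExact) (i : ℤ) :
    Function.Exact (Hm S.f i) (Hm S.g i) :=
  (ShortComplex.ShortExact.moduleCat_exact_iff_function_exact _).mp (h.homology_exact₂ i)

theorem ex₃ {S : ShortComplex (DRing.Cx A)} (h : S.ShortExact) (i j : ℤ) (hij : i + 1 = j) :
    Function.Exact (Hm S.g i) (dl h i j hij) :=
  (ShortComplex.ShortExact.moduleCat_exact_iff_function_exact _).mp (h.homology_exact₃ i j hij)

theorem comm_f (i : ℤ) (x : S₁.X₁.homology i) :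
    Hm S₂.f i (Hm φ.τ₁ i x) = Hm φ.τ₂ i (Hm S₁.f i x) := by
  rw [← Hm_comp, ← Hm_comp, φ.comm₁₂]

theorem comm_g (i : ℤ) (x : S₁.X₂.homology i) :
    Hm S₂.g i (Hm φ.τ₂ i x) = Hm φ.τ₃ i (Hm S₁.g i x) := by
  rw [← Hm_comp, ← Hm_comp, φ.comm₂₃]

include h₁ h₂

theorem comm_dl (i j : ℤ) (hij : i + 1 = j) (x : S₁.X₃.homology i) :
    dl h₂ i j hij (Hm φ.τ₃ i x) = Hm φ.τ₁ j (dl h₁ i j hij x) :=
  (congrArg (fun m => m.hom x)
    (HomologicalComplex.HomologySequence.δ_naturality φ h₁ h₂ i j hij)).symm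

theorem ker_step (i : ℤ) (hi₃ : Function.Injective (Hm φ.τ₃ i))
    (hs₃ : Function.Surjective (Hm φ.τ₃ (i - 1))) (k : S₁.X₂.homology i) (hk : Hm φ.τ₂ i k = 0) :
    ∃ k₁, Hm φ.τ₁ i k₁ = 0 ∧ Hm S₁.f i k₁ = k := by
  rw [injective_iff_map_eq_zero] at hi₃
  obtain ⟨k₁, rfl⟩ := (ex₂ h₁ i k).mp (hi₃ _ (by rw [← comm_g, hk, map_zero]))
  obtain ⟨q', hq'⟩ := (ex₁ h₂ (i - 1) i (by omega) _).mp ((comm_f φ i k₁).trans hk)
  obtain ⟨q, rfl⟩ := hs₃ q'
  rw [comm_dl φ h₁ h₂] at hq'
  exact ⟨k₁ - dl h₁ (i - 1) i (by omega) q, by rw [map_sub, hq', sub_self],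
    by rw [map_sub, (ex₁ h₁ (i - 1) i (by omega)).apply_apply_eq_zero, sub_zero]⟩

theorem coker_step (i : ℤ) (hs₃ : Function.Surjective (Hm φ.τ₃ i))
    (hi₁ : Function.Injective (Hm φ.τ₁ (i + 1))) (y : S₂.X₂.homology i) :
    ∃ k y₁, Hm φ.τ₂ i k + Hm S₂.f i y₁ = y := by
  obtain ⟨q, hq⟩ := hs₃ (Hm S₂.g i y)
  have hd : dl h₁ i (i + 1) rfl q = 0 := hi₁ (by
    rw [← comm_dl φ h₁ h₂, hq, map_zero]
    exact (ex₃ h₂ i (i + 1) rfl).apply_apply_eq_zero y)
  obtain ⟨k, rfl⟩ := (ex₃ h₁ i (i + 1) rfl q).mp hd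
  obtain ⟨y₁, hy₁⟩ := (ex₂ h₂ i (y - Hm φ.τ₂ i k)).mp (by rw [map_sub, comm_g, hq, sub_self])
  exact ⟨k, y₁, by rw [hy₁, add_sub_cancel]⟩

theorem bijective_τ₂ (i : ℤ) (b₁ : ∀ j, Function.Bijective (Hm φ.τ₁ j))
    (b₃ : ∀ j, Function.Bijective (Hm φ.τ₃ j)) : Function.Bijective (Hm φ.τ₂ i) := by
  refine ⟨(injective_iff_map_eq_zero _).mpr fun k hk => ?_, fun y => ?_⟩
  · obtain ⟨k₁, h, rfl⟩ := ker_step φ h₁ h₂ i (b₃ i).injective (b₃ _).surjective k hk
    rw [(b₁ i).injective (h.trans (map_zero _).symm), map_zero]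
  · obtain ⟨k, y₁, rfl⟩ := coker_step φ h₁ h₂ i (b₃ i).surjective (b₁ _).injective y
    obtain ⟨y₀, rfl⟩ := (b₁ i).surjective y₁
    exact ⟨k + Hm S₁.f i y₀, by rw [map_add, ← comm_f]⟩

end FiveLemma

/-- A finite module killed by a prime `p` is zero when every `x ∉ p` acts surjectively, unless `p` is
maximal. -/
theorem subsingleton_of_smul_surjective {M : Type*} [AddCommGroup M] [Module A M] [Module.Finite A M]
    (p : Ideal A) (hp : ¬ p.IsMaximal) (hpM : ∀ a ∈ p, ∀ y : M, a • y = 0)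
    (h : ∀ x ∉ p, ∀ y : M, ∃ y', x • y' = y) : Subsingleton M := by
  suffices ht : Module.annihilator A M = ⊤ by
    refine subsingleton_of_forall_eq 0 fun y => ?_
    rw [← one_smul A y]
    exact Module.mem_annihilator.mp (ht ▸ trivial) y
  by_contra hne
  obtain ⟨m, hm, hle⟩ := Ideal.exists_le_maximal _ hne
  have hpm : p ≤ m := le_trans (fun a ha => Module.mem_annihilator.mpr (hpM a ha)) hle
  obtain ⟨x, hxm, hxp⟩ := SetLike.exists_of_lt (lt_of_le_of_ne hpm (fun e => hp (e ▸ hm)))
  obtain ⟨r, hr1, hr0⟩ := Submodule.exists_sub_one_mem_and_smul_eq_zero_of_fg_of_le_smul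
    (Ideal.span {x}) (⊤ : Submodule A M) Module.Finite.fg_top fun y _ => by
      obtain ⟨y', rfl⟩ := h x hxp y
      exact Submodule.smul_mem_smul (Ideal.mem_span_singleton_self x) trivial
  refine hm.ne_top ((Ideal.eq_top_iff_one m).mpr ?_)
  have := m.sub_mem (hle (Module.mem_annihilator.mpr fun y => hr0 y trivial))
    ((Ideal.span_le.mpr (by simpa using hxm)) hr1)
  simpa using this

open Devissage (E)
open Amplitude (sgl sglIso)

theorem exists_rep_sgl (M : ModuleCat.{u} A) (i : ℤ) (hi : i ≠ 0) :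
    Subsingleton ((sgl M).homology i) :=
  ModuleCat.subsingleton_of_isZero
    (HomologicalComplex.isZero_single_obj_homology (ComplexShape.up ℤ) (0 : ℤ) M i hi)

/-- `H^0` of a single complex -/
noncomputable def sglH0 (M : ModuleCat.{u} A) : (sgl M).homology 0 ≃ₗ[A] M :=
  (HomologicalComplex.singleObjHomologySelfIso (ComplexShape.up ℤ) (0 : ℤ) M).toLinearEquiv

theorem finite_sgl [IsNoetherianRing A] (M : ModuleCat.{u} A) [Module.Finite A M] (i : ℤ) :
    Module.Finite A ((sgl M).homology i) := by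
  by_cases hi : i = 0
  · subst hi; exact Module.Finite.equiv (sglH0 M).symm
  · have := exists_rep_sgl M i hi; infer_instance

variable [IsNoetherianRing A] {I : DRing.Cx A} [I.IsKInjective]

/-- `Hom(X, I[j])` is finite for bounded `X` with finite cohomology. -/
theorem finite_hom_bounded (a : ℤ) [(DRing.toD I).IsGE a]
    (hf : ∀ i, Module.Finite A (Dual.HD A (DRing.toD I) i)) (X : Dual.D A) (c d : ℤ)
    (hge : X.IsGE c) (hle : X.IsLE d) (hX : ∀ i, Module.Finite A (Dual.HD A X i)) :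
    ∀ j : ℤ, Module.Finite A (X ⟶ (DRing.toD I)⟦j⟧) := by
  refine Criterion.bounded_induction (P := fun X => ∀ j : ℤ, Module.Finite A (X ⟶ (DRing.toD I)⟦j⟧))
    (fun X hX j => ?_) (fun X Y e h j => ?_) (fun T hT h1 h3 j => ?_) (fun q M hM j => ?_)
    X c d hge hle hX
  · have : Subsingleton (X ⟶ (DRing.toD I)⟦j⟧) := ⟨hX.eq_of_src⟩
    infer_instance
  · have := h j
    exact Module.Finite.equiv (Hom.congr A e (Iso.refl _))
  · have := h1 j
    have := h3 j
    have hx := Hom.exact_pre A (DRing.toD I) hT j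
    have h2 : Module.Finite A (LinearMap.ker (Hom.pre₁ A T (DRing.toD I) j)) := by
      rw [show LinearMap.ker (Hom.pre₁ A T (DRing.toD I) j) =
        LinearMap.range (Hom.pre₂ A T (DRing.toD I) j) from Submodule.ext fun e => hx e]
      infer_instance
    have : IsNoetherian A (T.obj₁ ⟶ (DRing.toD I)⟦j⟧) := inferInstance
    have h4 : Module.Finite A ((T.obj₂ ⟶ (DRing.toD I)⟦j⟧) ⧸
        LinearMap.ker (Hom.pre₁ A T (DRing.toD I) j)) :=
      Module.Finite.equiv (Hom.pre₁ A T (DRing.toD I) j).quotKerEquivRange.symm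
    exact Module.Finite.of_submodule_quotient (LinearMap.ker (Hom.pre₁ A T (DRing.toD I) j))
  · have : Module.Finite A (Dual.inD A M ⟶ (DRing.toD I)⟦j + q⟧) := Criterion.finite_E a hf M (j + q)
    exact Module.Finite.equiv ((Hom.shiftHom A (-q) (j + q) j (by omega) (Dual.inD A M) (DRing.toD I)).trans
      (Hom.congr A (((DerivedCategory.singleFunctors (ModuleCat.{u} A)).shiftIso (-q) q 0 (by omega)).app M)
        (Iso.refl _)))

/-- `H^n` of the dual of a module -/
noncomputable def hSgl (M : Type u) [AddCommGroup M] [Module A M] (n : ℤ) :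
    E M (DRing.toD I) n ≃ₗ[A] (Dc.D I (sgl (ModuleCat.of A M))).homology n :=
  (Hom.congr A (sglIso (ModuleCat.of A M)).symm (Iso.refl _)).trans (Dc.hEquiv I _ n)

/-- `H^n` of the dual, in `D(A)` -/
noncomputable def hDSgl (M : Type u) [AddCommGroup M] [Module A M] (n : ℤ) :
    E M (DRing.toD I) n ≃ₗ[A] Dual.HD A (DRing.toD (Dc.D I (sgl (ModuleCat.of A M)))) n :=
  (hSgl M n).trans (DRing.DBasic.hIso (Dc.D I (sgl (ModuleCat.of A M))) n).toLinearEquiv.symm

section Square


variable (hI : ∀ q, Injective (I.X q))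

variable {M₁ M₂ M₃ : Type u} [AddCommGroup M₁] [Module A M₁] [AddCommGroup M₂]
    [Module A M₂] [AddCommGroup M₃] [Module A M₃] {f : M₁ →ₗ[A] M₂} {g : M₂ →ₗ[A] M₃}
    (hf : Function.Injective f) (hg : Function.Surjective g) (hfg : Function.Exact f g)

/-- the short complex of single complexes -/
noncomputable abbrev srcS : ShortComplex (DRing.Cx A) :=
  (Devissage.sc hfg).map (CochainComplex.singleFunctor (ModuleCat.{u} A) 0)

/-- its double dual -/
noncomputable abbrev ddS : ShortComplex (DRing.Cx A) :=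
  ShortComplex.mk (Dc.map I (Dc.map I (srcS hfg).f)) (Dc.map I (Dc.map I (srcS hfg).g))
    (by rw [← Dc.map_comp, ← Dc.map_comp, (srcS hfg).zero, Dc.map_zero, Dc.map_zero])

/-- biduality between them -/
noncomputable def sqHom : srcS hfg ⟶ ddS (I := I) hfg :=
  ShortComplex.homMk (Dc.η I _) (Dc.η I _) (Dc.η I _) (Dc.η_natural I _) (Dc.η_natural I _)

include hf hg hfg in
theorem srcS_shortExact : (srcS hfg).ShortExact :=
  (Devissage.sc_shortExact hf hg hfg).map_of_exact (HomologicalComplex.single _ _ _)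

include hI hf hg hfg in
theorem ddS_shortExact : (ddS (I := I) hfg).ShortExact :=
  Dc.shortExact I (Dc.shortExact I (srcS_shortExact hf hg hfg) hI) hI

include hI hf hg hfg in
theorem bijective_mid (b₁ : ∀ j, Function.Bijective (Hm (Dc.η I (sgl (ModuleCat.of A M₁))) j))
    (b₃ : ∀ j, Function.Bijective (Hm (Dc.η I (sgl (ModuleCat.of A M₃))) j)) (i : ℤ) :
    Function.Bijective (Hm (Dc.η I (sgl (ModuleCat.of A M₂))) i) :=
  bijective_τ₂ (sqHom (I := I) hfg) (srcS_shortExact hf hg hfg) (ddS_shortExact hI hf hg hfg) i b₁ b₃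

include hI hf hg hfg in
theorem ker_step_sgl (i : ℤ)
    (b₃ : ∀ j, Function.Bijective (Hm (Dc.η I (sgl (ModuleCat.of A M₃))) j))
    (k : (sgl (ModuleCat.of A M₂)).homology i) (hk : Hm (Dc.η I (sgl (ModuleCat.of A M₂))) i k = 0) :
    ∃ k₁, Hm (Dc.η I (sgl (ModuleCat.of A M₁))) i k₁ = 0 ∧
      Hm ((CochainComplex.singleFunctor (ModuleCat.{u} A) 0).map (ModuleCat.ofHom f)) i k₁ = k :=
  ker_step (sqHom (I := I) hfg) (srcS_shortExact hf hg hfg) (ddS_shortExact hI hf hg hfg) i
    (b₃ i).injective (b₃ _).surjective k hk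

include hI hf hg hfg in
theorem coker_step_sgl (i : ℤ)
    (b₃ : ∀ j, Function.Bijective (Hm (Dc.η I (sgl (ModuleCat.of A M₃))) j))
    (hi₁ : Function.Injective (Hm (Dc.η I (sgl (ModuleCat.of A M₁))) (i + 1)))
    (y : (Dc.D I (Dc.D I (sgl (ModuleCat.of A M₂)))).homology i) :
    ∃ k y₁, Hm (Dc.η I (sgl (ModuleCat.of A M₂))) i k +
      Hm (Dc.map I (Dc.map I ((CochainComplex.singleFunctor (ModuleCat.{u} A) 0).map
        (ModuleCat.ofHom f)))) i y₁ = y :=
  coker_step (sqHom (I := I) hfg) (srcS_shortExact hf hg hfg) (ddS_shortExact hI hf hg hfg) i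
    (b₃ i).surjective hi₁ y

end Square

variable (a b : ℤ) [(DRing.toD I).IsGE a] (hf : ∀ i, Module.Finite A (Dual.HD A (DRing.toD I) i))
  (hamp : ∀ (M : Type u) [AddCommGroup M] [Module A M] (i : ℤ), (i < a ∨ b < i) →
    Subsingleton (E M (DRing.toD I) i))

include hf hamp

theorem finite_dd (M : Type u) [AddCommGroup M] [Module A M] [Module.Finite A M] (q : ℤ) :
    Module.Finite A ((Dc.D I (Dc.D I (sgl (ModuleCat.of A M)))).homology q) := by
  set X := DRing.toD (Dc.D I (sgl (ModuleCat.of A M)))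
  have hge : X.IsGE a := (DerivedCategory.isGE_iff X a).mpr fun i hi =>
    (DRing.DBasic.subsingleton_HD_iff_isZero X i).mp
      (have := hamp M i (Or.inl hi); (hDSgl M i).symm.toEquiv.subsingleton)
  have hle : X.IsLE b := (DerivedCategory.isLE_iff X b).mpr fun i hi =>
    (DRing.DBasic.subsingleton_HD_iff_isZero X i).mp
      (have := hamp M i (Or.inr hi); (hDSgl M i).symm.toEquiv.subsingleton)
  have hX : ∀ i, Module.Finite A (Dual.HD A X i) := fun i =>
    have := Criterion.finite_E a hf M i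
    Module.Finite.equiv (hDSgl M i)
  have := finite_hom_bounded a hf X a b hge hle hX q
  exact Module.Finite.equiv (Dc.hEquiv I _ q)

omit [IsNoetherianRing A] [(DRing.toD I).IsGE a] hf hamp in
theorem bijective_maximal (m : Ideal A) [m.IsMaximal] (d : ℤ)
    (hv : ∀ i, i ≠ d → Subsingleton (E (A ⧸ m) (DRing.toD I) i))
    (he : Nonempty (E (A ⧸ m) (DRing.toD I) d ≃ₗ[A] (A ⧸ m))) (i : ℤ) :
    Function.Bijective (Hm (Dc.η I (sgl (ModuleCat.of A (A ⧸ m)))) i) := by
  obtain ⟨e⟩ := he
  set X := sgl (ModuleCat.of A (A ⧸ m))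
  set P := DRing.toD (Dc.D I X)
  have hge : P.IsGE d := (DerivedCategory.isGE_iff P d).mpr fun j hj =>
    (DRing.DBasic.subsingleton_HD_iff_isZero P j).mp
      (have := hv j (by omega); (hDSgl (A ⧸ m) j).symm.toEquiv.subsingleton)
  have hle : P.IsLE d := (DerivedCategory.isLE_iff P d).mpr fun j hj =>
    (DRing.DBasic.subsingleton_HD_iff_isZero P j).mp
      (have := hv j (by omega); (hDSgl (A ⧸ m) j).symm.toEquiv.subsingleton)
  obtain ⟨Y, ⟨eY⟩⟩ := DerivedCategory.exists_iso_singleFunctor_obj_of_isGE_of_isLE P d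
  let eYκ : Y ≃ₗ[A] (A ⧸ m) :=
    ((DTrunc.homologySingleIso Y d).symm ≪≫ (DRing.DBasic.HF d).mapIso eY.symm).toLinearEquiv.trans
      ((hDSgl (A ⧸ m) d).symm.trans e)
  let T : ∀ q, (Dc.D I (Dc.D I X)).homology q ≃ₗ[A] E (A ⧸ m) (DRing.toD I) (q + d) := fun q =>
    ((Dc.hEquiv I (Dc.D I X) q).symm.trans
      (Hom.congr A (eY ≪≫ ((((DerivedCategory.singleFunctors (ModuleCat.{u} A)).shiftIso (-d) d 0
        (by omega)).app Y).symm)) (Iso.refl _))).trans
      ((Hom.shiftHom A (-d) (q + d) q (by omega) (Dual.inD A Y) (DRing.toD I)).symm.trans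
        (Devissage.congrE eYκ _ (q + d)))
  by_cases hi : i = 0
  swap
  · have := exists_rep_sgl (ModuleCat.of A (A ⧸ m)) i hi
    have := hv (i + d) (by omega)
    have := (T i).toEquiv.subsingleton
    exact ⟨fun x y _ => Subsingleton.elim _ _, fun y => ⟨0, Subsingleton.elim _ _⟩⟩
  subst hi
  have hs : IsSimpleModule A (A ⧸ m) :=
    isSimpleModule_iff_quot_maximal.mpr ⟨m, inferInstance, ⟨LinearEquiv.refl _ _⟩⟩
  have : IsSimpleModule A ((sgl (ModuleCat.of A (A ⧸ m))).homology 0) :=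
    IsSimpleModule.congr (sglH0 _)
  have : IsSimpleModule A (E (A ⧸ m) (DRing.toD I) (0 + d)) := by
    rw [zero_add]; exact IsSimpleModule.congr e
  have : IsSimpleModule A ((Dc.D I (Dc.D I X)).homology 0) := IsSimpleModule.congr (T 0)
  refine (LinearMap.bijective_or_eq_zero _).resolve_right fun h0 => ?_
  -- a nonzero class of the dual
  have : Nontrivial ((Dc.D I X).homology d) :=
    ((hSgl (A ⧸ m) d).symm.trans e).toEquiv.nontrivial
  obtain ⟨h, hh⟩ := exists_ne (0 : (Dc.D I X).homology d)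
  obtain ⟨c, hc, rfl⟩ := DRing.Homology.cls_surjective h
  refine hh ?_
  obtain ⟨φ, hφ⟩ := Cochain.fromSingleMk_surjective (c : Cochain X I d) d (zero_add d)
  let z₀ : X.X 0 :=
    (HomologicalComplex.singleObjXSelf (ComplexShape.up ℤ) 0 (ModuleCat.of A (A ⧸ m))).inv.hom
      (Submodule.Quotient.mk (1 : A))
  have hz₀ : DRing.Homology.IsCyc X 0 z₀ := by
    have : Subsingleton (X.X ((0 : ℤ) + 1)) :=
      ModuleCat.subsingleton_of_isZero (HomologicalComplex.isZero_single_obj_X
        (ComplexShape.up ℤ) (0 : ℤ) (ModuleCat.of A (A ⧸ m)) ((0 : ℤ) + 1) (by omega))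
    exact Subsingleton.elim _ _
  have h1 := congrArg (fun l => l (DRing.Homology.cls z₀ hz₀)) h0
  simp only [LinearMap.zero_apply] at h1
  rw [Hm, DRing.Homology.homologyMap_cls, DRing.Homology.cls_eq_zero_iff (-1) (by norm_num)] at h1
  obtain ⟨β, hβ⟩ := h1
  change Cochain (Dc.D I X) I (-1) at β
  have hβ' : δ (-1) 0 β = Dc.evCochain I X 0 z₀ := hβ
  let y : I.X (d - 1) := (β.v d (d - 1) (by omega)).hom c
  have hd : ((Dc.D I X).d d (d + 1)).hom c = 0 := hc
  have key : (I.d (d - 1) d).hom y = φ.hom (Submodule.Quotient.mk (1 : A)) := by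
    have := congrArg (fun w : Cochain (Dc.D I X) I 0 => (w.v d d (add_zero d)).hom c) hβ'
    rw [δ_v (-1) 0 (by norm_num) β d d (add_zero d) (d - 1) (d + 1) rfl rfl] at this
    simp only [ModuleCat.hom_add, LinearMap.add_apply, ModuleCat.hom_comp, LinearMap.comp_apply,
      Units.smul_def, ModuleCat.hom_zsmul, LinearMap.smul_apply, hd, _root_.map_zero, smul_zero,
      add_zero] at this
    rw [Dc.evCochain_v] at this
    rw [mul_zero, Int.negOnePow_zero, Units.val_one, one_smul] at this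
    refine this.trans ?_
    rw [← hφ, Cochain.fromSingleMk_v]
    change φ.hom ((HomologicalComplex.singleObjXSelf (ComplexShape.up ℤ) 0
      (ModuleCat.of A (A ⧸ m))).hom.hom z₀) = _
    congr 1
  have hy : ∀ a ∈ m, a • y = 0 := fun a ha => by
    have hac : a • c = 0 := by
      change a • (c : Cochain X I d) = 0
      rw [← hφ]
      have : a • φ = 0 := by
        refine ModuleCat.hom_ext (LinearMap.ext fun x => ?_)
        obtain ⟨x, rfl⟩ := Submodule.Quotient.mk_surjective m x
        change a • φ.hom (Submodule.Quotient.mk x) = 0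
        rw [← _root_.map_smul, ← Submodule.Quotient.mk_smul,
          show Submodule.Quotient.mk (p := m) (a • x) = 0 from (Submodule.Quotient.mk_eq_zero m).mpr (m.mul_mem_right x ha), _root_.map_zero]
      have hsm : a • Cochain.fromSingleMk φ (zero_add d) = Cochain.fromSingleMk (a • φ) (zero_add d) :=
        (Cochain.fromSingleEquiv (zero_add d)).injective (by
          simp [Cochain.fromSingleEquiv, Linear.comp_smul]
          erw [Linear.comp_smul, Iso.inv_hom_id_assoc])
      refine hsm.trans ?_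
      rw [this, Cochain.fromSingleMk_zero]
      rfl
    change a • (β.v d (d - 1) _).hom c = 0
    rw [← _root_.map_smul, hac, _root_.map_zero]
  let ψ : ModuleCat.of A (A ⧸ m) ⟶ I.X (d - 1) :=
    ModuleCat.ofHom (Submodule.liftQ m (LinearMap.toSpanSingleton A _ y) fun a ha => hy a ha)
  rw [DRing.Homology.cls_eq_zero_iff (d - 1) (by omega)]
  refine ⟨Cochain.fromSingleMk ψ (zero_add (d - 1)), ?_⟩
  change δ (d - 1) d _ = (c : Cochain X I d)
  rw [Cochain.δ_fromSingleMk _ _ _ d (zero_add d), ← hφ]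
  congr 1
  refine ModuleCat.hom_ext (Submodule.linearMap_qext _ (LinearMap.ext_ring ?_))
  change (I.d (d - 1) d).hom ((1 : A) • y) = _
  rw [one_smul, key]
  rfl

variable (hres : ∀ m : Ideal A, m.IsMaximal → ∃ d : ℤ,
  (∀ i, i ≠ d → Subsingleton (E (A ⧸ m) (DRing.toD I) i)) ∧
    Nonempty (E (A ⧸ m) (DRing.toD I) d ≃ₗ[A] (A ⧸ m)))
  (hI : ∀ q, Injective (I.X q))

include hres hI


/-- the biduality map of a finite module is a quasi-isomorphism -/
theorem bijective_finite : ∀ (M : Type u) [AddCommGroup M] [Module A M] [Module.Finite A M] (i : ℤ),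
    Function.Bijective (Hm (Dc.η I (sgl (ModuleCat.of A M))) i) := by
  have zero : ∀ (M : Type u) [AddCommGroup M] [Module A M] [Subsingleton M] (i : ℤ),
      Function.Bijective (Hm (Dc.η I (sgl (ModuleCat.of A M))) i) := by
    intro M _ _ _ i
    have hz : IsZero (sgl (ModuleCat.of A M)) :=
      Functor.map_isZero _ (ModuleCat.isZero_of_subsingleton _)
    have hz2 : IsZero (Dc.D I (Dc.D I (sgl (ModuleCat.of A M)))) := by
      rw [IsZero.iff_id_eq_zero, ← Dc.map_id, ← Dc.map_id, hz.eq_of_src (𝟙 _) 0, Dc.map_zero,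
        Dc.map_zero]
    have : Subsingleton ((sgl (ModuleCat.of A M)).homology i) := ModuleCat.subsingleton_of_isZero
      ((HomologicalComplex.homologyFunctor _ _ i).map_isZero hz)
    have : Subsingleton ((Dc.D I (Dc.D I (sgl (ModuleCat.of A M)))).homology i) :=
      ModuleCat.subsingleton_of_isZero ((HomologicalComplex.homologyFunctor _ _ i).map_isZero hz2)
    exact ⟨fun x y _ => Subsingleton.elim (α := (sgl (ModuleCat.of A M)).homology i) _ _,
      fun y => ⟨0, Subsingleton.elim (α := (Dc.D I (Dc.D I (sgl (ModuleCat.of A M)))).homology i) _ _⟩⟩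
  have mid : ∀ {M₁ M₂ M₃ : Type u} [AddCommGroup M₁] [Module A M₁] [AddCommGroup M₂]
      [Module A M₂] [AddCommGroup M₃] [Module A M₃] {f : M₁ →ₗ[A] M₂} {g : M₂ →ₗ[A] M₃},
      Function.Injective f → Function.Surjective g → Function.Exact f g →
      (∀ i, Function.Bijective (Hm (Dc.η I (sgl (ModuleCat.of A M₁))) i)) →
      (∀ i, Function.Bijective (Hm (Dc.η I (sgl (ModuleCat.of A M₃))) i)) →
      ∀ i, Function.Bijective (Hm (Dc.η I (sgl (ModuleCat.of A M₂))) i) := by
    intro M₁ M₂ M₃ _ _ _ _ _ _ f g hf' hg' hfg b₁ b₃ i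
    exact bijective_mid hI hf' hg' hfg b₁ b₃ i
  suffices prime : ∀ p : Ideal A, p.IsPrime →
      ∀ i, Function.Bijective (Hm (Dc.η I (sgl (ModuleCat.of A (A ⧸ p)))) i) by
    intro M _ _ _
    induction ‹Module.Finite A M› using IsNoetherianRing.induction_on_isQuotientEquivQuotientPrime A with
    | subsingleton N => exact zero N
    | quotient N p e =>
      exact mid (f := (0 : PUnit.{u + 1} →ₗ[A] N)) (g := e.toLinearMap)
        (fun x y _ => Subsingleton.elim _ _) e.surjective
        (fun x => by simp [eq_comm (a := (0 : N))]) (zero _) (prime p.1 p.2)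
    | exact N₁ N₂ N₃ f g hf' hg' hfg h₁ h₃ => exact mid hf' hg' hfg h₁ h₃
  intro p
  induction p using WellFoundedGT.induction with
  | ind p ih =>
  intro hp
  by_cases hpm : p.IsMaximal
  · obtain ⟨d, hv, he⟩ := hres p hpm
    exact bijective_maximal p d hv he
  -- all finite modules supported strictly above `p`
  have above : ∀ (N : Type u) [AddCommGroup N] [Module A N] [Module.Finite A N],
      (∀ q : PrimeSpectrum A, Module.annihilator A N ≤ q.1 → p < q.1) →
      ∀ i, Function.Bijective (Hm (Dc.η I (sgl (ModuleCat.of A N))) i) := by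
    intro N _ _ _
    induction ‹Module.Finite A N› using IsNoetherianRing.induction_on_isQuotientEquivQuotientPrime A with
    | subsingleton N => exact fun _ => zero N
    | quotient N q e =>
      intro h
      exact mid (f := (0 : PUnit.{u + 1} →ₗ[A] N)) (g := e.toLinearMap)
        (fun x y _ => Subsingleton.elim _ _) e.surjective
        (fun x => by simp [eq_comm (a := (0 : N))]) (zero _)
        (ih q.1 (h q (by rw [LinearEquiv.annihilator_eq e, Ideal.annihilator_quotient])) q.2)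
    | exact N₁ N₂ N₃ f g hf' hg' hfg h₁ h₃ =>
      intro h
      exact mid hf' hg' hfg (h₁ fun q hq => h q ((f.annihilator_le_of_injective hf').trans hq))
        (h₃ fun q hq => h q ((g.annihilator_le_of_surjective hg').trans hq))
  set X := sgl (ModuleCat.of A (A ⧸ p))
  have hkill : ∀ a ∈ p, a • 𝟙 X = 0 := fun a ha => by
    have : a • 𝟙 (ModuleCat.of A (A ⧸ p)) = 0 := by
      refine ModuleCat.hom_ext (LinearMap.ext fun x => ?_)
      obtain ⟨x, rfl⟩ := Submodule.Quotient.mk_surjective p x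
      change a • Submodule.Quotient.mk (p := p) x = 0
      rw [← Submodule.Quotient.mk_smul, Submodule.Quotient.mk_eq_zero]
      exact Ideal.mul_mem_right _ _ ha
    refine HomologicalComplex.from_single_hom_ext ?_
    have h2 := congrArg ((CochainComplex.singleFunctor (ModuleCat.{u} A) 0).map) this
    rw [Functor.map_zero] at h2
    change (a • 𝟙 X).f 0 = (0 : X ⟶ X).f 0
    rw [← h2]
    simp [X, CochainComplex.singleFunctor, CochainComplex.singleFunctors,
      HomologicalComplex.single_map_f_self]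
    rfl
  have hfin1 : ∀ i, Module.Finite A (X.homology i) := fun i => finite_sgl _ i
  have hfin2 : ∀ i, Module.Finite A ((Dc.D I (Dc.D I X)).homology i) := finite_dd a b hf hamp (A ⧸ p)
  have hk1 : ∀ i, ∀ a ∈ p, ∀ y : X.homology i, a • y = 0 := fun i a ha y => by
    rw [← Hm_smul_id, hkill a ha]
    simp [Hm]
  have hk2 : ∀ i, ∀ a ∈ p, ∀ y : (Dc.D I (Dc.D I X)).homology i, a • y = 0 := fun i a ha y => by
    rw [← Hm_smul_id, ← Dc.map_id, ← Dc.map_id, ← Dc.map_smul, ← Dc.map_smul, hkill a ha,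
      Dc.map_zero, Dc.map_zero]
    simp [Hm]
  have step : ∀ x ∉ p, ∀ i,
      (∀ k : X.homology i, Hm (Dc.η I X) i k = 0 → ∃ k', Hm (Dc.η I X) i k' = 0 ∧ x • k' = k) ∧
      ((∀ j, Function.Injective (Hm (Dc.η I X) j)) → ∀ y : (Dc.D I (Dc.D I X)).homology i,
        ∃ k y₁, Hm (Dc.η I X) i k + x • y₁ = y) := by
    intro x hx i
    let l : A ⧸ p →ₗ[A] A ⧸ p := x • LinearMap.id
    have hl : Function.Injective l := by
      intro y z hyz
      obtain ⟨y, rfl⟩ := Ideal.Quotient.mk_surjective y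
      obtain ⟨z, rfl⟩ := Ideal.Quotient.mk_surjective z
      replace hyz : x • Ideal.Quotient.mk p y = x • Ideal.Quotient.mk p z := hyz
      simp only [Algebra.smul_def, Ideal.Quotient.algebraMap_eq, ← _root_.map_mul] at hyz
      rw [Ideal.Quotient.eq, ← mul_sub] at hyz
      rw [Ideal.Quotient.eq]
      exact (hp.mem_or_mem hyz).resolve_left hx
    let g : A ⧸ p →ₗ[A] (A ⧸ p) ⧸ LinearMap.range l := Submodule.mkQ _
    have bQ := above ((A ⧸ p) ⧸ LinearMap.range l) fun q hq => by
      have h2 : p ≤ q.1 := le_trans ((le_of_eq (Ideal.annihilator_quotient (I := p)).symm).trans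
        (LinearMap.annihilator_le_of_surjective (Submodule.mkQ _) (Submodule.mkQ_surjective _))) hq
      refine lt_of_le_of_ne h2 fun h => hx (h ▸ hq (Module.mem_annihilator.mpr fun y => ?_))
      obtain ⟨y, rfl⟩ := Submodule.Quotient.mk_surjective _ y
      rw [← Submodule.Quotient.mk_smul, Submodule.Quotient.mk_eq_zero]
      exact ⟨y, rfl⟩
    have hls : (CochainComplex.singleFunctor (ModuleCat.{u} A) 0).map (ModuleCat.ofHom l) = x • 𝟙 X := by
      refine HomologicalComplex.from_single_hom_ext ?_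
      simp [X, l, CochainComplex.singleFunctor, CochainComplex.singleFunctors,
        HomologicalComplex.single_map_f_self, show ModuleCat.ofHom (x • (LinearMap.id : A ⧸ p →ₗ[A] A ⧸ p)) =
          x • 𝟙 (ModuleCat.of A (A ⧸ p)) from rfl]
      rfl
    have hf₁ : ∀ j (k : X.homology j),
        Hm ((CochainComplex.singleFunctor (ModuleCat.{u} A) 0).map (ModuleCat.ofHom l)) j k = x • k :=
      fun j k => by rw [hls]; exact Hm_smul_id x X j k
    have hf₂ : ∀ j (y : (Dc.D I (Dc.D I X)).homology j),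
        Hm (Dc.map I (Dc.map I ((CochainComplex.singleFunctor (ModuleCat.{u} A) 0).map
          (ModuleCat.ofHom l)))) j y = x • y := fun j y => by
      rw [hls, Dc.map_smul, Dc.map_smul, Dc.map_id, Dc.map_id]; exact Hm_smul_id x _ j y
    refine ⟨fun k hk => ?_, fun hinj y => ?_⟩
    · obtain ⟨k₁, h1, h2⟩ := ker_step_sgl hI (f := l) (g := g) hl (Submodule.mkQ_surjective _)
        (LinearMap.exact_map_mkQ_range l) i bQ k hk
      exact ⟨k₁, h1, (hf₁ i k₁).symm.trans h2⟩
    · obtain ⟨k, y₁, h⟩ := coker_step_sgl hI (f := l) (g := g) hl (Submodule.mkQ_surjective _)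
        (LinearMap.exact_map_mkQ_range l) i bQ (hinj (i + 1)) y
      exact ⟨k, y₁, (congrArg (Hm (Dc.η I X) i k + ·) (hf₂ i y₁).symm).trans h⟩
  have hinj : ∀ i, Function.Injective (Hm (Dc.η I X) i) := fun i => by
    have := hfin1 i
    have hK : Subsingleton (LinearMap.ker (Hm (Dc.η I X) i)) :=
      subsingleton_of_smul_surjective p hpm (fun a ha y => Subtype.ext (hk1 i a ha y.1))
        fun x hx y => by
          obtain ⟨k', hk', hk⟩ := (step x hx i).1 y.1 y.2
          exact ⟨⟨k', hk'⟩, Subtype.ext hk⟩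
    rw [← LinearMap.ker_eq_bot, eq_bot_iff]
    intro y hy
    exact (Submodule.mem_bot A).mpr (congrArg Subtype.val (Subsingleton.elim
      (⟨y, hy⟩ : LinearMap.ker (Hm (Dc.η I X) i)) 0))
  refine fun i => ⟨hinj i, ?_⟩
  have := hfin2 i
  have hQ : Subsingleton ((Dc.D I (Dc.D I X)).homology i ⧸ LinearMap.range (Hm (Dc.η I X) i)) := by
    refine subsingleton_of_smul_surjective p hpm (fun a ha y => ?_) fun x hx y => ?_
    · obtain ⟨y, rfl⟩ := Submodule.Quotient.mk_surjective _ y
      rw [← Submodule.Quotient.mk_smul, hk2 i a ha y, Submodule.Quotient.mk_zero]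
    · obtain ⟨y, rfl⟩ := Submodule.Quotient.mk_surjective _ y
      obtain ⟨k, y₁, h⟩ := (step x hx i).2 hinj y
      refine ⟨Submodule.Quotient.mk y₁, ?_⟩
      rw [← Submodule.Quotient.mk_smul, Submodule.Quotient.eq, ← h]
      exact ⟨-k, by rw [_root_.map_neg]; abel⟩
  rw [← LinearMap.range_eq_top]
  exact Submodule.Quotient.subsingleton_iff.mp hQ

end Groth.Agent.DualCx.Biduality

namespace Groth.Agent.DualCx.Biduality

open Devissage (E)
open Amplitude (sgl)

variable {A : Type u} [CommRing A]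

/-- evaluation at `1` identifies the dual of `A` with `I` -/
noncomputable def unitDualIso (I : DRing.Cx A) : Dc.D I (sgl (ModuleCat.of A A)) ≅ I :=
  HomologicalComplex.Hom.isoOfComponents
    (fun n =>
      LinearEquiv.toModuleIso
        ((({ Cochain.fromSingleEquiv (X := ModuleCat.of A A) (K := I) (p := 0) (q := n) (n := n)
              (zero_add n) with
            map_smul' := fun a z => by
              change ((HomologicalComplex.singleObjXSelf (ComplexShape.up ℤ) 0 (ModuleCat.of A A)).inv ≫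
                (a • z).v 0 n (zero_add n)) = a • ((HomologicalComplex.singleObjXSelf
                  (ComplexShape.up ℤ) 0 (ModuleCat.of A A)).inv ≫ z.v 0 n (zero_add n))
              rw [Cochain.smul_v]
              exact CategoryTheory.Linear.comp_smul (R := A) (C := ModuleCat.{u} A) _ _ _ _ _ _ } :
          Cochain (sgl (ModuleCat.of A A)) I n ≃ₗ[A] (ModuleCat.of A A ⟶ I.X n)).trans
            (ModuleCat.homLinearEquiv (S := A))).trans (LinearMap.ringLmapEquivSelf A A (I.X n))))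
    (fun i j hij => by
      obtain rfl : i + 1 = j := hij
      refine ModuleCat.hom_ext (LinearMap.ext fun (z : Cochain (sgl (ModuleCat.of A A)) I i) => ?_)
      obtain ⟨φ, rfl⟩ := Cochain.fromSingleMk_surjective z i (zero_add i)
      change (I.d i (i + 1)).hom ((Cochain.fromSingleEquiv (zero_add i)
          (Cochain.fromSingleMk φ (zero_add i))).hom (1 : A)) =
        (Cochain.fromSingleEquiv (zero_add (i + 1))
          (δ i (i + 1) (Cochain.fromSingleMk φ (zero_add i)))).hom (1 : A)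
      rw [Cochain.δ_fromSingleMk _ _ _ (i + 1) (zero_add _), Cochain.fromSingleEquiv_fromSingleMk,
        Cochain.fromSingleEquiv_fromSingleMk]
      rfl)

theorem bijective_smul_one_of_linearEquiv {R : Type*} [Ring R] [Algebra A R] (e : A ≃ₗ[A] R) :
    Function.Bijective fun a : A => a • (1 : R) := by
  obtain ⟨t, ht⟩ := e.surjective 1
  have he : ∀ a, e a = a • e 1 := fun a => by rw [← map_smul, smul_eq_mul, mul_one]
  obtain ⟨s, hs⟩ := e.surjective (e 1 * e 1)
  have hu : t * s = 1 := e.injective (by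
    calc e (t * s) = t • e s := by rw [← map_smul, smul_eq_mul]
      _ = e t * e 1 := by rw [hs, he t, smul_mul_assoc]
      _ = e 1 := by rw [ht, one_mul])
  have h : (fun a : A => a • (1 : R)) = e ∘ fun a => a * t := by
    funext a
    rw [Function.comp_apply, ← smul_eq_mul, map_smul, ht]
  rw [h]
  exact e.bijective.comp ⟨fun x y hxy => by
    have := congrArg (· * s) hxy
    simpa [mul_assoc, hu] using this, fun y => ⟨y * s, by simp [mul_assoc, mul_comm s t, hu]⟩⟩

/-- **An object with finite cohomology, bounded below, with residual `Ext` in a single degree at every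
maximal ideal, uniformly bounded, is dualizing.** -/
theorem isDualizing [IsNoetherianRing A] (K : Dual.D A) (a : ℤ) [K.IsGE a]
    (hf : ∀ i, Module.Finite A (Dual.HD A K i)) (b : ℤ)
    (hres : ∀ m : Ideal A, m.IsMaximal → ∃ d : ℤ, d ≤ b ∧
      (∀ i, i ≠ d → Subsingleton (E (A ⧸ m) K i)) ∧
        Nonempty (E (A ⧸ m) K d ≃ₗ[A] (A ⧸ m))) :
    Dual.IsDualizing A K := by
  have hamp : ∀ (M : Type u) [AddCommGroup M] [Module A M] (i : ℤ), (i < a ∨ b < i) →
      Subsingleton (E M K i) :=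
    Criterion.exists_amplitude a hf b fun i hi m hm => by
      obtain ⟨d, hd, hv, -⟩ := hres m hm
      exact hv i (by omega)
  obtain ⟨I, hI, ⟨e⟩⟩ := Residue.exists_rep (ω := K) (a := a) fun i hi =>
    (DRing.DBasic.subsingleton_HD_iff_isZero K i).mpr (DerivedCategory.isZero_of_isGE K a i hi)
  have := hI.isKInjective
  have : (DRing.toD I).IsGE a := DerivedCategory.TStructure.t.isGE_of_iso e.symm a
  let eE : ∀ (M : Type u) [AddCommGroup M] [Module A M] (i : ℤ),
      E M (DRing.toD I) i ≃ₗ[A] E M K i := fun M _ _ i =>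
    Hom.congr A (Iso.refl _) ((shiftFunctor (Dual.D A) i).mapIso e)
  have hf' : ∀ i, Module.Finite A (Dual.HD A (DRing.toD I) i) := fun i =>
    have := hf i
    Module.Finite.equiv ((DRing.DBasic.HF i).mapIso e).toLinearEquiv.symm
  have hbij := bijective_finite a b hf'
    (fun M _ _ i hi => have := hamp M i hi; (eE M i).toEquiv.subsingleton)
    (fun m hm => by
      obtain ⟨d, -, hv, ⟨eκ⟩⟩ := hres m hm
      exact ⟨d, fun i hi => have := hv i hi; (eE _ i).toEquiv.subsingleton, ⟨(eE _ d).trans eκ⟩⟩)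
    hI.1 A
  let T : ∀ q : ℤ, (sgl (ModuleCat.of A A)).homology q ≃ₗ[A] (K ⟶ K⟦q⟧) := fun q =>
    (LinearEquiv.ofBijective _ (hbij q)).trans
      ((Dc.hEquiv I (Dc.D I (sgl (ModuleCat.of A A))) q).symm.trans
        (Hom.congr A (DerivedCategory.Q.mapIso (unitDualIso I) ≪≫ e)
          ((shiftFunctor (Dual.D A) q).mapIso e)))
  refine ⟨inferInstance, ⟨a, b, hamp⟩, hf, ?_, fun i hi => ?_⟩
  · let T0 : A ≃ₗ[A] CategoryTheory.End K :=
      ((sglH0 (ModuleCat.of A A)).symm.trans (T 0)).trans (Hom.shiftZero A K K)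
    exact bijective_smul_one_of_linearEquiv (R := CategoryTheory.End K) T0
  · have := exists_rep_sgl (ModuleCat.of A A) i hi
    exact (T i).symm.toEquiv.subsingleton

end Groth.Agent.DualCx.Biduality
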