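import Groth.Agent.DualCx.Extended
import Groth.Agent.DualCx.Biduality
import Groth.Agent.Gor.Ring
import Mathlib.Algebra.Homology.DerivedCategory.Ext.Linear
import Mathlib.Algebra.Category.ModuleCat.Ext.HasExt

/-!
# `A[0]` is dualizing for Gorenstein rings of finite dimension
-/

universe u

open CategoryTheory CategoryTheory.Limits

attribute [local instance] HasDerivedCategory.standard

namespace Groth.Agent.DualCx.Gorenstein

open Devissage (E)

variable {A : Type u} [CommRing A]

/-- `Ext^n(M, N) = Hom(M[0], N[0][n])` -/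
noncomputable def extEquiv (M N : Type u) [AddCommGroup M] [Module A M] [AddCommGroup N] [Module A N]
    (n : ℕ) : Abelian.Ext.{u} (ModuleCat.of A M) (ModuleCat.of A N) n ≃+ E M (Dual.inD A N) (n : ℤ) :=
  Abelian.Ext.homAddEquiv

/-- finite cohomology of `A[0]` -/
theorem finite_HD_inD [IsNoetherianRing A] (i : ℤ) : Module.Finite A (Dual.HD A (Dual.inD A A) i) := by
  have e := ((DRing.DBasic.HF i).mapIso (Cx.unitIso A)).toLinearEquiv
  by_cases hi : i = 0
  · subst hi
    exact Module.Finite.equiv (Residue.unitH0.symm.trans e)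
  · have := Residue.subsingleton_HD_unit (A := A) i hi
    have : Subsingleton (Dual.HD A (Dual.inD A A) i) := e.symm.toEquiv.subsingleton
    infer_instance

theorem toEnd_inD : Function.Bijective fun c : A => c • 𝟙 (Dual.inD A A) := by
  refine ⟨fun c d hcd => ?_, fun f => ?_⟩
  · simp only at hcd
    rw [← CategoryTheory.Functor.map_id, ← Functor.map_smul, ← Functor.map_smul] at hcd
    simpa using congrArg (fun g => g.hom (1 : A))
      ((DerivedCategory.singleFunctor _ 0).map_injective hcd)
  · obtain ⟨g, rfl⟩ := (DerivedCategory.singleFunctor (ModuleCat.{u} A) 0).map_surjective f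
    refine ⟨g.hom (1 : A), ?_⟩
    simp only
    rw [← CategoryTheory.Functor.map_id, ← Functor.map_smul]
    congr 1
    exact ModuleCat.hom_ext (LinearMap.ext_ring (by simp))

theorem isDualizing_inD_self [IsNoetherianRing A] (b : ℤ)
    (hb : ∀ i, b < i → ∀ m : Ideal A, m.IsMaximal → Subsingleton (E (A ⧸ m) (Dual.inD A A) i)) :
    Dual.IsDualizing A (Dual.inD A A) := by
  refine ⟨inferInstance, ⟨0, b, Criterion.exists_amplitude 0 finite_HD_inD b hb⟩, finite_HD_inD,
    toEnd_inD, fun i hi => ?_⟩
  have : Subsingleton (Dual.HD A (Dual.inD A A) i) :=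
    have := Residue.subsingleton_HD_unit (A := A) i hi
    ((DRing.DBasic.HF i).mapIso (Cx.unitIso A)).toLinearEquiv.symm.toEquiv.subsingleton
  exact (Cx.homUnitEquivShift (Dual.inD A A) i).toEquiv.subsingleton

theorem subsingleton_of_hasInjectiveDimensionLT (M : Type u) [AddCommGroup M] [Module A M] {n : ℕ}
    (h : HasInjectiveDimensionLT (ModuleCat.of A A) n) (i : ℤ) (hi : (n : ℤ) ≤ i) :
    Subsingleton (E M (Dual.inD A A) i) := by
  lift i to ℕ using le_trans (by positivity) hi
  have := HasInjectiveDimensionLT.subsingleton.{u} (ModuleCat.of A A) n i (by exact_mod_cast hi)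
    (ModuleCat.of A M)
  exact (extEquiv M A i).symm.toEquiv.subsingleton

theorem isDualizing_of_isGorensteinLocalRing [h : LocCoh.IsGorensteinLocalRing A] :
    Dual.IsDualizing A (Dual.inD A A) := by
  obtain ⟨n, hn⟩ := h.exists_hasInjectiveDimensionLT
  exact isDualizing_inD_self n fun i hi m _ => subsingleton_of_hasInjectiveDimensionLT _ hn i hi.le

theorem isGorensteinLocalRing_of_isDualizing [IsLocalRing A] [IsNoetherianRing A]
    (h : Dual.IsDualizing A (Dual.inD A A)) : LocCoh.IsGorensteinLocalRing A := by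
  obtain ⟨a, b, hab⟩ := h.finite_injective_dimension
  refine { exists_hasInjectiveDimensionLT := ⟨b.toNat + 1, HasInjectiveDimensionLT.mk.{u} fun i hi Y e => ?_⟩ }
  have := hab Y (i : ℤ) (Or.inr (by omega))
  exact (extEquiv Y A i).injective (Subsingleton.elim (α := E Y (Dual.inD A A) (i : ℤ)) _ _)

theorem isDualizing_of_isGorensteinRing [IsNoetherianRing A] (hA : LocCoh.IsGorensteinRing A)
    {d : ℕ} (hd : ringKrullDim A ≤ d) : Dual.IsDualizing A (Dual.inD A A) := by
  refine isDualizing_inD_self d fun i hi m hm => ?_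
  let B := Localization.AtPrime m
  have : Module.Flat A B := IsLocalization.flat B m.primeCompl
  have hG : LocCoh.IsGorensteinLocalRing B := hA.isGorensteinLocalRing_localization m
  obtain ⟨e, he⟩ := Gor.Basic.exists_natCast_ringKrullDim (A := B)
  have hed : e ≤ d := by
    have h1 : ringKrullDim B ≤ ringKrullDim A :=
      (IsLocalization.AtPrime.ringKrullDim_eq_height m B).trans_le (Ideal.height_le_ringKrullDim_of_ne_top
        hm.ne_top)
    rw [he] at h1
    exact_mod_cast h1.trans hd
  have : (Dual.inD A A).IsGE 0 := inferInstance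
  obtain ⟨eq⟩ := FlatBC.nonempty_quotient (B := B) m
  let eQ : TensorProduct A B (A ⧸ m) ≃ₗ[B] IsLocalRing.ResidueField B :=
    eq.trans (Submodule.quotEquivOfEq _ _ (IsLocalization.AtPrime.map_eq_maximalIdeal m B))
  have hB : Subsingleton (E (IsLocalRing.ResidueField B)
      ((BaseChange.FD A B).obj (Dual.inD A A)) i) := by
    have := subsingleton_of_hasInjectiveDimensionLT (A := B) (IsLocalRing.ResidueField B)
      (Gor.Basic.hasInjectiveDimensionLT_dim he) i (by push_cast; omega)
    exact (Hom.congr B (Iso.refl _) ((shiftFunctor (Dual.D B) i).mapIso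
      (asIso (BaseChange.θ A B)).symm)).toEquiv.subsingleton
  have hkill : ∀ a ∈ m, ∀ x : E (A ⧸ m) (Dual.inD A A) i, a • x = 0 := fun a ha x => by
    have h0 : a • (LinearMap.id : A ⧸ m →ₗ[A] A ⧸ m) = (0 : A) • LinearMap.id :=
      LinearMap.ext fun y => by
        obtain ⟨y, rfl⟩ := Submodule.Quotient.mk_surjective m y
        rw [LinearMap.smul_apply, LinearMap.smul_apply, zero_smul, LinearMap.id_apply,
          ← Submodule.Quotient.mk_smul, Submodule.Quotient.mk_eq_zero]
        exact Ideal.mul_mem_right _ _ ha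
    rw [← Devissage.pre_id i x, ← Devissage.pre_smul, h0, Devissage.pre_smul, zero_smul]
  obtain ⟨el⟩ := Extended.nonempty_linearEquiv_baseChange (B := B) m _ hkill
  exact (el.toEquiv.trans
    ((FlatBC.homEquiv (B := B) (Dual.inD A A) 0 (A ⧸ m) i).toEquiv.trans
      (Devissage.congrE eQ _ i).toEquiv)).subsingleton

end Groth.Agent.DualCx.Gorenstein
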