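import Groth.Agent.DualCx.Dimfun
import Groth.Agent.DualCx.Biduality
import Groth.Agent.DualCx.Gorenstein
import Groth.Prelude.Def_DRing2

/-!
# Dualizing is a local property; consequences of the dimension function
-/

universe u

open CategoryTheory CategoryTheory.Limits IsLocalRing CochainComplex.HomComplex
open scoped TensorProduct

attribute [local instance] HasDerivedCategory.standard

namespace Groth.Agent.DualCx.LocalGlobal

open Devissage (E pre)
open Dimfun (B Z deg)

variable {A : Type u} [CommRing A] [IsNoetherianRing A]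

theorem coheight_eq_sub [IsLocalRing A] {ω : Dual.D A} (hω : Dual.IsDualizing A ω) :
    ∀ p : PrimeSpectrum A, Order.coheight p =
      ((deg hω ⟨maximalIdeal A, inferInstance⟩ - deg hω p).toNat : ℕ∞) := by
  intro p
  have htop : ∀ q : PrimeSpectrum A, deg hω q ≤ deg hω ⟨maximalIdeal A, inferInstance⟩ := fun q => by
    by_cases h : q = ⟨maximalIdeal A, inferInstance⟩
    · rw [h]
    · exact (Dimfun.deg_lt hω (lt_of_le_of_ne (le_maximalIdeal q.2.ne_top) h)).le
  refine le_antisymm (Dimfun.coheight_le hω p _ fun q _ => htop q) ?_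
  induction hk : (deg hω ⟨maximalIdeal A, inferInstance⟩ - deg hω p).toNat generalizing p with
  | zero => simp
  | succ k ih =>
    have hne : p ≠ ⟨maximalIdeal A, inferInstance⟩ := by rintro rfl; simp at hk
    have hlt : p < ⟨maximalIdeal A, inferInstance⟩ := lt_of_le_of_ne (le_maximalIdeal p.2.ne_top) hne
    obtain ⟨n, ⟨r, hpr, rfl⟩, hmin⟩ := Int.exists_least_of_bdd
      (P := fun n => ∃ r, p < r ∧ deg hω r = n)
      ⟨deg hω p, fun n ⟨r, hr, h⟩ => h ▸ (Dimfun.deg_lt hω hr).le⟩ ⟨_, _, hlt, rfl⟩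
    have hcov : p ⋖ r := ⟨hpr, fun s hps hsr => absurd (Dimfun.deg_lt hω hsr)
      (not_lt.mpr (hmin _ ⟨s, hps, rfl⟩))⟩
    have := Dimfun.deg_covBy hω hcov
    have hr := ih r (by omega)
    calc ((k + 1 : ℕ) : ℕ∞) = (k : ℕ∞) + 1 := by push_cast; rfl
      _ ≤ Order.coheight r + 1 := by gcongr
      _ ≤ Order.coheight p := Order.coheight_add_one_le hpr

/-- localisation at a minimal prime of the support keeps exactly one degree -/
theorem not_Z_E_of_minimal {ω : Dual.D A} (hω : Dual.IsDualizing A ω) (p : PrimeSpectrum A) (N : Type u)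
    [AddCommGroup N] [Module A N] [Module.Finite A N]
    (hmin : ∀ q : PrimeSpectrum A, Module.annihilator A N ≤ q.1 → q.1 ≤ p.1 → q = p)
    (hZ : ¬ Z p N) : ¬ Z p (E N ω (deg hω p)) := by
  revert hmin hZ
  induction ‹Module.Finite A N› using IsNoetherianRing.induction_on_isQuotientEquivQuotientPrime A with
  | subsingleton N => exact fun _ h => absurd (Dimfun.Z_of_subsingleton p N) h
  | quotient N q e =>
    intro hmin hZ h
    have hqp : q.1 ≤ p.1 := by
      by_contra hne
      obtain ⟨s, hsq, hsp⟩ := SetLike.not_le_iff_exists.mp hne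
      refine hZ fun x => ⟨s, hsp, e.injective ?_⟩
      obtain ⟨y, hy⟩ := Submodule.Quotient.mk_surjective q.1 (e x)
      rw [map_smul, map_zero, ← hy, ← Submodule.Quotient.mk_smul, Submodule.Quotient.mk_eq_zero]
      exact q.1.mul_mem_right _ hsq
    obtain rfl := hmin q (by rw [LinearEquiv.annihilator_eq e, Ideal.annihilator_quotient]) hqp
    exact Dimfun.not_Z_deg hω q (Dimfun.Z_equiv (Devissage.congrE e ω _) h)
  | exact N₁ N₂ N₃ f g hf hg hfg h₁ h₃ =>
    intro hmin hZ h
    have hm₁ : ∀ q : PrimeSpectrum A, Module.annihilator A N₁ ≤ q.1 → q.1 ≤ p.1 → q = p :=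
      fun q hq => hmin q ((f.annihilator_le_of_injective hf).trans hq)
    have hm₃ : ∀ q : PrimeSpectrum A, Module.annihilator A N₃ ≤ q.1 → q.1 ≤ p.1 → q = p :=
      fun q hq => hmin q ((g.annihilator_le_of_surjective hg).trans hq)
    have hoff : ∀ (M : Type u) [AddCommGroup M] [Module A M] [Module.Finite A M],
        (∀ q : PrimeSpectrum A, Module.annihilator A M ≤ q.1 → q.1 ≤ p.1 → q = p) →
        ∀ j, j ≠ deg hω p → Z p (E M ω j) := fun M _ _ _ hM j hj =>
      Dimfun.Z_of_primes p j M fun q hq hqp => by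
        obtain rfl := hM q hq hqp
        exact Dimfun.Z_of_ne hω q j hj
    let hS := (Devissage.sc_shortExact hf hg hfg).singleTriangle_distinguished
    by_cases hZ₁ : Z p N₁
    · have hZ₃ : ¬ Z p N₃ := fun hZ₃ => hZ (Dimfun.Z_mid hfg hZ₁ hZ₃)
      exact h₃ hm₃ hZ₃ (Dimfun.Z_mid (Hom.exact_cδ_pre A ω hS (deg hω p - 1) _ (by omega))
        (hoff N₁ hm₁ _ (by omega)) h)
    · exact h₁ hm₁ hZ₁ (Dimfun.Z_mid (Hom.exact_pre_cδ A ω hS (deg hω p) _ rfl) h
        (hoff N₃ hm₃ _ (by omega)))

theorem nontrivial_E_neg_supportDim [IsLocalRing A] {ω : Dual.D A} (hω : Dual.IsDualizing A ω)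
    (hn : Dual.IsNormalized A ω) (M : Type u) [AddCommGroup M] [Module A M] [Module.Finite A M]
    [Nontrivial M] (d : ℕ) (hd : Module.supportDim A M = d) :
    Nontrivial (E M ω (-(d : ℤ))) := by
  obtain ⟨l, hl⟩ : ∃ l : LTSeries (Module.support A M), l.length = d := by
    have : Nonempty (Module.support A M) := (Module.nonempty_support_of_nontrivial (R := A) (M := M)).to_subtype
    exact (Order.le_krullDim_iff (n := d)).mp hd.ge
  let p : PrimeSpectrum A := l.head.1
  have hup : ∀ q : PrimeSpectrum A, p ≤ q → q ∈ Module.support A M := fun q hq =>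
    Module.mem_support_mono hq l.head.2
  have h1 : (d : ℕ∞) ≤ Order.coheight p := by
    have := Order.length_le_coheight (p := l.map Subtype.val (fun _ _ h => h)) (x := p) le_rfl
    simpa [hl] using this
  have h2 : ∀ q : PrimeSpectrum A, q ∈ Module.support A M → Order.coheight q ≤ (d : ℕ∞) := by
    intro q hq
    refine Order.coheight_le fun s hs => ?_
    have hmem : ∀ k, s k ∈ Module.support A M := fun k => Module.mem_support_mono
      (show q ≤ s k from hs ▸ s.head_le k) hq
    let s' : LTSeries (Module.support A M) :=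
      ⟨s.length, fun k => ⟨s k, hmem k⟩, fun k => s.step k⟩
    have h3 := (Order.LTSeries.length_le_krullDim s').trans hd.le
    exact_mod_cast h3
  have hp : Order.coheight p = d := le_antisymm (h2 p l.head.2) h1
  have hdeg : deg hω p = -(d : ℤ) := by
    have := Dimfun.coheight_eq hω hn p
    rw [hp] at this
    have h0 := Dimfun.deg_nonpos hω hn p
    have : d = (-deg hω p).toNat := by exact_mod_cast this
    omega
  have hmin : ∀ q : PrimeSpectrum A, Module.annihilator A M ≤ q.1 → q.1 ≤ p.1 → q = p := by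
    intro q hq hqp
    by_contra hne
    have hqs : q ∈ Module.support A M := by rw [Module.mem_support_iff_of_finite]; exact hq
    have h3 := (Order.coheight_add_one_le (lt_of_le_of_ne (show q ≤ p from hqp) hne)).trans (h2 q hqs)
    rw [hp] at h3
    exact absurd (by exact_mod_cast h3 : d + 1 ≤ d) (by omega)
  have hZ : ¬ Z p M := by
    rw [Dimfun.Z_iff_localized, not_subsingleton_iff_nontrivial]
    exact Module.mem_support_iff.mp l.head.2
  have := not_Z_E_of_minimal hω p M hmin hZ
  rw [hdeg] at this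
  rw [← not_subsingleton_iff_nontrivial]
  exact fun hs => this (Dimfun.Z_of_subsingleton p _)

omit [IsNoetherianRing A] in
theorem smul_E_quot (m : Ideal A) {K : Dual.D A} (i : ℤ) :
    ∀ a ∈ m, ∀ x : E (A ⧸ m) K i, a • x = 0 := fun _ ha x => Dimfun.smul_E_eq_zero m i ha x

/-- residues from the local ring -/
theorem residue_of_local (K : Dual.D A) (a : ℤ) [K.IsGE a] (m : Ideal A) [m.IsMaximal]
    (hB : Dual.IsDualizing (Localization.AtPrime m)
      ((BaseChange.FD A (Localization.AtPrime m)).obj K)) :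
    ∃ n : ℤ, (∀ i : ℤ, i ≠ n → Subsingleton (E (A ⧸ m) K i)) ∧
      Nonempty (E (A ⧸ m) K n ≃ₗ[A] (A ⧸ m)) := by
  let B' := Localization.AtPrime m
  have : Module.Flat A B' := IsLocalization.flat B' m.primeCompl
  obtain ⟨n, hvan, ⟨eκ⟩⟩ := Residue.residue_single hB
  obtain ⟨eq⟩ := FlatBC.nonempty_quotient (B := B') m
  let eQ : B' ⊗[A] (A ⧸ m) ≃ₗ[B'] ResidueField B' :=
    eq.trans (Submodule.quotEquivOfEq _ _ (IsLocalization.AtPrime.map_eq_maximalIdeal m B'))
  let eE : ∀ i, B' ⊗[A] E (A ⧸ m) K i ≃ₗ[B'] E (ResidueField B') ((BaseChange.FD A B').obj K) i :=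
    fun i => (FlatBC.homLEquiv K a (A ⧸ m) i).trans (Devissage.congrE eQ _ i)
  have hkillQ : ∀ a ∈ m, ∀ x : A ⧸ m, a • x = 0 := fun a ha x => by
    obtain ⟨x, rfl⟩ := Submodule.Quotient.mk_surjective m x
    rw [← Submodule.Quotient.mk_smul, Submodule.Quotient.mk_eq_zero]
    exact Ideal.mul_mem_right _ _ ha
  refine ⟨n, fun i hi => ?_, ?_⟩
  · obtain ⟨e⟩ := Extended.nonempty_linearEquiv_baseChange (B := B') m _ (smul_E_quot m (K := K) i)
    have := hvan i hi
    exact (e.toEquiv.trans (eE i).toEquiv).subsingleton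
  · obtain ⟨e⟩ := Extended.nonempty_linearEquiv_baseChange (B := B') m _ (smul_E_quot m (K := K) n)
    obtain ⟨e'⟩ := Extended.nonempty_linearEquiv_baseChange (B := B') m _ hkillQ
    exact ⟨e.trans ((((eE n).trans eκ).trans eQ.symm).restrictScalars A |>.trans e'.symm)⟩

/-- dualizing can be checked at the maximal ideals, given a uniform bound -/
theorem isDualizing_of_local (K : Dual.D A) (a : ℤ) [K.IsGE a]
    (hf : ∀ i, Module.Finite A (Dual.HD A K i)) (b : ℤ)
    (hb : ∀ i, b < i → ∀ m : Ideal A, m.IsMaximal → Subsingleton (E (A ⧸ m) K i))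
    (hB : ∀ (m : Ideal A) [m.IsMaximal], Dual.IsDualizing (Localization.AtPrime m)
      ((BaseChange.FD A (Localization.AtPrime m)).obj K)) : Dual.IsDualizing A K := by
  refine Biduality.isDualizing K a hf b fun m hm => ?_
  obtain ⟨n, hv, ⟨e⟩⟩ := residue_of_local K a m (hB m)
  refine ⟨n, ?_, hv, ⟨e⟩⟩
  by_contra hlt
  have := hb n (by omega) m hm
  exact not_subsingleton (A ⧸ m) e.symm.toEquiv.subsingleton

omit [IsNoetherianRing A] in
/-- no morphisms into a bounded injective complex from far above -/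
theorem subsingleton_hom_injRep {K : Dual.D A} {a b : ℤ} (h : DRing.HasInjAmplitudeIn A a b K)
    (X : Dual.D A) (M : ℤ) [X.IsGE M] (i : ℤ) (hi : b < M + i) : Subsingleton (X ⟶ K⟦i⟧) := by
  obtain ⟨L, hv, hinj, ⟨e⟩⟩ := h
  obtain ⟨P, hP, ⟨eP⟩⟩ := X.exists_iso_Q_obj_of_isGE M
  have : L.IsStrictlyGE a :=
    (CochainComplex.isStrictlyGE_iff _ _).mpr fun k hk => hv k (Or.inl hk)
  have : ∀ k, Injective (L.X k) := fun k =>
    Module.injective_object_of_injective_module A (L.X k) (inj := hinj k)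
  have := CochainComplex.isKInjective_of_injective L a
  have : Subsingleton (Cocycle P L i) := by
    refine subsingleton_of_forall_eq 0 fun z => Cocycle.ext (Cochain.ext _ _ fun p q hpq => ?_)
    by_cases hp : p < M
    · exact (P.isZero_of_isStrictlyGE M p hp).eq_of_src _ _
    · exact (hv q (Or.inr (by omega))).eq_of_tgt _ _
  have : Subsingleton (CohomologyClass P L i) :=
    (CohomologyClass.mk_surjective (K := P) (L := L) (n := i)).subsingleton
  have : Subsingleton (DRing.toD P ⟶ (DRing.toD L)⟦i⟧) :=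
    (Cx.classHom P L i).toEquiv.symm.subsingleton
  exact (Hom.congr A eP.symm ((shiftFunctor (Dual.D A) i).mapIso e)).symm.toEquiv.subsingleton

/-- finiteness of `Hom(K, L[i])` for `L` of finite injective dimension -/
theorem finite_hom_of_injRep {K L : Dual.D A} (hK : ∀ i, Module.Finite A (Dual.HD A K i))
    (hL : ∀ i, Module.Finite A (Dual.HD A L i)) {a b : ℤ} (h : DRing.HasInjAmplitudeIn A a b L)
    (i : ℤ) : Module.Finite A (K ⟶ L⟦i⟧) := by
  have hge : L.IsGE a := by
    obtain ⟨E', hv, -, ⟨e⟩⟩ := h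
    have : E'.IsStrictlyGE a :=
      (CochainComplex.isStrictlyGE_iff _ _).mpr fun k hk => hv k (Or.inl hk)
    exact ⟨E', e.symm, this⟩
  obtain ⟨I, hI, ⟨eI⟩⟩ := Residue.exists_rep (ω := L) (a := a) fun j hj =>
    (DRing.DBasic.subsingleton_HD_iff_isZero L j).mpr (DerivedCategory.isZero_of_isGE L a j hj)
  have := hI.isKInjective
  have : (DRing.toD I).IsGE a := DerivedCategory.TStructure.t.isGE_of_iso eI.symm a
  obtain ⟨T, hT, rfl, hl, hr, e1, e3⟩ := Devissage.exists_split K (b - i)
  obtain ⟨T', hT', heq, hl', hr', e1', e3'⟩ := Devissage.exists_split T.obj₁ (a - i - 1)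
  -- far above and far below do not contribute
  have hge3 : T.obj₃.IsGE (b - i + 1) := (DerivedCategory.isGE_iff _ _).mpr fun j hj =>
    (DRing.DBasic.subsingleton_HD_iff_isZero _ j).mp (hr j (by omega))
  have hge3' : T'.obj₃.IsGE (a - i) := (DerivedCategory.isGE_iff _ _).mpr fun j hj =>
    (DRing.DBasic.subsingleton_HD_iff_isZero _ j).mp (hr' j (by omega))
  have hle3' : T'.obj₃.IsLE (b - i) := (DerivedCategory.isLE_iff _ _).mpr fun j hj =>
    (DRing.DBasic.subsingleton_HD_iff_isZero _ j).mp (by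
      by_cases hj' : j ≤ a - i - 1
      · exact hr' j hj'
      · obtain ⟨e⟩ := e3' j (by omega)
        have h0 : Subsingleton (Dual.HD A T.obj₁ j) := hl j (by omega)
        have : Subsingleton (Dual.HD A T'.obj₂ j) := by rw [heq]; exact h0
        exact e.symm.toEquiv.subsingleton)
  have hle1' : T'.obj₁.IsLE (a - i - 1) := (DerivedCategory.isLE_iff _ _).mpr fun j hj =>
    (DRing.DBasic.subsingleton_HD_iff_isZero _ j).mp (hl' j hj)
  have hfin3' : ∀ j, Module.Finite A (Dual.HD A T'.obj₃ j) := fun j => by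
    by_cases hj' : j ≤ a - i - 1
    · have := hr' j hj'; infer_instance
    · obtain ⟨e⟩ := e3' j (by omega)
      have : Module.Finite A (Dual.HD A T.obj₁ j) := by
        by_cases hj : j ≤ b - i
        · obtain ⟨e'⟩ := e1 j hj
          have := hK j
          exact Module.Finite.equiv e'.symm
        · have h00 : Subsingleton (Dual.HD A T.obj₁ j) := hl j (by omega)
          infer_instance
      exact Module.Finite.equiv e
  have hfI : ∀ j, Module.Finite A (Dual.HD A (DRing.toD I) j) := fun j =>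
    have := hL j
    Module.Finite.equiv ((DRing.DBasic.HF j).mapIso eI).toLinearEquiv.symm
  have h3 : Module.Finite A (T'.obj₃ ⟶ L⟦i⟧) := by
    have := Biduality.finite_hom_bounded a hfI T'.obj₃ (a - i) (b - i) hge3' hle3' hfin3' i
    exact Module.Finite.equiv (Hom.congr A (Iso.refl _) ((shiftFunctor (Dual.D A) i).mapIso eI))
  have hs1 : Subsingleton (T'.obj₁ ⟶ L⟦i⟧) := by
    have : (L⟦i⟧).IsGE (a - i) := DerivedCategory.TStructure.t.isGE_shift L a i (a - i) (by omega)
    exact subsingleton_of_forall_eq 0 fun f =>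
      DerivedCategory.TStructure.t.zero f (a - i - 1) (a - i) (by omega)
  have hs3 : Subsingleton (T.obj₃ ⟶ L⟦i⟧) := subsingleton_hom_injRep h T.obj₃ (b - i + 1) i (by omega)
  have hmid : Module.Finite A (T'.obj₂ ⟶ L⟦i⟧) :=
    Module.Finite.of_surjective (Hom.pre₂ A T' L i) fun f =>
      (Hom.exact_pre A L hT' i f).mp (Subsingleton.elim _ _)
  rw [heq] at hmid
  exact Module.Finite.of_injective (Hom.pre₁ A T L i) ((injective_iff_map_eq_zero _).mpr fun f hf => by
    obtain ⟨g, rfl⟩ := (Hom.exact_pre A L hT i f).mp hf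
    rw [Subsingleton.elim g 0, map_zero])

/-- the degree at a maximal ideal is bounded by a minimal prime's degree plus the dimension -/
theorem exists_bound (hdim : ringKrullDim A < ⊤) (K : Dual.D A) (a : ℤ) [K.IsGE a]
    (hB : ∀ p : PrimeSpectrum A, Dual.IsDualizing (Localization.AtPrime p.1)
      ((BaseChange.FD A (Localization.AtPrime p.1)).obj K)) :
    ∃ b : ℤ, ∀ i, b < i → ∀ m : Ideal A, m.IsMaximal → Subsingleton (E (A ⧸ m) K i) := by
  classical
  obtain ⟨D, hD⟩ : ∃ D : ℕ, ringKrullDim A ≤ D := by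
    cases h : ringKrullDim A with
    | bot => exact ⟨0, bot_le⟩
    | coe c =>
      rw [h] at hdim
      lift c to ℕ using (by rintro rfl; exact lt_irrefl _ hdim)
      exact ⟨c, le_rfl⟩
  -- the degree of each minimal prime
  let S := (minimalPrimes.finite_of_isNoetherianRing A).toFinset
  let c : Ideal A → ℤ := fun P => if h : P.IsPrime then
    deg (hB ⟨P, h⟩) ⟨maximalIdeal (Localization.AtPrime P), inferInstance⟩ else 0
  obtain ⟨b₀, hb₀⟩ : ∃ b₀ : ℤ, ∀ P ∈ S, c P ≤ b₀ := by
    obtain ⟨M, hM⟩ := Finset.exists_le (S.image c)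
    exact ⟨M, fun P hP => hM _ (Finset.mem_image_of_mem c hP)⟩
  refine ⟨b₀ + D, fun i hi m hm => ?_⟩
  obtain ⟨n, hv, ⟨e⟩⟩ := residue_of_local K a m (hB ⟨m, hm.isPrime⟩)
  refine hv i fun hin => ?_
  subst hin
  let M : PrimeSpectrum A := ⟨m, hm.isPrime⟩
  let Bm := Localization.AtPrime m
  let top : PrimeSpectrum Bm := ⟨maximalIdeal Bm, inferInstance⟩
  have htop : deg (hB M) top = i := by
    by_contra hne
    refine Dimfun.not_Z_deg (hB M) top ((Dimfun.Z_iff_tensor top _).mpr ?_)
    have := hv _ hne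
    obtain ⟨eq⟩ := FlatBC.nonempty_quotient (B := Bm) m
    have : Subsingleton (E (Bm ⧸ maximalIdeal Bm) ((BaseChange.FD A Bm).obj K) (deg (hB M) top)) :=
      FlatBC.subsingleton_of_base K a _ _ (eq.trans (Submodule.quotEquivOfEq _ _
        (IsLocalization.AtPrime.map_eq_maximalIdeal m Bm))) _ this
    infer_instance
  obtain ⟨P, hPmin, hPm⟩ := Ideal.exists_minimalPrimes_le (bot_le (a := m))
  have hPp : P.IsPrime := hPmin.1.1
  have hdisj : Disjoint (m.primeCompl : Set A) (P : Set A) :=
    Set.disjoint_left.mpr fun x hx hxP => hx (hPm hxP)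
  let Q : PrimeSpectrum Bm := ⟨P.map (algebraMap A Bm),
    IsLocalization.isPrime_of_isPrime_disjoint m.primeCompl Bm P hPp hdisj⟩
  have hQcomap : Q.1.comap (algebraMap A Bm) = P :=
    IsLocalization.under_map_of_isPrime_disjoint m.primeCompl Bm hPp hdisj
  have hQmin : Q.1 ∈ minimalPrimes Bm := ⟨⟨Q.2, bot_le⟩, fun q hq hle => by
    have h1 : q.comap (algebraMap A Bm) ≤ P := hQcomap ▸ Ideal.comap_mono hle
    have h2 := hPmin.2 ⟨hq.1.comap _, bot_le⟩ h1
    calc Q.1 ≤ (q.comap (algebraMap A Bm)).map (algebraMap A Bm) := Ideal.map_mono h2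
      _ ≤ q := Ideal.map_comap_le⟩
  -- degree at `Q` equals degree of the minimal prime
  have hnz : ¬ Z Q (Dual.HD Bm ((BaseChange.FD A Bm).obj K) (deg (hB M) Q)) :=
    (Dimfun.not_Z_HD_iff_minimal (hB M) Q hQmin _).mpr rfl
  have hnzA : ¬ Z ⟨P, hPp⟩ (Dual.HD A K (deg (hB M) Q)) := by
    intro h
    refine hnz fun t => ?_
    obtain ⟨t, rfl⟩ := (BaseChange.HDEquiv A Bm K _).surjective t
    induction t using TensorProduct.induction_on with
    | zero => exact ⟨1, fun h => Q.2.ne_top ((Ideal.eq_top_iff_one _).mpr h), by simp⟩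
    | tmul c h' =>
      obtain ⟨s, hs, hse⟩ := h h'
      refine ⟨algebraMap A Bm s, fun hq => hs (hQcomap.le hq), ?_⟩
      rw [← map_smul, algebraMap_smul, ← TensorProduct.tmul_smul, hse, TensorProduct.tmul_zero,
        map_zero]
    | add y z hy hz =>
      obtain ⟨s, hs, hsy⟩ := hy
      obtain ⟨s', hs', hsz⟩ := hz
      refine ⟨s * s', fun hm => (Q.2.mem_or_mem hm).elim hs hs', ?_⟩
      rw [map_add, smul_add, mul_comm, mul_smul, hsy, smul_zero, mul_comm, mul_smul, hsz, smul_zero,
        add_zero]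
  have hcP : c P = deg (hB M) Q := by
    have hPs : (maximalIdeal (Localization.AtPrime P)) ∈ minimalPrimes (Localization.AtPrime P) :=
      ⟨⟨inferInstance, bot_le⟩, fun q hq hle => by
        have h1 : q.comap (algebraMap A _) ≤ P :=
          (Ideal.comap_mono hle).trans (IsLocalization.AtPrime.under_maximalIdeal (Localization.AtPrime P) P).le
        have h2 := hPmin.2 ⟨hq.1.comap _, bot_le⟩ h1
        rw [← IsLocalization.AtPrime.map_eq_maximalIdeal P (Localization.AtPrime P)]
        exact (Ideal.map_mono h2).trans Ideal.map_comap_le⟩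
    simp only [c, dif_pos hPp]
    symm
    refine (Dimfun.not_Z_HD_iff_minimal (hB ⟨P, hPp⟩) ⟨maximalIdeal _, inferInstance⟩ hPs _).mp ?_
    intro h
    refine hnzA fun x => ?_
    obtain ⟨s, hs, hsx⟩ := h (BaseChange.HDEquiv A (Localization.AtPrime P) K _ (1 ⊗ₜ x))
    have hu : IsUnit s := IsLocalRing.notMem_maximalIdeal.mp hs
    have hx0 : (1 : Localization.AtPrime P) ⊗ₜ[A] x = 0 :=
      (BaseChange.HDEquiv A (Localization.AtPrime P) K _).injective
        ((hu.smul_eq_zero.mp hsx).trans (map_zero _).symm)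
    obtain ⟨t, ht⟩ := (IsLocalizedModule.eq_zero_iff P.primeCompl
      (TensorProduct.mk A (Localization.AtPrime P) _ 1)).mp hx0
    exact ⟨t.1, t.2, ht⟩
  have hP : c P ≤ b₀ := hb₀ P (Set.Finite.mem_toFinset _ |>.mpr hPmin)
  have hco := coheight_eq_sub (hB M) Q
  have hle : Order.coheight Q ≤ (D : ℕ∞) := by
    have h1 := Order.coheight_le_krullDim (a := Q)
    have h2 : ringKrullDim Bm ≤ ringKrullDim A :=
      (IsLocalization.AtPrime.ringKrullDim_eq_height m Bm).trans_le
        (Ideal.height_le_ringKrullDim_of_ne_top hm.ne_top)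
    exact_mod_cast (h1.trans h2).trans hD
  rw [hco] at hle
  have : (deg (hB M) top - deg (hB M) Q).toNat ≤ D := by exact_mod_cast hle
  omega

end Groth.Agent.DualCx.LocalGlobal
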