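import Groth.Agent.DualCx.LocalGlobal
import Groth.Agent.DualCx.Gorenstein

/-!
# Shifts and normalisation of dualizing complexes
-/

universe u

open CategoryTheory CategoryTheory.Limits IsLocalRing
open scoped TensorProduct

attribute [local instance] HasDerivedCategory.standard

namespace Groth.Agent.DualCx.Normalized

open Devissage (E pre)
open Dimfun (B Z deg)

variable {A : Type u} [CommRing A]

/-- `Ext^i(M, ω[n]) = Ext^{n+i}(M, ω)` -/
noncomputable def shiftE (M : Type u) [AddCommGroup M] [Module A M] (ω : Dual.D A) (n i j : ℤ)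
    (h : n + i = j) : E M (ω⟦n⟧) i ≃ₗ[A] E M ω j :=
  Hom.shiftTarget A n i j h (Dual.inD A M) ω

/-- shifting preserves dualizing complexes -/
theorem isDualizing_shift {ω : Dual.D A} (hω : Dual.IsDualizing A ω) (n : ℤ) :
    Dual.IsDualizing A (ω⟦n⟧) where
  isNoetherianRing := hω.isNoetherianRing
  finite_injective_dimension := by
    obtain ⟨a, b, h⟩ := hω.finite_injective_dimension
    refine ⟨a - n, b - n, fun M _ _ i hi => ?_⟩
    have := h M (n + i) (by omega)
    exact (shiftE M ω n i (n + i) rfl).toEquiv.subsingleton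
  finite_cohomology i := by
    have := hω.finite_cohomology (n + i)
    exact Module.Finite.equiv ((((shiftE A ω n i (n + i) rfl).trans
      (Cx.homUnitEquivShift ω (n + i))).symm).trans (Cx.homUnitEquivShift (ω⟦n⟧) i))
  toEnd_bijective := by
    have h : (fun a : A => a • 𝟙 (ω⟦n⟧)) = Hom.shiftE A n ω ω ∘ fun a : A => a • 𝟙 ω := by
      funext a
      simp only [Function.comp_apply, map_smul]
      exact congrArg (a • ·) ((shiftFunctor (Dual.D A) n).map_id ω).symm
    exact h ▸ (Hom.shiftE A n ω ω).bijective.comp hω.toEnd_bijective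
  ext_self_subsingleton i hi := by
    have := hω.ext_self_subsingleton i hi
    exact ((Hom.shiftTarget A n i (i + n) (add_comm n i) (ω⟦n⟧) ω).trans
      (Hom.shiftHom A n i (i + n) rfl ω ω).symm).toEquiv.subsingleton

variable [IsNoetherianRing A]

/-- a local ring has a normalized shift -/
theorem exists_isNormalized [IsLocalRing A] {ω : Dual.D A} (hω : Dual.IsDualizing A ω) :
    ∃ n : ℤ, Dual.IsNormalized A (ω⟦n⟧) := by
  obtain ⟨n, hv, -⟩ := Residue.residue_single hω
  refine ⟨n, fun i hi => ?_⟩
  have := hv (n + i) (by omega)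
  exact (shiftE (ResidueField A) ω n i (n + i) rfl).toEquiv.subsingleton

variable {ω : Dual.D A} (hω : Dual.IsDualizing A ω)

/-- the normalized localisation at `p` -/
noncomputable def loc (p : PrimeSpectrum A) : Dual.D (B p) :=
  ((BaseChange.FD A (B p)).obj ω)⟦deg hω p⟧

include hω

theorem isDualizing_loc (p : PrimeSpectrum A) : Dual.IsDualizing (B p) (loc hω p) :=
  isDualizing_shift (Dimfun.isDualizing_local hω p) _

theorem isNormalized_loc (p : PrimeSpectrum A) : Dual.IsNormalized (B p) (loc hω p) := fun i hi => by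
  obtain ⟨e⟩ := Dimfun.nonempty_residue hω p (deg hω p + i)
  have := (Dimfun.Z_iff_tensor p _).mp (Dimfun.Z_of_ne hω p (deg hω p + i) (by omega))
  exact ((shiftE _ _ _ i _ rfl).trans e.symm).toEquiv.subsingleton

theorem nonempty_E_loc (p : PrimeSpectrum A) (M : Type u) [AddCommGroup M] [Module A M]
    [Module.Finite A M] (j i : ℤ) (h : deg hω p + i = j) :
    Nonempty (B p ⊗[A] E M ω j ≃ₗ[B p] E (LocalizedModule p.1.primeCompl M) (loc hω p) i) := by
  obtain ⟨a, ha⟩ := Dimfun.exists_isGE hω
  exact ⟨((FlatBC.homLEquiv ω a M j).trans (Devissage.congrE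
    (LocalizedModule.equivTensorProduct p.1.primeCompl M).symm _ j)).trans (shiftE _ _ _ i j h).symm⟩

theorem Z_E_iff (p : PrimeSpectrum A) (M : Type u) [AddCommGroup M] [Module A M]
    [Module.Finite A M] (j : ℤ) :
    Z p (E M ω j) ↔
      Subsingleton (E (LocalizedModule p.1.primeCompl M) (loc hω p) (j - deg hω p)) := by
  obtain ⟨e⟩ := nonempty_E_loc hω p M j (j - deg hω p) (by omega)
  rw [Dimfun.Z_iff_tensor]
  exact e.toEquiv.subsingleton_congr

omit hω [IsNoetherianRing A] in
theorem finite_localized (p : PrimeSpectrum A) (M : Type u) [AddCommGroup M] [Module A M]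
    [Module.Finite A M] : Module.Finite (B p) (LocalizedModule p.1.primeCompl M) :=
  Module.Finite.equiv (LocalizedModule.equivTensorProduct p.1.primeCompl M).symm

/-- degrees of `Ext(M, ω)` at a prime -/
theorem Z_E_of_deg (p : PrimeSpectrum A) (M : Type u) [AddCommGroup M] [Module A M]
    [Module.Finite A M] (j : ℤ) (h : deg hω p < j) : Z p (E M ω j) := by
  rw [Z_E_iff hω]
  have := finite_localized p M
  exact Normal.subsingleton_E_pos (isDualizing_loc hω p) (isNormalized_loc hω p) _ _ (by omega)

/-- depth and the top degree of `Ext(M, ω)` at a prime -/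
theorem depth_spec (p : PrimeSpectrum A) (M : Type u) [AddCommGroup M] [Module A M]
    [Module.Finite A M] [Nontrivial (LocalizedModule p.1.primeCompl M)] :
    ∃ n : ℕ, LocCoh.depth (B p) (LocalizedModule p.1.primeCompl M) = n ∧
      (∀ j, deg hω p - n < j → Z p (E M ω j)) ∧ ¬ Z p (E M ω (deg hω p - n)) := by
  have := finite_localized p M
  obtain ⟨n, hn⟩ : ∃ n : ℕ, LocCoh.depth (B p) (LocalizedModule p.1.primeCompl M) = n :=
    ⟨_, (ENat.natCast_toNat (Depth.depth_lt_top
      (M := LocalizedModule p.1.primeCompl M)).ne).symm⟩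
  obtain ⟨h1, h2⟩ := Normal.depth_spec (isDualizing_loc hω p) (isNormalized_loc hω p) n _ hn
  refine ⟨n, hn, fun j hj => ?_, ?_⟩
  · by_cases hjd : deg hω p < j
    · exact Z_E_of_deg hω p M j hjd
    · rw [Z_E_iff hω]
      have h := h1 (deg hω p - j).toNat (by omega)
      rwa [show (-((deg hω p - j).toNat : ℤ)) = j - deg hω p by omega] at h
  · rw [Z_E_iff hω, show deg hω p - n - deg hω p = -(n : ℤ) by omega,
      not_subsingleton_iff_nontrivial]
    exact h2

/-- the Cohen–Macaulay locus of `M` -/
theorem cm_iff (p : PrimeSpectrum A) (M : Type u) [AddCommGroup M] [Module A M]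
    [Module.Finite A M] :
    (Subsingleton (LocalizedModule p.1.primeCompl M) ∨
      LocCoh.IsCohenMacaulayModule (B p) (LocalizedModule p.1.primeCompl M)) ↔
      ∃ j₀ : ℤ, ∀ j, j ≠ j₀ → Z p (E M ω j) := by
  have := finite_localized p M
  by_cases hM : Subsingleton (LocalizedModule p.1.primeCompl M)
  · refine iff_of_true (Or.inl hM) ⟨0, fun j _ => ?_⟩
    rw [Z_E_iff hω]
    exact Devissage.subsingleton_of_subsingleton _
  have hnt := not_subsingleton_iff_nontrivial.mp hM
  obtain ⟨n, hn, hZ, hnZ⟩ := depth_spec hω p M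
  obtain ⟨d, hd⟩ := Normal.exists_supportDim (A := B p) (LocalizedModule p.1.primeCompl M)
  constructor
  · intro h
    have hCM : Module.supportDim (B p) (LocalizedModule p.1.primeCompl M) = (n : ℕ∞) := by
      have := h.resolve_left hM
      rw [LocCoh.IsCohenMacaulayModule, hn] at this
      exact this
    refine ⟨deg hω p - n, fun j hj => ?_⟩
    by_cases hlt : deg hω p - n < j
    · exact hZ j hlt
    · rw [Z_E_iff hω]
      exact Normal.subsingleton_E (isDualizing_loc hω p) (isNormalized_loc hω p) n _
        (le_of_eq hCM) _ (Or.inl (by omega))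
  · rintro ⟨j₀, hj⟩
    refine Or.inr ?_
    obtain ⟨d', hd'⟩ : ∃ d' : ℕ,
        Module.supportDim (B p) (LocalizedModule p.1.primeCompl M) = d' := by
      have h0 := (Module.supportDim_ne_bot_iff_nontrivial (B p) (LocalizedModule p.1.primeCompl M)).mpr hnt
      revert hd h0
      generalize Module.supportDim (B p) (LocalizedModule p.1.primeCompl M) = s
      intro hd h0
      cases s with
      | bot => exact absurd rfl h0
      | coe c =>
        lift c to ℕ using (by
          rintro rfl
          exact (WithBot.coe_lt_coe.mpr (ENat.natCast_lt_top d)).not_ge hd)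
        exact ⟨c, rfl⟩
    have h1 : ¬ Z p (E M ω (deg hω p - d')) := by
      rw [Z_E_iff hω, show deg hω p - d' - deg hω p = -(d' : ℤ) by omega,
        not_subsingleton_iff_nontrivial]
      exact LocalGlobal.nontrivial_E_neg_supportDim (isDualizing_loc hω p) (isNormalized_loc hω p)
        _ d' hd'
    have e1 : deg hω p - n = j₀ := by_contra fun hne => hnZ (hj _ hne)
    have e2 : deg hω p - d' = j₀ := by_contra fun hne => h1 (hj _ hne)
    rw [LocCoh.IsCohenMacaulayModule, hd', hn, show d' = n by omega]
    rfl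

end Groth.Agent.DualCx.Normalized
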