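import Groth.Agent.DualCx.LocalDuality
import Groth.Agent.DualCx.LocalGlobal
import Groth.Agent.DualCx.Normalized
import Groth.Agent.DRing.PCTools

/-!
# `A[d]` is the normalized dualizing complex of a Gorenstein local ring; local duality over it
-/

universe u

open CategoryTheory IsLocalRing

attribute [local instance] HasDerivedCategory.standard

namespace Groth.Agent.DualCx.GorNormal

open Devissage (E)

variable {A : Type u} [CommRing A] [LocCoh.IsGorensteinLocalRing A] {d : ℕ} (hd : ringKrullDim A = d)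

include hd

theorem isDualizing : Dual.IsDualizing A ((Dual.inD A A)⟦(d : ℤ)⟧) :=
  Normalized.isDualizing_shift Gorenstein.isDualizing_of_isGorensteinLocalRing _

theorem isNormalized : Dual.IsNormalized A ((Dual.inD A A)⟦(d : ℤ)⟧) := by
  have hI : Dual.IsDualizing A (Dual.inD A A) := Gorenstein.isDualizing_of_isGorensteinLocalRing
  obtain ⟨n, hn⟩ := Normalized.exists_isNormalized hI
  have h1 := LocalGlobal.nontrivial_E_neg_supportDim (Normalized.isDualizing_shift hI n) hn A d
    ((Module.supportDim_self_eq_ringKrullDim (R := A)).trans hd)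
  obtain rfl : n = d := by
    by_contra hne
    have := DRing.PC.subsingleton_HD_inD A A (n + -(d : ℤ)) (by omega)
    exact not_subsingleton (E A ((Dual.inD A A)⟦n⟧) (-(d : ℤ)))
      ((Normalized.shiftE A _ n _ _ rfl).trans (Cx.homUnitEquivShift _ _)).toEquiv.subsingleton
  exact hn

omit hd [LocCoh.IsGorensteinLocalRing A] in
/-- `Ext^i(M, A) = Hom(M, A[d][i-d])` -/
theorem nonempty_extEquiv (M : Type u) [AddCommGroup M] [Module A M] (i : ℕ) :
    Nonempty (Abelian.Ext.{u} (ModuleCat.of A M) (ModuleCat.of A A) i ≃ₗ[A]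
      E M ((Dual.inD A A)⟦(d : ℤ)⟧) ((i : ℤ) - d)) :=
  ⟨(show Abelian.Ext.{u} (ModuleCat.of A M) (ModuleCat.of A A) i ≃ₗ[A] E M (Dual.inD A A) (i : ℤ) from
    Abelian.Ext.homLinearEquiv).trans (Normalized.shiftE M _ _ _ _ (by omega)).symm⟩

theorem subsingleton_ext (M : Type u) [AddCommGroup M] [Module A M] [Module.Finite A M] (p : ℕ)
    (hdim : Module.supportDim A M + p ≤ ringKrullDim A) (i : ℕ) (hi : i < p) :
    Subsingleton (Abelian.Ext.{u} (ModuleCat.of A M) (ModuleCat.of A A) i) := by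
  obtain ⟨e⟩ := nonempty_extEquiv (A := A) (d := d) M i
  by_cases hM : Subsingleton M
  · have := Devissage.subsingleton_of_subsingleton (A := A) (M := M)
      (K := (Dual.inD A A)⟦(d : ℤ)⟧) ((i : ℤ) - d)
    exact e.toEquiv.subsingleton
  obtain ⟨c, hc⟩ : ∃ c : ℕ, Module.supportDim A M = c := by
    have h0 := (Module.supportDim_ne_bot_iff_nontrivial A M).mpr (not_subsingleton_iff_nontrivial.mp hM)
    have h1 := (Module.supportDim_le_ringKrullDim A M).trans hd.le
    revert h0 h1
    generalize Module.supportDim A M = s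
    intro h0 h1
    cases s with
    | bot => exact absurd rfl h0
    | coe c =>
      lift c to ℕ using (by
        rintro rfl
        exact (WithBot.coe_lt_coe.mpr (ENat.natCast_lt_top d)).not_ge h1)
      exact ⟨c, rfl⟩
  rw [hc, hd] at hdim
  have hcp : c + p ≤ d := by exact_mod_cast hdim
  have := Normal.subsingleton_E (isDualizing hd) (isNormalized hd) c M hc.le ((i : ℤ) - d)
    (Or.inl (by omega))
  exact e.toEquiv.subsingleton

theorem finiteLength (M : Type u) [AddCommGroup M] [Module A M] (hM : IsFiniteLength A M) :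
    (∀ i : ℕ, i ≠ d → Subsingleton (Abelian.Ext.{u} (ModuleCat.of A M) (ModuleCat.of A A) i)) ∧
      Module.length A (Abelian.Ext.{u} (ModuleCat.of A M) (ModuleCat.of A A) d) = Module.length A M := by
  refine ⟨fun i hi => ?_, ?_⟩
  · obtain ⟨e⟩ := nonempty_extEquiv (A := A) (d := d) M i
    have := Normal.subsingleton_finiteLength (isNormalized hd) hM ((i : ℤ) - d) (by omega)
    exact e.toEquiv.subsingleton
  · obtain ⟨e⟩ := nonempty_extEquiv (A := A) (d := d) M d
    rw [e.length_eq, show (d : ℤ) - d = 0 from sub_self _]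
    exact Normal.length_finiteLength (isDualizing hd) (isNormalized hd) hM

theorem subsingleton_H (i : ℕ) (hi : i ≠ d) :
    Subsingleton (LocCoh.H (maximalIdeal A) i A) := by
  obtain ⟨E', _, _, f, hf⟩ := InjHull.Basic.exists_isInjectiveHull (R := A) (ResidueField A)
  obtain ⟨e⟩ := LocalDuality.nonempty_H_equiv (isDualizing hd) (isNormalized hd) hf A i
  have := DRing.PC.subsingleton_HD_inD A A ((d : ℤ) + -(i : ℤ)) (by omega)
  have : Subsingleton (Dual.inD A A ⟶ ((Dual.inD A A)⟦(d : ℤ)⟧)⟦(-(i : ℤ))⟧) :=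
    ((Normalized.shiftE A _ (d : ℤ) _ _ rfl).trans (Cx.homUnitEquivShift _ _)).toEquiv.subsingleton
  have : Subsingleton ((Dual.inD A A ⟶ ((Dual.inD A A)⟦(d : ℤ)⟧)⟦(-(i : ℤ))⟧) →ₗ[A] E') :=
    subsingleton_of_forall_eq 0 fun φ => LinearMap.ext fun x => by
      rw [Subsingleton.elim x 0, map_zero, map_zero]
  exact e.toEquiv.subsingleton

theorem exists_hull : ∃ g : ResidueField A →ₗ[A] LocCoh.H (maximalIdeal A) d A,
    _root_.InjHull.IsInjectiveHull g := by
  obtain ⟨E', _, _, f, hf⟩ := InjHull.Basic.exists_isInjectiveHull (R := A) (ResidueField A)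
  obtain ⟨e⟩ := LocalDuality.nonempty_H_equiv (isDualizing hd) (isNormalized hd) hf A d
  let eA : (Dual.inD A A ⟶ ((Dual.inD A A)⟦(d : ℤ)⟧)⟦(-(d : ℤ))⟧) ≃ₗ[A] A :=
    (Normalized.shiftE A _ (d : ℤ) (-(d : ℤ)) 0 (by omega)).trans
      ((Cx.homUnitEquivShift _ 0).trans (DRing.PC.inDEquiv A A))
  let e' : E' ≃ₗ[A] LocCoh.H (maximalIdeal A) d A :=
    (LinearMap.ringLmapEquivSelf A A E').symm.trans
      ((LinearEquiv.congrLeft E' A eA).symm.trans e.symm)
  exact ⟨_, InjHull.Basic.isInjectiveHull_equiv_comp hf e'⟩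

end Groth.Agent.DualCx.GorNormal
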