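import Groth.Agent.DualCx.Extended
import Mathlib.RingTheory.Ideal.Height
import Mathlib.RingTheory.KrullDimension.Basic

/-!
# The dimension function of a dualizing complex
-/

universe u

open CategoryTheory CategoryTheory.Limits IsLocalRing
open scoped TensorProduct

attribute [local instance] HasDerivedCategory.standard

namespace Groth.Agent.DualCx.Dimfun

open Devissage (E pre)

variable {A : Type u} [CommRing A]

/-- vanishing of the localisation at `p`, elementwise -/
def Z (p : PrimeSpectrum A) (M : Type*) [AddCommGroup M] [Module A M] : Prop :=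
  ∀ e : M, ∃ s : A, s ∉ p.1 ∧ s • e = 0

/-- the local ring at `p` -/
abbrev B (p : PrimeSpectrum A) : Type u := Localization.AtPrime p.1

instance flat_B (p : PrimeSpectrum A) : Module.Flat A (B p) := IsLocalization.flat (B p) p.1.primeCompl

theorem Z_iff_tensor (p : PrimeSpectrum A) (M : Type*) [AddCommGroup M] [Module A M] :
    Z p M ↔ Subsingleton (B p ⊗[A] M) := by
  rw [IsLocalizedModule.subsingleton_iff p.1.primeCompl (TensorProduct.mk A (B p) M 1)]
  rfl

theorem Z_iff_localized (p : PrimeSpectrum A) (M : Type*) [AddCommGroup M] [Module A M] :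
    Z p M ↔ Subsingleton (LocalizedModule p.1.primeCompl M) :=
  (LocalizedModule.subsingleton_iff (S := p.1.primeCompl) (M := M)).symm

theorem Z_of_subsingleton (p : PrimeSpectrum A) (M : Type*) [AddCommGroup M] [Module A M]
    [Subsingleton M] : Z p M := fun _ =>
  ⟨1, fun h => p.2.ne_top ((Ideal.eq_top_iff_one _).mpr h), Subsingleton.elim _ _⟩

theorem Z_mono {p q : PrimeSpectrum A} (h : q.1 ≤ p.1) {M : Type*} [AddCommGroup M] [Module A M]
    (hM : Z p M) : Z q M := fun e => by
  obtain ⟨s, hs, he⟩ := hM e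
  exact ⟨s, fun hq => hs (h hq), he⟩

theorem Z_equiv {p : PrimeSpectrum A} {M N : Type*} [AddCommGroup M] [Module A M] [AddCommGroup N]
    [Module A N] (e : M ≃ₗ[A] N) (hM : Z p M) : Z p N := fun x => by
  obtain ⟨s, hs, he⟩ := hM (e.symm x)
  exact ⟨s, hs, e.symm.injective (by rw [map_smul, he, map_zero])⟩

theorem Z_mid {p : PrimeSpectrum A} {X Y W : Type*} [AddCommGroup X] [Module A X] [AddCommGroup Y]
    [Module A Y] [AddCommGroup W] [Module A W] {f : X →ₗ[A] Y} {g : Y →ₗ[A] W}
    (h : Function.Exact f g) (hX : Z p X) (hW : Z p W) : Z p Y := fun e => by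
  obtain ⟨s, hs, he⟩ := hW (g e)
  obtain ⟨x, hx⟩ := (h (s • e)).mp (by rw [map_smul, he])
  obtain ⟨t, ht, htx⟩ := hX x
  refine ⟨t * s, fun hm => (p.2.mem_or_mem hm).elim ht hs, ?_⟩
  rw [mul_smul, ← hx, ← map_smul, htx, map_zero]

variable {ω : Dual.D A}

theorem smul_E_eq_zero (q : Ideal A) (i : ℤ) {s : A} (hs : s ∈ q) (e : E (A ⧸ q) ω i) : s • e = 0 := by
  have h0 : s • (LinearMap.id : A ⧸ q →ₗ[A] A ⧸ q) = (0 : A) • LinearMap.id :=
    LinearMap.ext fun y => by
      obtain ⟨y, rfl⟩ := Submodule.Quotient.mk_surjective q y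
      rw [LinearMap.smul_apply, LinearMap.smul_apply, zero_smul, LinearMap.id_apply,
        ← Submodule.Quotient.mk_smul, Submodule.Quotient.mk_eq_zero]
      exact Ideal.mul_mem_right _ _ hs
  rw [← Devissage.pre_id i e, ← Devissage.pre_smul, h0, Devissage.pre_smul, zero_smul]

theorem Z_of_primes [IsNoetherianRing A] (p : PrimeSpectrum A) (i : ℤ) (N : Type u) [AddCommGroup N]
    [Module A N] [Module.Finite A N]
    (h : ∀ q : PrimeSpectrum A, Module.annihilator A N ≤ q.1 → q.1 ≤ p.1 → Z p (E (A ⧸ q.1) ω i)) :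
    Z p (E N ω i) := by
  revert h
  induction ‹Module.Finite A N› using IsNoetherianRing.induction_on_isQuotientEquivQuotientPrime A with
  | subsingleton N =>
    intro _
    have := Devissage.subsingleton_of_subsingleton (A := A) (M := N) (K := ω) i
    exact Z_of_subsingleton p _
  | quotient N q e =>
    intro h
    refine Z_equiv (Devissage.congrE e ω i).symm ?_
    by_cases hq : q.1 ≤ p.1
    · exact h q (by rw [LinearEquiv.annihilator_eq e, Ideal.annihilator_quotient]) hq
    · obtain ⟨s, hsq, hsp⟩ := SetLike.not_le_iff_exists.mp hq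
      exact fun x => ⟨s, hsp, smul_E_eq_zero q.1 i hsq x⟩
  | exact N₁ N₂ N₃ f g hf hg hfg h₁ h₃ =>
    intro h
    exact Z_mid (Devissage.exact_mid hf hg hfg i)
      (h₃ fun q hq => h q ((g.annihilator_le_of_surjective hg).trans hq))
      (h₁ fun q hq => h q ((f.annihilator_le_of_injective hf).trans hq))

variable [IsNoetherianRing A] (hω : Dual.IsDualizing A ω)

include hω

theorem isDualizing_local (p : PrimeSpectrum A) :
    Dual.IsDualizing (B p) ((BaseChange.FD A (B p)).obj ω) :=
  Extended.isDualizing hω fun M _ => IsLocalization.map_under p.1.primeCompl (B p) M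

omit [IsNoetherianRing A] in
theorem exists_isGE : ∃ a : ℤ, ω.IsGE a := by
  obtain ⟨a, b, h⟩ := Residue.exists_cohomology_bounds hω
  exact ⟨a, (DerivedCategory.isGE_iff ω a).mpr fun i hi =>
    (DRing.DBasic.subsingleton_HD_iff_isZero ω i).mp (h i (Or.inl hi))⟩

theorem nonempty_residue (p : PrimeSpectrum A) (i : ℤ) :
    Nonempty (B p ⊗[A] E (A ⧸ p.1) ω i ≃ₗ[B p]
      E (ResidueField (B p)) ((BaseChange.FD A (B p)).obj ω) i) := by
  obtain ⟨a, ha⟩ := exists_isGE hω
  obtain ⟨eq⟩ := FlatBC.nonempty_quotient (B := B p) p.1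
  exact ⟨(FlatBC.homLEquiv ω a (A ⧸ p.1) i).trans (Devissage.congrE
    (eq.trans (Submodule.quotEquivOfEq _ _ (IsLocalization.AtPrime.map_eq_maximalIdeal p.1 (B p)))) _ i)⟩

theorem exists_deg (p : PrimeSpectrum A) : ∃ n : ℤ,
    (∀ i, i ≠ n → Z p (E (A ⧸ p.1) ω i)) ∧ ¬ Z p (E (A ⧸ p.1) ω n) := by
  obtain ⟨n, hv, ⟨e⟩⟩ := Residue.residue_single (isDualizing_local hω p)
  refine ⟨n, fun i hi => (Z_iff_tensor p _).mpr ?_, fun h => ?_⟩
  · obtain ⟨ei⟩ := nonempty_residue hω p i
    have := hv i hi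
    exact ei.toEquiv.subsingleton
  · obtain ⟨en⟩ := nonempty_residue hω p n
    have := (Z_iff_tensor p _).mp h
    exact not_subsingleton (ResidueField (B p)) (en.trans e).symm.toEquiv.subsingleton

/-- the degree in which the residue field at `p` lives -/
noncomputable def deg (p : PrimeSpectrum A) : ℤ := (exists_deg hω p).choose

theorem Z_of_ne (p : PrimeSpectrum A) (i : ℤ) (h : i ≠ deg hω p) : Z p (E (A ⧸ p.1) ω i) :=
  (exists_deg hω p).choose_spec.1 i h

theorem not_Z_deg (p : PrimeSpectrum A) : ¬ Z p (E (A ⧸ p.1) ω (deg hω p)) :=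
  (exists_deg hω p).choose_spec.2

theorem eq_deg_of_not_Z {p : PrimeSpectrum A} {i : ℤ} (h : ¬ Z p (E (A ⧸ p.1) ω i)) : i = deg hω p :=
  by_contra fun hne => h (Z_of_ne hω p i hne)

theorem Z_of_smul (p : PrimeSpectrum A) (M : Type u) [AddCommGroup M] [Module A M] [Module.Finite A M]
    (i : ℤ) {x : A} (hx : x ∈ p.1)
    (h : ∀ e : E M ω i, ∃ s, s ∉ p.1 ∧ ∃ e', s • e = x • e') : Z p (E M ω i) := by
  obtain ⟨a, ha⟩ := exists_isGE hω
  have := Criterion.finite_E a hω.finite_cohomology M i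
  rw [Z_iff_tensor]
  have hsurj : ∀ t : B p ⊗[A] E M ω i, ∃ t', algebraMap A (B p) x • t' = t := by
    intro t
    induction t using TensorProduct.induction_on with
    | zero => exact ⟨0, smul_zero _⟩
    | tmul b e =>
      obtain ⟨s, hs, e', he⟩ := h e
      obtain ⟨u, hu⟩ := IsLocalization.map_units (B p) (⟨s, hs⟩ : p.1.primeCompl)
      simp only at hu
      refine ⟨(b * (u⁻¹ : (B p)ˣ)) ⊗ₜ e', ?_⟩
      rw [algebraMap_smul, ← TensorProduct.tmul_smul, ← he, TensorProduct.tmul_smul,
        TensorProduct.smul_tmul', Algebra.smul_def, ← hu, mul_left_comm, Units.mul_inv, mul_one]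
    | add y z hy hz =>
      obtain ⟨y', rfl⟩ := hy
      obtain ⟨z', rfl⟩ := hz
      exact ⟨y' + z', smul_add _ _ _⟩
  have hxm : algebraMap A (B p) x ∈ maximalIdeal (B p) :=
    (IsLocalization.AtPrime.to_map_mem_maximal_iff (B p) p.1 x).mpr hx
  have h2 := Submodule.eq_bot_of_le_smul_of_le_jacobson_bot (Ideal.span {algebraMap A (B p) x})
    (⊤ : Submodule (B p) (B p ⊗[A] E M ω i)) Module.Finite.fg_top
    (fun t _ => by
      obtain ⟨t', rfl⟩ := hsurj t
      exact Submodule.smul_mem_smul (Ideal.mem_span_singleton_self _) trivial)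
    (by rwa [IsLocalRing.jacobson_eq_maximalIdeal _ bot_ne_top, Ideal.span_le,
      Set.singleton_subset_iff, SetLike.mem_coe])
  exact (Submodule.subsingleton_iff (B p)).mp (subsingleton_of_bot_eq_top h2.symm)

/-- descending to a smaller prime -/
theorem Z_step {p q : PrimeSpectrum A} (hqp : q.1 ≤ p.1) (i : ℤ) (hne : q ≠ p)
    (h : ∀ r : PrimeSpectrum A, q.1 < r.1 → r.1 ≤ p.1 → Z p (E (A ⧸ r.1) ω (i + 1))) :
    Z p (E (A ⧸ q.1) ω i) := by
  obtain ⟨x, hxp, hxq⟩ := SetLike.exists_of_lt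
    (lt_of_le_of_ne hqp fun e => hne (PrimeSpectrum.ext e))
  let l : A ⧸ q.1 →ₗ[A] A ⧸ q.1 := x • LinearMap.id
  have hl : Function.Injective l := by
    intro y z hyz
    obtain ⟨y, rfl⟩ := Ideal.Quotient.mk_surjective y
    obtain ⟨z, rfl⟩ := Ideal.Quotient.mk_surjective z
    replace hyz : x • Ideal.Quotient.mk q.1 y = x • Ideal.Quotient.mk q.1 z := hyz
    simp only [Algebra.smul_def, Ideal.Quotient.algebraMap_eq, ← map_mul] at hyz
    rw [Ideal.Quotient.eq, ← mul_sub] at hyz
    rw [Ideal.Quotient.eq]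
    exact (q.2.mem_or_mem hyz).resolve_left hxq
  have hx := LinearMap.exact_map_mkQ_range l
  have hQ : Z p (E ((A ⧸ q.1) ⧸ LinearMap.range l) ω (i + 1)) := Z_of_primes p _ _ fun r hr hrp => by
    have h2 : q.1 ≤ r.1 := le_trans ((le_of_eq (Ideal.annihilator_quotient (I := q.1)).symm).trans
      (LinearMap.annihilator_le_of_surjective (Submodule.mkQ _) (Submodule.mkQ_surjective _))) hr
    refine h r (lt_of_le_of_ne h2 fun e => hxq (e ▸ hr (Module.mem_annihilator.mpr fun y => ?_))) hrp
    obtain ⟨y, rfl⟩ := Submodule.Quotient.mk_surjective _ y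
    rw [← Submodule.Quotient.mk_smul, Submodule.Quotient.mk_eq_zero]
    exact ⟨y, rfl⟩
  let T := (Devissage.sc_shortExact hl (Submodule.mkQ_surjective _) hx).singleTriangle
  have hex := Hom.exact_pre_cδ A ω
    (Devissage.sc_shortExact hl (Submodule.mkQ_surjective _) hx).singleTriangle_distinguished
    i (i + 1) rfl
  refine Z_of_smul hω p _ i hxp fun e => ?_
  obtain ⟨s, hs, hse⟩ := hQ (Hom.cδ A T ω i (i + 1) rfl e)
  obtain ⟨e', he'⟩ := (hex (s • e)).mp ((_root_.map_smul (Hom.cδ A T ω i (i + 1) rfl) s e).trans hse)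
  refine ⟨s, hs, e', ?_⟩
  rw [← he']
  change pre l ω i e' = _
  rw [Devissage.pre_smul, Devissage.pre_id]

theorem Z_of_deg_lt (p : PrimeSpectrum A) :
    ∀ (q : PrimeSpectrum A), q.1 ≤ p.1 → ∀ i, deg hω p < i → Z p (E (A ⧸ q.1) ω i) := by
  intro q
  obtain ⟨q, hq⟩ := q
  induction q using WellFoundedGT.induction with
  | ind q ih =>
  intro hqp i hi
  by_cases hne : (⟨q, hq⟩ : PrimeSpectrum A) = p
  · subst hne
    exact Z_of_ne hω _ i (by omega)
  · exact Z_step hω hqp i hne fun r hr hrp => ih r.1 hr r.2 hrp (i + 1) (by omega)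

theorem deg_lt {q p : PrimeSpectrum A} (h : q < p) : deg hω q < deg hω p := by
  by_contra hlt
  rw [not_lt] at hlt
  refine not_Z_deg hω q (Z_mono (p := p) h.le (Z_step hω h.le _ h.ne fun r _ hrp => ?_))
  exact Z_of_deg_lt hω p r hrp _ (by omega)

theorem deg_covBy {q p : PrimeSpectrum A} (h : q ⋖ p) : deg hω p = deg hω q + 1 := by
  by_contra hne
  refine not_Z_deg hω q (Z_mono (p := p) h.lt.le (Z_step hω h.lt.le _ h.lt.ne fun r hr hrp => ?_))
  obtain rfl : r = p := by
    by_contra hrne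
    exact h.2 (show q < r from hr) (lt_of_le_of_ne (show r ≤ p from hrp) hrne)
  exact Z_of_ne hω r _ (by omega)

theorem deg_bounds : ∃ a b : ℤ, ∀ p : PrimeSpectrum A, a ≤ deg hω p ∧ deg hω p ≤ b := by
  obtain ⟨a, b, h⟩ := hω.finite_injective_dimension
  refine ⟨a, b, fun p => ?_⟩
  by_contra hne
  have := h (A ⧸ p.1) (deg hω p) (by omega)
  exact not_Z_deg hω p (Z_of_subsingleton p _)

omit hω in
theorem ringKrullDim_quotient_eq_coheight (p : PrimeSpectrum A) :
    ringKrullDim (A ⧸ p.1) = (Order.coheight p : WithBot ℕ∞) := by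
  rw [Order.coheight_eq_krullDim_Ici, ringKrullDim_quotient]
  refine Order.krullDim_eq_of_orderIso (OrderIso.setCongr _ _ ?_)
  ext q
  exact PrimeSpectrum.mem_zeroLocus q _

theorem coheight_le (p : PrimeSpectrum A) (b : ℤ) (hb : ∀ q, p ≤ q → deg hω q ≤ b) :
    Order.coheight p ≤ ((b - deg hω p).toNat : ℕ∞) := by
  refine Order.coheight_le fun l hl => ?_
  have key : ∀ k : ℕ, (hk : k ≤ l.length) → deg hω l.head + k ≤ deg hω (l ⟨k, by omega⟩) := by
    intro k
    induction k with
    | zero => intro hk; simp [RelSeries.head]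
    | succ k ih =>
      intro hk
      have := deg_lt hω (l.step ⟨k, by omega⟩)
      have h2 := ih (by omega)
      simp only [Fin.castSucc_mk, Fin.succ_mk] at this
      push_cast
      omega
  have h1 := key l.length le_rfl
  have h2 := hb (l ⟨l.length, by omega⟩) (by
    rw [← hl]; exact l.head_le _)
  rw [hl] at h1
  exact_mod_cast (show l.length ≤ (b - deg hω p).toNat by omega)

theorem ringKrullDim_lt_top : ringKrullDim A < ⊤ := by
  obtain ⟨a, b, h⟩ := deg_bounds hω
  refine lt_of_le_of_lt (b := ((b - a).toNat : WithBot ℕ∞)) ?_ (by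
    exact WithBot.coe_lt_coe.mpr (ENat.natCast_lt_top _))
  rw [ringKrullDim, Order.krullDim_eq_iSup_coheight]
  refine iSup_le fun p => WithBot.coe_le_coe.mpr ?_
  refine (coheight_le hω p b fun q _ => (h q).2).trans ?_
  have := (h p).1
  exact_mod_cast (show (b - deg hω p).toNat ≤ (b - a).toNat by omega)

section Normalized

variable [IsLocalRing A] (hn : Dual.IsNormalized A ω)

include hn

theorem deg_closedPoint : deg hω ⟨maximalIdeal A, inferInstance⟩ = 0 := by
  by_contra hne
  have : Subsingleton (E (A ⧸ maximalIdeal A) ω (deg hω ⟨maximalIdeal A, inferInstance⟩)) := hn _ hne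
  exact not_Z_deg hω ⟨maximalIdeal A, inferInstance⟩ (Z_of_subsingleton _ _)

theorem deg_nonpos (p : PrimeSpectrum A) : deg hω p ≤ 0 := by
  rw [← deg_closedPoint hω hn]
  by_cases h : p = ⟨maximalIdeal A, inferInstance⟩
  · rw [h]
  · exact (deg_lt hω (lt_of_le_of_ne (le_maximalIdeal p.2.ne_top) h)).le

theorem coheight_eq : ∀ p : PrimeSpectrum A, Order.coheight p = ((-deg hω p).toNat : ℕ∞) := by
  intro p
  refine le_antisymm ((coheight_le hω p 0 fun q _ => deg_nonpos hω hn q).trans (by simp)) ?_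
  induction hk : (-deg hω p).toNat generalizing p with
  | zero => simp
  | succ k ih =>
    have hne : p ≠ ⟨maximalIdeal A, inferInstance⟩ := by
      rintro rfl
      rw [deg_closedPoint hω hn] at hk
      simp at hk
    have hlt : p < ⟨maximalIdeal A, inferInstance⟩ := lt_of_le_of_ne (le_maximalIdeal p.2.ne_top) hne
    obtain ⟨n, ⟨r, hpr, rfl⟩, hmin⟩ := Int.exists_least_of_bdd
      (P := fun n => ∃ r, p < r ∧ deg hω r = n)
      ⟨deg hω p, fun n ⟨r, hr, h⟩ => h ▸ (deg_lt hω hr).le⟩ ⟨_, _, hlt, rfl⟩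
    have hcov : p ⋖ r := ⟨hpr, fun s hps hsr => absurd (deg_lt hω hsr)
      (not_lt.mpr (hmin _ ⟨s, hps, rfl⟩))⟩
    have := deg_covBy hω hcov
    have hr := ih r (by omega)
    calc ((k + 1 : ℕ) : ℕ∞) = (k : ℕ∞) + 1 := by push_cast; rfl
      _ ≤ Order.coheight r + 1 := by gcongr
      _ ≤ Order.coheight p := Order.coheight_add_one_le hpr

theorem ringKrullDim_quotient_eq (p : PrimeSpectrum A) :
    ringKrullDim (A ⧸ p.1) = ((-deg hω p).toNat : WithBot ℕ∞) := by
  rw [ringKrullDim_quotient_eq_coheight, coheight_eq hω hn]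
  rfl

end Normalized

end Groth.Agent.DualCx.Dimfun

namespace Groth.Agent.DualCx.Dimfun

open Devissage (E pre)

variable {A : Type u} [CommRing A] [IsNoetherianRing A] {ω : Dual.D A} (hω : Dual.IsDualizing A ω)

include hω

theorem not_Z_HD_iff_minimal (p : PrimeSpectrum A) (hp : p.1 ∈ minimalPrimes A) (i : ℤ) :
    ¬ Z p (Dual.HD A ω i) ↔ i = deg hω p := by
  have hmin : ∀ (N : Type u) [AddCommGroup N] [Module A N] [Module.Finite A N] (j : ℤ),
      j ≠ deg hω p → Z p (E N ω j) := fun N _ _ _ j hj => Z_of_primes p j N fun q _ hqp => by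
    obtain rfl : q = p := PrimeSpectrum.ext (le_antisymm hqp (hp.2 ⟨q.2, bot_le⟩ hqp))
    exact Z_of_ne hω q j hj
  constructor
  · intro h
    by_contra hne
    exact h (Z_equiv (Cx.homUnitEquivShift ω i) (hmin A i hne))
  · rintro rfl hZ
    have hZA : Z p (E A ω (deg hω p)) := Z_equiv (Cx.homUnitEquivShift ω _).symm hZ
    have hf := Submodule.injective_subtype p.1
    have hg := Submodule.mkQ_surjective p.1
    have hx := LinearMap.exact_subtype_mkQ p.1
    have hex := Hom.exact_cδ_pre A ω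
      (Devissage.sc_shortExact hf hg hx).singleTriangle_distinguished
      (deg hω p - 1) (deg hω p) (by omega)
    have : Module.Finite A p.1 := Module.Finite.of_fg (IsNoetherian.noetherian p.1)
    exact not_Z_deg hω p (Z_mid hex (hmin p.1 (deg hω p - 1) (by omega)) hZA)

theorem supportDim_E_le [IsLocalRing A] (hn : Dual.IsNormalized A ω) (M : Type u) [AddCommGroup M]
    [Module A M] [Module.Finite A M] (i : ℤ) :
    Module.supportDim A (E M ω i) ≤ ((-i).toNat : WithBot ℕ∞) := by
  have key : ∀ p : PrimeSpectrum A, p ∈ Module.support A (E M ω i) →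
      Order.coheight p ≤ ((-i).toNat : ℕ∞) := by
    intro p hp
    have hZ : ¬ Z p (E M ω i) := by
      rw [Z_iff_localized, not_subsingleton_iff_nontrivial]
      exact Module.mem_support_iff.mp hp
    have hle : i ≤ deg hω p := by
      by_contra hlt
      exact hZ (Z_of_primes p i M fun q _ hqp => Z_of_deg_lt hω p q hqp i (by omega))
    rw [coheight_eq hω hn]
    exact_mod_cast (show (-deg hω p).toNat ≤ (-i).toNat by omega)
  refine iSup_le fun l => ?_
  have h := (Order.length_le_coheight (p := l.map Subtype.val (fun _ _ h => h)) le_rfl).trans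
    (key l.head.1 l.head.2)
  exact WithBot.coe_le_coe.mpr h

end Groth.Agent.DualCx.Dimfun
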