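import Groth.Agent.DualCx.Unramified
import Groth.Agent.Gor.Basic
import Groth.Agent.Gor.FlatLocal
import Groth.Agent.DualCx.LocalGlobal
import Mathlib.RingTheory.Ideal.Quotient.Operations

/-!
# Quotients with free dual concentrated in one degree, and Gorenstein rings
-/

universe u

open CategoryTheory IsLocalRing

attribute [local instance] HasDerivedCategory.standard

namespace Groth.Agent.DualCx.Fiber

open Devissage (E pre)
open Groth.Agent.InjHull

variable {B : Type u} [CommRing B]

/-- `Ext(B/q, K)` is `B/q` in degree `d` and zero otherwise -/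
def H (K : Dual.D B) (q : Ideal B) (d : ℤ) : Prop :=
  (∀ i, i ≠ d → Subsingleton (E (B ⧸ q) K i)) ∧ Nonempty (E (B ⧸ q) K d ≃ₗ[B] (B ⧸ q))

theorem step {K : Dual.D B} {q : Ideal B} {d : ℤ} (h : H K q d) {x : B}
    (hx : IsSMulRegular (B ⧸ q) x) : H K (q ⊔ Ideal.span {x}) (d + 1) := by
  obtain ⟨hv, ⟨e⟩⟩ := h
  let q' := q ⊔ Ideal.span {x}
  let g : B ⧸ q →ₗ[B] B ⧸ q' := Submodule.mapQ q q' LinearMap.id le_sup_left
  let f : B ⧸ q →ₗ[B] B ⧸ q := x • LinearMap.id
  have hg : Function.Surjective g := fun z => by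
    obtain ⟨z, rfl⟩ := Submodule.Quotient.mk_surjective _ z
    exact ⟨Submodule.Quotient.mk z, rfl⟩
  have hex : Function.Exact f g := fun z => by
    obtain ⟨z, rfl⟩ := Submodule.Quotient.mk_surjective _ z
    constructor
    · intro hz
      change Submodule.Quotient.mk (p := q') z = 0 at hz
      rw [Submodule.Quotient.mk_eq_zero, Submodule.mem_sup] at hz
      obtain ⟨a, ha, b, hb, rfl⟩ := hz
      obtain ⟨c, rfl⟩ := Ideal.mem_span_singleton'.mp hb
      refine ⟨Submodule.Quotient.mk c, ?_⟩
      change Submodule.Quotient.mk (p := q) (x • c) = _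
      rw [Submodule.Quotient.eq, smul_eq_mul, mul_comm, sub_add_cancel_right]
      exact q.neg_mem ha
    · rintro ⟨w, hw⟩
      obtain ⟨w, rfl⟩ := Submodule.Quotient.mk_surjective _ w
      rw [← hw]
      change Submodule.Quotient.mk (p := q') (x • w) = 0
      rw [Submodule.Quotient.mk_eq_zero]
      exact Ideal.mem_sup_right (Ideal.mem_span_singleton'.mpr ⟨w, mul_comm _ _⟩)
  have hf : Function.Injective f := hx
  let hS := (Devissage.sc_shortExact hf hg hex).singleTriangle_distinguished
  have hpre : ∀ i (w : E (B ⧸ q) K i), pre f K i w = x • w := fun i w => by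
    rw [Devissage.pre_smul, Devissage.pre_id]
  have hinj : ∀ i, Function.Injective (pre f K i) := fun i w w' hw => by
    rcases eq_or_ne i d with rfl | hi
    · rw [hpre, hpre] at hw
      exact e.injective (hx (by simpa only [map_smul] using congrArg e hw))
    · exact (hv i hi).elim _ _
  have hpg : ∀ i (w : E (B ⧸ q') K i), pre g K i w = 0 := fun i w =>
    hinj i ((Devissage.exact_mid (K := K) hf hg hex i).apply_apply_eq_zero w |>.trans (map_zero _).symm)
  let δ : E (B ⧸ q) K d →ₗ[B] E (B ⧸ q') K (d + 1) :=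
    Hom.cδ B (Devissage.sc_shortExact hf hg hex).singleTriangle K d (d + 1) rfl
  have hδs : Function.Surjective δ := fun w =>
    (Hom.exact_cδ_pre B K hS d (d + 1) rfl w).mp (hpg _ w)
  have hδk : ∀ w, δ w = 0 ↔ ∃ v, x • v = w := fun w =>
    ((Hom.exact_pre_cδ B K hS d (d + 1) rfl) w).trans
      (exists_congr fun v => by rw [← hpre]; rfl)
  let ψ : (B ⧸ q) →ₗ[B] E (B ⧸ q') K (d + 1) := δ.comp e.symm.toLinearMap
  have hψ : LinearMap.ker ψ = LinearMap.ker g := by
    ext z
    rw [LinearMap.mem_ker, LinearMap.mem_ker, LinearMap.comp_apply, hex z]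
    rw [hδk]
    exact ⟨fun ⟨v, hv⟩ => ⟨e v, e.symm.injective (by
        change e.symm (x • e v) = _
        rw [map_smul, e.symm_apply_apply]; exact hv)⟩,
      fun ⟨v, hv⟩ => ⟨e.symm v, by rw [← hv, ← map_smul]; rfl⟩⟩
  refine ⟨fun i hi => subsingleton_of_forall_eq 0 fun w => ?_, ⟨?_⟩⟩
  · obtain ⟨v, hv'⟩ := (Hom.exact_cδ_pre B K hS (i - 1) i (by omega) w).mp (hpg i w)
    have := hv (i - 1) (by omega)
    rw [← hv', Subsingleton.elim (α := E (B ⧸ q) K (i - 1)) v 0]
    exact map_zero _
  · exact (ψ.quotKerEquivOfSurjective (hδs.comp e.symm.surjective)).symm.trans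
      ((Submodule.quotEquivOfEq _ _ hψ).trans (g.quotKerEquivOfSurjective hg))

section Local

variable [IsLocalRing B] [IsNoetherianRing B]

/-- lengths do not increase -/
theorem length_le {K : Dual.D B} {d : ℤ}
    (hk : Module.length B (E (ResidueField B) K d) ≤ 1) {M : Type u} [AddCommGroup M] [Module B M]
    (hM : IsFiniteLength B M) : Module.length B (E M K d) ≤ Module.length B M := by
  induction hM with
  | @of_subsingleton P _ _ _ =>
    have := Devissage.subsingleton_of_subsingleton (A := B) (K := K) (M := P) d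
    rw [Module.length_eq_zero]
    exact zero_le
  | @of_simple_quotient P _ _ N hs hN ih =>
    obtain ⟨e⟩ := Devissage.nonempty_residue_equiv (A := B) (P ⧸ N)
    have hx := Devissage.exact_mid (K := K) (Submodule.injective_subtype N) (Submodule.mkQ_surjective N)
      (LinearMap.exact_subtype_mkQ N) d
    have h1 : Module.length B (E (P ⧸ N) K d) ≤ 1 := (Devissage.congrE e K d).length_eq ▸ hk
    have h2 : Module.length B (LinearMap.ker (pre N.subtype K d)) ≤ 1 := by
      rw [hx.linearMap_ker_eq]
      exact (Module.length_le_of_surjective _ (LinearMap.surjective_rangeRestrict _)).trans h1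
    rw [Module.length_eq_add_of_exact (LinearMap.ker (pre N.subtype K d)).subtype
      (pre N.subtype K d).rangeRestrict (Submodule.injective_subtype _)
      (LinearMap.surjective_rangeRestrict _) (fun z => by
        rw [← LinearMap.mem_ker, LinearMap.ker_rangeRestrict]
        exact ⟨fun hz => ⟨⟨z, hz⟩, rfl⟩, fun ⟨w, hw⟩ => hw ▸ w.2⟩),
      Module.length_eq_add_of_exact N.subtype N.mkQ (Submodule.injective_subtype N)
        (Submodule.mkQ_surjective N) (LinearMap.exact_subtype_mkQ N), Module.length_eq_one B (P ⧸ N),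
      add_comm (Module.length B N)]
    exact add_le_add h2 ((Module.length_le_of_injective _ (Submodule.injective_subtype _)).trans ih)

/-- the zero-dimensional case -/
theorem residue_zero {K : Dual.D B} (a : ℤ) [K.IsGE a] {q : Ideal B} {d : ℤ} (h : H K q d)
    (hq : q ≤ maximalIdeal B) (hfl : IsFiniteLength B (B ⧸ q)) (z : B ⧸ q)
    (hsoc : ∀ c : B ⧸ q, (∀ b ∈ maximalIdeal B, b • c = 0) → c ∈ Submodule.span B {z})
    (hz : ∀ b ∈ maximalIdeal B, b • z = 0) :
    (∀ i, i ≠ d → Subsingleton (E (ResidueField B) K i)) ∧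
      Nonempty (E (ResidueField B) K d ≃ₗ[B] ResidueField B) := by
  obtain ⟨hv, ⟨e⟩⟩ := h
  let π : B ⧸ q →ₗ[B] B ⧸ maximalIdeal B := Submodule.mapQ q (maximalIdeal B) LinearMap.id hq
  have hπ : Function.Surjective π := fun w => by
    obtain ⟨w, rfl⟩ := Submodule.Quotient.mk_surjective _ w
    exact ⟨Submodule.Quotient.mk w, rfl⟩
  have hι := Submodule.injective_subtype (LinearMap.ker π)
  have hx : Function.Exact (LinearMap.ker π).subtype π := LinearMap.exact_subtype_ker_map π
  have hflN : IsFiniteLength B (LinearMap.ker π) := by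
    have := isFiniteLength_iff_isNoetherian_isArtinian.mp hfl
    obtain ⟨_, _⟩ := this
    exact isFiniteLength_iff_isNoetherian_isArtinian.mpr ⟨inferInstance, inferInstance⟩
  have hinj : ∀ i, Subsingleton (E (B ⧸ maximalIdeal B) K (i - 1)) →
      Function.Injective (pre π K i) := fun i hi =>
    Devissage.injective_pre hι hπ hx i (Devissage.subsingleton_finiteLength (i - 1) hi hflN)
  have hlow : ∀ (n : ℕ) (i : ℤ), i < d → i < a + n →
      Subsingleton (E (B ⧸ maximalIdeal B) K i) := by
    intro n
    induction n with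
    | zero =>
      intro i _ hi
      have : (Dual.inD B (B ⧸ maximalIdeal B)).IsLE 0 := inferInstance
      have : (K⟦i⟧).IsGE (a - i) := DerivedCategory.TStructure.t.isGE_shift K a i (a - i) (by omega)
      exact subsingleton_of_forall_eq 0 fun f =>
        DerivedCategory.TStructure.t.zero f 0 (a - i) (by omega)
    | succ n ih =>
      intro i hi hi'
      have := hv i (by omega)
      exact (hinj i (ih (i - 1) (by omega) (by omega))).subsingleton
  have hlow' : ∀ i, i < d → Subsingleton (E (B ⧸ maximalIdeal B) K i) := fun i hi =>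
    hlow ((i - a).toNat + 1) i hi (by omega)
  have hinjd := hinj d (hlow' (d - 1) (by omega))
  -- the image lies in the socle
  let S : Submodule B (B ⧸ q) := Submodule.span B {z}
  have himg : ∀ w : E (B ⧸ maximalIdeal B) K d, e (pre π K d w) ∈ S := fun w =>
    hsoc _ fun b hb => by
      rw [← map_smul, ← map_smul, Dimfun.smul_E_eq_zero _ d hb w, map_zero, map_zero]
  have hS : Module.length B S ≤ 1 := by
    let θ : (B ⧸ maximalIdeal B) →ₗ[B] S := Submodule.liftQ _
      (LinearMap.toSpanSingleton B S ⟨z, Submodule.mem_span_singleton_self z⟩)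
      (fun b hb => Subtype.ext (hz b hb))
    refine (Module.length_le_of_surjective θ fun ⟨c, hc⟩ => ?_).trans ?_
    · obtain ⟨b, rfl⟩ := Submodule.mem_span_singleton.mp hc
      exact ⟨Submodule.Quotient.mk b, Subtype.ext rfl⟩
    · have : IsSimpleModule B (B ⧸ maximalIdeal B) :=
        isSimpleModule_iff_quot_maximal.mpr ⟨_, inferInstance, ⟨LinearEquiv.refl _ _⟩⟩
      exact (Module.length_eq_one B _).le
  have hk1 : Module.length B (E (ResidueField B) K d) ≤ 1 :=
    (Module.length_le_of_injective
      (LinearMap.codRestrict S (e.toLinearMap.comp (pre π K d)) himg)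
      (fun w w' hw => hinjd (e.injective (congrArg Subtype.val hw)))).trans hS
  have hnz : Nontrivial (E (B ⧸ maximalIdeal B) K d) := by
    rw [← not_subsingleton_iff_nontrivial]
    intro hss
    have h0 : Subsingleton (E (B ⧸ q) K d) := Devissage.subsingleton_finiteLength d hss hfl
    have : Subsingleton (B ⧸ q) := e.symm.toEquiv.subsingleton
    exact (maximalIdeal.isMaximal B).ne_top
      (top_le_iff.mp ((Submodule.Quotient.subsingleton_iff.mp this) ▸ hq))
  have hlk : Module.length B (E (ResidueField B) K d) = 1 :=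
    le_antisymm hk1 (Order.one_le_iff_pos.mpr (Module.length_pos_iff.mpr hnz))
  have hs : IsSimpleModule B (E (ResidueField B) K d) := Module.length_eq_one_iff.mp hlk
  -- the next degree
  have hnext : Subsingleton (E (B ⧸ maximalIdeal B) K (d + 1)) := by
    have hsimp : IsSimpleModule B (B ⧸ maximalIdeal B) :=
      isSimpleModule_iff_quot_maximal.mpr ⟨_, inferInstance, ⟨LinearEquiv.refl _ _⟩⟩
    have hfin := Module.length_ne_top_iff.mpr hfl
    have hlC : Module.length B (B ⧸ q) = Module.length B (LinearMap.ker π) + 1 := by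
      rw [Module.length_eq_add_of_exact (LinearMap.ker π).subtype π hι hπ hx,
        Module.length_eq_one B (B ⧸ maximalIdeal B)]
    have hker : LinearMap.ker (pre (LinearMap.ker π).subtype K d) = LinearMap.range (pre π K d) :=
      (Devissage.exact_mid (K := K) hι hπ hx d).linearMap_ker_eq
    have hlr : Module.length B (LinearMap.range (pre (LinearMap.ker π).subtype K d)) + 1 =
        Module.length B (B ⧸ q) := by
      rw [← e.length_eq, Module.length_eq_add_of_exact
        (LinearMap.ker (pre (LinearMap.ker π).subtype K d)).subtype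
        (pre (LinearMap.ker π).subtype K d).rangeRestrict (Submodule.injective_subtype _)
        (LinearMap.surjective_rangeRestrict _) (fun w => by
          rw [← LinearMap.mem_ker, LinearMap.ker_rangeRestrict]
          exact ⟨fun hw => ⟨⟨w, hw⟩, rfl⟩, fun ⟨v, hv⟩ => hv ▸ v.2⟩),
        hker, ← (LinearEquiv.ofInjective _ hinjd).length_eq]
      exact (add_comm _ _).trans (congrArg (· + _) hlk.symm)
    have hsur : Function.Surjective (pre (LinearMap.ker π).subtype K d) := by
      rw [← LinearMap.range_eq_top]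
      have hle := length_le hk1 hflN
      have h3 := Module.length_eq_add_of_exact
        (LinearMap.range (pre (LinearMap.ker π).subtype K d)).subtype
        (LinearMap.range (pre (LinearMap.ker π).subtype K d)).mkQ
        (Submodule.injective_subtype _) (Submodule.mkQ_surjective _) (LinearMap.exact_subtype_mkQ _)
      have h4 : Module.length B (LinearMap.range (pre (LinearMap.ker π).subtype K d)) =
          Module.length B (LinearMap.ker π) :=
        WithTop.add_right_cancel (by exact ENat.one_ne_top) (hlr.trans hlC)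
      rw [h3, h4] at hle
      have hne : Module.length B (LinearMap.ker π) ≠ ⊤ := Module.length_ne_top_iff.mpr hflN
      have h5 := (ENat.add_le_add_iff_left hne).mp (hle.trans_eq (add_zero _).symm)
      exact Submodule.Quotient.subsingleton_iff.mp (Module.length_eq_zero_iff.mp
        (nonpos_iff_eq_zero.mp h5))
    refine subsingleton_of_forall_eq 0 fun w => ?_
    have hS := (Devissage.sc_shortExact hι hπ hx).singleTriangle_distinguished
    obtain ⟨v, rfl⟩ := (Hom.exact_cδ_pre B K hS d (d + 1) rfl w).mp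
      ((hv (d + 1) (by omega)).elim _ _)
    obtain ⟨v', rfl⟩ := hsur v
    exact (Hom.exact_pre_cδ B K hS d (d + 1) rfl).apply_apply_eq_zero v'
  have hhigh : ∀ n : ℕ, Subsingleton (E (B ⧸ maximalIdeal B) K (d + 1 + n)) := by
    intro n
    induction n with
    | zero => simpa using hnext
    | succ n ih =>
      have := hv (d + 1 + ↑(n + 1)) (by omega)
      refine (hinj _ ?_).subsingleton
      rwa [show d + 1 + ((n + 1 : ℕ) : ℤ) - 1 = d + 1 + n from by omega]
  refine ⟨fun i hi => ?_, ?_⟩
  · rcases lt_or_gt_of_ne hi with h | h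
    · exact hlow' i h
    · obtain ⟨n, rfl⟩ : ∃ n : ℕ, i = d + 1 + n := ⟨(i - d - 1).toNat, by omega⟩
      exact hhigh n
  · obtain ⟨m, hm, ⟨em⟩⟩ := isSimpleModule_iff_quot_maximal.mp hs
    obtain rfl := IsLocalRing.eq_maximalIdeal hm
    exact ⟨em⟩

theorem mk_mem_maximal {q : Ideal B} [IsLocalRing (B ⧸ q)] {b : B} :
    Ideal.Quotient.mk q b ∈ maximalIdeal (B ⧸ q) ↔ b ∈ maximalIdeal B := by
  have : IsLocalHom (Ideal.Quotient.mk q) := .of_surjective _ Ideal.Quotient.mk_surjective
  simp only [mem_maximalIdeal, mem_nonunits_iff, isUnit_map_iff]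

/-- the quotient by one more element -/
noncomputable def quotEquiv (q : Ideal B) (x : B) :
    (B ⧸ q) ⧸ Ideal.span {Ideal.Quotient.mk q x} ≃+* B ⧸ (q ⊔ Ideal.span {x}) :=
  (Ideal.quotEquivOfEq (by rw [Ideal.map_span, Set.image_singleton])).trans
    (DoubleQuot.quotQuotEquivQuotSup q (Ideal.span {x}))

theorem regular_step {q : Ideal B} [IsLocalRing (B ⧸ q)] {x' : B ⧸ q}
    (hx : x' ∈ maximalIdeal (B ⧸ q)) (hreg : IsSMulRegular (B ⧸ q) x') {n : ℕ}
    (hn : ringKrullDim (B ⧸ q) = n) :
    ∃ x m, x' = Ideal.Quotient.mk q x ∧ IsSMulRegular (B ⧸ q) x ∧ q ⊔ Ideal.span {x} ≠ ⊤ ∧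
      n = m + 1 ∧ ringKrullDim (B ⧸ (q ⊔ Ideal.span {x})) = (m : ℕ) := by
  obtain ⟨x, rfl⟩ := Ideal.Quotient.mk_surjective x'
  have hxm : x ∈ maximalIdeal B := mk_mem_maximal.mp hx
  have hq : q ≠ ⊤ := Ideal.Quotient.nontrivial_iff.mp inferInstance
  have hle : q ⊔ Ideal.span {x} ≤ maximalIdeal B :=
    sup_le (IsLocalRing.le_maximalIdeal hq) ((Ideal.span_singleton_le_iff_mem _).mpr hxm)
  have hne : q ⊔ Ideal.span {x} ≠ ⊤ := fun h =>
    (maximalIdeal.isMaximal B).ne_top (top_le_iff.mp (h ▸ hle))
  have : IsLocalRing ((B ⧸ q) ⧸ Ideal.span {Ideal.Quotient.mk q x}) :=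
    Gor.Basic.isLocalRing_quotient _ hx
  obtain ⟨m, hm⟩ := Gor.Basic.exists_natCast_ringKrullDim
    (A := (B ⧸ q) ⧸ Ideal.span {Ideal.Quotient.mk q x})
  have h1 := ringKrullDim_quotient_span_singleton_succ_eq_ringKrullDim hreg hx
  rw [hn, hm] at h1
  refine ⟨x, m, rfl, fun c c' h => hreg (by simpa [Algebra.smul_def] using h), hne, ?_, ?_⟩
  · exact_mod_cast h1.symm
  · rw [← ringKrullDim_eq_of_ringEquiv (quotEquiv q x)]
    exact hm

/-- Gorenstein quotients -/
theorem residue {K : Dual.D B} (a : ℤ) [K.IsGE a] : ∀ (n : ℕ) (q : Ideal B) (d : ℤ),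
    LocCoh.IsGorensteinLocalRing (B ⧸ q) → ringKrullDim (B ⧸ q) = n → H K q d →
    (∀ i, i ≠ d + n → Subsingleton (E (ResidueField B) K i)) ∧
      Nonempty (E (ResidueField B) K (d + n) ≃ₗ[B] ResidueField B) := by
  intro n
  induction n using Nat.strong_induction_on with
  | _ n ih =>
    intro q d hG hn h
    have hq : q ≠ ⊤ := Ideal.Quotient.nontrivial_iff.mp inferInstance
    rcases Gor.Basic.exists_regular_or_socle (A := B ⧸ q) with ⟨x', hx, hreg⟩ | ⟨φ, hφ⟩
    · obtain ⟨x, m, rfl, hxreg, -, rfl, hm⟩ := regular_step hx hreg hn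
      have hG' : LocCoh.IsGorensteinLocalRing (B ⧸ (q ⊔ Ideal.span {x})) :=
        have := (Gor.Basic.gorenstein_quotient_iff hx hreg).mp hG
        Gor.FlatLocal.gorenstein_of_ringEquiv (quotEquiv q x)
      have := ih m (by omega) _ (d + 1) hG' hm (step h hxreg)
      rwa [show d + 1 + (m : ℤ) = d + ((m + 1 : ℕ) : ℤ) from by omega] at this
    · obtain ⟨k, hk⟩ := Gor.Basic.exists_hasInjectiveDimensionLT (A := B ⧸ q)
      have hA := Gor.Basic.injective_of_socle_of_finite_id hφ k hk
      have hh := Gor.Basic.hull_of_injective hφ hA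
      have := Gor.Basic.artinian_of_injective hφ hA
      obtain rfl : n = 0 := by
        have h0 := ringKrullDimZero_iff_ringKrullDim_eq_zero.mp
          (inferInstance : Ring.KrullDimLE 0 (B ⧸ q))
        rw [hn] at h0
        exact_mod_cast h0
      have hfl : IsFiniteLength B (B ⧸ q) := isFiniteLength_iff_isNoetherian_isArtinian.mpr
        ⟨inferInstance, isArtinian_of_surjective_algebraMap (R := B ⧸ q) Ideal.Quotient.mk_surjective⟩
      rw [Nat.cast_zero, add_zero]
      refine residue_zero a h (IsLocalRing.le_maximalIdeal hq) hfl (φ 1) (fun c hc => ?_)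
        fun b hb => ?_
      · obtain ⟨r, rfl⟩ : c ∈ LinearMap.range φ := (Matlis.mem_range_iff hh).mpr fun r hr => by
          obtain ⟨b, rfl⟩ := Ideal.Quotient.mk_surjective r
          exact hc b (mk_mem_maximal.mp hr)
        obtain ⟨r, rfl⟩ := IsLocalRing.residue_surjective r
        obtain ⟨b, rfl⟩ := Ideal.Quotient.mk_surjective r
        refine Submodule.mem_span_singleton.mpr ⟨b, ?_⟩
        have : φ (IsLocalRing.residue _ (Ideal.Quotient.mk q b)) =
            Ideal.Quotient.mk q b • φ 1 := by
          rw [← map_smul, Algebra.smul_def, mul_one]; rfl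
        rw [this]
        rfl
      · have h2 : Ideal.Quotient.mk q b • φ 1 = 0 := by
          rw [← map_smul, Matlis.residue_smul_eq_zero (mk_mem_maximal.mpr hb), map_zero]
        exact h2

/-- conversely, such quotients are Gorenstein -/
theorem gorenstein {K : Dual.D B} (hK : Dual.IsDualizing B K) (hK' : Dual.IsNormalized B K) :
    ∀ (n : ℕ) (q : Ideal B) (d : ℤ), q ≠ ⊤ → ringKrullDim (B ⧸ q) = n → H K q d →
    LocCoh.IsGorensteinLocalRing (B ⧸ q) := by
  intro n
  induction n using Nat.strong_induction_on with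
  | _ n ih =>
    intro q d hq hn h
    have : Nontrivial (B ⧸ q) := Ideal.Quotient.nontrivial_iff.mpr hq
    have : IsLocalRing (B ⧸ q) := .of_surjective' (Ideal.Quotient.mk q) Ideal.Quotient.mk_surjective
    rcases Gor.Basic.exists_regular_or_socle (A := B ⧸ q) with ⟨x', hx, hreg⟩ | ⟨φ, hφ⟩
    · obtain ⟨x, m, rfl, hxreg, hne, rfl, hm⟩ := regular_step hx hreg hn
      refine (Gor.Basic.gorenstein_quotient_iff hx hreg).mpr ?_
      have := ih m (by omega) _ (d + 1) hne hm (step h hxreg)
      exact Gor.FlatLocal.gorenstein_of_ringEquiv (quotEquiv q x).symm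
    · obtain ⟨hv, ⟨e⟩⟩ := h
      -- the residue field embeds
      let z : B ⧸ q := φ 1
      have hz : ∀ b ∈ maximalIdeal B, b • z = 0 := fun b hb => by
        have h2 : Ideal.Quotient.mk q b • φ 1 = 0 := by
          rw [← map_smul, Matlis.residue_smul_eq_zero (mk_mem_maximal.mpr hb), map_zero]
        exact h2
      have hz0 : z ≠ 0 := fun h0 => one_ne_zero (hφ (h0.trans (map_zero φ).symm))
      let soc (c : B ⧸ q) (hc : ∀ b ∈ maximalIdeal B, b • c = 0) :
          (B ⧸ maximalIdeal B) →ₗ[B] B ⧸ q :=
        Submodule.liftQ _ (LinearMap.toSpanSingleton B _ c) hc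
      have hinj : ∀ c hc, c ≠ 0 → Function.Injective (soc c hc) := fun c hc hc0 => by
        have : IsSimpleModule B (B ⧸ maximalIdeal B) :=
          isSimpleModule_iff_quot_maximal.mpr ⟨_, inferInstance, ⟨LinearEquiv.refl _ _⟩⟩
        refine (LinearMap.injective_or_eq_zero _).resolve_right fun h0 => hc0 ?_
        have := LinearMap.congr_fun h0 (Submodule.Quotient.mk 1)
        rwa [Submodule.liftQ_apply, LinearMap.toSpanSingleton_apply, one_smul] at this
      obtain ⟨ek⟩ := Normal.nonempty_residue hK hK'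
      have hsur : ∀ c hc, c ≠ 0 → Function.Surjective (pre (soc c hc) K 0) := fun c hc hc0 =>
        Devissage.surjective_pre (hinj c hc hc0) (Submodule.mkQ_surjective (LinearMap.range (soc c hc)))
          (LinearMap.exact_map_mkQ_range _) 0 (Normal.subsingleton_E_pos hK hK' _ _ (by omega))
      have hnk : Nontrivial (E (B ⧸ maximalIdeal B) K 0) := ek.toEquiv.nontrivial
      obtain rfl : d = 0 := by
        by_contra hd
        have := hv 0 (Ne.symm hd)
        exact not_subsingleton _ ((hsur z hz hz0).subsingleton)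
      obtain rfl : n = 0 := by
        by_contra hn0
        have := LocalGlobal.nontrivial_E_neg_supportDim hK hK' (B ⧸ q) n (by
          rw [Module.supportDim_quotient_eq_ringKrullDim]; exact hn)
        exact not_subsingleton _ (hv (-(n : ℤ)) (by omega))
      have : IsArtinianRing (B ⧸ q) := by
        have : Ring.KrullDimLE 0 (B ⧸ q) := ringKrullDimZero_iff_ringKrullDim_eq_zero.mpr hn
        exact IsNoetherianRing.isArtinianRing_of_krullDimLE_zero
      refine Gor.Basic.gorenstein_of_injective (Gor.Basic.injective_of_simple_socle ?_)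
      rw [Gor.FlatLocal.length_socle_quotient q]
      let y : E (B ⧸ q) K 0 := e.symm (Submodule.Quotient.mk 1)
      have hy : ∀ w, ∃ b : B, w = b • y := fun w => by
        obtain ⟨b, hb⟩ := Submodule.Quotient.mk_surjective _ (e w)
        refine ⟨b, e.injective ?_⟩
        rw [map_smul, e.apply_symm_apply, ← hb, ← Submodule.Quotient.mk_smul, smul_eq_mul, mul_one]
      have hne : ∀ c hc, c ≠ 0 → pre (soc c hc) K 0 y ≠ 0 := fun c hc hc0 h0 => by
        obtain ⟨w, hw⟩ := exists_ne (0 : E (B ⧸ maximalIdeal B) K 0)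
        obtain ⟨v, rfl⟩ := hsur c hc hc0 w
        obtain ⟨b, rfl⟩ := hy v
        exact hw (by rw [map_smul, h0, smul_zero])
      have hsoc : LocCoh.torsionBy (maximalIdeal B) (B ⧸ q) = Submodule.span B {z} := by
        refine le_antisymm (fun c hc => ?_) ((Submodule.span_singleton_le_iff_mem _ _).mpr
          ((Submodule.mem_torsionBySet_iff _ _).mpr fun b => hz b b.2))
        have hc : ∀ b ∈ maximalIdeal B, b • c = 0 := fun b hb =>
          (Submodule.mem_torsionBySet_iff _ _).mp hc ⟨b, hb⟩
        have hsq : IsSimpleModule B (B ⧸ maximalIdeal B) :=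
          isSimpleModule_iff_quot_maximal.mpr ⟨_, inferInstance, ⟨LinearEquiv.refl _ _⟩⟩
        have hs : IsSimpleModule B (E (B ⧸ maximalIdeal B) K 0) :=
          have : IsSimpleModule B (ResidueField B) := hsq
          IsSimpleModule.congr ek
        obtain ⟨b, hb⟩ := (IsSimpleModule.toSpanSingleton_surjective B (hne z hz hz0))
          (pre (soc c hc) K 0 y)
        refine Submodule.mem_span_singleton.mpr ⟨b, ?_⟩
        by_contra hbc
        have hcb : ∀ b' ∈ maximalIdeal B, b' • (c - b • z) = 0 := fun b' hb' => by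
          rw [smul_sub, hc b' hb', smul_comm, hz b' hb', smul_zero, sub_zero]
        refine hne (c - b • z) hcb (sub_ne_zero.mpr (Ne.symm hbc)) ?_
        have hlin : soc (c - b • z) hcb = soc c hc + (-b) • soc z hz := by
          refine LinearMap.ext fun w => ?_
          obtain ⟨b', rfl⟩ := Submodule.Quotient.mk_surjective _ w
          change b' • (c - b • z) = b' • c + (-b) • (b' • z)
          rw [smul_sub, neg_smul, ← sub_eq_add_neg, smul_comm b' b]
        rw [hlin, Normal.pre_add, Devissage.pre_smul, neg_smul]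
        rw [LinearMap.toSpanSingleton_apply] at hb
        rw [← hb, add_neg_cancel]
      have hsimp : IsSimpleModule B (Submodule.span B {z}) := by
        have hsq : IsSimpleModule B (B ⧸ maximalIdeal B) :=
          isSimpleModule_iff_quot_maximal.mpr ⟨_, inferInstance, ⟨LinearEquiv.refl _ _⟩⟩
        have hr : LinearMap.range (soc z hz) = Submodule.span B {z} := by
          rw [Submodule.range_liftQ, LinearMap.range_toSpanSingleton]
        rw [← hr]
        exact IsSimpleModule.congr (LinearEquiv.ofInjective _ (hinj z hz hz0)).symm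
      rw [hsoc]
      exact Module.length_eq_one B _

end Local

end Groth.Agent.DualCx.Fiber
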