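import Groth.Agent.DualCx.Fiber
import Groth.Agent.DualCx.Normal
import Groth.Agent.S0368

/-!
# The dualizing module of a Gorenstein quotient is free of rank one
-/

set_option autoImplicit false

universe u

open CategoryTheory IsLocalRing

attribute [local instance] HasDerivedCategory.standard

namespace Groth.Agent.DualCx.GorCyclic

open Devissage (E pre)
open Groth.Agent.InjHull

variable {B : Type u} [CommRing B] [IsLocalRing B] [IsNoetherianRing B] {K : Dual.D B}

theorem cyclic (hK : Dual.IsDualizing B K) (hK' : Dual.IsNormalized B K) :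
    ∀ (n : ℕ) (q : Ideal B), LocCoh.IsGorensteinLocalRing (B ⧸ q) → ringKrullDim (B ⧸ q) = n →
      Nonempty (E (B ⧸ q) K (-(n : ℤ)) ≃ₗ[B] B ⧸ q) := by
  intro n
  induction n using Nat.strong_induction_on with
  | _ n ih =>
  intro q hG hn
  have hq : q ≠ ⊤ := Ideal.Quotient.nontrivial_iff.mp inferInstance
  have hfin : Module.Finite B (E (B ⧸ q) K (-(n : ℤ))) := Normal.finite_E hK _ _
  -- enough: a generator with annihilator `q`
  suffices ∃ y : E (B ⧸ q) K (-(n : ℤ)), (∀ b : B, b • y = 0 → b ∈ q) ∧
      Submodule.span B {y} = ⊤ by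
    obtain ⟨y, hann, htop⟩ := this
    have hqy : ∀ b ∈ q, b • y = 0 := fun b hb => by
      rw [← Devissage.pre_id (A := B) (K := K) (M := B ⧸ q) (-(n : ℤ)) y, ← Devissage.pre_smul]
      rw [show b • (LinearMap.id : (B ⧸ q) →ₗ[B] B ⧸ q) = (0 : B) • LinearMap.id from
        LinearMap.ext fun x => by
          obtain ⟨c, rfl⟩ := Ideal.Quotient.mk_surjective x
          rw [zero_smul, LinearMap.zero_apply, LinearMap.smul_apply, LinearMap.id_apply]
          exact Ideal.Quotient.eq_zero_iff_mem.2 (q.mul_mem_right c hb), Devissage.pre_smul, zero_smul]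
    refine ⟨(LinearEquiv.ofBijective (Submodule.liftQ q (LinearMap.toSpanSingleton B _ y)
      fun b hb => LinearMap.mem_ker.2 (hqy b hb)) ⟨(injective_iff_map_eq_zero _).2 fun x hx => ?_, fun w => ?_⟩).symm⟩
    · obtain ⟨b, rfl⟩ := Submodule.Quotient.mk_surjective _ x
      exact (Submodule.Quotient.mk_eq_zero _).2 (hann b hx)
    · obtain ⟨b, rfl⟩ := Submodule.mem_span_singleton.1 (htop ▸ Submodule.mem_top : w ∈ _)
      exact ⟨Submodule.Quotient.mk b, rfl⟩
  rcases Gor.Basic.exists_regular_or_socle (A := B ⧸ q) with ⟨x', hx, hreg⟩ | ⟨φ, hφ⟩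
  · obtain ⟨x, m, rfl, hxreg, hne, rfl, hm⟩ := Fiber.regular_step hx hreg hn
    have hxm : x ∈ maximalIdeal B := Fiber.mk_mem_maximal.mp hx
    have hG' : LocCoh.IsGorensteinLocalRing (B ⧸ (q ⊔ Ideal.span {x})) :=
      have := (Gor.Basic.gorenstein_quotient_iff hx hreg).mp hG
      Gor.FlatLocal.gorenstein_of_ringEquiv (Fiber.quotEquiv q x)
    obtain ⟨e⟩ := ih m (by omega) _ hG' hm
    let q' := q ⊔ Ideal.span {x}
    let g : B ⧸ q →ₗ[B] B ⧸ q' := Submodule.mapQ q q' LinearMap.id le_sup_left
    let f : B ⧸ q →ₗ[B] B ⧸ q := x • LinearMap.id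
    have hg : Function.Surjective g := fun z => by
      obtain ⟨z, rfl⟩ := Submodule.Quotient.mk_surjective _ z
      exact ⟨Submodule.Quotient.mk z, rfl⟩
    have hex : Function.Exact f g := fun z => by
      obtain ⟨z, rfl⟩ := Submodule.Quotient.mk_surjective _ z
      constructor
      · intro hz
        change Submodule.Quotient.mk (p := q') z = 0 at hz
        rw [Submodule.Quotient.mk_eq_zero, Submodule.mem_sup] at hz
        obtain ⟨a, ha, b, hb, rfl⟩ := hz
        obtain ⟨c, rfl⟩ := Ideal.mem_span_singleton'.mp hb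
        refine ⟨Submodule.Quotient.mk c, ?_⟩
        change Submodule.Quotient.mk (p := q) (x • c) = _
        rw [Submodule.Quotient.eq, smul_eq_mul, mul_comm, sub_add_cancel_right]
        exact q.neg_mem ha
      · rintro ⟨w, hw⟩
        obtain ⟨w, rfl⟩ := Submodule.Quotient.mk_surjective _ w
        rw [← hw]
        change Submodule.Quotient.mk (p := q') (x • w) = 0
        rw [Submodule.Quotient.mk_eq_zero]
        exact Ideal.mem_sup_right (Ideal.mem_span_singleton'.mpr ⟨w, mul_comm _ _⟩)
    have hf : Function.Injective f := hxreg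
    have hS := (Devissage.sc_shortExact hf hg hex).singleTriangle_distinguished
    have hpre : ∀ i (w : E (B ⧸ q) K i), pre f K i w = x • w := fun i w => by
      rw [Devissage.pre_smul, Devissage.pre_id]
    have hdim : Module.supportDim B (B ⧸ q) = ((m + 1 : ℕ) : WithBot ℕ∞) := by
      rw [Module.supportDim_quotient_eq_ringKrullDim]; exact hn
    have hdim' : Module.supportDim B (B ⧸ q') = (m : WithBot ℕ∞) := by
      rw [Module.supportDim_quotient_eq_ringKrullDim]; exact hm
    have hlow : Subsingleton (E (B ⧸ q') K (-((m + 1 : ℕ) : ℤ))) :=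
      Normal.subsingleton_E hK hK' m _ hdim'.le _ (Or.inl (by omega))
    have hcm : Subsingleton (E (B ⧸ q) K (-(m : ℤ))) := by
      have : Nontrivial (B ⧸ q) := Ideal.Quotient.nontrivial_iff.mpr hq
      have hloc : LocCoh.IsCohenMacaulayModule (B ⧸ q) (B ⧸ q) :=
        Depth.isCohenMacaulayLocalRing_iff.1 (Gor.Basic.isCohenMacaulay_of_gorenstein (B ⧸ q))
      exact (S0368.result B K hK hK' (B ⧸ q) (m + 1) hdim).1
        ((Depth.isCohenMacaulayModule_iff_of_surjective (R := B) Ideal.Quotient.mk_surjective).1 hloc)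
        (m : ℤ) (by omega)
    let δ : E (B ⧸ q) K (-((m + 1 : ℕ) : ℤ)) →ₗ[B] E (B ⧸ q') K (-(m : ℤ)) :=
      Hom.cδ B (Devissage.sc_shortExact hf hg hex).singleTriangle K _ _ (by omega)
    have hxinj : ∀ w : E (B ⧸ q) K (-((m + 1 : ℕ) : ℤ)), x • w = 0 → w = 0 := fun w hw => by
      rw [← hpre] at hw
      obtain ⟨v, rfl⟩ := ((Devissage.exact_mid (K := K) hf hg hex _) w).1 hw
      rw [Subsingleton.elim (α := E (B ⧸ q') K (-((m + 1 : ℕ) : ℤ))) v 0, map_zero]
    have hδs : Function.Surjective δ := fun w =>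
      (Hom.exact_cδ_pre B K hS _ _ (by omega) w).mp (Subsingleton.elim (α := E (B ⧸ q) K (-(m : ℤ))) _ _)
    have hδk : ∀ w, δ w = 0 → ∃ v, x • v = w := fun w hw => by
      obtain ⟨v, hv⟩ := ((Hom.exact_pre_cδ B K hS _ _ (by omega)) w).1 hw
      exact ⟨v, (hpre _ v).symm.trans hv⟩
    obtain ⟨y, hy⟩ := hδs (e.symm (Submodule.Quotient.mk 1))
    have hgen : Submodule.span B {y} = ⊤ := by
      refine top_le_iff.1 (Submodule.le_of_le_smul_of_le_jacobson_bot (I := Ideal.span {x})
        (Module.finite_def.1 hfin) ((Ideal.span_singleton_le_iff_mem _).2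
          (by rwa [IsLocalRing.jacobson_eq_maximalIdeal ⊥ bot_ne_top])) fun w _ => ?_)
      obtain ⟨b, hb⟩ := Submodule.Quotient.mk_surjective _ (e (δ w))
      obtain ⟨v, hv⟩ := hδk (w - b • y) (by
        rw [map_sub, map_smul, hy, ← map_smul, ← Submodule.Quotient.mk_smul, smul_eq_mul, mul_one, hb,
          e.symm_apply_apply, sub_self])
      rw [Submodule.mem_sup]
      exact ⟨b • y, Submodule.mem_span_singleton.2 ⟨b, rfl⟩, x • v,
        Submodule.smul_mem_smul (Ideal.mem_span_singleton_self x) Submodule.mem_top, by rw [hv, add_sub_cancel]⟩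
    refine ⟨y, ?_, hgen⟩
    let J : Ideal B := LinearMap.ker (LinearMap.toSpanSingleton B _ y)
    have hJ : J ≤ q := Submodule.le_of_le_smul_of_le_jacobson_bot (I := Ideal.span {x}) (IsNoetherian.noetherian J)
      ((Ideal.span_singleton_le_iff_mem _).2 (by rwa [IsLocalRing.jacobson_eq_maximalIdeal ⊥ bot_ne_top]))
      fun b hb => by
        have hb' : b • y = 0 := hb
        have h1 : Submodule.Quotient.mk (p := q') b = 0 := by
          have := congrArg e (congrArg δ hb')
          rwa [map_smul, hy, map_zero, map_smul, e.apply_symm_apply, ← Submodule.Quotient.mk_smul, smul_eq_mul,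
            mul_one, map_zero] at this
        rw [Submodule.Quotient.mk_eq_zero, Submodule.mem_sup] at h1
        obtain ⟨a, ha, c, hc, rfl⟩ := h1
        obtain ⟨r, rfl⟩ := Ideal.mem_span_singleton'.mp hc
        refine Submodule.mem_sup.2 ⟨a, ha, r * x, ?_, rfl⟩
        have hay : a • y = 0 := by
          rw [← Devissage.pre_id (A := B) (K := K) (M := B ⧸ q) _ y, ← Devissage.pre_smul,
            show a • (LinearMap.id : (B ⧸ q) →ₗ[B] B ⧸ q) = (0 : B) • LinearMap.id from
              LinearMap.ext fun z => by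
                obtain ⟨z, rfl⟩ := Ideal.Quotient.mk_surjective z
                rw [zero_smul, LinearMap.zero_apply, LinearMap.smul_apply, LinearMap.id_apply]
                exact Ideal.Quotient.eq_zero_iff_mem.2 (q.mul_mem_right z ha), Devissage.pre_smul, zero_smul]
        rw [add_smul, hay, zero_add, mul_comm, mul_smul] at hb'
        rw [mul_comm]
        exact Submodule.smul_mem_smul (Ideal.mem_span_singleton_self x)
          (show r ∈ J from hxinj _ hb')
    exact fun b hb => hJ hb
  · obtain ⟨k, hk⟩ := Gor.Basic.exists_hasInjectiveDimensionLT (A := B ⧸ q)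
    have hA := Gor.Basic.injective_of_socle_of_finite_id hφ k hk
    have hh := Gor.Basic.hull_of_injective hφ hA
    have := Gor.Basic.artinian_of_injective hφ hA
    obtain rfl : n = 0 := by
      have h0 := ringKrullDimZero_iff_ringKrullDim_eq_zero.mp
        (inferInstance : Ring.KrullDimLE 0 (B ⧸ q))
      rw [hn] at h0
      exact_mod_cast h0
    have hfl : IsFiniteLength B (B ⧸ q) := isFiniteLength_iff_isNoetherian_isArtinian.mpr
      ⟨inferInstance, isArtinian_of_surjective_algebraMap (R := B ⧸ q) Ideal.Quotient.mk_surjective⟩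
    let z : B ⧸ q := φ 1
    have hz : ∀ b ∈ maximalIdeal B, b • z = 0 := fun b hb => by
      have h2 : Ideal.Quotient.mk q b • φ 1 = 0 := by
        rw [← map_smul, Matlis.residue_smul_eq_zero (Fiber.mk_mem_maximal.mpr hb), map_zero]
      exact h2
    have hz0 : z ≠ 0 := fun h0 => one_ne_zero (hφ (h0.trans (map_zero φ).symm))
    let soc : (B ⧸ maximalIdeal B) →ₗ[B] B ⧸ q :=
      Submodule.liftQ _ (LinearMap.toSpanSingleton B _ z) hz
    have hsi : Function.Injective soc := by
      have : IsSimpleModule B (B ⧸ maximalIdeal B) :=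
        isSimpleModule_iff_quot_maximal.mpr ⟨_, inferInstance, ⟨LinearEquiv.refl _ _⟩⟩
      refine (LinearMap.injective_or_eq_zero _).resolve_right fun h0 => hz0 ?_
      have := LinearMap.congr_fun h0 (Submodule.Quotient.mk 1)
      rwa [Submodule.liftQ_apply, LinearMap.toSpanSingleton_apply, one_smul] at this
    have hsur : Function.Surjective (pre soc K (-((0 : ℕ) : ℤ))) :=
      Devissage.surjective_pre hsi (Submodule.mkQ_surjective (LinearMap.range soc))
        (LinearMap.exact_map_mkQ_range _) _ (Normal.subsingleton_E_pos hK hK' _ _ (by omega))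
    obtain ⟨ek⟩ := Normal.nonempty_residue hK hK'
    have hnk : Nontrivial (E (B ⧸ maximalIdeal B) K (-((0 : ℕ) : ℤ))) := by
      rw [Nat.cast_zero, neg_zero]
      exact ek.toEquiv.nontrivial
    obtain ⟨w, hw⟩ := exists_ne (0 : E (B ⧸ maximalIdeal B) K (-((0 : ℕ) : ℤ)))
    obtain ⟨y, rfl⟩ := hsur w
    let π : B ⧸ q →ₗ[B] B ⧸ maximalIdeal B :=
      Submodule.mapQ q (maximalIdeal B) LinearMap.id (IsLocalRing.le_maximalIdeal hq)
    have hπ : Function.Surjective π := fun v => by
      obtain ⟨v, rfl⟩ := Submodule.Quotient.mk_surjective _ v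
      exact ⟨Submodule.Quotient.mk v, rfl⟩
    have hflN : IsFiniteLength B (LinearMap.ker π) := by
      obtain ⟨_, _⟩ := isFiniteLength_iff_isNoetherian_isArtinian.mp hfl
      exact isFiniteLength_iff_isNoetherian_isArtinian.mpr ⟨inferInstance, inferInstance⟩
    have hπi : Function.Injective (pre π K (-((0 : ℕ) : ℤ))) :=
      Devissage.injective_pre (Submodule.injective_subtype _) hπ (LinearMap.exact_subtype_ker_map π) _
        (Normal.subsingleton_finiteLength hK' hflN _ (by omega))
    have hann : ∀ b : B, b • y = 0 → b ∈ q := fun b hb => by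
      by_contra hbq
      have hb0 : Ideal.Quotient.mk q b ≠ 0 := fun h => hbq (Ideal.Quotient.eq_zero_iff_mem.1 h)
      obtain ⟨r, c, hc, hr0⟩ := InjHull.Basic.exists_smul_mem_range hh.toIsEssentialInj hb0
      obtain ⟨r, rfl⟩ := Ideal.Quotient.mk_surjective r
      obtain ⟨c, rfl⟩ := IsLocalRing.residue_surjective c
      obtain ⟨c, rfl⟩ := Ideal.Quotient.mk_surjective c
      have hcz : φ (IsLocalRing.residue _ (Ideal.Quotient.mk q c)) = c • z := by
        have : φ (IsLocalRing.residue _ (Ideal.Quotient.mk q c)) = Ideal.Quotient.mk q c • φ 1 := by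
          rw [← map_smul, Algebra.smul_def, mul_one]; rfl
        rw [this]; rfl
      rw [hcz] at hc
      have hcu : IsUnit c := by
        by_contra hcu
        exact hr0 (hc.symm.trans (hz c ((mem_maximalIdeal c).2 hcu)))
      have hμ : (r * b) • (LinearMap.id : (B ⧸ q) →ₗ[B] B ⧸ q) = c • (soc ∘ₗ π) := by
        refine LinearMap.ext fun v => ?_
        obtain ⟨v, rfl⟩ := Submodule.Quotient.mk_surjective _ v
        change Ideal.Quotient.mk q (r * b * v) = c • (v • z)
        rw [smul_comm, hc, map_mul, map_mul, mul_comm]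
        rfl
      have h1 : c • pre π K _ (pre soc K _ y) = 0 := by
        have h2 : pre ((r * b) • (LinearMap.id : (B ⧸ q) →ₗ[B] B ⧸ q)) K (-((0 : ℕ) : ℤ)) y = 0 := by
          rw [Devissage.pre_smul, Devissage.pre_id, mul_smul, hb, smul_zero]
        rw [hμ, Devissage.pre_smul] at h2
        exact (congrArg (c • ·) (Devissage.pre_comp (K := K) π soc _ y)).symm.trans h2
      exact hw (hπi ((hcu.smul_eq_zero.1 h1).trans (map_zero _).symm))
    refine ⟨y, hann, ?_⟩
    let L : B ⧸ q →ₗ[B] Submodule.span B {y} := Submodule.liftQ q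
      (LinearMap.toSpanSingleton B _ ⟨y, Submodule.mem_span_singleton_self y⟩) fun b hb => by
        refine LinearMap.mem_ker.2 (Subtype.ext ?_)
        change b • y = 0
        rw [← Devissage.pre_id (A := B) (K := K) (M := B ⧸ q) _ y, ← Devissage.pre_smul,
          show b • (LinearMap.id : (B ⧸ q) →ₗ[B] B ⧸ q) = (0 : B) • LinearMap.id from
            LinearMap.ext fun x => by
              obtain ⟨c, rfl⟩ := Ideal.Quotient.mk_surjective x
              rw [zero_smul, LinearMap.zero_apply, LinearMap.smul_apply, LinearMap.id_apply]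
              exact Ideal.Quotient.eq_zero_iff_mem.2 (q.mul_mem_right c hb), Devissage.pre_smul, zero_smul]
    have hLi : Function.Injective L := (injective_iff_map_eq_zero _).2 fun v hv => by
      obtain ⟨b, rfl⟩ := Submodule.Quotient.mk_surjective _ v
      exact (Submodule.Quotient.mk_eq_zero _).2 (hann b (congrArg Subtype.val hv))
    have hlen := Normal.length_finiteLength hK hK' hfl
    rw [show (0 : ℤ) = -((0 : ℕ) : ℤ) by omega] at hlen
    have h3 := Module.length_eq_add_of_exact (Submodule.span B {y}).subtype (Submodule.span B {y}).mkQ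
      (Submodule.injective_subtype _) (Submodule.mkQ_surjective _) (LinearMap.exact_subtype_mkQ _)
    rw [hlen] at h3
    have h4 : Module.length B (B ⧸ q) ≤ Module.length B (Submodule.span B {y}) :=
      Module.length_le_of_injective L hLi
    have h5 : Module.length B (Submodule.span B {y}) +
        Module.length B (E (B ⧸ q) K (-((0 : ℕ) : ℤ)) ⧸ Submodule.span B {y}) ≤
        Module.length B (Submodule.span B {y}) + 0 := by
      rw [add_zero, ← h3]; exact h4
    have hne : Module.length B (Submodule.span B {y}) ≠ ⊤ := by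
      intro htop
      rw [htop, top_add] at h3
      exact Module.length_ne_top_iff.mpr hfl h3
    exact Submodule.Quotient.subsingleton_iff.mp (Module.length_eq_zero_iff.mp
      (nonpos_iff_eq_zero.mp ((ENat.add_le_add_iff_left hne).mp h5)))

end Groth.Agent.DualCx.GorCyclic
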