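import Groth.Agent.DualCx.TorsColim
import Groth.Agent.LocCoh.Basic
import Mathlib.Algebra.Homology.DerivedCategory.Ext.Linear

/-!
# `LocCoh.H` as `colim Hom(A/I^n, M[i])` in the derived category
-/

universe u

open CategoryTheory CategoryTheory.Limits Opposite

attribute [local instance] HasDerivedCategory.standard

namespace Groth.Agent.DualCx.LocCompare

open TorsColim (L ι qD)

variable {A : Type u} [CommRing A] (I : Ideal A) (i : ℕ) (M : Type u) [AddCommGroup M] [Module A M]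

/-- one stage -/
noncomputable def stage (n : ℕ) :
    Abelian.Ext.{u} (LocCoh.quotPow I n) (ModuleCat.of A M) i ≃ₗ[A]
      (Dual.inD A (A ⧸ I ^ n) ⟶ (Dual.inD A M)⟦(i : ℤ)⟧) :=
  Abelian.Ext.homLinearEquiv

theorem stage_qpow {n m : ℕ} (h : n ≤ m)
    (e : Abelian.Ext.{u} (LocCoh.quotPow I n) (ModuleCat.of A M) i) :
    stage I i M m ((Abelian.Ext.mk₀ (LocCoh.qpow I h)).comp e (zero_add i)) =
      qD I h ≫ stage I i M n e := by
  change ((Abelian.Ext.mk₀ (LocCoh.qpow I h)).comp e (zero_add i)).hom = _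
  rw [Abelian.Ext.comp_hom, Abelian.Ext.mk₀_hom, ShiftedHom.mk₀_comp]
  rfl

/-- the comparison map -/
noncomputable def toL : _root_.LocCoh.H I i M →ₗ[A] L I ((Dual.inD A M)⟦(i : ℤ)⟧) :=
  LocCoh.descH (fun n => (ι I n ((Dual.inD A M)⟦(i : ℤ)⟧)).comp (stage I i M n).toLinearMap)
    fun n m h e => by
      change ι I m _ (stage I i M m _) = ι I n _ (stage I i M n e)
      rw [stage_qpow, TorsColim.ι_qD]

theorem toL_ι (n : ℕ) (e : Abelian.Ext.{u} (LocCoh.quotPow I n) (ModuleCat.of A M) i) :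
    toL I i M (LocCoh.ιH I i n (ModuleCat.of A M) e) = ι I n _ (stage I i M n e) :=
  LocCoh.descH_ι _ _ n e

theorem bijective_toL : Function.Bijective (toL I i M) := by
  constructor
  · rw [injective_iff_map_eq_zero]
    intro x hx
    obtain ⟨n, e, rfl⟩ := LocCoh.exists_ιH x
    rw [toL_ι, TorsColim.ι_eq_zero_iff] at hx
    obtain ⟨m, h, hm⟩ := hx
    rw [LocCoh.ιH_eq_zero_iff]
    refine ⟨m, h, (stage I i M m).injective ?_⟩
    rw [stage_qpow, hm, map_zero]
  · intro y
    obtain ⟨n, d, rfl⟩ := TorsColim.exists_rep I y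
    exact ⟨LocCoh.ιH I i n _ ((stage I i M n).symm d),
      (toL_ι I i M n _).trans (by rw [LinearEquiv.apply_symm_apply])⟩

/-- `H^i_I(M) = colim Hom(A/I^n, M[i])` -/
noncomputable def equiv : _root_.LocCoh.H I i M ≃ₗ[A] L I ((Dual.inD A M)⟦(i : ℤ)⟧) :=
  LinearEquiv.ofBijective _ (bijective_toL I i M)

end Groth.Agent.DualCx.LocCompare
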