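import Groth.Agent.DualCx.Trace
import Groth.Agent.DualCx.LocCompare
import Groth.Agent.GrLC.LocCohTors
import Mathlib.CategoryTheory.Triangulated.TriangleShift

/-!
# Local duality
-/

universe u

open CategoryTheory CategoryTheory.Limits IsLocalRing

attribute [local instance] HasDerivedCategory.standard

namespace Groth.Agent.DualCx.LocalDuality

open Devissage (E pre)
open TorsColim (L ι qD)

variable {A : Type u} [CommRing A] (I : Ideal A) (W : Dual.D A)
  {H : Type u} [AddCommGroup H] [Module A H] (θ : L I W →ₗ[A] H)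

/-- pushing a class along `h` and taking the trace -/
noncomputable def pair (X : Dual.D A) : (X ⟶ W) →ₗ[A] (L I X →ₗ[A] H) where
  toFun h := θ.comp (TorsColim.map I h)
  map_add' h h' := TorsColim.hom_ext I fun n e => by
    simp only [LinearMap.comp_apply, LinearMap.add_apply, TorsColim.map_ι, Preadditive.comp_add,
      map_add]
  map_smul' a h := TorsColim.hom_ext I fun n e => by
    simp only [LinearMap.comp_apply, LinearMap.smul_apply, TorsColim.map_ι, RingHom.id_apply,
      CategoryTheory.Linear.comp_smul, map_smul]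

/-- `L X → Hom(Hom(X, W), H)` -/
noncomputable def Ψ (X : Dual.D A) : L I X →ₗ[A] ((X ⟶ W) →ₗ[A] H) := (pair I W θ X).flip

theorem Ψ_apply (X : Dual.D A) (x : L I X) (h : X ⟶ W) :
    Ψ I W θ X x h = θ (TorsColim.map I h x) := rfl

/-- functoriality of the target -/
noncomputable def Rmap {X Y : Dual.D A} (f : X ⟶ Y) :
    ((X ⟶ W) →ₗ[A] H) →ₗ[A] ((Y ⟶ W) →ₗ[A] H) :=
  LinearMap.lcomp A H (CategoryTheory.Linear.leftComp A W f)

theorem Rmap_apply {X Y : Dual.D A} (f : X ⟶ Y) (φ : (X ⟶ W) →ₗ[A] H) (h : Y ⟶ W) :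
    Rmap W f φ h = φ (f ≫ h) := rfl

theorem natural {X Y : Dual.D A} (f : X ⟶ Y) (x : L I X) :
    Ψ I W θ Y (TorsColim.map I f x) = Rmap W f (Ψ I W θ X x) := LinearMap.ext fun h => by
  rw [Rmap_apply, Ψ_apply, Ψ_apply, TorsColim.map_comp, LinearMap.comp_apply]

theorem Rmap_comp {X Y Z : Dual.D A} (f : X ⟶ Y) (g : Y ⟶ Z) (φ : (X ⟶ W) →ₗ[A] H) :
    Rmap W (f ≫ g) φ = Rmap W g (Rmap W f φ) := LinearMap.ext fun h => by
  rw [Rmap_apply, Rmap_apply, Rmap_apply, Category.assoc]

theorem bijective_congr {X Y : Dual.D A} (e : X ≅ Y) (h : Function.Bijective (Ψ I W θ X)) :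
    Function.Bijective (Ψ I W θ Y) := by
  constructor
  · rw [injective_iff_map_eq_zero]
    intro y hy
    have h1 : Ψ I W θ X (TorsColim.map I e.inv y) = 0 := by rw [natural, hy, map_zero]
    have h2 := h.1 (h1.trans (map_zero _).symm)
    have h3 := congrArg (TorsColim.map I e.hom) h2
    rwa [← LinearMap.comp_apply, ← TorsColim.map_comp, e.inv_hom_id, TorsColim.map_id, map_zero] at h3
  · intro φ
    obtain ⟨x, hx⟩ := h.2 (Rmap W e.inv φ)
    refine ⟨TorsColim.map I e.hom x, ?_⟩
    rw [natural, hx, ← Rmap_comp, e.inv_hom_id]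
    exact LinearMap.ext fun h => by rw [Rmap_apply, Category.id_comp]

theorem bijective_of_subsingleton {X : Dual.D A} (hL : Subsingleton (L I X))
    (hR : Subsingleton (X ⟶ W)) : Function.Bijective (Ψ I W θ X) :=
  ⟨fun _ _ _ => Subsingleton.elim _ _, fun φ => ⟨0, LinearMap.ext fun h => by
    rw [Subsingleton.elim h 0, map_zero, map_zero]⟩⟩

variable [Module.Injective A H]

theorem Rexact {T : Pretriangulated.Triangle (Dual.D A)} (hT : T ∈ distTriang (Dual.D A)) :
    Function.Exact (Rmap (H := H) W T.mor₁) (Rmap W T.mor₂) := by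
  intro φ
  constructor
  · intro hφ
    let p := CategoryTheory.Linear.leftComp A W T.mor₁
    have hker : LinearMap.ker p ≤ LinearMap.ker φ := fun h hh => by
      obtain ⟨d, rfl⟩ := Pretriangulated.Triangle.yoneda_exact₂ T hT h hh
      exact (Rmap_apply W T.mor₂ φ d).symm.trans (LinearMap.congr_fun hφ d)
    obtain ⟨ψ, hψ⟩ := Module.Injective.extension_property A H _ _ ((LinearMap.ker p).liftQ p le_rfl)
      (LinearMap.ker_eq_bot.mp (Submodule.ker_liftQ_eq_bot _ _ _ le_rfl))
      ((LinearMap.ker p).liftQ φ hker)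
    refine ⟨ψ, LinearMap.ext fun h => ?_⟩
    have := LinearMap.congr_fun hψ (Submodule.Quotient.mk h)
    simpa [p, Rmap_apply] using this
  · rintro ⟨ψ, rfl⟩
    rw [← Rmap_comp, Pretriangulated.comp_distTriang_mor_zero₁₂ T hT]
    exact LinearMap.ext fun h => by rw [Rmap_apply, zero_comp, map_zero, LinearMap.zero_apply]

/-- five lemma for the middle term -/
theorem bijective_mid {T : Pretriangulated.Triangle (Dual.D A)} (hT : T ∈ distTriang (Dual.D A))
    (h₀ : Function.Bijective (Ψ I W θ T.invRotate.obj₁)) (h₁ : Function.Bijective (Ψ I W θ T.obj₁))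
    (h₃ : Function.Bijective (Ψ I W θ T.obj₃))
    (h₄ : Function.Injective (Ψ I W θ T.rotate.obj₃)) :
    Function.Bijective (Ψ I W θ T.obj₂) := by
  have hr := Pretriangulated.rot_of_distTriang _ hT
  have hi := Pretriangulated.inv_rot_of_distTriang _ hT
  constructor
  · rw [injective_iff_map_eq_zero]
    intro x hx
    have hg : TorsColim.map I T.mor₂ x = 0 :=
      h₃.1 (by rw [natural, hx, map_zero, map_zero])
    obtain ⟨y, rfl⟩ := (TorsColim.exact I hT x).mp hg
    rw [natural] at hx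
    obtain ⟨ψ, hψ⟩ := (Rexact W hi (Ψ I W θ T.obj₁ y)).mp hx
    obtain ⟨w, rfl⟩ := h₀.2 ψ
    rw [← natural] at hψ
    rw [← h₁.1 hψ]
    exact (TorsColim.exact I hi _).mpr ⟨w, rfl⟩
  · intro φ
    obtain ⟨z, hz⟩ := h₃.2 (Rmap W T.mor₂ φ)
    have hz0 : TorsColim.map I T.rotate.mor₂ z = 0 := h₄ (by
      rw [natural, map_zero]
      change Rmap W T.rotate.mor₂ (Ψ I W θ T.obj₃ z) = 0
      rw [hz]
      exact (Rexact W hr _).mpr ⟨φ, rfl⟩)
    obtain ⟨x, hx⟩ := (TorsColim.exact I hr z).mp hz0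
    have h0 : Rmap W T.mor₂ (φ - Ψ I W θ T.obj₂ x) = 0 := by
      rw [map_sub, ← natural, ← hz, sub_eq_zero]
      exact congrArg _ hx.symm
    obtain ⟨ψ, hψ⟩ := (Rexact W hT _).mp h0
    obtain ⟨y, rfl⟩ := h₁.2 ψ
    refine ⟨(show L I T.obj₂ from x) + TorsColim.map I T.mor₁ y, ?_⟩
    rw [map_add, natural, hψ, add_sub_cancel]

/-- all shifts -/
def P (X : Dual.D A) : Prop := ∀ n : ℤ, Function.Bijective (Ψ I W θ (X⟦n⟧))

omit [Module.Injective A H] in
theorem P_congr {X Y : Dual.D A} (e : X ≅ Y) (h : P I W θ X) : P I W θ Y := fun n =>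
  bijective_congr I W θ ((shiftFunctor (Dual.D A) n).mapIso e) (h n)

omit [Module.Injective A H] in
theorem P_shift {X : Dual.D A} (h : P I W θ X) (a : ℤ) : P I W θ (X⟦a⟧) := fun n =>
  bijective_congr I W θ ((shiftFunctorAdd' (Dual.D A) a n (a + n) rfl).app X) (h (a + n))

theorem P_mid {T : Pretriangulated.Triangle (Dual.D A)} (hT : T ∈ distTriang (Dual.D A))
    (h₁ : P I W θ T.obj₁) (h₃ : P I W θ T.obj₃) : P I W θ T.obj₂ := fun n =>
  bijective_mid I W θ (Pretriangulated.Triangle.shift_distinguished T hT n)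
    (P_shift I W θ h₃ n (-1)) (h₁ n) (h₃ n) ((P_shift I W θ h₁ n 1).1)

omit [Module.Injective A H] in
theorem P_of_isZero {X : Dual.D A} (hX : IsZero X) : P I W θ X := fun n => by
  have h := (shiftFunctor (Dual.D A) n).map_isZero hX
  refine bijective_of_subsingleton I W θ (subsingleton_of_forall_eq 0 fun x => ?_)
    (subsingleton_of_forall_eq 0 fun g => h.eq_of_src _ _)
  obtain ⟨k, e, rfl⟩ := TorsColim.exists_rep I x
  rw [h.eq_of_tgt e 0, map_zero]

end Groth.Agent.DualCx.LocalDuality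

namespace Groth.Agent.DualCx.LocalDuality

open Devissage (E pre)
open TorsColim (L ι qD)

variable {A : Type u} [CommRing A] [IsLocalRing A] [IsNoetherianRing A] {ω : Dual.D A}
  {H : Type u} [AddCommGroup H] [Module A H] {f : ResidueField A →ₗ[A] H}
  (θ : L (maximalIdeal A) (ω⟦(0 : ℤ)⟧) →ₗ[A] H)

/-- `Hom(M[n], ω) = Ext^{-n}(M, ω)` -/
noncomputable def shiftedE (M : Type u) [AddCommGroup M] [Module A M] (n : ℤ) :
    E M ω (-n) ≃ₗ[A] ((Dual.inD A M)⟦n⟧ ⟶ ω⟦(0 : ℤ)⟧) :=
  Hom.shiftHom A n (-n) 0 (by omega) (Dual.inD A M) ω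

omit [IsLocalRing A] [IsNoetherianRing A] in
theorem subsingleton_L_neg (I : Ideal A) (M : Type u) [AddCommGroup M] [Module A M] (n : ℤ) (hn : n < 0) :
    Subsingleton (L I ((Dual.inD A M)⟦n⟧)) := by
  refine subsingleton_of_forall_eq 0 fun x => ?_
  obtain ⟨k, e, rfl⟩ := TorsColim.exists_rep I x
  have : (Dual.inD A M).IsGE 0 :=
    inferInstanceAs (((DerivedCategory.singleFunctor (ModuleCat.{u} A) 0).obj _).IsGE 0)
  have : (Dual.inD A (A ⧸ I ^ k)).IsLE 0 :=
    inferInstanceAs (((DerivedCategory.singleFunctor (ModuleCat.{u} A) 0).obj _).IsLE 0)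
  have : ((Dual.inD A M)⟦n⟧).IsGE (-n) :=
    DerivedCategory.TStructure.t.isGE_shift (Dual.inD A M) 0 n (-n) (by omega)
  rw [show e = 0 from DerivedCategory.TStructure.t.zero e 0 (-n) (by omega), map_zero]

omit [IsLocalRing A] in
theorem subsingleton_L_torsion (I : Ideal A) (M : Type u) [AddCommGroup M] [Module A M]
    (hM : ∀ x : M, ∃ k : ℕ, ∀ r ∈ I ^ k, r • x = 0) (n : ℤ) (hn : n ≠ 0) :
    Subsingleton (L I ((Dual.inD A M)⟦n⟧)) := by
  by_cases h : n < 0
  · exact subsingleton_L_neg I M n h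
  · obtain ⟨j, rfl⟩ : ∃ j : ℕ, n = ((j + 1 : ℕ) : ℤ) := ⟨(n - 1).toNat, by omega⟩
    have := GrLC.LocCohElt.subsingleton_of_powerTorsion I j M hM
    exact (LocCompare.equiv I (j + 1) M).symm.toEquiv.subsingleton

variable (hω : Dual.IsDualizing A ω) (hn : Dual.IsNormalized A ω)
  (hf : _root_.InjHull.IsInjectiveHull f)
  (hθ : Function.Injective (θ.comp (ι (maximalIdeal A) 1 (ω⟦(0 : ℤ)⟧))))

include hω hn hf hθ

omit hω hn hf hθ in
theorem isFiniteLength_of_pow {N : Type u} [AddCommGroup N] [Module A N] [Module.Finite A N] :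
    ∀ (k : ℕ), (∀ a ∈ maximalIdeal A ^ k, ∀ x : N, a • x = 0) → IsFiniteLength A N := by
  induction ‹Module.Finite A N› using IsNoetherianRing.induction_on_isQuotientEquivQuotientPrime A with
  | subsingleton N => exact fun _ _ => .of_subsingleton
  | quotient N q e =>
    intro k hN
    have hq : q.1 = maximalIdeal A := Trace.eq_maximal_of_pow_le hN q
      (by rw [LinearEquiv.annihilator_eq e, Ideal.annihilator_quotient])
    have : IsSimpleModule A (A ⧸ q.1) :=
      isSimpleModule_iff_quot_maximal.mpr ⟨q.1, hq ▸ inferInstance, ⟨LinearEquiv.refl _ _⟩⟩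
    have := IsSimpleModule.congr e
    exact isFiniteLength_iff_isNoetherian_isArtinian.mpr ⟨inferInstance, inferInstance⟩
  | exact N₁ N₂ N₃ f g hf hg hfg h₁ h₃ =>
    intro k hN
    have a₁ := isFiniteLength_iff_isNoetherian_isArtinian.mp (h₁ k fun a ha x =>
      hf (by rw [map_smul, map_zero, hN a ha]))
    have a₃ := isFiniteLength_iff_isNoetherian_isArtinian.mp (h₃ k fun a ha x => by
      obtain ⟨y, rfl⟩ := hg x
      rw [← map_smul, hN a ha, map_zero])
    have := a₁.2
    have := a₃.2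
    exact isFiniteLength_iff_isNoetherian_isArtinian.mpr
      ⟨inferInstance, isArtinian_of_range_eq_ker f g (LinearMap.exact_iff.mp hfg).symm⟩

/-- finite length modules -/
theorem P_pow (N : Type u) [AddCommGroup N] [Module A N] [Module.Finite A N] (k : ℕ)
    (hN : ∀ a ∈ maximalIdeal A ^ k, ∀ x : N, a • x = 0) :
    P (maximalIdeal A) (ω⟦(0 : ℤ)⟧) θ (Dual.inD A N) := fun n => by
  by_cases hn0 : n = 0
  swap
  · refine bijective_of_subsingleton _ _ θ
      (subsingleton_L_torsion _ N (fun x => ⟨k, fun r hr => hN r hr x⟩) n hn0) ?_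
    have := Trace.subsingleton_of_pow hn N hN (-n) (by omega)
    exact (shiftedE N n).symm.toEquiv.subsingleton
  subst hn0
  refine bijective_congr _ _ θ ((shiftFunctorZero (Dual.D A) ℤ).app (Dual.inD A N)).symm ?_
  have hτ := Trace.bijective_τ hω hn hf θ hθ N k hN
  have hfl := isFiniteLength_of_pow k hN
  constructor
  · rw [injective_iff_map_eq_zero]
    intro x hx
    obtain ⟨j, e, rfl⟩ := TorsColim.exists_rep _ x
    obtain ⟨g, rfl⟩ := (DerivedCategory.singleFunctor (ModuleCat.{u} A) 0).map_surjective e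
    suffices g = 0 by rw [this, Functor.map_zero, map_zero]
    refine ModuleCat.hom_ext (Submodule.linearMap_qext _ (LinearMap.ext_ring ?_))
    refine InjHull.Matlis.applyₗ_injective hf N (LinearMap.ext fun (h : N →ₗ[A] H) => ?_)
    obtain ⟨φ, rfl⟩ := hτ.2 h
    have h1 := LinearMap.congr_fun hx φ
    rw [Ψ_apply, TorsColim.map_ι] at h1
    have h2 := LinearMap.congr_fun (Trace.τ_natural θ g.hom (max j k)
      (fun a ha y => Trace.kills_quot j a (Ideal.pow_le_pow_right (le_max_left j k) ha) y)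
      (fun a ha y => hN a (Ideal.pow_le_pow_right (le_max_right j k) ha) y) φ)
      (Submodule.Quotient.mk 1)
    have hk : ∀ a ∈ maximalIdeal A ^ max j k, ∀ y : N, a • y = 0 :=
      fun a ha y => hN a (Ideal.pow_le_pow_right (le_max_right j k) ha) y
    have h3 : Trace.τ θ N (max j k) hk φ = Trace.τ θ N k hN φ := LinearMap.ext fun y => by
      rw [Trace.τ_apply, Trace.τ_apply]
      have : Trace.xh hk y = (Trace.xh hN y).comp (Submodule.mapQ _ _ LinearMap.id
          (Ideal.pow_le_pow_right (le_max_right j k))) :=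
        Submodule.linearMap_qext _ (LinearMap.ext_ring rfl)
      rw [this, Devissage.pre_comp]
      exact congrArg θ (TorsColim.ι_qD _ (le_max_right j k) _)
    rw [LinearMap.comp_apply, h3, Trace.τ_apply] at h2
    change Trace.τ θ N k hN φ (g.hom (Submodule.Quotient.mk 1)) = Trace.τ θ N k hN φ 0
    rw [← h2, map_zero]
    refine Eq.trans ?_ h1
    have : Trace.xh (fun a ha y => Trace.kills_quot j a (Ideal.pow_le_pow_right (le_max_left j k) ha) y)
        (Submodule.Quotient.mk 1 : A ⧸ maximalIdeal A ^ j) =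
        (Submodule.mapQ _ _ LinearMap.id (Ideal.pow_le_pow_right (le_max_left j k)) :
          A ⧸ maximalIdeal A ^ max j k →ₗ[A] A ⧸ maximalIdeal A ^ j) :=
      Submodule.linearMap_qext _ (LinearMap.ext_ring (by
        rw [LinearMap.comp_apply, LinearMap.comp_apply, Submodule.mkQ_apply, Trace.xh_mk, one_smul]
        rfl))
    rw [this]
    exact congrArg θ (TorsColim.ι_qD _ (le_max_left j k) _)
  · intro ψ
    obtain ⟨x, hx⟩ := (InjHull.Matlis.applyₗ_bijective hf hfl).2
      (ψ.comp (LinearEquiv.ofBijective _ hτ).symm.toLinearMap)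
    refine ⟨ι (maximalIdeal A) k _ ((DerivedCategory.singleFunctor (ModuleCat.{u} A) 0).map
      (ModuleCat.ofHom (Trace.xh hN x))), LinearMap.ext fun φ => ?_⟩
    rw [Ψ_apply, TorsColim.map_ι]
    have := LinearMap.congr_fun hx (Trace.τ θ N k hN φ)
    rw [LinearMap.applyₗ_apply_apply, LinearMap.comp_apply, LinearEquiv.coe_coe,
      LinearEquiv.ofBijective_symm_apply_apply] at this
    exact this

omit hθ hn in
theorem R_torsion (M : Type u) [AddCommGroup M] [Module A M] [Module.Finite A M] (n : ℤ)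
    (φ : ((Dual.inD A M)⟦n⟧ ⟶ ω⟦(0 : ℤ)⟧) →ₗ[A] H) :
    ∃ j : ℕ, ∀ a ∈ maximalIdeal A ^ j, a • φ = 0 := by
  have := Normal.finite_E hω M (-n)
  have : Module.Finite A ((Dual.inD A M)⟦n⟧ ⟶ ω⟦(0 : ℤ)⟧) :=
    Module.Finite.equiv (shiftedE (ω := ω) M n)
  classical
  obtain ⟨s, hs⟩ := (Module.Finite.fg_top (R := A) (M := (Dual.inD A M)⟦n⟧ ⟶ ω⟦(0 : ℤ)⟧))
  choose j hj using fun x : ((Dual.inD A M)⟦n⟧ ⟶ ω⟦(0 : ℤ)⟧) =>
    InjHull.Matlis.isPowerTorsion_hull hf (φ x)
  refine ⟨s.sup j, fun a ha => LinearMap.ext_on hs fun x hx => ?_⟩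
  rw [LinearMap.smul_apply, LinearMap.zero_apply]
  exact hj x a (Ideal.pow_le_pow_right (Finset.le_sup hx) ha)

/-- every finite module -/
theorem P_finite : ∀ (M : Type u) [AddCommGroup M] [Module A M] [Module.Finite A M],
    P (maximalIdeal A) (ω⟦(0 : ℤ)⟧) θ (Dual.inD A M) := by
  have : Module.Injective A H := hf.isInjective
  have from_primes : ∀ (N : Type u) [AddCommGroup N] [Module A N] [Module.Finite A N],
      (∀ r : PrimeSpectrum A, Module.annihilator A N ≤ r.1 →
        P (maximalIdeal A) (ω⟦(0 : ℤ)⟧) θ (Dual.inD A (A ⧸ r.1))) →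
      P (maximalIdeal A) (ω⟦(0 : ℤ)⟧) θ (Dual.inD A N) := by
    intro N _ _ _
    induction ‹Module.Finite A N› using IsNoetherianRing.induction_on_isQuotientEquivQuotientPrime A with
    | subsingleton N =>
      intro _
      exact P_of_isZero _ _ θ (Functor.map_isZero _ (ModuleCat.isZero_of_subsingleton _))
    | quotient N q e =>
      intro h
      exact P_congr _ _ θ ((DerivedCategory.singleFunctor (ModuleCat.{u} A) 0).mapIso e.symm.toModuleIso)
        (h q (by rw [LinearEquiv.annihilator_eq e, Ideal.annihilator_quotient]))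
    | exact N₁ N₂ N₃ f g hf hg hfg h₁ h₃ =>
      intro h
      exact P_mid _ _ θ (Devissage.sc_shortExact hf hg hfg).singleTriangle_distinguished
        (h₁ fun r hr => h r ((f.annihilator_le_of_injective hf).trans hr))
        (h₃ fun r hr => h r ((g.annihilator_le_of_surjective hg).trans hr))
  have prime : ∀ q : PrimeSpectrum A, P (maximalIdeal A) (ω⟦(0 : ℤ)⟧) θ (Dual.inD A (A ⧸ q.1)) := by
    intro q
    obtain ⟨q, hq⟩ := q
    induction q using WellFoundedGT.induction with
    | ind q ih =>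
    by_cases hmax : q = maximalIdeal A
    · subst hmax
      exact P_pow θ hω hn hf hθ (A ⧸ maximalIdeal A) 1 fun a ha x => by
        obtain ⟨x, rfl⟩ := Submodule.Quotient.mk_surjective _ x
        rw [← Submodule.Quotient.mk_smul, Submodule.Quotient.mk_eq_zero]
        exact Ideal.mul_mem_right _ _ (by simpa using ha)
    obtain ⟨x, hxm, hxq⟩ := SetLike.exists_of_lt
      (lt_of_le_of_ne (le_maximalIdeal hq.ne_top) hmax)
    let l : A ⧸ q →ₗ[A] A ⧸ q := x • LinearMap.id
    have hl : Function.Injective l := by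
      intro y z hyz
      obtain ⟨y, rfl⟩ := Ideal.Quotient.mk_surjective y
      obtain ⟨z, rfl⟩ := Ideal.Quotient.mk_surjective z
      replace hyz : x • Ideal.Quotient.mk q y = x • Ideal.Quotient.mk q z := hyz
      simp only [Algebra.smul_def, Ideal.Quotient.algebraMap_eq, ← map_mul] at hyz
      rw [Ideal.Quotient.eq, ← mul_sub] at hyz
      rw [Ideal.Quotient.eq]
      exact (hq.mem_or_mem hyz).resolve_left hxq
    have hQ : P (maximalIdeal A) (ω⟦(0 : ℤ)⟧) θ (Dual.inD A ((A ⧸ q) ⧸ LinearMap.range l)) :=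
      from_primes _ fun r hr => by
        have h2 : q ≤ r.1 := le_trans ((le_of_eq (Ideal.annihilator_quotient (I := q)).symm).trans
          (LinearMap.annihilator_le_of_surjective (Submodule.mkQ _) (Submodule.mkQ_surjective _))) hr
        refine ih r.1 (lt_of_le_of_ne h2 fun e => hxq (e ▸ hr (Module.mem_annihilator.mpr fun y => ?_))) r.2
        obtain ⟨y, rfl⟩ := Submodule.Quotient.mk_surjective _ y
        rw [← Submodule.Quotient.mk_smul, Submodule.Quotient.mk_eq_zero]
        exact ⟨y, rfl⟩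
    let T₀ := (Devissage.sc_shortExact hl (Submodule.mkQ_surjective _)
      (LinearMap.exact_map_mkQ_range l)).singleTriangle
    have hT₀ : T₀ ∈ distTriang (Dual.D A) := (Devissage.sc_shortExact hl (Submodule.mkQ_surjective _)
      (LinearMap.exact_map_mkQ_range l)).singleTriangle_distinguished
    suffices ∀ (m : ℕ) (n : ℤ), n < m →
        Function.Bijective (Ψ (maximalIdeal A) (ω⟦(0 : ℤ)⟧) θ ((Dual.inD A (A ⧸ q))⟦n⟧)) from
      fun n => this (n.toNat + 1) n (by omega)
    intro m
    induction m with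
    | zero =>
      intro n hn0
      refine bijective_of_subsingleton _ _ θ (subsingleton_L_neg _ _ n (by omega)) ?_
      have := Normal.subsingleton_E_pos hω hn (A ⧸ q) (-n) (by omega)
      exact (shiftedE (A ⧸ q) n).symm.toEquiv.subsingleton
    | succ m ihm =>
      intro n hnm
      by_cases hlt : n < m
      · exact ihm n hlt
      let T := (Pretriangulated.Triangle.shiftFunctor (Dual.D A) n).obj T₀
      have hT : T ∈ distTriang (Dual.D A) := Pretriangulated.Triangle.shift_distinguished T₀ hT₀ n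
      let c : A := (((n.negOnePow : ℤˣ) : ℤ) : A) * x
      have hc : c ∈ maximalIdeal A := Ideal.mul_mem_left _ _ hxm
      have hmor : T.mor₁ = c • 𝟙 ((Dual.inD A (A ⧸ q))⟦n⟧) := by
        change n.negOnePow • (shiftFunctor (Dual.D A) n).map
          ((DerivedCategory.singleFunctor (ModuleCat.{u} A) 0).map (x • 𝟙 (ModuleCat.of A (A ⧸ q)))) = _
        rw [Functor.map_smul, Functor.map_smul, CategoryTheory.Functor.map_id,
          CategoryTheory.Functor.map_id, Units.smul_def, ← Int.cast_smul_eq_zsmul A, smul_smul]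
      have hLc : ∀ z, TorsColim.map (maximalIdeal A) T.mor₁ z = c • z := fun z => by
        rw [hmor]
        exact LinearMap.congr_fun (TorsColim.map_smul_id _ c _) z
      have hRc : ∀ φ, Rmap (H := H) (ω⟦(0 : ℤ)⟧) T.mor₁ φ = c • φ := fun φ => by
        rw [hmor]
        exact LinearMap.ext fun h => (congrArg φ ((CategoryTheory.Linear.smul_comp _ _ _ c (𝟙 _) h).trans
          (congrArg (c • ·) (Category.id_comp h)))).trans (map_smul φ c h)
      let T' := T.invRotate
      have hT' : T' ∈ distTriang (Dual.D A) := Pretriangulated.inv_rot_of_distTriang _ hT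
      let T'' := T'.invRotate
      have hT'' : T'' ∈ distTriang (Dual.D A) := Pretriangulated.inv_rot_of_distTriang _ hT'
      have bprev : Function.Bijective (Ψ (maximalIdeal A) (ω⟦(0 : ℤ)⟧) θ T''.obj₁) :=
        bijective_congr _ _ θ ((shiftFunctorAdd' (Dual.D A) n (-1) (n - 1) (by omega)).app _)
          (ihm (n - 1) (by omega))
      have bQ1 : Function.Bijective (Ψ (maximalIdeal A) (ω⟦(0 : ℤ)⟧) θ T'.obj₁) :=
        P_shift _ _ θ hQ n (-1)
      have bQ : Function.Bijective (Ψ (maximalIdeal A) (ω⟦(0 : ℤ)⟧) θ T.obj₃) := hQ n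
      change Function.Bijective (Ψ (maximalIdeal A) (ω⟦(0 : ℤ)⟧) θ T.obj₁)
      constructor
      · rw [injective_iff_map_eq_zero]
        suffices ∀ (j : ℕ) (z : L (maximalIdeal A) T.obj₁), c ^ j • z = 0 →
            Ψ (maximalIdeal A) (ω⟦(0 : ℤ)⟧) θ T.obj₁ z = 0 → z = 0 from fun z hz => by
          obtain ⟨j, hj⟩ := TorsColim.isPowerTorsion _ _ z
          exact this j z (hj _ (Ideal.pow_mem_pow hc j)) hz
        intro j
        induction j with
        | zero => intro z hz _; simpa using hz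
        | succ j ihj =>
          intro z hz hΨ
          refine ihj z ?_ hΨ
          set k := c ^ j • z with hk
          have hck : c • k = 0 := by rw [hk, smul_smul, ← pow_succ', hz]
          have hΨk : Ψ (maximalIdeal A) (ω⟦(0 : ℤ)⟧) θ T.obj₁ k = 0 := by
            rw [hk, map_smul, hΨ, smul_zero]
          obtain ⟨u, hu⟩ := (TorsColim.exact _ hT' k).mp ((hLc k).trans hck)
          obtain ⟨w, hw⟩ := (Rexact _ hT'' (Ψ (maximalIdeal A) (ω⟦(0 : ℤ)⟧) θ T'.obj₁ u)).mp (by
            change Rmap _ T'.mor₁ _ = 0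
            rw [← natural]
            exact (congrArg _ hu).trans hΨk)
          obtain ⟨w', rfl⟩ := bprev.2 w
          rw [← natural] at hw
          rw [← hu, ← bQ1.1 hw]
          exact (TorsColim.exact _ hT'' _).mpr ⟨w', rfl⟩
      · suffices ∀ (j : ℕ) (φ : (T.obj₁ ⟶ ω⟦(0 : ℤ)⟧) →ₗ[A] H), c ^ j • φ = 0 →
            ∃ z, Ψ (maximalIdeal A) (ω⟦(0 : ℤ)⟧) θ T.obj₁ z = φ from fun φ => by
          obtain ⟨j, hj⟩ := R_torsion hω hf (A ⧸ q) n φ
          exact this j φ (hj _ (Ideal.pow_mem_pow hc j))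
        intro j
        induction j with
        | zero => intro φ hφ; exact ⟨0, by rw [map_zero, ← one_smul A φ, ← pow_zero c, hφ]⟩
        | succ j ihj =>
          intro φ hφ
          obtain ⟨z, hz⟩ := ihj (c • φ) (by rw [smul_smul, ← pow_succ, hφ])
          have hgz : TorsColim.map (maximalIdeal A) T.mor₂ z = 0 := bQ.1 (by
            rw [natural, map_zero]
            change Rmap _ T.mor₂ (Ψ _ _ θ T.obj₁ z) = 0
            rw [hz, ← hRc φ]
            exact (Rexact _ hT _).mpr ⟨φ, rfl⟩)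
          obtain ⟨z', hz'⟩ := (TorsColim.exact _ hT z).mp hgz
          obtain ⟨ψ, hψ⟩ := (Rexact _ hT' (φ - Ψ (maximalIdeal A) (ω⟦(0 : ℤ)⟧) θ T.obj₁ z')).mp (by
            change Rmap _ T.mor₁ _ = 0
            rw [hRc, smul_sub, ← hz, ← map_smul, ← hLc z']
            exact sub_eq_zero.mpr (congrArg _ hz'.symm))
          obtain ⟨y, rfl⟩ := bQ1.2 ψ
          refine ⟨z' + (show L (maximalIdeal A) T.obj₁ from TorsColim.map (maximalIdeal A) T'.mor₁ y), ?_⟩
          rw [map_add]
          exact (congrArg (Ψ (maximalIdeal A) (ω⟦(0 : ℤ)⟧) θ T.obj₁ z' + ·)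
            ((natural _ _ θ T'.mor₁ y).trans hψ)).trans (add_sub_cancel _ _)
  intro M _ _ _
  exact from_primes M fun r _ => prime r

/-- bounded complexes with finite cohomology -/
theorem P_bounded (X : Dual.D A) (a b : ℤ) (hge : X.IsGE a) (hle : X.IsLE b)
    (hX : ∀ i, Module.Finite A (Dual.HD A X i)) : P (maximalIdeal A) (ω⟦(0 : ℤ)⟧) θ X := by
  have : Module.Injective A H := hf.isInjective
  refine Criterion.bounded_induction (P := P (maximalIdeal A) (ω⟦(0 : ℤ)⟧) θ)
    (fun X hX => P_of_isZero _ _ θ hX) (fun X Y e h => P_congr _ _ θ e h)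
    (fun T hT h₁ h₃ => P_mid _ _ θ hT h₁ h₃) (fun q M hM => ?_) X a b hge hle hX
  exact P_congr _ _ θ
    (((DerivedCategory.singleFunctors (ModuleCat.{u} A)).shiftIso (-q) q 0 (by omega)).app M)
    (P_shift _ _ θ (P_finite θ hω hn hf hθ M) (-q))

omit hθ in
/-- local duality for finite modules -/
theorem nonempty_H_equiv (M : Type u) [AddCommGroup M] [Module A M] [Module.Finite A M] (i : ℕ) :
    Nonempty (_root_.LocCoh.H (maximalIdeal A) i M ≃ₗ[A]
      ((Dual.inD A M ⟶ ω⟦(-(i : ℤ))⟧) →ₗ[A] H)) := by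
  obtain ⟨θ, hθ⟩ := Trace.exists_trace hω hn hf
  exact ⟨(LocCompare.equiv (maximalIdeal A) i M).trans ((LinearEquiv.ofBijective _
    (P_finite θ hω hn hf hθ M i)).trans (LinearEquiv.congrLeft H A (shiftedE M (i : ℤ)).symm))⟩

end Groth.Agent.DualCx.LocalDuality
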