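import Groth.Agent.DualCx.Shriek
import Groth.Agent.DRing.DerivedAdj

/-!
# Existence of upper shriek for bounded below complexes
-/

universe u

open CategoryTheory CategoryTheory.Limits

attribute [local instance] HasDerivedCategory.standard

namespace Groth.Agent.DualCx.Shriek

open Devissage (E pre)

variable {A B : Type u} [CommRing A] [CommRing B] [Algebra A B]

/-- a universal counit gives a representing object -/
noncomputable def ofCounit {ω : Dual.D A} {ω' : Dual.D B}
    (c : (DRing.restrictD (algebraMap A B)).obj ω' ⟶ ω)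
    (hc : ∀ X : Dual.D B, Function.Bijective
      fun g : X ⟶ ω' => (DRing.restrictD (algebraMap A B)).map g ≫ c) : Rep ω ω' where
  e M _ _ _ _ i :=
    (((shAdj (A := B) i).homAddEquiv _ _).symm.trans
      ((AddEquiv.ofBijective
          (AddMonoidHom.mk' (fun g => (DRing.restrictD (algebraMap A B)).map g ≫ c) fun g g' => by
            rw [Functor.map_add, Preadditive.add_comp]) (hc _)).trans
        ((Hom.congr A (resShiftIso M i) (Iso.refl ω)).toAddEquiv.trans
          ((shAdj i).homAddEquiv _ _))))
  natural M N _ _ _ _ _ _ _ _ f i x := by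
    have hres : (DRing.restrictD (algebraMap A B)).map
        (((DerivedCategory.singleFunctor (ModuleCat.{u} B) 0).map (ModuleCat.ofHom f))⟦-i⟧') ≫
          (resShiftIso N i).hom =
        (resShiftIso M i).hom ≫ ((DerivedCategory.singleFunctor (ModuleCat.{u} A) 0).map
          (ModuleCat.ofHom (f.restrictScalars A)))⟦-i⟧' := by
      have hr : (ModuleCat.restrictScalars (algebraMap A B)).map (ModuleCat.ofHom f) ≫ (resIso N).hom =
          (resIso M).hom ≫ ModuleCat.ofHom (f.restrictScalars A) := rfl
      have h0 := ((ModuleCat.restrictScalars (algebraMap A B)).mapDerivedCategorySingleFunctor 0).hom.naturality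
        (ModuleCat.ofHom f)
      have h1 := ((DRing.restrictD (algebraMap A B)).commShiftIso (-i)).hom.naturality
        ((DerivedCategory.singleFunctor (ModuleCat.{u} B) 0).map (ModuleCat.ofHom f))
      simp only [resShiftIso, Iso.trans_hom, Iso.app_hom, Functor.mapIso_hom, Category.assoc]
      erw [reassoc_of% h1]
      rw [← Functor.map_comp]
      congr 1
      erw [← Functor.map_comp]
      congr 1
      erw [reassoc_of% h0]
      rw [Category.assoc]
      congr 1
      rw [← Functor.map_comp, ← Functor.map_comp, hr]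
    have hc : ∀ {X X' : Dual.D A} (e : X ≅ X') (g : X ⟶ ω),
        (Hom.congr A e (Iso.refl ω)).toAddEquiv g = e.inv ≫ g := fun e g => by
      simp [Hom.congr, CategoryTheory.Linear.homCongr_apply]
    simp only [AddEquiv.trans_apply, Adjunction.homAddEquiv_apply, Adjunction.homAddEquiv_symm_apply]
    erw [hc, hc]
    change (shAdj i).homEquiv _ _ (_ ≫ (DRing.restrictD (algebraMap A B)).map
        (((shAdj i).homEquiv _ _).symm
          ((DerivedCategory.singleFunctor (ModuleCat.{u} B) 0).map (ModuleCat.ofHom f) ≫ x)) ≫ c) =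
      (DerivedCategory.singleFunctor (ModuleCat.{u} A) 0).map
        (ModuleCat.ofHom (f.restrictScalars A)) ≫ _
    rw [Adjunction.homEquiv_naturality_left_symm, Functor.map_comp,
      ← Adjunction.homEquiv_naturality_left]
    congr 1
    rw [Iso.inv_comp_eq]
    simp only [Category.assoc]
    rw [← Category.assoc (resShiftIso M i).hom, ← hres]
    simp only [Category.assoc, Iso.hom_inv_id_assoc]
    rfl

/-- coextension of a complex -/
noncomputable abbrev coextC (I : DRing.Cx A) : DRing.Cx B :=
  haveI := (ModuleCat.restrictCoextendScalarsAdj (algebraMap A B)).right_adjoint_additive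
  ((ModuleCat.coextendScalars.{u, u, u} (algebraMap A B)).mapHomologicalComplex (ComplexShape.up ℤ)).obj I

/-- the counit of coextension -/
noncomputable def counitC (I : DRing.Cx A) :
    ((ModuleCat.restrictScalars (algebraMap A B)).mapHomologicalComplex (ComplexShape.up ℤ)).obj
      (coextC (B := B) I) ⟶ I where
  f n := (ModuleCat.restrictCoextendScalarsAdj (algebraMap A B)).counit.app (I.X n)
  comm' i j _ := ((ModuleCat.restrictCoextendScalarsAdj (algebraMap A B)).counit.naturality (I.d i j)).symm

/-- the derived counit -/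
noncomputable def counitD (I : DRing.Cx A) :
    (DRing.restrictD (algebraMap A B)).obj (DRing.toD (coextC (B := B) I)) ⟶ DRing.toD I :=
  (ModuleCat.restrictScalars (algebraMap A B)).mapDerivedCategoryFactors.hom.app _ ≫
    DerivedCategory.Q.map (counitC I)

theorem counit_bijective (I : DRing.Cx A) (hI : Tower.GoodI I) (X : Dual.D B) :
    Function.Bijective fun g : X ⟶ DRing.toD (coextC (B := B) I) =>
      (DRing.restrictD (algebraMap A B)).map g ≫ counitD I := by
  let F := ModuleCat.restrictScalars.{u} (algebraMap A B)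
  let G := ModuleCat.coextendScalars.{u, u, u} (algebraMap A B)
  let adj : F ⊣ G := ModuleCat.restrictCoextendScalarsAdj (algebraMap A B)
  have : G.Additive := adj.right_adjoint_additive
  let J : DRing.Cx B := (G.mapHomologicalComplex (ComplexShape.up ℤ)).obj I
  have hIK : I.IsKInjective := hI.isKInjective
  have hJK : J.IsKInjective := by
    refine Tower.GoodI.isKInjective (Y := J) ⟨fun n => ?_, ?_⟩
    · have := hI.1 n
      exact adj.map_injective _ this
    · obtain ⟨b, hb⟩ := hI.2
      refine ⟨b, ?_⟩
      rw [CochainComplex.isStrictlyGE_iff]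
      exact fun j hj => G.map_isZero (I.isZero_of_isStrictlyGE b j hj)
  let adjK := DRing.DerivedAdj.mapHomotopyCategoryAdj adj
  let qI := (HomotopyCategory.quotient (ModuleCat.{u} A) (ComplexShape.up ℤ)).obj I
  let ρ := F.mapDerivedCategoryFactorsh
  let ω' : Dual.D B := DerivedCategory.Qh.obj ((G.mapHomotopyCategory (ComplexShape.up ℤ)).obj qI)
  let eω : DerivedCategory.Qh.obj qI ≅ DRing.toD I := (DerivedCategory.quotientCompQhIso _).app I
  let c : (DRing.restrictD (algebraMap A B)).obj ω' ⟶ DRing.toD I :=
    ρ.hom.app _ ≫ DerivedCategory.Qh.map (adjK.counit.app qI) ≫ eω.hom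
  let eJ : ω' ≅ DRing.toD J := (DerivedCategory.quotientCompQhIso _).app J
  have hcJ : c = (DRing.restrictD (algebraMap A B)).map eJ.hom ≫ counitD I := by
    have h2 : DerivedCategory.Qh.map (adjK.counit.app qI) ≫ eω.hom =
        (DerivedCategory.quotientCompQhIso _).hom.app _ ≫ DerivedCategory.Q.map (counitC (B := B) I) :=
      (DerivedCategory.quotientCompQhIso (ModuleCat.{u} A)).hom.naturality (counitC (B := B) I)
    simp only [c, h2, counitD]
    have h3 := F.mapDerivedCategoryFactorsh_hom_app J
    erw [reassoc_of% h3]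
    have h4 : (F.mapHomotopyCategoryFactors (ComplexShape.up ℤ)).inv.app J = 𝟙 _ := rfl
    simp only [h4, Category.assoc]
    erw [CategoryTheory.Functor.map_id, Category.id_comp]
    simp only [← Category.assoc]
    congr 1
    simp only [Category.assoc]
    erw [CategoryTheory.Functor.map_id, Category.id_comp]
    exact (Category.comp_id _).trans (Category.id_comp _).symm
  have key0 : ∀ X' : HomotopyCategory (ModuleCat.{u} B) (ComplexShape.up ℤ),
      Function.Bijective fun g : DerivedCategory.Qh.obj X' ⟶ ω' =>
        (DRing.restrictD (algebraMap A B)).map g ≫ c := fun X' => by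
    refine (Function.Bijective.of_comp_iff _
      (CochainComplex.IsKInjective.Qh_map_bijective X' J)).mp ?_
    let e1 := (adjK.homEquiv X' qI).symm
    let e2 : (((F.mapHomotopyCategory (ComplexShape.up ℤ)).obj X') ⟶ qI) → _ := fun g =>
      ρ.hom.app X' ≫ DerivedCategory.Qh.map g ≫ eω.hom
    have h2 : Function.Bijective e2 :=
      (Iso.homFromEquiv (ρ.app X').symm).bijective.comp ((eω.homToEquiv).bijective.comp
        (CochainComplex.IsKInjective.Qh_map_bijective _ I))
    refine (congrArg Function.Bijective (funext fun g => ?_)).mpr (h2.comp e1.bijective)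
    change (DRing.restrictD (algebraMap A B)).map (DerivedCategory.Qh.map g) ≫ c =
      ρ.hom.app X' ≫ DerivedCategory.Qh.map ((adjK.homEquiv X' qI).symm g) ≫ eω.hom
    rw [Adjunction.homEquiv_counit, Functor.map_comp, Category.assoc]
    exact ρ.hom.naturality_assoc g _
  have : DerivedCategory.Qh.EssSurj (C := HomotopyCategory (ModuleCat.{u} B) (ComplexShape.up ℤ)) :=
    Localization.essSurj _ (HomotopyCategory.quasiIso (ModuleCat.{u} B) (ComplexShape.up ℤ))
  let eX : DerivedCategory.Qh.obj (DerivedCategory.Qh.objPreimage X) ≅ X :=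
    DerivedCategory.Qh.objObjPreimageIso X
  have h : (fun g : X ⟶ DRing.toD J => (DRing.restrictD (algebraMap A B)).map g ≫ counitD I) =
      (fun h => (DRing.restrictD (algebraMap A B)).map eX.inv ≫ h) ∘
        (fun g => (DRing.restrictD (algebraMap A B)).map g ≫ c) ∘ fun g => eX.hom ≫ g ≫ eJ.inv := by
    funext g
    simp only [Function.comp_apply, hcJ]
    rw [← Functor.map_comp_assoc, eX.inv_hom_id_assoc, ← Functor.map_comp_assoc, Category.assoc,
      eJ.inv_hom_id, Category.comp_id]
  change Function.Bijective fun g : X ⟶ DRing.toD J => (DRing.restrictD (algebraMap A B)).map g ≫ counitD I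
  rw [h]
  refine Function.Bijective.comp ?_ ((key0 _).comp ⟨fun g g' h => ?_,
    fun g => ⟨eX.inv ≫ g ≫ eJ.hom, by simp⟩⟩)
  · exact ⟨fun g g' h => (cancel_epi _).mp h,
      fun g => ⟨(DRing.restrictD (algebraMap A B)).map eX.hom ≫ g, by
        simp only; rw [← Functor.map_comp_assoc, eX.inv_hom_id, CategoryTheory.Functor.map_id, Category.id_comp]⟩⟩
  · exact (cancel_mono eJ.inv).mp ((cancel_epi eX.hom).mp h)

/-- bounded below complexes have a universal counit -/
theorem nonempty_rep (ω : Dual.D A) (a : ℤ) [ω.IsGE a] :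
    ∃ ω' : Dual.D B, Nonempty (Rep (A := A) (B := B) ω ω') := by
  obtain ⟨I, hI, ⟨eI⟩⟩ := Residue.exists_rep (ω := ω) (a := a) fun i hi =>
    (DRing.DBasic.subsingleton_HD_iff_isZero ω i).mpr (DerivedCategory.isZero_of_isGE ω a i hi)
  refine ⟨DRing.toD (coextC (B := B) I), ⟨ofCounit (counitD I ≫ eI.hom) fun X => ?_⟩⟩
  refine (congrArg Function.Bijective (funext fun g : X ⟶ DRing.toD (coextC (B := B) I) => ?_)).mp
    ((eI.homToEquiv (Z := (DRing.restrictD (algebraMap A B)).obj X)).bijective.comp (counit_bijective I hI X))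
  exact (Category.assoc ((DRing.restrictD (algebraMap A B)).map g) (counitD I) eI.hom)

/-- a dualizing complex for a finite algebra -/
theorem exists_isDualizing [IsNoetherianRing A] [IsNoetherianRing B] [Module.Finite A B]
    {ω : Dual.D A} (hω : Dual.IsDualizing A ω) : ∃ ω' : Dual.D B, Dual.IsDualizing B ω' := by
  obtain ⟨a, ha⟩ := Dimfun.exists_isGE hω
  obtain ⟨ω', ⟨S⟩⟩ := nonempty_rep (B := B) ω a
  exact ⟨ω', isDualizing S hω⟩

end Groth.Agent.DualCx.Shriek
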