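import Groth.Agent.DualCx.Locus
import Groth.Agent.EGA4Lib.SkFibers
import Groth.Agent.GeomFieldLib.CMTensor
import Groth.Prelude.Def_DualSch
import Mathlib.AlgebraicGeometry.Modules.Tilde
import Mathlib.AlgebraicGeometry.Modules.Sheaf

/-!
# Stalks of the cohomology sheaves of a dualizing complex on a scheme
-/

universe u

open CategoryTheory CategoryTheory.Limits AlgebraicGeometry

attribute [local instance] HasDerivedCategory.standard

namespace Groth.Agent.DualCx.SchStalk

theorem nonempty_homology_iso {C D : Type*} [Category C] [Abelian C] [HasDerivedCategory C] [Category D]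
    [Abelian D] [HasDerivedCategory D] (F : C ⥤ D) [F.Additive] [PreservesFiniteLimits F]
    [PreservesFiniteColimits F] (K : DerivedCategory C) (i : ℤ) :
    Nonempty ((DerivedCategory.homologyFunctor D i).obj (F.mapDerivedCategory.obj K) ≅
      F.obj ((DerivedCategory.homologyFunctor C i).obj K)) := by
  obtain ⟨L, ⟨e⟩⟩ : ∃ L : CochainComplex C ℤ, Nonempty (DerivedCategory.Q.obj L ≅ K) :=
    ⟨_, ⟨DerivedCategory.Q.objObjPreimageIso K⟩⟩
  exact ⟨(DerivedCategory.homologyFunctor D i).mapIso (F.mapDerivedCategory.mapIso e.symm ≪≫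
      F.mapDerivedCategoryFactors.app L) ≪≫ (DerivedCategory.homologyFunctorFactors D i).app _ ≪≫
    (L.sc i).mapHomologyIso F ≪≫ F.mapIso (((DerivedCategory.homologyFunctorFactors C i).app L).symm ≪≫
      (DerivedCategory.homologyFunctor C i).mapIso e)⟩

theorem nontrivial_iff_of_iso {G H : AddCommGrpCat.{u}} (e : G ≅ H) : Nontrivial G ↔ Nontrivial H :=
  e.addCommGroupIsoToAddEquiv.toEquiv.nontrivial_congr

theorem cm_iff_of_ringEquiv {R R' : Type u} [CommRing R] [CommRing R'] (e : R ≃+* R') :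
    LocCoh.IsCohenMacaulayLocalRing R ↔ LocCoh.IsCohenMacaulayLocalRing R' := by
  suffices h : ∀ {R R' : Type u} [CommRing R] [CommRing R'] (e : R ≃+* R'),
      LocCoh.IsCohenMacaulayLocalRing R → LocCoh.IsCohenMacaulayLocalRing R' from ⟨h e, h e.symm⟩
  intro R R' _ _ e hR
  have := e.isLocalRing
  have := isNoetherianRing_of_ringEquiv _ e
  obtain ⟨h1, h2⟩ := EGA4Lib.depth_supportDim_ringEquiv e
  exact { supportDim_eq_depth := by rw [← h1, ← h2]; exact hR.supportDim_eq_depth }

variable {A : Type u} [CommRing A]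

theorem nontrivial_stalk_tilde {R : CommRingCat.{u}} (M : ModuleCat.{u} R) (p : PrimeSpectrum R) :
    Nontrivial ↑(((tilde.functor R).obj M).presheaf.stalk p) ↔ ¬ Dimfun.Z p M := by
  rw [Dimfun.Z_iff_localized, not_subsingleton_iff_nontrivial]
  have : IsLocalizedModule p.asIdeal.primeCompl (tilde.toStalk (R := R) M p).hom := inferInstance
  exact (IsLocalizedModule.iso p.asIdeal.primeCompl
    (tilde.toStalk (R := R) M p).hom).toEquiv.nontrivial_congr.symm

theorem cm_iff_existsUnique {ω : Dual.D A} (hω : Dual.IsDualizing A ω) (p : PrimeSpectrum A) :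
    LocCoh.IsCohenMacaulayLocalRing (Localization.AtPrime p.1) ↔
      ∃! i : ℤ, ¬ Dimfun.Z p (Dual.HD A ω i) := by
  have := hω.isNoetherianRing
  rw [Locus.cmRing_iff p.1, Normalized.cm_iff hω p A]
  constructor
  · rintro ⟨j₀, hj⟩
    obtain ⟨Q, hQ, hQp⟩ := Ideal.exists_minimalPrimes_le (bot_le : (⊥ : Ideal A) ≤ p.1)
    let q : PrimeSpectrum A := ⟨Q, hQ.1.1⟩
    have hd := (Dimfun.not_Z_HD_iff_minimal hω q hQ (Dimfun.deg hω q)).mpr rfl
    have hz : ∀ j, j ≠ j₀ → Dimfun.Z p (Dual.HD A ω j) := fun j h =>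
      Dimfun.Z_equiv (Cx.homUnitEquivShift ω j) (hj j h)
    refine ⟨Dimfun.deg hω q, fun h => hd fun e => ?_, fun i hi => ?_⟩
    · obtain ⟨s, hs, he⟩ := h e
      exact ⟨s, fun h => hs (hQp h), he⟩
    · have h1 : Dimfun.deg hω q = j₀ := by
        by_contra hne
        exact hd fun e => by
          obtain ⟨s, hs, he⟩ := hz _ hne e
          exact ⟨s, fun h => hs (hQp h), he⟩
      rw [h1]
      by_contra hne
      exact hi (hz i hne)
  · rintro ⟨i, -, hu⟩
    exact ⟨i, fun j hj => Dimfun.Z_equiv (Cx.homUnitEquivShift ω j).symm (by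
      by_contra h
      exact hj (hu j h))⟩

variable {X : Scheme.{u}}

/-- the statement on an affine chart -/
theorem chart [∀ (U : Scheme.{u}) (j : U ⟶ X) [IsOpenImmersion j], PreservesFiniteLimits (Scheme.Modules.restrictFunctor j)]
    [∀ (R : CommRingCat.{u}), PreservesFiniteLimits (tilde.functor R)] {K : DCoh.D X}
    (j : Spec (CommRingCat.of A) ⟶ X) [IsOpenImmersion j] {ω : Dual.D A}
    (e : (DCoh.restrictD j).obj K ≅ (DCoh.tildeD (CommRingCat.of A)).obj ω) (p : PrimeSpectrum A) (i : ℤ) :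
    Nontrivial ((DCoh.HD K i).presheaf.stalk (j.base p)) ↔ ¬ Dimfun.Z p (Dual.HD A ω i) := by
  obtain ⟨e1⟩ := nonempty_homology_iso (Scheme.Modules.restrictFunctor j) K i
  haveI : (tilde.functor (CommRingCat.of A)).Additive :=
    Functor.additive_of_preserves_binary_products _
  haveI : PreservesFiniteColimits (tilde.functor (CommRingCat.of A)) := by
    have : PreservesColimitsOfSize.{0, 0} (tilde.functor (CommRingCat.of A)) :=
      (tilde.adjunction (R := CommRingCat.of A)).leftAdjoint_preservesColimits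
    exact PreservesColimitsOfSize0.preservesFiniteColimits _
  obtain ⟨e2⟩ := nonempty_homology_iso (tilde.functor (CommRingCat.of A)) ω i
  let g := Scheme.Modules.toPresheaf (Spec (CommRingCat.of A)) ⋙ TopCat.Presheaf.stalkFunctor _ p
  let eg := g.mapIso (e1.symm ≪≫ (DerivedCategory.homologyFunctor _ i).mapIso e ≪≫ e2)
  refine Iff.trans ?_ (nontrivial_stalk_tilde (R := CommRingCat.of A) _ p)
  exact nontrivial_iff_of_iso (((Scheme.Modules.restrictStalkNatIso j p).app (DCoh.HD K i)).symm ≪≫ eg)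

theorem cm_stalk_iff (j : Spec (CommRingCat.of A) ⟶ X) [IsOpenImmersion j] (p : PrimeSpectrum A) :
    LocCoh.IsCohenMacaulayLocalRing (X.presheaf.stalk (j.base p)) ↔
      LocCoh.IsCohenMacaulayLocalRing (Localization.AtPrime p.1) :=
  cm_iff_of_ringEquiv (((asIso (Scheme.Hom.stalkMap j p)) ≪≫
    Spec.stalkIso (CommRingCat.of A) p).commRingCatIsoToRingEquiv)

end Groth.Agent.DualCx.SchStalk
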