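import Groth.Agent.DualCx.BaseChange

/-!
# Flat base changes compose
-/

universe u

open CategoryTheory CategoryTheory.Limits

attribute [local instance] HasDerivedCategory.standard

namespace Groth.Agent.DualCx.Comp

open BaseChange (ext FD extC)

variable (A B C : Type u) [CommRing A] [CommRing B] [CommRing C] [Algebra A B] [Algebra B C]
  [Algebra A C] [IsScalarTower A B C]

/-- extension of scalars along a composite -/
noncomputable def extIso : ext A C ≅ ext A B ⋙ ext B C :=
  eqToIso (congrArg ModuleCat.extendScalars.{u, u, u} (IsScalarTower.algebraMap_eq A B C)) ≪≫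
    ModuleCat.extendScalarsComp.{u, u} (algebraMap A B) (algebraMap B C)

variable [Module.Flat A B] [Module.Flat B C] [Module.Flat A C]

/-- `FD` along a composite -/
theorem nonempty_iso (K : Dual.D A) :
    Nonempty ((FD A C).obj K ≅ (FD B C).obj ((FD A B).obj K)) := by
  obtain ⟨L, ⟨e⟩⟩ : ∃ L : DRing.Cx A, Nonempty (DRing.toD L ≅ K) :=
    ⟨_, ⟨DerivedCategory.Q.objObjPreimageIso K⟩⟩
  exact ⟨(FD A C).mapIso e.symm ≪≫ ((ext A C).mapDerivedCategoryFactors.app L) ≪≫
    DerivedCategory.Q.mapIso ((NatIso.mapHomologicalComplex (extIso A B C) (ComplexShape.up ℤ)).app L) ≪≫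
    ((ext B C).mapDerivedCategoryFactors.app ((extC A B).obj L)).symm ≪≫
    (FD B C).mapIso (((ext A B).mapDerivedCategoryFactors.app L).symm ≪≫ (FD A B).mapIso e)⟩

end Groth.Agent.DualCx.Comp
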