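import Groth.Agent.DualCx.FlatBC
import Mathlib.RingTheory.Localization.BaseChange
import Mathlib.RingTheory.Localization.AtPrime.Basic

/-!
# Base change of dualizing complexes along flat maps with extended maximal ideals
-/

universe u

open CategoryTheory CategoryTheory.Limits
open scoped TensorProduct

attribute [local instance] HasDerivedCategory.standard

namespace Groth.Agent.DualCx.Extended

open BaseChange (FD)
open Devissage (E)

variable {A B : Type u} [CommRing A] [CommRing B] [Algebra A B] [Module.Flat A B]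
  [IsNoetherianRing B]

/-- base change is dualizing when every maximal ideal upstairs is extended -/
theorem isDualizing {ω : Dual.D A} (hω : Dual.IsDualizing A ω)
    (h : ∀ m : Ideal B, m.IsMaximal → (m.comap (algebraMap A B)).map (algebraMap A B) = m) :
    Dual.IsDualizing B ((FD A B).obj ω) := by
  have := hω.isNoetherianRing
  obtain ⟨a, b, hab⟩ := hω.finite_injective_dimension
  obtain ⟨a', b', hc⟩ := Residue.exists_cohomology_bounds hω
  have : ω.IsGE a' := (DerivedCategory.isGE_iff ω a').mpr fun i hi =>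
    (DRing.DBasic.subsingleton_HD_iff_isZero ω i).mp (hc i (Or.inl hi))
  refine FlatBC.isDualizing hω b fun i hi m hm => ?_
  obtain ⟨e⟩ := FlatBC.nonempty_quotient (B := B) (m.comap (algebraMap A B))
  exact FlatBC.subsingleton_of_base ω a' _ _
    (e.trans (Submodule.quotEquivOfEq _ _ (h m hm))) i (hab _ i (Or.inr hi))

theorem isDualizing_LBaseChange [DRing.HasLBaseChange (algebraMap A B)] {ω : Dual.D A}
    (hω : Dual.IsDualizing A ω)
    (h : ∀ m : Ideal B, m.IsMaximal → (m.comap (algebraMap A B)).map (algebraMap A B) = m) :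
    Dual.IsDualizing B ((DRing.LBaseChange (algebraMap A B)).obj ω) := by
  obtain ⟨e⟩ := FlatBC.nonempty_LBaseChange (B := B) ω
  exact FlatBC.isDualizing_of_iso e.symm (isDualizing hω h)

omit [Module.Flat A B] [IsNoetherianRing B] in
/-- a module killed by a maximal ideal is its own localisation -/
theorem isLocalizedModule_id (m : Ideal A) [m.IsMaximal] (N : Type*) [AddCommGroup N] [Module A N]
    (hN : ∀ a ∈ m, ∀ x : N, a • x = 0) :
    IsLocalizedModule m.primeCompl (LinearMap.id : N →ₗ[A] N) := by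
  have hu : ∀ s : m.primeCompl, IsUnit (algebraMap A (Module.End A N) s) := by
    intro s
    obtain ⟨t, c, hc, ht⟩ := Ideal.IsMaximal.exists_inv ‹m.IsMaximal› s.2
    have key : ∀ x : N, (t * (s : A)) • x = x := fun x => by
      have := congrArg (fun r : A => r • x) ht
      simpa [add_smul, hN c hc x] using this
    rw [Module.End.isUnit_iff]
    refine Function.bijective_iff_has_inverse.mpr ⟨fun x => t • x, fun x => ?_, fun x => ?_⟩
    · simp only [Module.algebraMap_end_apply, smul_smul, key]
    · simp only [Module.algebraMap_end_apply, smul_smul, mul_comm (s : A) t, key]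
  exact ⟨hu, fun y => ⟨(y, 1), by simp⟩, fun {x₁ x₂} h => ⟨1, by simpa using h⟩⟩

omit [Module.Flat A B] [IsNoetherianRing B] in
theorem nonempty_linearEquiv_baseChange (m : Ideal A) [m.IsMaximal] [IsLocalization.AtPrime B m]
    (N : Type*) [AddCommGroup N] [Module A N] (hN : ∀ a ∈ m, ∀ x : N, a • x = 0) :
    Nonempty (N ≃ₗ[A] B ⊗[A] N) :=
  have := isLocalizedModule_id m N hN
  ⟨IsLocalizedModule.linearEquiv m.primeCompl (LinearMap.id : N →ₗ[A] N)
    (TensorProduct.mk A B N 1)⟩

/-- the residue field has `Ext` in a single degree, at every maximal ideal -/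
theorem residue_single_maximal {ω : Dual.D A} (hω : Dual.IsDualizing A ω) (m : Ideal A)
    [m.IsMaximal] [IsLocalization.AtPrime B m] :
    ∃ n : ℤ, (∀ i : ℤ, i ≠ n → Subsingleton (E (A ⧸ m) ω i)) ∧
      Nonempty (E (A ⧸ m) ω n ≃ₗ[A] (A ⧸ m)) := by
  have := hω.isNoetherianRing
  have : IsLocalRing B := IsLocalization.AtPrime.isLocalRing B m
  have hωB := isDualizing (B := B) hω fun M _ => IsLocalization.map_comap m.primeCompl B M
  obtain ⟨n, hvan, ⟨eκ⟩⟩ := Residue.residue_single hωB
  obtain ⟨a', b', hc⟩ := Residue.exists_cohomology_bounds hω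
  have : ω.IsGE a' := (DerivedCategory.isGE_iff ω a').mpr fun i hi =>
    (DRing.DBasic.subsingleton_HD_iff_isZero ω i).mp (hc i (Or.inl hi))
  have hkillQ : ∀ a ∈ m, ∀ x : A ⧸ m, a • x = 0 := fun a ha x => by
    obtain ⟨x, rfl⟩ := Submodule.Quotient.mk_surjective m x
    rw [← Submodule.Quotient.mk_smul, Submodule.Quotient.mk_eq_zero]
    exact Ideal.mul_mem_right _ _ ha
  have hkillE : ∀ i, ∀ a ∈ m, ∀ x : E (A ⧸ m) ω i, a • x = 0 := fun i a ha x => by
    have h0 : a • (LinearMap.id : A ⧸ m →ₗ[A] A ⧸ m) = (0 : A) • LinearMap.id :=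
      LinearMap.ext fun y => by simp [hkillQ a ha y]
    rw [← Devissage.pre_id i x, ← Devissage.pre_smul, h0, Devissage.pre_smul, zero_smul]
  obtain ⟨eq⟩ := FlatBC.nonempty_quotient (B := B) m
  let eQ : B ⊗[A] (A ⧸ m) ≃ₗ[B] IsLocalRing.ResidueField B :=
    eq.trans (Submodule.quotEquivOfEq _ _ (IsLocalization.AtPrime.map_eq_maximalIdeal m B))
  let eE : ∀ i, B ⊗[A] E (A ⧸ m) ω i ≃ₗ[B]
      E (IsLocalRing.ResidueField B) ((FD A B).obj ω) i := fun i =>
    (FlatBC.homLEquiv ω a' (A ⧸ m) i).trans (Devissage.congrE eQ _ i)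
  refine ⟨n, fun i hi => ?_, ?_⟩
  · obtain ⟨e⟩ := nonempty_linearEquiv_baseChange (B := B) m _ (hkillE i)
    have := hvan i hi
    exact (e.toEquiv.trans (eE i).toEquiv).subsingleton
  · obtain ⟨e⟩ := nonempty_linearEquiv_baseChange (B := B) m _ (hkillE n)
    obtain ⟨e'⟩ := nonempty_linearEquiv_baseChange (B := B) m _ hkillQ
    exact ⟨e.trans ((((eE n).trans eκ).trans eQ.symm).restrictScalars A |>.trans e'.symm)⟩

end Groth.Agent.DualCx.Extended
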