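import Groth.Agent.DualCx.Normalized
import Groth.Agent.DRing.PCTools
import Groth.Agent.Depth.Basic

/-!
# The module `H^{-d}(ω)` of a normalized dualizing complex
-/

universe u

open CategoryTheory CategoryTheory.Limits IsLocalRing
open scoped TensorProduct

attribute [local instance] HasDerivedCategory.standard

namespace Groth.Agent.DualCx.TopModule

open Devissage (E)
open Dimfun (B Z deg)

variable {A : Type u} [CommRing A] [IsLocalRing A] [IsNoetherianRing A]

/-- `H^{-h}` of a complex bounded below by `-h` with vanishing `Hom(κ, -)` off degree zero has depth `≥ min 2 h` -/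
theorem le_depth {ω : Dual.D A} (hω : Dual.IsDualizing A ω) (hn : Dual.IsNormalized A ω) (h : ℕ)
    (hge : ∀ i : ℤ, i < -(h : ℤ) → Subsingleton (Dual.HD A ω i)) (k : ℕ) (hk : k ≤ 2) (hkh : k ≤ h) :
    (k : ℕ∞) ≤ LocCoh.depth A (Dual.HD A ω (-(h : ℤ))) := by
  have hfin := hω.finite_cohomology (-(h : ℤ))
  rw [LocCoh.depth, Depth.le_idealDepth_iff_ext]
  intro i hi
  obtain ⟨T, hT, rfl, hl, hr, e1, e3⟩ := Devissage.exists_split ω (-(h : ℤ))
  have hsingle : ∀ j, j ≠ -(h : ℤ) → Subsingleton (Dual.HD A T.obj₁ j) := fun j hj => by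
    by_cases hlt : j < -(h : ℤ)
    · obtain ⟨e⟩ := e1 j (by omega)
      have := hge j hlt
      exact e.toEquiv.subsingleton
    · exact hl j (by omega)
  obtain ⟨eT⟩ := Devissage.nonempty_single T.obj₁ (-(h : ℤ)) hsingle
  obtain ⟨eH⟩ := e1 (-(h : ℤ)) le_rfl
  have hge3 : T.obj₃.IsGE (-(h : ℤ) + 1) := (DerivedCategory.isGE_iff _ _).mpr fun j hj =>
    (DRing.DBasic.subsingleton_HD_iff_isZero _ j).mp (hr j (by omega))
  let j : ℤ := (i : ℤ) - h
  have hκ : (Dual.inD A (A ⧸ maximalIdeal A)).IsLE 0 :=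
    inferInstanceAs (((DerivedCategory.singleFunctor (ModuleCat.{u} A) 0).obj _).IsLE 0)
  have h3 : Subsingleton (Dual.inD A (A ⧸ maximalIdeal A) ⟶ T.obj₃⟦j - 1⟧) := by
    have : (T.obj₃⟦j - 1⟧).IsGE (-(h : ℤ) + 1 - (j - 1)) :=
      DerivedCategory.TStructure.t.isGE_shift T.obj₃ (-(h : ℤ) + 1) (j - 1) _ (by omega)
    exact subsingleton_of_forall_eq 0 fun g => DerivedCategory.TStructure.t.zero g 0
      (-(h : ℤ) + 1 - (j - 1)) (by omega)
  have h2 : Subsingleton (Dual.inD A (A ⧸ maximalIdeal A) ⟶ T.obj₂⟦j⟧) := hn j (by omega)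
  have h1 : Subsingleton (Dual.inD A (A ⧸ maximalIdeal A) ⟶ T.obj₁⟦j⟧) :=
    subsingleton_of_forall_eq 0 fun g => by
      obtain ⟨g', rfl⟩ := (Hom.exact_dδ_post A (Dual.inD A (A ⧸ maximalIdeal A)) hT (j - 1) j
        (by omega) g).mp (Subsingleton.elim _ _)
      rw [Subsingleton.elim g' 0, map_zero]
  have e : (Dual.inD A (A ⧸ maximalIdeal A) ⟶ T.obj₁⟦j⟧) ≃ₗ[A]
      E (A ⧸ maximalIdeal A) (Dual.inD A (Dual.HD A T.obj₂ (-(h : ℤ)))) (i : ℤ) :=
    (Hom.congr A (Iso.refl _) ((shiftFunctor (Dual.D A) j).mapIso (eT ≪≫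
      (shiftFunctor (Dual.D A) (- -(h : ℤ))).mapIso
        ((DerivedCategory.singleFunctor (ModuleCat.{u} A) 0).mapIso eH.toModuleIso)))).trans
      (Hom.shiftTarget A (- -(h : ℤ)) j (i : ℤ) (by omega) _ _)
  have := e.symm.toEquiv.subsingleton
  exact (Gorenstein.extEquiv (A ⧸ maximalIdeal A) (Dual.HD A T.obj₂ (-(h : ℤ))) i).toEquiv.subsingleton

variable {ω : Dual.D A} (hω : Dual.IsDualizing A ω) (hn : Dual.IsNormalized A ω)

include hω hn

/-- the localised module in the shifted degree -/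
theorem nonempty_localized (p : PrimeSpectrum A) (j i : ℤ) (h : deg hω p + i = j) :
    Nonempty (LocalizedModule p.1.primeCompl (Dual.HD A ω j) ≃ₗ[B p]
      Dual.HD (B p) (Normalized.loc hω p) i) :=
  ⟨(LocalizedModule.equivTensorProduct p.1.primeCompl (Dual.HD A ω j)).trans
    ((BaseChange.HDEquiv A (B p) ω j).trans ((Cx.homUnitEquivShift _ j).symm.trans
      ((Normalized.shiftE (B p) _ (deg hω p) i j h).symm.trans (Cx.homUnitEquivShift _ i))))⟩

theorem subsingleton_below (p : PrimeSpectrum A) (h : ℕ) (hh : p.1.height ≤ h) (i : ℤ)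
    (hi : i < -(h : ℤ)) : Subsingleton (Dual.HD (B p) (Normalized.loc hω p) i) := by
  have hdim : Module.supportDim (B p) (B p) ≤ (h : WithBot ℕ∞) := by
    rw [Module.supportDim_self_eq_ringKrullDim, IsLocalization.AtPrime.ringKrullDim_eq_height p.1 (B p)]
    exact WithBot.coe_le_coe.mpr hh
  have := Normal.subsingleton_E (Normalized.isDualizing_loc hω p) (Normalized.isNormalized_loc hω p)
    h (B p) hdim i (Or.inl hi)
  exact (Cx.homUnitEquivShift _ i).symm.toEquiv.subsingleton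

variable (d : ℕ) (hd : ringKrullDim A = d)

include hd

theorem deg_ge (p : PrimeSpectrum A) : -(d : ℤ) ≤ deg hω p := by
  have h1 : (Order.coheight p : WithBot ℕ∞) ≤ (d : WithBot ℕ∞) := hd ▸ Order.coheight_le_krullDim (a := p)
  rw [Dimfun.coheight_eq hω hn] at h1
  have h2 : (-deg hω p).toNat ≤ d := by exact_mod_cast h1
  omega

/-- at a point of the support: a minimal prime of full dimension below, and dimensions add up -/
theorem exists_minimal (p : PrimeSpectrum A) (hp : ¬ Z p (Dual.HD A ω (-(d : ℤ)))) :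
    ∃ h : ℕ, p.1.height = h ∧ (h : ℤ) = d + deg hω p ∧
      ∃ q : PrimeSpectrum A, q.1 ∈ minimalPrimes A ∧ q.1 ≤ p.1 ∧ deg hω q = -(d : ℤ) := by
  obtain ⟨h, hh⟩ : ∃ h : ℕ, p.1.height = h :=
    ⟨_, (ENat.natCast_toNat (Ideal.height_ne_top p.2.ne_top)).symm⟩
  obtain ⟨l, hlast, hlen⟩ := Order.exists_series_of_height_eq_coe p
    (show Order.height p = h by rw [← hh]; exact (PrimeSpectrum.height_eq_orderHeight p).symm)
  obtain ⟨Q, hQ, hQl⟩ := Ideal.exists_minimalPrimes_le (bot_le (a := l.head.1))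
  let q : PrimeSpectrum A := ⟨Q, hQ.1.1⟩
  have key : ∀ k : ℕ, (hk : k ≤ l.length) → deg hω l.head + k ≤ deg hω (l ⟨k, by omega⟩) := by
    intro k
    induction k with
    | zero => intro hk; simp [RelSeries.head]
    | succ k ih =>
      intro hk
      have := Dimfun.deg_lt hω (l.step ⟨k, by omega⟩)
      have h2 := ih (by omega)
      simp only [Fin.castSucc_mk, Fin.succ_mk] at this
      push_cast
      omega
  have h1 := key l.length le_rfl
  rw [show l ⟨l.length, by omega⟩ = p from hlast, hlen] at h1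
  have h2 : deg hω q ≤ deg hω l.head := by
    by_cases he : q = l.head
    · rw [he]
    · exact (Dimfun.deg_lt hω (lt_of_le_of_ne (show q ≤ l.head from hQl) he)).le
  have h3 := deg_ge hω hn d hd q
  have h4 : -(h : ℤ) ≤ -(d : ℤ) - deg hω p := by
    by_contra hlt
    obtain ⟨e⟩ := nonempty_localized hω hn p (-(d : ℤ)) (-(d : ℤ) - deg hω p) (by omega)
    have := subsingleton_below hω hn p h hh.le _ (lt_of_not_ge hlt)
    exact hp ((Dimfun.Z_iff_localized p _).mpr e.toEquiv.subsingleton)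
  exact ⟨h, hh, by omega, q, hQ, le_trans hQl (by rw [← hlast]; exact l.head_le_last), by omega⟩

end Groth.Agent.DualCx.TopModule
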