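import Groth.Agent.DualCx.Unique
import Groth.Agent.Depth.Basic
import Groth.Agent.DRing.PCTools
import Mathlib.RingTheory.Spectrum.Prime.Topology
import Mathlib.Data.Int.Interval

/-!
# The Cohen–Macaulay and Gorenstein loci of a ring with a dualizing complex
-/

universe u

open CategoryTheory CategoryTheory.Limits IsLocalRing
open scoped TensorProduct

attribute [local instance] HasDerivedCategory.standard

namespace Groth.Agent.DualCx.Locus

open Devissage (E)
open Dimfun (B Z deg)

variable {A : Type u} [CommRing A] [IsNoetherianRing A]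

theorem isOpen_Z (N : Type*) [AddCommGroup N] [Module A N] [Module.Finite A N] :
    IsOpen {p : PrimeSpectrum A | Z p N} := by
  have h : {p : PrimeSpectrum A | Z p N} = (Module.support A N)ᶜ := by
    ext p
    rw [Set.mem_compl_iff, Module.mem_support_iff, not_nontrivial_iff_subsingleton]
    exact Dimfun.Z_iff_localized p N
  rw [h]
  exact Module.isClosed_support.isOpen_compl

variable {ω : Dual.D A} (hω : Dual.IsDualizing A ω)

include hω

/-- vanishing outside one degree is open -/
theorem isOpen_single (M : Type u) [AddCommGroup M] [Module A M] [Module.Finite A M] (j₀ : ℤ) :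
    IsOpen {p : PrimeSpectrum A | ∀ j, j ≠ j₀ → Z p (E M ω j)} := by
  obtain ⟨a, b, hab⟩ := hω.finite_injective_dimension
  have h : {p : PrimeSpectrum A | ∀ j, j ≠ j₀ → Z p (E M ω j)} =
      ⋂ j ∈ (Finset.Icc a b).erase j₀, {p : PrimeSpectrum A | Z p (E M ω j)} := by
    ext p
    simp only [Set.mem_iInter, Set.mem_setOf_eq, Finset.mem_erase, Finset.mem_Icc]
    refine ⟨fun h j hj => h j hj.1, fun h j hj => ?_⟩
    by_cases hr : a ≤ j ∧ j ≤ b
    · exact h j ⟨hj, hr⟩
    · have := hab M j (by omega)
      exact Dimfun.Z_of_subsingleton p _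
  rw [h]
  refine isOpen_biInter_finset fun j _ => ?_
  have := Normal.finite_E hω M j
  exact isOpen_Z _

theorem isOpen_cm (M : Type u) [AddCommGroup M] [Module A M] [Module.Finite A M] :
    IsOpen {p : PrimeSpectrum A | Subsingleton (LocalizedModule p.1.primeCompl M) ∨
      LocCoh.IsCohenMacaulayModule (Localization.AtPrime p.1) (LocalizedModule p.1.primeCompl M)} := by
  have h : {p : PrimeSpectrum A | Subsingleton (LocalizedModule p.1.primeCompl M) ∨
      LocCoh.IsCohenMacaulayModule (Localization.AtPrime p.1) (LocalizedModule p.1.primeCompl M)} =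
      ⋃ j₀ : ℤ, {p : PrimeSpectrum A | ∀ j, j ≠ j₀ → Z p (E M ω j)} := by
    ext p
    simp only [Set.mem_iUnion, Set.mem_setOf_eq]
    exact Normalized.cm_iff hω p M
  rw [h]
  exact isOpen_iUnion fun j₀ => isOpen_single hω M j₀

theorem subset_closure_cm (M : Type u) [AddCommGroup M] [Module A M] [Module.Finite A M] :
    Module.support A M ⊆ closure ({p : PrimeSpectrum A | LocCoh.IsCohenMacaulayModule
      (Localization.AtPrime p.1) (LocalizedModule p.1.primeCompl M)} ∩ Module.support A M) := by
  intro p hp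
  have hann : Module.annihilator A M ≤ p.1 := Module.mem_support_iff_of_finite.mp hp
  obtain ⟨Q, hQ, hQp⟩ := Ideal.exists_minimalPrimes_le hann
  let q : PrimeSpectrum A := ⟨Q, hQ.1.1⟩
  have hqs : q ∈ Module.support A M := Module.mem_support_iff_of_finite.mpr hQ.1.2
  have hcm := (Normalized.cm_iff hω q M).mpr ⟨deg hω q, fun j hj =>
    Dimfun.Z_of_primes q j M fun r hr hrq => by
      obtain rfl : r = q := PrimeSpectrum.ext (le_antisymm hrq (hQ.2 ⟨r.2, hr⟩ hrq))
      exact Dimfun.Z_of_ne hω q j hj⟩
  have hCM := hcm.resolve_left (not_subsingleton_iff_nontrivial.mpr (Module.mem_support_iff.mp hqs))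
  refine closure_mono (s := {q}) ?_ ((PrimeSpectrum.le_iff_mem_closure q p).mp hQp)
  rw [Set.singleton_subset_iff]
  exact ⟨hCM, hqs⟩

omit hω in
theorem cmRing_iff (p : Ideal A) [p.IsPrime] :
    LocCoh.IsCohenMacaulayLocalRing (Localization.AtPrime p) ↔
      (Subsingleton (LocalizedModule p.primeCompl A) ∨
        LocCoh.IsCohenMacaulayModule (Localization.AtPrime p) (LocalizedModule p.primeCompl A)) := by
  let e : LocalizedModule p.primeCompl A ≃ₗ[Localization.AtPrime p] Localization.AtPrime p :=
    (LocalizedModule.equivTensorProduct p.primeCompl A).trans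
      (TensorProduct.AlgebraTensorModule.rid A (Localization.AtPrime p) (Localization.AtPrime p))
  have hns : ¬ Subsingleton (LocalizedModule p.primeCompl A) := fun h =>
    not_subsingleton (Localization.AtPrime p) e.symm.toEquiv.subsingleton
  rw [or_iff_right hns, LocCoh.IsCohenMacaulayModule, Module.supportDim_eq_of_equiv e,
    show LocCoh.depth (Localization.AtPrime p) (LocalizedModule p.primeCompl A) =
      LocCoh.depth (Localization.AtPrime p) (Localization.AtPrime p) from Depth.idealDepth_congr e]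
  exact ⟨fun h => h.supportDim_eq_depth, fun h => { supportDim_eq_depth := h }⟩

/-- one degree, where the module is free of rank one -/
theorem gorenstein_iff (p : PrimeSpectrum A) :
    LocCoh.IsGorensteinLocalRing (B p) ↔ ∃ (j₀ : ℤ) (x : Dual.HD A ω j₀),
      (∀ j, j ≠ j₀ → Z p (Dual.HD A ω j)) ∧
      Z p (LinearMap.ker (LinearMap.toSpanSingleton A _ x)) ∧
      Z p (Dual.HD A ω j₀ ⧸ LinearMap.range (LinearMap.toSpanSingleton A _ x)) := by
  have hFD := Dimfun.isDualizing_local hω p
  constructor
  · intro hG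
    obtain ⟨n, ⟨e⟩⟩ := Unique.exists_shift (Gorenstein.isDualizing_of_isGorensteinLocalRing (A := B p)) hFD
    let eH : ∀ j, B p ⊗[A] Dual.HD A ω j ≃ₗ[B p] Dual.HD (B p) (Dual.inD (B p) (B p)) (n + j) :=
      fun j => (BaseChange.HDEquiv A (B p) ω j).trans
        (((DRing.DBasic.HF j).mapIso e).toLinearEquiv.trans
          ((Cx.homUnitEquivShift _ j).symm.trans
            ((Normalized.shiftE (B p) _ n j (n + j) rfl).trans (Cx.homUnitEquivShift _ (n + j)))))
    have hvan : ∀ j, j ≠ -n → Z p (Dual.HD A ω j) := fun j hj => by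
      have := DRing.PC.subsingleton_HD_inD (B p) (B p) (n + j) (by omega)
      exact (Dimfun.Z_iff_tensor p _).mpr (eH j).toEquiv.subsingleton
    let eF : B p ⊗[A] Dual.HD A ω (-n) ≃ₗ[B p] B p :=
      (eH (-n)).trans ((LinearEquiv.cast (R := B p) (M := fun k => Dual.HD (B p) (Dual.inD (B p) (B p)) k)
        (add_neg_cancel n)).trans (DRing.PC.inDEquiv (B p) (B p)))
    obtain ⟨t, ht⟩ := eF.surjective 1
    obtain ⟨⟨x, s⟩, hxs⟩ := IsLocalizedModule.surj p.1.primeCompl
      (TensorProduct.mk A (B p) (Dual.HD A ω (-n)) 1) t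
    simp only [Submonoid.smul_def, TensorProduct.mk_apply] at hxs
    have hex : eF (1 ⊗ₜ x) = algebraMap A (B p) s := by
      rw [← hxs, ← algebraMap_smul (B p) (s : A) t, map_smul, ht, smul_eq_mul, mul_one]
    have hu : IsUnit (eF (1 ⊗ₜ x)) := hex ▸ IsLocalization.map_units (B p) s
    refine ⟨-n, x, hvan, fun k => ?_, fun y => ?_⟩
    · obtain ⟨k, hk⟩ := k
      rw [LinearMap.mem_ker, LinearMap.toSpanSingleton_apply] at hk
      have h0 : algebraMap A (B p) k = 0 := by
        refine hu.mul_left_eq_zero.mp ?_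
        rw [← smul_eq_mul, ← map_smul, algebraMap_smul, ← TensorProduct.tmul_smul, hk,
          TensorProduct.tmul_zero, map_zero]
      obtain ⟨t, ht⟩ := (IsLocalization.map_eq_zero_iff p.1.primeCompl (B p) k).mp h0
      exact ⟨t, t.2, Subtype.ext ht⟩
    · obtain ⟨y, rfl⟩ := Submodule.Quotient.mk_surjective _ y
      obtain ⟨u, hu'⟩ := hu
      obtain ⟨⟨a, r⟩, har⟩ := IsLocalization.surj p.1.primeCompl (eF (1 ⊗ₜ y) * (u⁻¹ : (B p)ˣ))
      have h0 : (1 : B p) ⊗ₜ[A] ((r : A) • y - a • x) = 0 := by
        refine eF.injective ?_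
        rw [TensorProduct.tmul_sub, TensorProduct.tmul_smul, TensorProduct.tmul_smul, map_sub,
          ← algebraMap_smul (B p) (r : A), ← algebraMap_smul (B p) a, map_smul, map_smul, map_zero,
          smul_eq_mul, smul_eq_mul, ← hu', ← har, sub_eq_zero]
        linear_combination (-(eF (1 ⊗ₜ y)) * algebraMap A (B p) r) * (u.inv_mul)
      obtain ⟨c, hc⟩ := (IsLocalizedModule.eq_zero_iff p.1.primeCompl
        (TensorProduct.mk A (B p) (Dual.HD A ω (-n)) 1)).mp h0
      refine ⟨c * r, fun h => (p.2.mem_or_mem h).elim c.2 r.2, ?_⟩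
      rw [← Submodule.Quotient.mk_smul, Submodule.Quotient.mk_eq_zero]
      refine ⟨(c : A) * a, ?_⟩
      rw [LinearMap.toSpanSingleton_apply, mul_smul, mul_smul]
      rw [Submonoid.smul_def, smul_sub, sub_eq_zero] at hc
      exact hc.symm
  · rintro ⟨j₀, x, hvan, hker, hcoker⟩
    let T := LinearMap.toSpanSingleton A (Dual.HD A ω j₀) x
    have hb : Function.Bijective (T.baseChange (B p)) := by
      have hk := (Dimfun.Z_iff_tensor p _).mp hker
      have hc := (Dimfun.Z_iff_tensor p _).mp hcoker
      constructor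
      · rw [injective_iff_map_eq_zero]
        intro t ht
        obtain ⟨k, rfl⟩ := (Module.Flat.lTensor_exact (B p) T.exact_subtype_ker_map t).mp
          (show T.lTensor (B p) t = 0 from ht)
        rw [Subsingleton.elim k 0, map_zero]
      · intro t
        exact (lTensor_exact (B p) T.exact_map_mkQ_range (Submodule.mkQ_surjective _) t).mp
          (Subsingleton.elim _ _)
    let eB : B p ≃ₗ[B p] Dual.HD (B p) ((BaseChange.FD A (B p)).obj ω) j₀ :=
      (TensorProduct.AlgebraTensorModule.rid A (B p) (B p)).symm.trans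
        ((LinearEquiv.ofBijective (T.baseChange (B p)) hb).trans (BaseChange.HDEquiv A (B p) ω j₀))
    obtain ⟨e⟩ := Devissage.nonempty_single ((BaseChange.FD A (B p)).obj ω) j₀ fun j hj =>
      have := (Dimfun.Z_iff_tensor p _).mp (hvan j hj)
      (BaseChange.HDEquiv A (B p) ω j).symm.toEquiv.subsingleton
    let e' : Dual.inD (B p) (B p) ≅ ((BaseChange.FD A (B p)).obj ω)⟦j₀⟧ :=
      (DerivedCategory.singleFunctor (ModuleCat.{u} (B p)) 0).mapIso eB.toModuleIso ≪≫
        ((shiftEquiv (Dual.D (B p)) (-j₀)).unitIso.app _) ≪≫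
          (shiftFunctor (Dual.D (B p)) (- -j₀)).mapIso e.symm ≪≫
            eqToIso (by rw [neg_neg])
    exact Gorenstein.isGorensteinLocalRing_of_isDualizing
      (FlatBC.isDualizing_of_iso e'.symm (Normalized.isDualizing_shift hFD j₀))

theorem isOpen_gorenstein :
    IsOpen {p : PrimeSpectrum A | LocCoh.IsGorensteinLocalRing (Localization.AtPrime p.1)} := by
  have h : {p : PrimeSpectrum A | LocCoh.IsGorensteinLocalRing (Localization.AtPrime p.1)} =
      ⋃ j₀ : ℤ, ⋃ x : Dual.HD A ω j₀,
        {p : PrimeSpectrum A | ∀ j, j ≠ j₀ → Z p (E A ω j)} ∩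
        ({p | Z p (LinearMap.ker (LinearMap.toSpanSingleton A _ x))} ∩
         {p | Z p (Dual.HD A ω j₀ ⧸ LinearMap.range (LinearMap.toSpanSingleton A _ x))}) := by
    ext p
    simp only [Set.mem_iUnion, Set.mem_inter_iff, Set.mem_setOf_eq]
    rw [gorenstein_iff hω p]
    refine exists_congr fun j₀ => exists_congr fun x => and_congr_left' ?_
    exact ⟨fun h j hj => Dimfun.Z_equiv (Cx.homUnitEquivShift ω j).symm (h j hj),
      fun h j hj => Dimfun.Z_equiv (Cx.homUnitEquivShift ω j) (h j hj)⟩
  rw [h]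
  refine isOpen_iUnion fun j₀ => isOpen_iUnion fun x => (isOpen_single hω A j₀).inter ?_
  have := hω.finite_cohomology j₀
  have : Module.Finite A (LinearMap.ker (LinearMap.toSpanSingleton A (Dual.HD A ω j₀) x)) :=
    Module.Finite.of_fg (IsNoetherian.noetherian _)
  exact (isOpen_Z _).inter (isOpen_Z _)

end Groth.Agent.DualCx.Locus
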