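import Groth.Agent.DualCx.Unramified
import Groth.Agent.DRing.LTensor
import Mathlib.RingTheory.Smooth.StandardSmoothOfFree
import Mathlib.RingTheory.RingHom.StandardSmooth

/-!
# Base change of dualizing complexes along smooth maps
-/

universe u

open CategoryTheory CategoryTheory.Limits

attribute [local instance] HasDerivedCategory.standard

namespace Groth.Agent.DualCx.Smooth

open MvPolynomial (C)

/-- isomorphisms of algebras preserve being dualizing -/
theorem isDualizing_of_bijective {A B : Type u} [CommRing A] [CommRing B] [Algebra A B]
    [Module.Flat A B] [IsNoetherianRing A] [IsNoetherianRing B] {ω : Dual.D A}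
    (hω : Dual.IsDualizing A ω) (h : Function.Surjective (algebraMap A B)) :
    Dual.IsDualizing B ((BaseChange.FD A B).obj ω) :=
  Unramified.isDualizing hω fun m hm =>
    ⟨1, fun h1 => hm.ne_top ((Ideal.eq_top_iff_one _).mpr h1), fun z hz => by
      rw [one_mul, Ideal.map_comap_of_surjective _ h]; exact hz⟩

/-- composition -/
theorem isDualizing_comp {A B C : Type u} [CommRing A] [CommRing B] [CommRing C] [Algebra A B]
    [Algebra B C] [Algebra A C] [IsScalarTower A B C] [Module.Flat A B] [Module.Flat B C]
    [Module.Flat A C] {ω : Dual.D A}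
    (h : Dual.IsDualizing C ((BaseChange.FD B C).obj ((BaseChange.FD A B).obj ω))) :
    Dual.IsDualizing C ((BaseChange.FD A C).obj ω) := by
  obtain ⟨e⟩ := Comp.nonempty_iso A B C ω
  exact FlatBC.isDualizing_of_iso e.symm h

/-- polynomial algebras -/
theorem isDualizing_mvPolynomial {A : Type u} [CommRing A] [IsNoetherianRing A] {ω : Dual.D A}
    (hω : Dual.IsDualizing A ω) : ∀ n : ℕ, Dual.IsDualizing (MvPolynomial (Fin n) A)
      ((BaseChange.FD A (MvPolynomial (Fin n) A)).obj ω)
  | 0 => isDualizing_of_bijective hω (MvPolynomial.C_surjective (Fin 0))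
  | n + 1 => by
    let P := MvPolynomial (Fin n) A
    let e := (MvPolynomial.finSuccEquiv A n).symm
    letI : Algebra (Polynomial P) (MvPolynomial (Fin (n + 1)) A) := e.toAlgHom.toRingHom.toAlgebra
    have : IsScalarTower A (Polynomial P) (MvPolynomial (Fin (n + 1)) A) :=
      IsScalarTower.of_algebraMap_eq fun a => (e.commutes a).symm
    have : Module.Flat (Polynomial P) (MvPolynomial (Fin (n + 1)) A) :=
      Module.Flat.of_linearEquiv (R := Polynomial P) (M := Polynomial P)
        { e.toRingEquiv.toAddEquiv.symm with
          map_smul' := fun r x => by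
            change e.symm (e r * x) = r * e.symm x
            rw [map_mul, e.symm_apply_apply] }
    have : Module.Flat A (Polynomial P) := Module.Flat.trans A P (Polynomial P)
    refine isDualizing_comp (B := Polynomial P) ?_
    refine isDualizing_of_bijective ?_ e.surjective
    refine isDualizing_comp (B := P) ?_
    exact Polynomial.isDualizing (isDualizing_mvPolynomial hω n)

/-- smooth algebras -/
theorem isDualizing_standardSmooth {A B : Type u} [CommRing A] [CommRing B] [Algebra A B]
    [Module.Flat A B] [IsNoetherianRing A] {ω : Dual.D A} (hω : Dual.IsDualizing A ω)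
    [Algebra.IsStandardSmooth A B] : Dual.IsDualizing B ((BaseChange.FD A B).obj ω) := by
  obtain ⟨n, g, hg, het⟩ := RingHom.IsStandardSmooth.exists_etale_mvPolynomial
    (f := algebraMap A B) ((RingHom.isStandardSmooth_algebraMap).mpr inferInstance)
  algebraize [g]
  have : IsScalarTower A (MvPolynomial (Fin n) A) B := IsScalarTower.of_algebraMap_eq' hg.symm
  have : IsNoetherianRing B := Algebra.FiniteType.isNoetherianRing A B
  refine isDualizing_comp (B := MvPolynomial (Fin n) A) ?_
  exact Unramified.isDualizing (isDualizing_mvPolynomial hω n) fun m hm =>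
    Unramified.exists_unit m

end Groth.Agent.DualCx.Smooth
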