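import Groth.Agent.DualCx.FlatBC
import Mathlib.RingTheory.Flat.FaithfullyFlat.Basic
import Mathlib.RingTheory.Finiteness.Descent

/-!
# Faithfully flat descent of the dualizing property
-/

universe u

open CategoryTheory CategoryTheory.Limits
open scoped TensorProduct

attribute [local instance] HasDerivedCategory.standard

namespace Groth.Agent.DualCx.FFDescent

open BaseChange (FD)
open Devissage (E)

variable {A B : Type u} [CommRing A] [CommRing B] [Algebra A B] [IsNoetherianRing A]
  [Module.FaithfullyFlat A B]

theorem isDualizing {K : Dual.D A} (hK : Dual.IsDualizing B ((FD A B).obj K)) :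
    Dual.IsDualizing A K := by
  obtain ⟨a, b, hab⟩ := Residue.exists_cohomology_bounds hK
  have hred : ∀ i, Subsingleton (Dual.HD B ((FD A B).obj K) i) → Subsingleton (Dual.HD A K i) :=
    fun i h => (Module.FaithfullyFlat.subsingleton_tensorProduct_iff_right A B).mp
      (BaseChange.HDEquiv A B K i).toEquiv.subsingleton
  have hge : K.IsGE a := (DerivedCategory.isGE_iff K a).mpr fun i hi =>
    (DRing.DBasic.subsingleton_HD_iff_isZero K i).mp (hred i (hab i (Or.inl hi)))
  have hle : K.IsLE b := (DerivedCategory.isLE_iff K b).mpr fun i hi =>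
    (DRing.DBasic.subsingleton_HD_iff_isZero K i).mp (hred i (hab i (Or.inr hi)))
  have hf : ∀ i, Module.Finite A (Dual.HD A K i) := fun i => by
    have := hK.finite_cohomology i
    have : Module.Finite B (B ⊗[A] Dual.HD A K i) :=
      Module.Finite.equiv (BaseChange.HDEquiv A B K i).symm
    exact Module.Finite.of_finite_tensorProduct_of_faithfullyFlat B
  obtain ⟨a', b', hab'⟩ := hK.finite_injective_dimension
  have hb : ∀ i, b' < i → ∀ m : Ideal A, m.IsMaximal → Subsingleton (E (A ⧸ m) K i) := fun i hi m _ => by
    have := hab' (B ⊗[A] (A ⧸ m)) i (Or.inr hi)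
    have : Subsingleton (B ⊗[A] E (A ⧸ m) K i) :=
      (FlatBC.homEquiv (B := B) K a (A ⧸ m) i).toEquiv.subsingleton
    exact (Module.FaithfullyFlat.subsingleton_tensorProduct_iff_right A B).mp this
  have hβ := FlatBC.bijAt_bounded (B := B) K a K a b hge hle hf
  refine ⟨inferInstance, ⟨a, b', Criterion.exists_amplitude a hf b' hb⟩, hf, ?_, fun i hi => ?_⟩
  · have h0 : LinBaseChange.Bij A B (FD A B) K K :=
      (LinBaseChange.bij_iff_of_iso A B (FD A B) (Iso.refl K)
        ((shiftFunctorZero (Dual.D A) ℤ).app K)).mp (hβ 0)
    let f : A →ₗ[A] (K ⟶ K) := LinearMap.toSpanSingleton A _ (𝟙 K)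
    refine (Module.FaithfullyFlat.lTensor_bijective_iff_bijective A B (f := f)).mp ?_
    rw [← Function.Bijective.of_comp_iff' h0]
    have h := hK.toEnd_bijective.comp (TensorProduct.rid A B).bijective
    convert h using 1
    funext t
    induction t using TensorProduct.induction_on with
    | zero => simp
    | tmul c r =>
      rw [Function.comp_apply, Function.comp_apply, LinearMap.lTensor_tmul]
      simp only [f, LinearMap.toSpanSingleton_apply, TensorProduct.rid_tmul, LinBaseChange.β_tmul]
      rw [LinBaseChange.IsSemilinear.map_smul (B := B), CategoryTheory.Functor.map_id, smul_smul,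
        Algebra.smul_def, mul_comm]
    | add x y hx hy =>
      simp only [Function.comp_apply, _root_.map_add, add_smul] at hx hy ⊢
      rw [hx, hy]
  · have := hK.ext_self_subsingleton i hi
    have : Subsingleton (B ⊗[A] (K ⟶ K⟦i⟧)) :=
      ((AddEquiv.ofBijective _ (hβ i)).toEquiv.trans
        (CategoryTheory.Linear.homCongr B (Iso.refl _) (FlatBC.shiftFD K i)).toEquiv).subsingleton
    exact (Module.FaithfullyFlat.subsingleton_tensorProduct_iff_right A B).mp this

end Groth.Agent.DualCx.FFDescent
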