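import Groth.Agent.DualCx.GorFibre
import Groth.Agent.DualCx.Descent
import Mathlib.RingTheory.KrullDimension.Polynomial
import Mathlib.RingTheory.FiniteType

/-!
# Faithfully flat finite type maps with Gorenstein fibres and dualizing complexes
-/

universe u

open CategoryTheory
open scoped TensorProduct

attribute [local instance] HasDerivedCategory.standard

namespace Groth.Agent.DualCx.GorFibre

variable {A B : Type u} [CommRing A] [CommRing B] [Algebra A B]
  [IsNoetherianRing A] [IsNoetherianRing B]

theorem exists_dim_bound [Algebra.FiniteType A B] {ω : Dual.D A} (hω : Dual.IsDualizing A ω) :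
    ∃ N : ℕ, ∀ (m : Ideal B) [m.IsMaximal], ringKrullDim (Localization.AtPrime m) ≤ N := by
  obtain ⟨n, f, hf⟩ := Algebra.FiniteType.iff_quotient_mvPolynomial''.mp
    ‹Algebra.FiniteType A B›
  obtain ⟨D, hD⟩ : ∃ D : ℕ, ringKrullDim A ≤ D := by
    have h := Dimfun.ringKrullDim_lt_top hω
    cases h' : ringKrullDim A with
    | bot => exact ⟨0, bot_le⟩
    | coe x =>
      cases x with
      | top => rw [h'] at h; exact absurd h (lt_irrefl _)
      | coe d => exact ⟨d, le_rfl⟩
  refine ⟨D + n, fun m _ => ?_⟩
  refine ((ringKrullDim_le_of_surjective (R := MvPolynomial (Fin n) A) f.toRingHom hf).trans' ?_).trans ?_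
  · rw [IsLocalization.AtPrime.ringKrullDim_eq_height m]
    exact Ideal.height_le_ringKrullDim_of_ne_top (Ideal.IsPrime.ne_top ‹m.IsMaximal›.isPrime)
  · rw [MvPolynomial.ringKrullDim_of_isNoetherianRing]
    push_cast
    gcongr
    simp

theorem isDualizing_iff [Module.FaithfullyFlat A B] [Algebra.FiniteType A B]
    (hF : ∀ p : PrimeSpectrum A, LocCoh.IsGorensteinRing (B ⊗[A] p.asIdeal.ResidueField))
    [DRing.HasLBaseChange (algebraMap A B)] (K : Dual.D A) :
    Dual.IsDualizing A K ↔ Dual.IsDualizing B ((DRing.LBaseChange (algebraMap A B)).obj K) := by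
  obtain ⟨e⟩ := FlatBC.nonempty_LBaseChange (B := B) K
  constructor
  · intro hK
    obtain ⟨N, hN⟩ := exists_dim_bound (B := B) hK
    refine FlatBC.isDualizing_of_iso e.symm (isDualizing hK (fun p hp => ?_) N hN)
    exact Gor.Ring.isGorensteinRing_of_ringEquiv
      (Algebra.TensorProduct.comm A B p.ResidueField).toRingEquiv (hF ⟨p, hp⟩)
  · intro hK
    exact FFDescent.isDualizing (FlatBC.isDualizing_of_iso e hK)

end Groth.Agent.DualCx.GorFibre
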