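import Groth.Agent.KFlat.RPushTriangle
import Groth.Agent.KFlat.TruncHom
import Groth.Prelude.Def_DCoh2
import Groth.Agent.QCoh.Exact
import Groth.Agent.QCoh.Basic

/-!
# The right adjoint of `Rf_*` on `D_QCoh` is left bounded
-/

set_option autoImplicit false

universe u

open CategoryTheory CategoryTheory.Limits AlgebraicGeometry DerivedCategory

attribute [local instance] HasDerivedCategory.standard

namespace Groth.Agent.DualCx.AdjAmp

theorem isQCoh_of_iso {X : Scheme.{u}} (M M' : X.Modules) (e : M ≅ M') (h : Coh.IsQCoh M) : Coh.IsQCoh M' :=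
  (SheafOfModules.isQuasicoherent X.ringCatSheaf).prop_of_iso e h

theorem isQCoh_of_isZero {X : Scheme.{u}} (M : X.Modules) (h : IsZero M) : Coh.IsQCoh M := by
  haveI : ∀ i : PEmpty.{u + 1}, (i.elim : X.Modules).IsQuasicoherent := fun i ↦ i.elim
  exact isQCoh_of_iso _ _
    (((IsZero.iff_id_eq_zero _).mpr (Sigma.hom_ext _ _ fun i ↦ i.elim)).iso h)
    (QCoh.isQuasicoherent_coproduct (fun i : PEmpty.{u + 1} ↦ (i.elim : X.Modules)))

variable {X Y : Scheme.{u}} (f : X ⟶ Y) [DCoh.HasRpush f]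

/-- `Rf_*` commutes with shifts, objectwise. -/
theorem nonempty_shiftIso (G : DCoh.D X) (m : ℤ) :
    Nonempty ((DCoh.Rpush f).obj (G⟦m⟧) ≅ ((DCoh.Rpush f).obj G)⟦m⟧) := by
  obtain ⟨K, ⟨e⟩⟩ : ∃ K, Nonempty (Q.obj K ≅ G) := ⟨_, ⟨Q.objObjPreimageIso G⟩⟩
  let J := (KFlat.RPush.injRes X).obj K
  let j : Q.obj J ≅ G := (asIso (Q.map ((KFlat.RPush.injι X).app K))).symm ≪≫ e
  have h₁ := KFlat.RPush.isIso_toRpush f J
  have h₂ := KFlat.RPush.isIso_toRpush_of_weak f
    (KFlat.WeakKInj.shift (KFlat.WeakKInj.of_isKInjective J) m)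
  let P := (Scheme.Modules.pushforward f).mapHomologicalComplex (ComplexShape.up ℤ)
  exact ⟨(DCoh.Rpush f).mapIso (((shiftFunctor (DCoh.D X) m).mapIso j).symm ≪≫
      ((Q.commShiftIso m).app J).symm) ≪≫
    (@asIso _ _ _ _ _ h₂).symm ≪≫
    Q.mapIso (((P.commShiftIso m).app J)) ≪≫ (Q.commShiftIso m).app (P.obj J) ≪≫
    (shiftFunctor (DCoh.D Y) m).mapIso ((@asIso _ _ _ _ _ h₁) ≪≫ (DCoh.Rpush f).mapIso j)⟩

/-- truncations preserve quasi-coherence of cohomology -/
theorem isQCohD_truncLT {K : DCoh.D X} (hK : DCoh.IsQCohD K) (n : ℤ) :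
    DCoh.IsQCohD ((TStructure.t.truncLT n).obj K) := fun i => by
  rcases lt_or_ge i n with h | h
  · have := KFlat.TruncHom.isIso_H_truncLTι K n i h
    exact isQCoh_of_iso _ _ (asIso ((homologyFunctor _ i).map ((TStructure.t.truncLTι n).app K))).symm (hK i)
  · have : ((TStructure.t.truncLT n).obj K).IsLE (n - 1) :=
      inferInstanceAs (TStructure.t.IsLE ((TStructure.t.truncLT n).obj K) (n - 1))
    exact isQCoh_of_isZero _ (isZero_of_isLE _ (n - 1) i (by omega))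

theorem isGE_adjoint (N : ℤ)
    (hN : ∀ E : DCoh.D X, DCoh.IsQCohD E → E.IsLE 0 → ∀ m : ℤ, N ≤ m →
      IsZero (DCoh.HD ((DCoh.Rpush f).obj E) m))
    (h : ∀ K : DCoh.D X, DCoh.IsQCohD K → DCoh.IsQCohD ((DCoh.Rpush f).obj K))
    (a : DCoh.DQCoh Y ⥤ DCoh.DQCoh X)
    (adj : (ObjectProperty.lift DCoh.IsQCohD (ObjectProperty.ι DCoh.IsQCohD ⋙ DCoh.Rpush f)
      (fun K => h K.obj K.property)) ⊣ a) :
    ∃ N' : ℕ, ∀ (K : DCoh.DQCoh Y) (c : ℤ), (∀ i : ℤ, i ≤ c → IsZero (DCoh.HD K.obj i)) →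
      ∀ i : ℤ, i ≤ c - N' → IsZero (DCoh.HD (a.obj K).obj i) := by
  refine ⟨N.toNat, fun K c hK i hic => ?_⟩
  let A := (a.obj K).obj
  let G := (TStructure.t.truncLT (i + 1)).obj A
  have hG : DCoh.IsQCohD G := isQCohD_truncLT (a.obj K).property _
  have hGle : G.IsLE i := by
    have h' : TStructure.t.IsLE G (i + 1 - 1) := inferInstance
    simpa using h'
  have hge : K.obj.IsGE (c + 1) := (DerivedCategory.isGE_iff _ _).2 fun j hj => hK j (by omega)
  have hle : ((DCoh.Rpush f).obj G).IsLE c := by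
    refine (DerivedCategory.isLE_iff _ _).2 fun j hj => ?_
    have hE : DCoh.IsQCohD (G⟦i⟧) := fun k =>
      isQCoh_of_iso _ _ (((homologyFunctor X.Modules 0).shiftIso i k (i + k) rfl).app G).symm (hG (i + k))
    have hEle : (G⟦i⟧ : DCoh.D X).IsLE 0 := (DerivedCategory.isLE_iff _ _).2 fun k hk =>
      (isZero_of_isLE G i (i + k) (by omega)).of_iso
        (((homologyFunctor X.Modules 0).shiftIso i k (i + k) rfl).app G)
    obtain ⟨e'⟩ := nonempty_shiftIso f G i
    exact (hN _ hE hEle (j - i) (by omega)).of_iso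
      ((((homologyFunctor Y.Modules 0).shiftIso i (j - i) j (by omega)).app _).symm ≪≫
        (homologyFunctor Y.Modules (j - i)).mapIso e'.symm)
  have hzero : ∀ v : (DCoh.Rpush f).obj G ⟶ K.obj, v = 0 := fun v =>
    TStructure.t.zero v c (c + 1) (by omega)
  let g : (⟨G, hG⟩ : DCoh.DQCoh X) ⟶ a.obj K := ObjectProperty.homMk ((TStructure.t.truncLTι (i + 1)).app A)
  let g0 : (⟨G, hG⟩ : DCoh.DQCoh X) ⟶ a.obj K := ObjectProperty.homMk 0
  have hg : g = g0 := (adj.homEquiv _ _).symm.injective (ObjectProperty.hom_ext _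
    ((hzero _).trans (hzero _).symm))
  have hι : (TStructure.t.truncLTι (i + 1)).app A = 0 := congrArg InducedCategory.Hom.hom hg
  have := KFlat.TruncHom.isIso_H_truncLTι A (i + 1) i (by omega)
  rw [IsZero.iff_id_eq_zero, ← cancel_epi ((homologyFunctor X.Modules i).map ((TStructure.t.truncLTι (i + 1)).app A)),
    comp_zero]
  simp [hι]

end Groth.Agent.DualCx.AdjAmp
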