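import Groth.Agent.DualCx.ShriekFlatSelf
import Mathlib.RingTheory.SimpleModule.InjectiveProjective

/-!
# Properties of `φ^!(R)` for flat `φ`
-/

universe u

open CategoryTheory CategoryTheory.Limits DerivedCategory
open scoped TensorProduct

attribute [local instance] HasDerivedCategory.standard

namespace Groth.Agent.DualCx.ShriekFlatProps

open Groth.Agent.DRing Groth.Agent.DTenLib

variable {R A : Type u} [CommRing R] [CommRing A] [IsNoetherianRing R]
  [Algebra R A] [Module.Flat R A] (n : ℕ) (ψ : MvPolynomial (Fin n) R →ₐ[R] A) (hψ : Function.Surjective ψ)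
  [DRing.HasLBaseChange (algebraMap R (MvPolynomial (Fin n) R))]
  (Rψ : Dual.D (MvPolynomial (Fin n) R) ⥤ Dual.D A) (adj : DRing.restrictD ψ.toRingHom ⊣ Rψ)

/-- a field is its own dualizing complex -/
theorem isDualizing_field (k : Type u) [Field k] : Dual.IsDualizing k (Dual.inD k k) := by
  refine Gorenstein.isDualizing_inD_self 1 fun i hi m _ => ?_
  have : HasInjectiveDimensionLT (ModuleCat.of k k) 1 := by
    have : Module.Injective k k := Module.injective_of_isSemisimpleRing k k
    have : Injective (ModuleCat.of k k) := Module.injective_object_of_injective_module k k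
    infer_instance
  exact Gorenstein.subsingleton_of_hasInjectiveDimensionLT _ this i hi.le

include hψ adj in
/-- the complex over `P` -/
theorem exists_rep : letI := ψ.toRingHom.toAlgebra
    ∃ (G : DRing.Cx (MvPolynomial (Fin n) R)) (a b : ℤ), DRing.VanishesOutside G a b ∧
      DRing.TermwiseFiniteProjective G ∧
      Nonempty ((DRing.restrictD (algebraMap (MvPolynomial (Fin n) R) A)).obj
        (Dual2.shriekVia n Rψ (Dual.inD R R)) ≅ DRing.toD G) := by
  let : Algebra (MvPolynomial (Fin n) R) A := ψ.toRingHom.toAlgebra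
  have : IsScalarTower R (MvPolynomial (Fin n) R) A := IsScalarTower.of_algebraMap_eq fun x => (ψ.commutes x).symm
  obtain ⟨E, a, b, hb, hf, -, ⟨t⟩⟩ :=
    ShriekFlatSelf.exists_dual adj (ShriekProj.isPerfectModule_presentation n hψ)
  obtain ⟨eU⟩ := ShriekProj.nonempty_LBaseChange_inD (R := R) (P := MvPolynomial (Fin n) R)
  refine ⟨(DualPerfect.dual E)⟦(n : ℤ)⟧, -b - n, -a - n, fun i hi => ?_, fun i => ?_,
    ⟨((DRing.restrictD (algebraMap (MvPolynomial (Fin n) R) A)).commShiftIso (n : ℤ)).app _ ≪≫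
      (shiftFunctor _ _).mapIso ((DRing.restrictD _).mapIso (Rψ.mapIso eU) ≪≫ t) ≪≫
      ((DerivedCategory.Q.commShiftIso (n : ℤ)).app _).symm⟩⟩
  · exact (DualPerfect.vanishesOutside_dual hb (i + n) (by omega))
  · exact DualPerfect.finiteProjective_dual hf (i + n)

include hψ adj

theorem bounded : ∃ a b : ℤ, ∀ i : ℤ, (i < a ∨ b < i) →
    Subsingleton (Dual.HD A (Dual2.shriekVia n Rψ (Dual.inD R R)) i) := by
  let : Algebra (MvPolynomial (Fin n) R) A := ψ.toRingHom.toAlgebra
  obtain ⟨G, a, b, hb, -, ⟨e⟩⟩ := exists_rep n ψ hψ Rψ adj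
  refine ⟨a, b, fun i hi => (PCRestrict.subsingleton_HD_restrict_iff
    (algebraMap (MvPolynomial (Fin n) R) A) _ i).1 ?_⟩
  have : Subsingleton (Dual.HD _ (DRing.toD G) i) :=
    (DBasic.subsingleton_HD_toD_iff _ i).2 (ShortComplex.isZero_homology_of_isZero_X₂ _ (hb i hi))
  exact ((DBasic.HF i).mapIso e).toLinearEquiv.toEquiv.subsingleton

theorem finiteTorDim : DRing.HasFiniteTorDimCx R
    ((DRing.restrictD (algebraMap R A)).obj (Dual2.shriekVia n Rψ (Dual.inD R R))) := by
  let P := MvPolynomial (Fin n) R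
  let : Algebra P A := ψ.toRingHom.toAlgebra
  have : IsScalarTower R P A := IsScalarTower.of_algebraMap_eq fun x => (ψ.commutes x).symm
  obtain ⟨G, a, b, hb, hf, ⟨e⟩⟩ := exists_rep n ψ hψ Rψ adj
  obtain ⟨c⟩ := RAdj.nonempty_restrictComp (algebraMap R P) (algebraMap P A) (algebraMap R A)
    (IsScalarTower.algebraMap_eq R P A).symm
  refine ⟨a, b, (DTen.resCx (algebraMap R P)).obj G,
    fun i hi => (ModuleCat.restrictScalars.{u} (algebraMap R P)).map_isZero (hb i hi), fun i => ?_,
    ⟨((DTen.resFactors (algebraMap R P)).app G).symm ≪≫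
      (DRing.restrictD (algebraMap R P)).mapIso e.symm ≪≫ (c.app _).symm⟩⟩
  let N : Type u := G.X i
  let : Module R N := Module.compHom N (algebraMap R P)
  have : IsScalarTower R P N := IsScalarTower.of_algebraMap_smul fun _ _ => rfl
  have : Module.Projective P N := (hf i).2
  exact Module.Flat.trans R P N

theorem toEnd : Function.Bijective (fun a : A => a • 𝟙 (Dual2.shriekVia n Rψ (Dual.inD R R))) ∧
    ∀ i : ℤ, i ≠ 0 → Subsingleton (Dual2.shriekVia n Rψ (Dual.inD R R) ⟶
      (Dual2.shriekVia n Rψ (Dual.inD R R))⟦i⟧) := by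
  let P := MvPolynomial (Fin n) R
  let : Algebra P A := ψ.toRingHom.toAlgebra
  have : IsScalarTower R P A := IsScalarTower.of_algebraMap_eq fun x => (ψ.commutes x).symm
  obtain ⟨h0, h1⟩ := ShriekFlatSelf.toEnd adj hψ (ShriekProj.isPerfectModule_presentation n hψ)
  obtain ⟨eU⟩ := ShriekProj.nonempty_LBaseChange_inD (R := R) (P := P)
  let X := Rψ.obj (Dual.inD P P)
  let eω : Dual2.shriekVia n Rψ (Dual.inD R R) ≅ X⟦(n : ℤ)⟧ :=
    (shiftFunctor (Dual.D A) (n : ℤ)).mapIso (Rψ.mapIso eU)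
  refine ⟨?_, fun i hi => ?_⟩
  · refine (congrArg Function.Bijective (funext fun a => ?_)).mp
      (((Hom.congr A eω eω).symm.bijective).comp (ShriekFlatSelf.bijective_smul_id_shift X (n : ℤ) h0))
    refine (map_smul (Hom.congr A eω eω).symm a _).trans ?_
    congr 1
    exact (LinearEquiv.symm_apply_eq _).2 (by simp [Hom.congr, Linear.homCongr_apply])
  · have := h1 i hi
    have : Subsingleton (X⟦(n : ℤ)⟧ ⟶ (X⟦(n : ℤ)⟧)⟦i⟧) :=
      (((Functor.FullyFaithful.ofFullyFaithful (shiftFunctor (Dual.D A) (n : ℤ))).homEquiv (X := X)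
        (Y := X⟦i⟧)).symm.trans (Equiv.refl _) |> fun q =>
        (Hom.congr A (Iso.refl (X⟦(n : ℤ)⟧)) (shiftComm X (n : ℤ) i)).toEquiv.trans q).subsingleton
    exact (Hom.congr A eω ((shiftFunctor (Dual.D A) i).mapIso eω)).toEquiv.subsingleton

theorem isDualizing_fibre (k : Type u) [Field k] [Algebra R k]
    [DRing.HasLBaseChange (Algebra.TensorProduct.includeRight : A →ₐ[R] k ⊗[R] A).toRingHom] :
    Dual.IsDualizing (k ⊗[R] A) ((DRing.LBaseChange
      (Algebra.TensorProduct.includeRight : A →ₐ[R] k ⊗[R] A).toRingHom).obj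
        (Dual2.shriekVia n Rψ (Dual.inD R R))) := by
  let ψk := ShriekFlatBC.presentation (R' := k) ψ
  have hψk := ShriekFlatBC.presentation_surjective (R' := k) ψ hψ
  have : IsNoetherianRing (k ⊗[R] A) := isNoetherianRing_of_surjective _ _ ψk.toRingHom hψk
  obtain ⟨F, ⟨adjF⟩⟩ := RAdj.exists_adj ψk.toRingHom
  have := LTensor.hasLBaseChange (algebraMap k (MvPolynomial (Fin n) k))
  have := LTensor.hasLBaseChange (algebraMap R k)
  obtain ⟨e⟩ := ShriekBCMain.nonempty_iso n ψ hψ Rψ adj n ψk hψk F adjF (Dual.inD R R)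
  obtain ⟨eU⟩ := ShriekProj.nonempty_LBaseChange_inD (R := R) (P := k)
  exact FlatBC.isDualizing_of_iso (e ≪≫ (shiftFunctor _ _).mapIso (F.mapIso
    ((DRing.LBaseChange _).mapIso eU))).symm (ShriekVia.isDualizing n ψk hψk F adjF (isDualizing_field k))

end Groth.Agent.DualCx.ShriekFlatProps
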