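import Groth.Agent.DualCx.ShriekVanish
import Groth.Agent.DualCx.ShriekFlatProps
import Groth.Agent.DRing.FlatFibres
import Groth.Agent.DRing.PerfectAmp
import Groth.Agent.DRing.Perfect
import Groth.Agent.GrSyz.ProjDim
import Groth.Agent.AlgSpD.FibreDimBC

/-!
# The amplitude of `φ^!(R)` for flat `φ`
-/

universe u

open CategoryTheory CategoryTheory.Limits DerivedCategory
open scoped TensorProduct

attribute [local instance] HasDerivedCategory.standard

namespace Groth.Agent.DualCx.ShriekFlatAmp

open Groth.Agent.DRing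

/-- flatness from ideals only -/
theorem flat_coker {A : Type u} [CommRing A] {P : DRing.Cx A} (hP : ∀ i, Module.Flat A (P.X i)) (a : ℤ)
    (h : ∀ I : Ideal A, (DRing.tensorCx P (ModuleCat.of A (A ⧸ I))).ExactAt (a - 1)) :
    Module.Flat A (P.X a ⧸ LinearMap.range (P.d (a - 1) a).hom) := by
  rw [Module.Flat.iff_lTensor_injective']
  intro I
  let N := I
  let N' := A
  let f : N →ₗ[A] N' := I.subtype
  have hf : Function.Injective f := Subtype.val_injective
  have hI : (DRing.tensorCx P (ModuleCat.of A (N' ⧸ LinearMap.range f))).ExactAt (a - 1) := by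
    have : LinearMap.range f = I := Submodule.range_subtype I
    rw [this]
    exact h I
  change Function.Injective (f.lTensor _)
  let d := (P.d (a - 1) a).hom
  let q := (LinearMap.range d).mkQ
  have hq : Function.Surjective q := Submodule.mkQ_surjective _
  have hdq : Function.Exact d q := LinearMap.exact_iff.2 (by simp [q])
  let g := (LinearMap.range f).mkQ
  have hg : Function.Surjective g := Submodule.mkQ_surjective _
  have hfg : Function.Exact f g := LinearMap.exact_iff.2 (by simp [g])
  rw [injective_iff_map_eq_zero]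
  intro x hx
  obtain ⟨x₀, rfl⟩ := LinearMap.rTensor_surjective N hq x
  have h1 : LinearMap.rTensor N' q (LinearMap.lTensor (P.X a) f x₀) = 0 := by
    rw [← LinearMap.comp_apply, LinearMap.rTensor_comp_lTensor, ← LinearMap.lTensor_comp_rTensor,
      LinearMap.comp_apply]
    exact hx
  obtain ⟨w', hw'⟩ := (rTensor_exact N' hdq hq _).1 h1
  have h2 : LinearMap.rTensor (N' ⧸ LinearMap.range f) d
      (LinearMap.lTensor (P.X (a - 1)) g w') = 0 := by
    rw [← LinearMap.comp_apply, LinearMap.rTensor_comp_lTensor, ← LinearMap.lTensor_comp_rTensor,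
      LinearMap.comp_apply, hw', ← LinearMap.comp_apply, ← LinearMap.lTensor_comp,
      hfg.linearMap_comp_eq_zero, LinearMap.lTensor_zero, LinearMap.zero_apply]
  obtain ⟨v'', hv''⟩ := (Homology.exactAt_iff_forall (a - 1) (a - 2) (by omega)).1
    hI _
    ((Homology.isCyc_iff (show a - 1 + 1 = a by omega) _).2 h2)
  obtain ⟨v', hv'⟩ := LinearMap.lTensor_surjective (P.X (a - 2)) hg v''
  have h3 : LinearMap.lTensor (P.X (a - 1)) g
      (w' - LinearMap.rTensor N' (P.d (a - 2) (a - 1)).hom v') = 0 := by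
    rw [map_sub, ← LinearMap.comp_apply (f := LinearMap.lTensor (P.X (a - 1)) g),
      LinearMap.lTensor_comp_rTensor, ← LinearMap.rTensor_comp_lTensor, LinearMap.comp_apply, hv',
      sub_eq_zero]
    exact hv''.symm
  obtain ⟨w, hw⟩ := (lTensor_exact (P.X (a - 1)) hfg hg _).1 h3
  have hdd : LinearMap.rTensor N' d (LinearMap.rTensor N' (P.d (a - 2) (a - 1)).hom v') = 0 := by
    rw [← LinearMap.comp_apply, ← LinearMap.rTensor_comp, ← ModuleCat.hom_comp, P.d_comp_d,
      ModuleCat.hom_zero, LinearMap.rTensor_zero, LinearMap.zero_apply]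
  have h4 : LinearMap.rTensor N d w = x₀ := by
    have := hP a
    apply Module.Flat.lTensor_preserves_injective_linearMap f hf
    rw [← LinearMap.comp_apply, LinearMap.lTensor_comp_rTensor, ← LinearMap.rTensor_comp_lTensor,
      LinearMap.comp_apply, hw, map_sub, hw', hdd, sub_zero]
  rw [← h4, ← LinearMap.comp_apply, ← LinearMap.rTensor_comp, hdq.linearMap_comp_eq_zero,
    LinearMap.rTensor_zero, LinearMap.zero_apply]

/-- modules over a polynomial ring over a field, transported -/
theorem pd_tensor_polynomial (R : Type u) [CommRing R] (n : ℕ) (k : Type u) [Field k] [Algebra R k]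
    (M : Type u) [AddCommGroup M] [Module (k ⊗[R] MvPolynomial (Fin n) R) M] :
    HasProjectiveDimensionLT (ModuleCat.of (k ⊗[R] MvPolynomial (Fin n) R) M) (n + 1) := by
  let S := MvPolynomial (Fin n) k
  let C := k ⊗[R] MvPolynomial (Fin n) R
  let e : S ≃+* C := (MvPolynomial.algebraTensorAlgEquiv R k).symm.toRingEquiv
  let : Algebra S C := e.toRingHom.toAlgebra
  let : Module S M := Module.compHom M e.toRingHom
  have : IsScalarTower S C M := IsScalarTower.of_algebraMap_smul fun _ _ => rfl
  have : Module.Flat S C := RingHom.Flat.of_bijective e.bijective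
  let l : C ⊗[S] M →ₗ[C] M := LinearMap.liftBaseChange C (LinearMap.id : M →ₗ[S] M)
  have hl : Function.Bijective l := by
    refine ⟨Function.LeftInverse.injective (g := fun m => (1 : C) ⊗ₜ[S] m) fun x => ?_,
      fun m => ⟨1 ⊗ₜ m, by simp [l]⟩⟩
    induction x using TensorProduct.induction_on with
    | zero => simp
    | tmul c m =>
      obtain ⟨s, rfl⟩ := e.surjective c
      simp only [l, LinearMap.liftBaseChange_tmul, LinearMap.id_coe, id_eq]
      change (1 : C) ⊗ₜ[S] (s • m) = algebraMap S C s ⊗ₜ[S] m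
      rw [TensorProduct.tmul_smul, TensorProduct.smul_tmul', Algebra.smul_def, mul_one]
    | add x y hx hy =>
      simp only [map_add, TensorProduct.tmul_add] at hx hy ⊢
      rw [hx, hy]
  exact RegLoc.PD.pd_congr (LinearEquiv.ofBijective l hl) n
    (RegLoc.PD.pd_baseChange_of_flat C n M (GrSyz.pd_mvPolynomial n M))

variable {R A : Type u} [CommRing R] [CommRing A] [IsNoetherianRing R] [Algebra R A] (n : ℕ)
  (ψ : MvPolynomial (Fin n) R →ₐ[R] A) (hψ : Function.Surjective ψ)
  [DRing.HasLBaseChange (algebraMap R (MvPolynomial (Fin n) R))]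
  (Rψ : Dual.D (MvPolynomial (Fin n) R) ⥤ Dual.D A) (adj : DRing.restrictD ψ.toRingHom ⊣ Rψ)

include hψ adj

theorem subsingleton_HD_pos [Module.Flat R A] (i : ℤ) (hi : 0 < i) :
    Subsingleton (Dual.HD A (Dual2.shriekVia n Rψ (Dual.inD R R)) i) := by
  let P := MvPolynomial (Fin n) R
  let : Algebra P A := ψ.toRingHom.toAlgebra
  have : IsScalarTower R P A := IsScalarTower.of_algebraMap_eq fun x => (ψ.commutes x).symm
  have hperf := ShriekProj.isPerfectModule_presentation n (A := A) hψ
  have hpc : DRing.IsPseudoCoherent' P (Dual.inD P A) := ((Perfect.perfect_iff _).1 hperf).1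
  have := fun m : Ideal P => LTensor.hasLBaseChange (Ideal.Quotient.mk m)
  let g : (ModuleCat.restrictScalars.{u} (algebraMap R P)).obj (ModuleCat.of P A) ≅ ModuleCat.of R A :=
    LinearEquiv.toModuleIso
      (show ((ModuleCat.restrictScalars.{u} (algebraMap R P)).obj (ModuleCat.of P A)) ≃ₗ[R] A from
        { (AddEquiv.refl A) with map_smul' := fun c x => algebraMap_smul P c (show A from x) })
  let eR : (DRing.restrictD (algebraMap R P)).obj (Dual.inD P A) ≅ Dual.inD R A :=
    ((ModuleCat.restrictScalars.{u} (algebraMap R P)).mapDerivedCategorySingleFunctor 0).app _ ≪≫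
      (DerivedCategory.singleFunctor (ModuleCat.{u} R) 0).mapIso g
  obtain ⟨-, hamp⟩ := FlatFibres.perfect_of_fibres_glDim (A := R) (B := P) n
    (fun p M => pd_tensor_polynomial R n p.asIdeal.ResidueField M) 0 0 (Dual.inD P A) hpc
    (TorAmp.torAmp_of_iso eR.symm Perfect.torAmp_of_flat)
  obtain ⟨E, hE, hf, ⟨e⟩⟩ := Perfect.exists_rep hpc hamp
  have hK := DBasic.isKProjective_of_projective E 0 (fun i hi => hE i (Or.inr hi)) fun i => (hf i).2
  obtain ⟨ι, hι⟩ := DBasic.exists_Q_map_eq (e ≪≫ (ShriekProj.resUnitIso P A).symm).hom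
  have : QuasiIso ι := (DerivedCategory.isIso_Q_map_iff_quasiIso (C := ModuleCat.{u} P) ι).1
    (by rw [hι]; infer_instance)
  obtain ⟨I, j, hI, hj, -, -⟩ := DHA.KInj.exists_resolution (ModuleCat.{u} P) (ExactPairingCx.I1 P)
  let eI : DRing.toD I ≅ Dual.inD P P := (asIso (DerivedCategory.Q.map j)).symm ≪≫
    ((DerivedCategory.singleFunctorIsoCompQ (ModuleCat.{u} P) 0).app (ModuleCat.of P P)).symm
  obtain ⟨W₀, hW₀, -, ⟨eW⟩⟩ := DBasic.exists_kproj_iso (Rψ.obj (Dual.inD P P))
  obtain ⟨ε, hν⟩ := ProjForm.exists_counit ι adj (eW ≪≫ Rψ.mapIso eI.symm)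
  have := HomCx.quasiIso_homCxMap (P := E) j
  let t : (DRing.restrictD (algebraMap P A)).obj (Rψ.obj (Dual.inD P P)) ≅ DRing.toD (DualPerfect.dual E) :=
    (DRing.restrictD (algebraMap P A)).mapIso eW.symm ≪≫
      (DTen.resFactors (algebraMap P A)).app W₀ ≪≫ asIso (DerivedCategory.Q.map (ProjUniv.ν ι ε)) ≪≫
      (asIso (DerivedCategory.Q.map (DRing.homCxMap E j))).symm
  obtain ⟨eU⟩ := ShriekProj.nonempty_LBaseChange_inD (R := R) (P := P)
  refine (PCRestrict.subsingleton_HD_restrict_iff (algebraMap P A) _ i).1 ?_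
  let e' : (DRing.restrictD (algebraMap P A)).obj (Dual2.shriekVia n Rψ (Dual.inD R R)) ≅
      DRing.toD ((DualPerfect.dual E)⟦(n : ℤ)⟧) :=
    ((DRing.restrictD (algebraMap P A)).commShiftIso (n : ℤ)).app _ ≪≫
      (shiftFunctor _ _).mapIso ((DRing.restrictD _).mapIso (Rψ.mapIso eU) ≪≫ t) ≪≫
      ((DerivedCategory.Q.commShiftIso (n : ℤ)).app _).symm
  have : Subsingleton (Dual.HD P (DRing.toD ((DualPerfect.dual E)⟦(n : ℤ)⟧)) i) :=
    (DBasic.subsingleton_HD_toD_iff _ i).2 (ShortComplex.isZero_homology_of_isZero_X₂ _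
      (DualPerfect.vanishesOutside_dual hE (i + n) (by omega)))
  exact ((DBasic.HF i).mapIso e').toLinearEquiv.toEquiv.subsingleton

theorem hasTorAmp [Module.Flat R A] (d : ℕ)
    (hd : ∀ q : PrimeSpectrum A, FlatMor.fibreDimAt
      (AlgebraicGeometry.Spec.map (CommRingCat.ofHom (algebraMap R A))) q ≤ (d : WithBot ℕ∞)) :
    DRing.HasTorAmplitudeIn R (-(d : ℤ)) 0
      ((DRing.restrictD (algebraMap R A)).obj (Dual2.shriekVia n Rψ (Dual.inD R R))) := by
  let ω := Dual2.shriekVia n Rψ (Dual.inD R R)
  obtain ⟨F, hb, hproj, ⟨e⟩⟩ := Trunc.exists_projRep ω 0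
    fun i hi => subsingleton_HD_pos n ψ hψ Rψ adj i hi
  have hflat : ∀ i, Module.Flat A (F.X i) := fun i => have := hproj i; inferInstance
  have hkey : ∀ (I : Ideal R) (i : ℤ), i < -(d : ℤ) →
      (DRing.tensorCx ((DRing.restrictCx (algebraMap R A)).obj F) (ModuleCat.of R (R ⧸ I))).ExactAt i := by
    intro I i hi
    let k := R ⧸ I
    let A' := k ⊗[R] A
    let φ : A →+* A' := (Algebra.TensorProduct.includeRight : A →ₐ[R] A').toRingHom
    let ψ' := ShriekFlatBC.presentation (R' := k) ψ
    have hψ' := ShriekFlatBC.presentation_surjective (R' := k) ψ hψ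
    obtain ⟨F', ⟨adj'⟩⟩ := RAdj.exists_adj ψ'.toRingHom
    have := LTensor.hasLBaseChange (algebraMap k (MvPolynomial (Fin n) k))
    have := LTensor.hasLBaseChange (algebraMap R k)
    have := LTensor.hasLBaseChange φ
    obtain ⟨eB⟩ := ShriekBCMain.nonempty_iso n ψ hψ Rψ adj n ψ' hψ' F' adj' (Dual.inD R R)
    obtain ⟨eU⟩ := ShriekProj.nonempty_LBaseChange_inD (R := R) (P := k)
    have hv : Subsingleton (Dual.HD A' (Dual2.shriekVia n F' (Dual.inD k k)) i) := by
      refine subsingleton_of_forall_eq 0 fun x => ?_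
      by_contra hx
      obtain ⟨q', hq'⟩ := (Module.nonempty_support_iff (R := A')).2
        (nontrivial_of_ne x 0 hx : Nontrivial (Dual.HD A' (Dual2.shriekVia n F' (Dual.inD k k)) i))
      rw [Module.mem_support_iff] at hq'
      refine absurd (ShriekVanish.neg_le n ψ' hψ' F' adj' q' d ?_ i hq') (by omega)
      have : AlgebraicGeometry.LocallyOfFiniteType
          (AlgebraicGeometry.Spec.map (CommRingCat.ofHom (algebraMap R A))) :=
        AlgebraicGeometry.HasRingHomProperty.Spec_iff.2
          (RingHom.finiteType_algebraMap.2 (Algebra.FiniteType.of_surjective ψ hψ))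
      exact (le_of_eq (AlgSpD.fibreDimAt_of_isPullback _
        (AlgebraicGeometry.isPullback_SpecMap_of_isPushout _ _ _ _
          (CommRingCat.isPushout_tensorProduct R k A)).flip q')).trans (hd _)
    have h1 : Subsingleton (Dual.HD A' ((DRing.LBaseChange φ).obj ω) i) :=
      ((DBasic.HF i).mapIso (eB ≪≫ (shiftFunctor _ _).mapIso (F'.mapIso
        ((DRing.LBaseChange _).mapIso eU)))).toLinearEquiv.toEquiv.subsingleton
    have h2 := (DBasic.subsingleton_HD_congr
      (Perfect.baseChangeIsoOfRep φ (TorAmp.isKFlat_of_projective hb hproj) e) i).2 h1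
    rw [DBasic.subsingleton_HD_toD_iff, ← HomologicalComplex.exactAt_iff_isZero_homology] at h2
    let v : A ⊗[R] k ≃ₗ[A] (ModuleCat.restrictScalars.{u} φ).obj (ModuleCat.of A' A') :=
      { (TensorProduct.comm R A k).toAddEquiv with
        map_smul' := fun r x => by
          change TensorProduct.comm R A k (r • x) = φ r * TensorProduct.comm R A k x
          induction x using TensorProduct.induction_on with
          | zero => simp
          | tmul s t => exact (congrArg (fun y => y ⊗ₜ[R] (r * s)) (one_mul t).symm).trans (Algebra.TensorProduct.tmul_mul_tmul 1 t r s).symm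
          | add x y hx hy => simp only [smul_add, map_add, mul_add, hx, hy] }
    exact (FlatFibres.exactAt_tensor_restrict_iff k φ v F i).2 h2
  let G := (DRing.restrictCx (algebraMap R A)).obj F
  have hG : ∀ i, Module.Flat R (G.X i) := fun i => by
    let : Module R (F.X i) := Module.compHom (F.X i) (algebraMap R A)
    have : IsScalarTower R A (F.X i) := IsScalarTower.of_algebraMap_smul fun _ _ => rfl
    have := hflat i
    exact Module.Flat.trans R A (F.X i)
  have hGb : DRing.VanishesAbove G 0 := fun i hi =>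
    (ModuleCat.restrictScalars.{u} (algebraMap R A)).map_isZero (hb i hi)
  have hex : ∀ i < -(d : ℤ), G.ExactAt i := fun i hi => by
    have : Subsingleton (Dual.HD A ω i) := by
      refine subsingleton_of_forall_eq 0 fun x => ?_
      by_contra hx
      obtain ⟨q, hq⟩ := (Module.nonempty_support_iff (R := A)).2 (nontrivial_of_ne x 0 hx : Nontrivial (Dual.HD A ω i))
      rw [Module.mem_support_iff] at hq
      exact absurd (ShriekVanish.neg_le n ψ hψ Rψ adj q d (hd q) i hq) (by omega)
    refine (TensorAmp.exactAt_restrictCx_iff _ F i).2 ?_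
    rw [HomologicalComplex.exactAt_iff_isZero_homology, ← DBasic.subsingleton_HD_toD_iff]
    exact (DBasic.subsingleton_HD_congr e i).2 this
  have : QuasiIso (Trunc.tauGEπ G (-(d : ℤ))) := Trunc.quasiIso_tauGEπ G _ hex
  refine ⟨Trunc.tauGE G (-(d : ℤ)), Trunc.vanishesOutside_tauGE G _ hGb, fun i => ?_,
    ⟨(asIso (DerivedCategory.Q.map (Trunc.tauGEπ G (-(d : ℤ))))).symm ≪≫
      TensorAmp.restrictDIso (algebraMap R A) e⟩⟩
  rcases lt_trichotomy i (-(d : ℤ)) with hi | rfl | hi
  · have := ModuleCat.subsingleton_of_isZero (Trunc.tauGE_X_isZero G _ hi)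
    infer_instance
  · have := flat_coker hG (-(d : ℤ)) fun I => hkey I _ (by omega)
    exact Module.Flat.of_linearEquiv (R := R)
      (Submodule.quotEquivOfEq _ _ (Trunc.killSub_eq_range G _)).symm.symm
  · have := hG i
    exact Module.Flat.of_linearEquiv (R := R) (Trunc.tauGE_XIso G _ hi).toLinearEquiv

end Groth.Agent.DualCx.ShriekFlatAmp
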