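import Groth.Agent.DualCx.Residue
import Mathlib.Algebra.Homology.HomotopyCategory.HomComplexSingle
import Mathlib.Algebra.Category.ModuleCat.Injective
import Mathlib.RingTheory.Ideal.Quotient.Operations

/-!
# Finite injective dimension from cyclic modules
-/

universe u

open CategoryTheory CategoryTheory.Limits
open CochainComplex.HomComplex

attribute [local instance] HasDerivedCategory.standard

namespace Groth.Agent.DualCx.Amplitude

variable {A : Type u} [CommRing A]

open Devissage (E)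

/-- the single complex -/
noncomputable abbrev sgl (M : ModuleCat.{u} A) : DRing.Cx A :=
  (CochainComplex.singleFunctor (ModuleCat.{u} A) 0).obj M

/-- its class in `D(A)` -/
noncomputable def sglIso (M : ModuleCat.{u} A) :
    DRing.toD (sgl M) ≅ (DerivedCategory.singleFunctor (ModuleCat.{u} A) 0).obj M :=
  ((DerivedCategory.singleFunctorIsoCompQ (ModuleCat.{u} A) 0).app M).symm

variable (I : DRing.Cx A) [I.IsKInjective]

theorem exists_lift (M : Type u) [AddCommGroup M] [Module A M] (i : ℤ)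
    (h : Subsingleton (E M (DRing.toD I) i)) (φ : M →ₗ[A] I.X i)
    (hφ : ∀ m, (I.d i (i + 1)).hom (φ m) = 0) :
    ∃ ψ : M →ₗ[A] I.X (i - 1), ∀ m, (I.d (i - 1) i).hom (ψ m) = φ m := by
  have hd : ModuleCat.ofHom φ ≫ I.d i (i + 1) = 0 := ModuleCat.hom_ext (LinearMap.ext hφ)
  let z := Cocycle.fromSingleMk (ModuleCat.ofHom φ) (zero_add i) (i + 1) rfl hd
  have hz : CohomologyClass.mk z = 0 := by
    have : Subsingleton (DRing.toD (sgl (ModuleCat.of A M)) ⟶ (DRing.toD I)⟦i⟧) :=
      ((Hom.congr A (sglIso (ModuleCat.of A M)) (Iso.refl _)).toEquiv).subsingleton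
    exact (Cx.classHom _ I i).injective (Subsingleton.elim _ _)
  rw [CohomologyClass.mk_eq_zero_iff, mem_coboundaries_iff _ (i - 1) (by omega)] at hz
  obtain ⟨β, hβ⟩ := hz
  obtain ⟨ψ, rfl⟩ := Cochain.fromSingleMk_surjective β (i - 1) (zero_add _)
  rw [Cochain.δ_fromSingleMk _ _ _ i (zero_add i)] at hβ
  have := congrArg (Cochain.fromSingleEquiv (zero_add i)) hβ
  simp only [z, Cocycle.fromSingleMk_coe, Cochain.fromSingleEquiv_fromSingleMk] at this
  exact ⟨ψ.hom, fun m => congrArg (fun g => g.hom m) this⟩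

theorem subsingleton_of_lift (M : Type u) [AddCommGroup M] [Module A M] (i : ℤ)
    (h : ∀ φ : M →ₗ[A] I.X i, (∀ m, (I.d i (i + 1)).hom (φ m) = 0) →
      ∃ ψ : M →ₗ[A] I.X (i - 1), ∀ m, (I.d (i - 1) i).hom (ψ m) = φ m) :
    Subsingleton (E M (DRing.toD I) i) := by
  have : Subsingleton (CohomologyClass (sgl (ModuleCat.of A M)) I i) := by
    refine subsingleton_of_forall_eq 0 fun c => ?_
    obtain ⟨z, rfl⟩ := c.mk_surjective
    obtain ⟨f, hf⟩ := Cochain.fromSingleMk_surjective z.1 i (zero_add i)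
    have hd : f ≫ I.d i (i + 1) = 0 := by
      have h0 : δ i (i + 1) z.1 = 0 := Cocycle.δ_eq_zero z (i + 1)
      rw [← hf, Cochain.δ_fromSingleMk _ _ _ (i + 1) (zero_add _)] at h0
      simpa using congrArg (Cochain.fromSingleEquiv (zero_add (i + 1))) h0
    obtain ⟨ψ, hψ⟩ := h f.hom fun m => congrArg (fun g => g.hom m) hd
    rw [CohomologyClass.mk_eq_zero_iff, mem_coboundaries_iff _ (i - 1) (by omega)]
    refine ⟨Cochain.fromSingleMk (ModuleCat.ofHom ψ) (zero_add (i - 1)), ?_⟩
    rw [Cochain.δ_fromSingleMk _ _ _ i (zero_add i), ← hf]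
    congr 1
    exact ModuleCat.hom_ext (LinearMap.ext hψ)
  exact ((Hom.congr A (sglIso (ModuleCat.of A M)).symm (Iso.refl _)).toEquiv.trans
    (Cx.classHom _ I i).toEquiv.symm).subsingleton

/-- cycles -/
noncomputable abbrev Z (i : ℤ) : Submodule A (I.X i) := LinearMap.ker (I.d i (i + 1)).hom

variable (b : ℤ) (hb : ∀ i, b < i → ∀ J : Ideal A, Subsingleton (E (A ⧸ J) (DRing.toD I) i))

include hb

theorem injective_Z [∀ i, Injective (I.X i)] : Module.Injective A (Z I b) := by
  refine Module.Baer.injective fun J g => ?_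
  have : Module.Injective A (I.X b) :=
    Module.injective_module_of_injective_object A (I.X b)
      (inj := (inferInstance : Injective (I.X b)))
  obtain ⟨G, hG⟩ := Module.Injective.out J.subtype (Submodule.injective_subtype J)
    ((Z I b).subtype.comp g)
  let w : I.X b := G (1 : A)
  have hw : ∀ a : A, (ha : a ∈ J) → a • w = (g ⟨a, ha⟩ : I.X b) := fun a ha => by
    rw [← map_smul, smul_eq_mul, mul_one]; exact hG ⟨a, ha⟩
  let η : A ⧸ J →ₗ[A] I.X (b + 1) :=
    Submodule.liftQ J (LinearMap.toSpanSingleton A _ ((I.d b (b + 1)).hom w)) fun a ha => by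
      rw [LinearMap.mem_ker, LinearMap.toSpanSingleton_apply, ← map_smul, hw a ha]
      exact (g ⟨a, ha⟩).2
  obtain ⟨ζ, hζ⟩ := exists_lift I (A ⧸ J) (b + 1) (hb _ (by omega) J) η fun m => by
    obtain ⟨a, rfl⟩ := Submodule.Quotient.mk_surjective J m
    change (I.d (b + 1) (b + 1 + 1)).hom (a • (I.d b (b + 1)).hom w) = 0
    rw [map_smul, DRing.Homology.d_d, smul_zero]
  obtain ⟨ζ', hζ'⟩ : ∃ ζ' : A ⧸ J →ₗ[A] I.X b, ∀ m, (I.d b (b + 1)).hom (ζ' m) = η m := by
    revert ζ
    rw [show b + 1 - 1 = b by omega]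
    exact fun ζ hζ => ⟨ζ, hζ⟩
  let w' := w - ζ' (Submodule.Quotient.mk (1 : A))
  have hw' : w' ∈ Z I b := by
    change (I.d b (b + 1)).hom (w - ζ' (Submodule.Quotient.mk (1 : A))) = 0
    rw [map_sub, hζ']
    change (I.d b (b + 1)).hom w - (1 : A) • (I.d b (b + 1)).hom w = 0
    rw [one_smul, sub_self]
  refine ⟨LinearMap.toSpanSingleton A _ ⟨w', hw'⟩, fun a ha => Subtype.ext ?_⟩
  change a • (w - ζ' (Submodule.Quotient.mk (1 : A))) = _
  rw [smul_sub, hw a ha, ← map_smul, ← Submodule.Quotient.mk_smul,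
    (Submodule.Quotient.mk_eq_zero J).mpr (by rwa [smul_eq_mul, mul_one]), map_zero, sub_zero]

theorem exists_preimage (i : ℤ) (hi : b < i) (x : Z I i) :
    ∃ y, (I.d (i - 1) i).hom y = (x : I.X i) := by
  have : Subsingleton (E A (DRing.toD I) i) :=
    have := hb i hi ⊥
    ((Devissage.congrE (Submodule.quotEquivOfEqBot (⊥ : Ideal A) rfl) (DRing.toD I) i).symm
      ).toEquiv.subsingleton
  obtain ⟨ψ, hψ⟩ := exists_lift I A i this (LinearMap.toSpanSingleton A _ (x : I.X i)) fun a => by
    rw [LinearMap.toSpanSingleton_apply, map_smul, LinearMap.mem_ker.mp x.2, smul_zero]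
  exact ⟨ψ 1, by rw [hψ]; simp⟩

theorem exists_section [∀ i, Injective (I.X i)] : ∀ n : ℕ, Module.Injective A (Z I (b + n)) ∧
    ∃ s : Z I (b + n + 1) →ₗ[A] I.X (b + n), ∀ x, (I.d (b + n) (b + n + 1)).hom (s x) = x := by
  have main : ∀ i, b ≤ i → Module.Injective A (Z I i) →
      ∃ s : Z I (i + 1) →ₗ[A] I.X i, (∀ x, (I.d i (i + 1)).hom (s x) = x) ∧
        Module.Injective A (Z I (i + 1)) := by
    intro i hi hZ
    obtain ⟨r, hr⟩ := Module.Injective.out (Z I i).subtype (Submodule.injective_subtype _)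
      (LinearMap.id : Z I i →ₗ[A] Z I i)
    let D : I.X i →ₗ[A] Z I (i + 1) :=
      (I.d i (i + 1)).hom.codRestrict _ fun y => DRing.Homology.d_d i (i + 1) (i + 1 + 1) y
    have hD : Function.Surjective D := fun x => by
      obtain ⟨y, hy⟩ : ∃ y, (I.d i (i + 1)).hom y = (x : I.X (i + 1)) := by
        have := exists_preimage I b hb (i + 1) (by omega) x
        rwa [show i + 1 - 1 = i by omega] at this
      exact ⟨y, Subtype.ext hy⟩
    let P : I.X i →ₗ[A] I.X i := LinearMap.id - (Z I i).subtype.comp r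
    have hker : LinearMap.ker D ≤ LinearMap.ker P := fun y hy => by
      have hy' : y ∈ Z I i := congrArg Subtype.val hy
      have : (r y : I.X i) = y := congrArg Subtype.val (hr ⟨y, hy'⟩)
      simp [P, this]
    let s : Z I (i + 1) →ₗ[A] I.X i :=
      (Submodule.liftQ (LinearMap.ker D) P hker).comp
        (D.quotKerEquivOfSurjective hD).symm.toLinearMap
    have hs : ∀ x, D (s x) = x := by
      intro x
      obtain ⟨y, rfl⟩ := hD x
      have : (D.quotKerEquivOfSurjective hD).symm (D y) = Submodule.Quotient.mk y := by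
        rw [LinearEquiv.symm_apply_eq]; rfl
      simp only [s, LinearMap.comp_apply, LinearEquiv.coe_coe, this, Submodule.liftQ_apply, P,
        LinearMap.sub_apply, LinearMap.id_apply, map_sub, Submodule.subtype_apply]
      have h0 : D (r y : I.X i) = 0 := Subtype.ext (r y).2
      rw [h0, sub_zero]
    refine ⟨s, fun x => congrArg Subtype.val (hs x), ?_⟩
    have : Module.Injective A (I.X i) :=
      Module.injective_module_of_injective_object A (I.X i)
        (inj := (inferInstance : Injective (I.X i)))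
    refine ⟨fun {X Y} _ _ _ _ f hf g => ?_⟩
    obtain ⟨g', hg'⟩ := Module.Injective.out f hf (s.comp g)
    exact ⟨D.comp g', fun x => by rw [LinearMap.comp_apply, hg', LinearMap.comp_apply, hs]⟩
  intro n
  induction n with
  | zero =>
    have h0 : Module.Injective A (Z I (b + (0 : ℕ))) := by
      rw [show b + ((0 : ℕ) : ℤ) = b by simp]; exact injective_Z I b hb
    obtain ⟨s, hs, -⟩ := main (b + (0 : ℕ)) (by simp) h0
    exact ⟨h0, s, hs⟩
  | succ n ih =>
    obtain ⟨-, -, hinj⟩ := main (b + n) (by omega) ih.1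
    have h' : Module.Injective A (Z I (b + (n + 1 : ℕ))) := by
      rwa [show b + ((n + 1 : ℕ) : ℤ) = b + n + 1 by push_cast; ring]
    obtain ⟨s, hs, -⟩ := main (b + (n + 1 : ℕ)) (by omega) h'
    exact ⟨h', s, hs⟩

theorem subsingleton_E [∀ i, Injective (I.X i)] (M : Type u) [AddCommGroup M] [Module A M] (i : ℤ)
    (hi : b < i) : Subsingleton (E M (DRing.toD I) i) := by
  refine subsingleton_of_lift I M i fun φ hφ => ?_
  obtain ⟨n, rfl⟩ : ∃ n : ℕ, i = b + n + 1 := ⟨(i - b - 1).toNat, by omega⟩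
  obtain ⟨-, s, hs⟩ := exists_section I b hb n
  rw [show b + (n : ℤ) + 1 - 1 = b + n by omega]
  exact ⟨s.comp (φ.codRestrict _ hφ), fun m => hs _⟩

omit hb in
theorem subsingleton_of_lt {K : Dual.D A} (a : ℤ) [K.IsGE a] (M : Type u) [AddCommGroup M]
    [Module A M] (i : ℤ) (hi : i < a) : Subsingleton (E M K i) := by
  have : (K⟦i⟧).IsGE 1 := by
    have := DerivedCategory.TStructure.t.isGE_shift K a i (a - i) (by omega)
    exact DerivedCategory.TStructure.t.isGE_of_ge (K⟦i⟧) 1 (a - i) (by omega)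
  exact subsingleton_of_forall_eq 0 fun f => DerivedCategory.TStructure.t.zero f 0 1 (by omega)

end Groth.Agent.DualCx.Amplitude

namespace Groth.Agent.DualCx.Amplitude

variable {A : Type u} [CommRing A]

open Devissage (E)

/-- `Ext` into a bounded below object vanishes above `b` as soon as it does on cyclic modules. -/
theorem subsingleton_E_of_cyclic {K : Dual.D A} (a : ℤ) [K.IsGE a] (b : ℤ)
    (hb : ∀ i, b < i → ∀ J : Ideal A, Subsingleton (E (A ⧸ J) K i))
    (M : Type u) [AddCommGroup M] [Module A M] (i : ℤ) (hi : b < i) : Subsingleton (E M K i) := by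
  obtain ⟨L, ⟨hLi, a', hL'⟩, ⟨e⟩⟩ := Residue.exists_rep (ω := K) (a := a) fun i hi =>
    (DRing.DBasic.subsingleton_HD_iff_isZero K i).mpr (DerivedCategory.isZero_of_isGE K a i hi)
  have := Tower.GoodI.isKInjective (Y := L) ⟨hLi, a', hL'⟩
  have he : ∀ (N : Type u) [AddCommGroup N] [Module A N] (j : ℤ),
      E N (DRing.toD L) j ≃ₗ[A] E N K j := fun N _ _ j =>
    Hom.congr A (Iso.refl _) ((shiftFunctor (Dual.D A) j).mapIso e)
  have := subsingleton_E L b (fun j hj J => by
    have := hb j hj J; exact (he _ j).toEquiv.subsingleton) M i hi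
  exact (he M i).symm.toEquiv.subsingleton

end Groth.Agent.DualCx.Amplitude
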