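import Groth.Agent.DualCx.Hom
import Groth.Agent.DRing.DBasic
import Mathlib.Algebra.Homology.DerivedCategory.FullyFaithful
import Mathlib.Algebra.Homology.DerivedCategory.SingleTriangle
import Mathlib.Algebra.Homology.DerivedCategory.Linear
import Mathlib.RingTheory.FiniteLength
import Mathlib.RingTheory.SimpleModule.Basic
import Mathlib.RingTheory.LocalRing.ResidueField.Defs

/-!
# Contravariant devissage: short exact sequences of modules and truncations
-/

universe u

open CategoryTheory CategoryTheory.Limits CategoryTheory.Pretriangulated IsLocalRing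

attribute [local instance] HasDerivedCategory.standard

namespace Groth.Agent.DualCx.Devissage

variable {A : Type u} [CommRing A] {K : Dual.D A}

/-- `Hom(M[0], K[j])` -/
abbrev E (M : Type u) [AddCommGroup M] [Module A M] (K : Dual.D A) (j : ℤ) : Type (u + 1) :=
  Dual.inD A M ⟶ K⟦j⟧

/-- `Hom(X, K[j])` -/
abbrev F (X K : Dual.D A) (j : ℤ) : Type (u + 1) := X ⟶ K⟦j⟧

variable {M' M M'' : Type u} [AddCommGroup M'] [Module A M'] [AddCommGroup M] [Module A M]
  [AddCommGroup M''] [Module A M'']

/-- functoriality -/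
noncomputable def pre (f : M' →ₗ[A] M) (K : Dual.D A) (j : ℤ) : E M K j →ₗ[A] E M' K j :=
  CategoryTheory.Linear.leftComp A _
    ((DerivedCategory.singleFunctor (ModuleCat.{u} A) 0).map (ModuleCat.ofHom f))

theorem pre_comp (f : M' →ₗ[A] M) (g : M →ₗ[A] M'') (j : ℤ) (e : E M'' K j) :
    pre (g.comp f) K j e = pre f K j (pre g K j e) := by
  simp [pre, ← Category.assoc, ← Functor.map_comp]

theorem pre_id (j : ℤ) (e : E M K j) : pre (LinearMap.id : M →ₗ[A] M) K j e = e := by
  simp [pre]

theorem pre_smul (a : A) (f : M' →ₗ[A] M) (j : ℤ) (e : E M K j) :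
    pre (a • f) K j e = a • pre f K j e := by
  change (DerivedCategory.singleFunctor (ModuleCat.{u} A) 0).map (ModuleCat.ofHom (a • f)) ≫ e = _
  rw [show ModuleCat.ofHom (a • f) = a • ModuleCat.ofHom f from rfl, Functor.map_smul,
    Linear.smul_comp]
  rfl

/-- an isomorphism of modules -/
noncomputable def congrE (e : M ≃ₗ[A] M'') (K : Dual.D A) (j : ℤ) : E M K j ≃ₗ[A] E M'' K j :=
  Hom.congr A ((DerivedCategory.singleFunctor (ModuleCat.{u} A) 0).mapIso e.toModuleIso) (Iso.refl _)

section SES

variable {f : M' →ₗ[A] M} {g : M →ₗ[A] M''} (hf : Function.Injective f)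
  (hg : Function.Surjective g) (hfg : Function.Exact f g)

/-- the short complex -/
noncomputable abbrev sc : ShortComplex (ModuleCat.{u} A) :=
  ShortComplex.mk (ModuleCat.ofHom f) (ModuleCat.ofHom g)
    (ModuleCat.hom_ext (LinearMap.ext fun x => hfg.apply_apply_eq_zero x))

include hf hg hfg

theorem sc_shortExact : (sc hfg).ShortExact :=
  ShortComplex.ShortExact.mk' ((ShortComplex.ShortExact.moduleCat_exact_iff_function_exact (sc hfg)).mpr hfg)
    ((ModuleCat.mono_iff_injective _).mpr hf) ((ModuleCat.epi_iff_surjective _).mpr hg)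

theorem exact_mid (j : ℤ) : Function.Exact (pre g K j) (pre f K j) :=
  Hom.exact_pre A K (sc_shortExact hf hg hfg).singleTriangle_distinguished j

theorem surjective_pre (j : ℤ) (h : Subsingleton (E M'' K (j + 1))) :
    Function.Surjective (pre f K j) := fun e =>
  (Hom.exact_pre_cδ A K (sc_shortExact hf hg hfg).singleTriangle_distinguished j (j + 1) rfl e).mp
    (Subsingleton.elim (α := E M'' K (j + 1)) _ _)

theorem injective_pre (j : ℤ) (h : Subsingleton (E M' K (j - 1))) :
    Function.Injective (pre g K j) := by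
  rw [injective_iff_map_eq_zero]
  intro e he
  obtain ⟨e', rfl⟩ := (Hom.exact_cδ_pre A K (sc_shortExact hf hg hfg).singleTriangle_distinguished
    (j - 1) j (by omega) e).mp he
  rw [Subsingleton.elim (α := E M' K (j - 1)) e' 0]
  exact map_zero _

theorem subsingleton_mid (j : ℤ) (h' : Subsingleton (E M' K j)) (h'' : Subsingleton (E M'' K j)) :
    Subsingleton (E M K j) := by
  refine subsingleton_of_forall_eq 0 fun e => ?_
  obtain ⟨e', rfl⟩ := (exact_mid hf hg hfg j e).mp (Subsingleton.elim _ _)
  rw [Subsingleton.elim e' 0, map_zero]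

end SES

theorem subsingleton_of_subsingleton [Subsingleton M] (j : ℤ) : Subsingleton (E M K j) :=
  subsingleton_of_forall_eq 0 fun e => by
    have h : (LinearMap.id : M →ₗ[A] M) = (0 : A) • LinearMap.id := Subsingleton.elim _ _
    rw [← pre_id j e, h, pre_smul, zero_smul]

section Local

variable [IsLocalRing A]

theorem nonempty_residue_equiv (N : Type u) [AddCommGroup N] [Module A N] [IsSimpleModule A N] :
    Nonempty (N ≃ₗ[A] ResidueField A) := by
  obtain ⟨m, hm, ⟨e⟩⟩ := isSimpleModule_iff_quot_maximal.mp (inferInstance : IsSimpleModule A N)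
  obtain rfl := IsLocalRing.eq_maximalIdeal hm
  exact ⟨e⟩

theorem subsingleton_finiteLength (j : ℤ) (h : Subsingleton (E (ResidueField A) K j))
    (hN : IsFiniteLength A M) : Subsingleton (E M K j) := by
  induction hN with
  | of_subsingleton => exact subsingleton_of_subsingleton j
  | @of_simple_quotient P _ _ N _ hN ih =>
    obtain ⟨e⟩ := nonempty_residue_equiv (A := A) (P ⧸ N)
    exact subsingleton_mid (Submodule.injective_subtype N) (Submodule.mkQ_surjective N)
      (LinearMap.exact_subtype_mkQ N) j ih ((congrE e K j).toEquiv.subsingleton)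

theorem nontrivial_top (j : ℤ) (h : Nontrivial (E (ResidueField A) K j))
    (h1 : Subsingleton (E (ResidueField A) K (j + 1))) [Nontrivial M] (hN : IsFiniteLength A M) :
    Nontrivial (E M K j) := by
  have := (isFiniteLength_iff_isNoetherian_isArtinian.mp hN).2
  have hat : IsAtomic (Submodule A M) := inferInstance
  obtain ⟨S, hS, -⟩ := (hat.eq_bot_or_exists_atom_le ⊤).resolve_left top_ne_bot
  have : IsSimpleModule A S := isSimpleModule_iff_isAtom.mpr hS
  obtain ⟨e⟩ := nonempty_residue_equiv (A := A) S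
  have hQ : IsFiniteLength A (M ⧸ S) := by
    have := (isFiniteLength_iff_isNoetherian_isArtinian.mp hN).1
    exact isFiniteLength_iff_isNoetherian_isArtinian.mpr ⟨inferInstance, inferInstance⟩
  have : Nontrivial (E S K j) := (congrE e K j).toEquiv.nontrivial
  exact (surjective_pre (Submodule.injective_subtype S) (Submodule.mkQ_surjective S)
    (LinearMap.exact_subtype_mkQ S) j (subsingleton_finiteLength (j + 1) h1 hQ)).nontrivial

theorem nontrivial_bot (j : ℤ) (h : Nontrivial (E (ResidueField A) K j))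
    (h1 : Subsingleton (E (ResidueField A) K (j - 1))) [Nontrivial M] (hN : IsFiniteLength A M) :
    Nontrivial (E M K j) := by
  cases hN with
  | of_subsingleton => exact absurd ‹Subsingleton M› (not_subsingleton M)
  | of_simple_quotient hN =>
    rename_i N hs
    obtain ⟨e⟩ := nonempty_residue_equiv (A := A) (M ⧸ N)
    have : Nontrivial (E (M ⧸ N) K j) := (congrE e K j).toEquiv.nontrivial
    exact (injective_pre (Submodule.injective_subtype N) (Submodule.mkQ_surjective N)
      (LinearMap.exact_subtype_mkQ N) j (subsingleton_finiteLength (j - 1) h1 hN)).nontrivial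

end Local

section Trunc

open DerivedCategory

/-- cohomology functor -/
noncomputable abbrev H (i : ℤ) : Dual.D A ⥤ ModuleCat.{u} A := DRing.DBasic.HF i

theorem exists_split (X : Dual.D A) (q : ℤ) :
    ∃ T : Triangle (Dual.D A), T ∈ distTriang (Dual.D A) ∧ T.obj₂ = X ∧
      (∀ i, q < i → Subsingleton (Dual.HD A T.obj₁ i)) ∧
      (∀ i, i ≤ q → Subsingleton (Dual.HD A T.obj₃ i)) ∧
      (∀ i, i ≤ q → Nonempty (Dual.HD A T.obj₁ i ≃ₗ[A] Dual.HD A X i)) ∧
      (∀ i, q < i → Nonempty (Dual.HD A X i ≃ₗ[A] Dual.HD A T.obj₃ i)) := by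
  obtain ⟨X', X'', hle, hge, f, g, h, hT⟩ :=
    DerivedCategory.TStructure.t.exists_triangle X q (q + 1) rfl
  have : X'.IsLE q := ⟨hle⟩
  have : X''.IsGE (q + 1) := ⟨hge⟩
  have hl : ∀ i, q < i → IsZero ((H i).obj X') := fun i hi => isZero_of_isLE X' q i hi
  have hr : ∀ i, i ≤ q → IsZero ((H i).obj X'') := fun i hi => isZero_of_isGE X'' (q + 1) i (by omega)
  refine ⟨Triangle.mk f g h, hT, rfl, fun i hi => ModuleCat.subsingleton_of_isZero (hl i hi),
    fun i hi => ModuleCat.subsingleton_of_isZero (hr i hi), fun i hi => ?_, fun i hi => ?_⟩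
  · have h1 : Epi ((H i).map f) :=
      (HomologySequence.epi_homologyMap_mor₁_iff (Triangle.mk f g h) hT i).mpr
        ((hr i hi).eq_of_tgt _ _)
    have h2 : Mono ((H i).map f) :=
      (HomologySequence.mono_homologyMap_mor₁_iff (Triangle.mk f g h) hT (i - 1) i (by omega)).mpr
        ((hr (i - 1) (by omega)).eq_of_src _ _)
    have := isIso_of_mono_of_epi ((H i).map f)
    exact ⟨(asIso ((H i).map f)).toLinearEquiv⟩
  · have h1 : Epi ((H i).map g) :=
      (HomologySequence.epi_homologyMap_mor₂_iff (Triangle.mk f g h) hT i (i + 1) rfl).mpr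
        ((hl (i + 1) (by omega)).eq_of_tgt _ _)
    have h2 : Mono ((H i).map g) :=
      (HomologySequence.mono_homologyMap_mor₂_iff (Triangle.mk f g h) hT i).mpr
        ((hl i hi).eq_of_src _ _)
    have := isIso_of_mono_of_epi ((H i).map g)
    exact ⟨(asIso ((H i).map g)).toLinearEquiv⟩

/-- an object with cohomology only in degree `q` -/
theorem nonempty_single (X : Dual.D A) (q : ℤ)
    (h : ∀ i, i ≠ q → Subsingleton (Dual.HD A X i)) :
    Nonempty (X ≅ (Dual.inD A (Dual.HD A X q))⟦-q⟧) := by
  have : X.IsLE q := (DRing.DBasic.isLE_iff_subsingleton X q).mpr fun i hi => h i (by omega)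
  have : X.IsGE q := (DerivedCategory.isGE_iff X q).mpr fun i hi =>
    (DRing.DBasic.subsingleton_HD_iff_isZero X i).mp (h i (by omega))
  obtain ⟨N, ⟨e⟩⟩ := exists_iso_singleFunctor_obj_of_isGE_of_isLE X q
  let eN : (H q).obj X ≅ N :=
    (H q).mapIso e ≪≫ (singleFunctorCompHomologyFunctorIso (ModuleCat.{u} A) q).app N
  exact ⟨e ≪≫ (DerivedCategory.singleFunctor (ModuleCat.{u} A) q).mapIso eN.symm ≪≫
    (((DerivedCategory.singleFunctors (ModuleCat.{u} A)).shiftIso (-q) q 0 (by omega)).app _).symm⟩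

/-- `Hom` out of an object with cohomology only in degree `q` -/
theorem nonempty_F_single (X : Dual.D A) (q : ℤ) (h : ∀ i, i ≠ q → Subsingleton (Dual.HD A X i))
    (j : ℤ) : Nonempty (F X K j ≃ₗ[A] E (Dual.HD A X q) K (j + q)) := by
  obtain ⟨e⟩ := nonempty_single X q h
  exact ⟨(Hom.congr A e (Iso.refl _)).trans (Hom.shiftHom A (-q) (j + q) j (by omega) _ K).symm⟩

theorem subsingleton_F_aux (a : ℤ) : ∀ (n : ℕ) (X : Dual.D A),
    (∀ i, i < a ∨ a + n < i → Subsingleton (Dual.HD A X i)) → ∀ j : ℤ,
    (∀ q, a ≤ q → q ≤ a + n → Subsingleton (E (Dual.HD A X q) K (j + q))) →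
    Subsingleton (F X K j)
  | 0, X, hX, j, hE => by
    obtain ⟨e⟩ := nonempty_F_single (K := K) X a (fun i hi => hX i (by omega)) j
    have := hE a le_rfl (by omega)
    exact e.toEquiv.subsingleton
  | n + 1, X, hX, j, hE => by
    obtain ⟨T, hT, rfl, h1, h3, e1, e3⟩ := exists_split X (a + n)
    have hs1 : Subsingleton (F T.obj₁ K j) := by
      refine subsingleton_F_aux a n T.obj₁ (fun i hi => ?_) j (fun q hq hq' => ?_)
      · rcases hi with hi | hi
        · obtain ⟨e⟩ := e1 i (by omega)
          have := hX i (Or.inl hi)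
          exact e.toEquiv.subsingleton
        · exact h1 i hi
      · obtain ⟨e⟩ := e1 q hq'
        have := hE q hq (by push_cast; omega)
        exact (congrE e K (j + q)).toEquiv.subsingleton
    have hs3 : Subsingleton (F T.obj₃ K j) := by
      obtain ⟨e⟩ := nonempty_F_single (K := K) T.obj₃ (a + n + 1) (fun i hi => by
        by_cases hi' : i ≤ a + n
        · exact h3 i hi'
        · obtain ⟨e⟩ := e3 i (by omega)
          have := hX i (Or.inr (by push_cast; omega))
          exact e.symm.toEquiv.subsingleton) j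
      obtain ⟨e'⟩ := e3 (a + n + 1) (by omega)
      have := hE (a + n + 1) (by omega) (by push_cast; omega)
      have := (congrE e' K (j + (a + n + 1))).symm.toEquiv.subsingleton
      exact e.toEquiv.subsingleton
    refine subsingleton_of_forall_eq 0 fun f => ?_
    obtain ⟨g, rfl⟩ := (Hom.exact_pre A K hT j f).mp (Subsingleton.elim (α := F T.obj₁ K j) _ _)
    rw [Subsingleton.elim (α := F T.obj₃ K j) g 0]
    exact map_zero _

/-- vanishing by devissage along cohomology -/
theorem subsingleton_F (X : Dual.D A) (a b : ℤ)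
    (hX : ∀ i, i < a ∨ b < i → Subsingleton (Dual.HD A X i)) (j : ℤ)
    (hE : ∀ q, a ≤ q → q ≤ b → Subsingleton (E (Dual.HD A X q) K (j + q))) :
    Subsingleton (F X K j) := by
  refine subsingleton_F_aux a (b - a).toNat X (fun i hi => hX i (by omega)) j fun q hq hq' => ?_
  by_cases h : q ≤ b
  · exact hE q hq h
  · have := hX q (Or.inr (by omega))
    exact subsingleton_of_subsingleton _

/-- the contribution of the lowest cohomology -/
theorem nonempty_F_lowest (X : Dual.D A) (a b : ℤ)
    (hX : ∀ i, i < a ∨ b < i → Subsingleton (Dual.HD A X i)) (j : ℤ)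
    (h0 : ∀ q, a < q → q ≤ b → Subsingleton (E (Dual.HD A X q) K (j + q)))
    (h1 : ∀ q, a < q → q ≤ b → Subsingleton (E (Dual.HD A X q) K (j + 1 + q))) :
    Nonempty (F X K j ≃ₗ[A] E (Dual.HD A X a) K (j + a)) := by
  obtain ⟨T, hT, rfl, hl, hr, e1, e3⟩ := exists_split X a
  have hs : ∀ t, (∀ q, a < q → q ≤ b → Subsingleton (E (Dual.HD A T.obj₂ q) K (t + q))) →
      Subsingleton (F T.obj₃ K t) := fun t ht => by
    refine subsingleton_F T.obj₃ (a + 1) b (fun i hi => ?_) t fun q hq hq' => ?_
    · by_cases hi' : i ≤ a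
      · exact hr i hi'
      · obtain ⟨e⟩ := e3 i (by omega)
        have := hX i (by omega)
        exact e.symm.toEquiv.subsingleton
    · obtain ⟨e⟩ := e3 q (by omega)
      have := ht q (by omega) hq'
      exact (congrE e K (t + q)).symm.toEquiv.subsingleton
  have := hs j h0
  have := hs (j + 1) h1
  obtain ⟨e⟩ := nonempty_F_single (K := K) T.obj₁ a (fun i hi => by
    by_cases hi' : i ≤ a
    · obtain ⟨e⟩ := e1 i hi'
      have := hX i (by omega)
      exact e.toEquiv.subsingleton
    · exact hl i (by omega)) j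
  obtain ⟨e'⟩ := e1 a le_rfl
  refine ⟨((LinearEquiv.ofBijective (Hom.pre₁ A T K j) ⟨?_, fun f => ?_⟩).trans e).trans
    (congrE e' K (j + a))⟩
  · rw [injective_iff_map_eq_zero]
    intro f hf
    obtain ⟨g, rfl⟩ := (Hom.exact_pre A K hT j f).mp hf
    rw [Subsingleton.elim (α := F T.obj₃ K j) g 0, map_zero]
  · exact (Hom.exact_pre_cδ A K hT j (j + 1) rfl f).mp
      (Subsingleton.elim (α := F T.obj₃ K (j + 1)) _ _)

/-- the contribution of the highest cohomology -/
theorem nonempty_F_highest (X : Dual.D A) (a b : ℤ)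
    (hX : ∀ i, i < a ∨ b < i → Subsingleton (Dual.HD A X i)) (j : ℤ)
    (h0 : ∀ q, a ≤ q → q < b → Subsingleton (E (Dual.HD A X q) K (j + q)))
    (h1 : ∀ q, a ≤ q → q < b → Subsingleton (E (Dual.HD A X q) K (j - 1 + q))) :
    Nonempty (F X K j ≃ₗ[A] E (Dual.HD A X b) K (j + b)) := by
  obtain ⟨T, hT, rfl, hl, hr, e1, e3⟩ := exists_split X (b - 1)
  have hs : ∀ t, (∀ q, a ≤ q → q < b → Subsingleton (E (Dual.HD A T.obj₂ q) K (t + q))) →
      Subsingleton (F T.obj₁ K t) := fun t ht => by
    refine subsingleton_F T.obj₁ a (b - 1) (fun i hi => ?_) t fun q hq hq' => ?_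
    · by_cases hi' : i ≤ b - 1
      · obtain ⟨e⟩ := e1 i hi'
        have := hX i (by omega)
        exact e.toEquiv.subsingleton
      · exact hl i (by omega)
    · obtain ⟨e⟩ := e1 q hq'
      have := ht q hq (by omega)
      exact (congrE e K (t + q)).toEquiv.subsingleton
  have := hs j h0
  have := hs (j - 1) h1
  obtain ⟨e⟩ := nonempty_F_single (K := K) T.obj₃ b (fun i hi => by
    by_cases hi' : i ≤ b - 1
    · exact hr i hi'
    · obtain ⟨e⟩ := e3 i (by omega)
      have := hX i (by omega)
      exact e.symm.toEquiv.subsingleton) j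
  obtain ⟨e'⟩ := e3 b (by omega)
  refine ⟨((LinearEquiv.ofBijective (Hom.pre₂ A T K j) ⟨?_, fun f => ?_⟩).symm.trans e).trans
    (congrE e' K (j + b)).symm⟩
  · rw [injective_iff_map_eq_zero]
    intro f hf
    obtain ⟨g, rfl⟩ := (Hom.exact_cδ_pre A K hT (j - 1) j (by omega) f).mp hf
    rw [Subsingleton.elim (α := F T.obj₁ K (j - 1)) g 0, map_zero]
  · exact (Hom.exact_pre A K hT j f).mp (Subsingleton.elim (α := F T.obj₁ K j) _ _)

end Trunc

end Groth.Agent.DualCx.Devissage
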