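import Mathlib.Algebra.Homology.HomotopyCategory.MappingCone
import Mathlib.Algebra.Homology.HomotopyCategory.HomComplexCohomology
import Mathlib.Algebra.Category.ModuleCat.Basic
import Mathlib.Algebra.Category.ModuleCat.Abelian
import Mathlib.Algebra.Homology.Linear
import Mathlib.Algebra.Homology.HomotopyCategory.KInjective
import Mathlib.Algebra.Category.ModuleCat.Biproducts

/-!
# Iterated cones of multiplication maps and their adjunction in the Hom complex
-/

universe u

open CategoryTheory CategoryTheory.Limits CochainComplex CochainComplex.HomComplex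
  CochainComplex.mappingCone

namespace Groth.Agent.DualCx.Tower

variable {A : Type u} [CommRing A]

/-- Cone of multiplication by `x`. -/
noncomputable abbrev cn (x : A) (Y : CochainComplex (ModuleCat.{u} A) ℤ) :
    CochainComplex (ModuleCat.{u} A) ℤ :=
  mappingCone (x • 𝟙 Y)

/-- Iterated cones of multiplication by the elements of a list. -/
noncomputable def T : List A → CochainComplex (ModuleCat.{u} A) ℤ → CochainComplex (ModuleCat.{u} A) ℤ
  | [], Y => Y
  | x :: l, Y => cn x (T l Y)

theorem T_append : ∀ (l l' : List A) (Y : CochainComplex (ModuleCat.{u} A) ℤ),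
    T (l ++ l') Y = T l (T l' Y)
  | [], _, _ => rfl
  | x :: l, l', Y => congrArg (cn x) (T_append l l' Y)

/-- bounded below complex of injectives -/
def GoodI (Y : CochainComplex (ModuleCat.{u} A) ℤ) : Prop :=
  (∀ n, Injective (Y.X n)) ∧ ∃ a : ℤ, Y.IsStrictlyGE a

theorem GoodI.isKInjective {Y : CochainComplex (ModuleCat.{u} A) ℤ} (h : GoodI Y) :
    Y.IsKInjective :=
  have := h.1
  have := h.2.choose_spec
  CochainComplex.isKInjective_of_injective Y h.2.choose

theorem goodI_cn (x : A) {Y : CochainComplex (ModuleCat.{u} A) ℤ} (h : GoodI Y) : GoodI (cn x Y) := by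
  obtain ⟨hi, a, ha⟩ := h
  refine ⟨fun n => ?_, a - 1, ?_⟩
  · have := hi n
    have := hi (n + 1)
    exact Injective.of_iso (HomologicalComplex.homotopyCofiber.XIsoBiprod (x • 𝟙 Y) n (n + 1) rfl).symm
      inferInstance
  · refine (CochainComplex.isStrictlyGE_iff _ _).mpr fun i hi' => ?_
    exact (mappingCone.isZero_X_iff (x • 𝟙 Y) i).mpr
      ⟨Y.isZero_of_isStrictlyGE a _ (by omega), Y.isZero_of_isStrictlyGE a _ (by omega)⟩

theorem goodI_T : ∀ (l : List A) {Y : CochainComplex (ModuleCat.{u} A) ℤ}, GoodI Y → GoodI (T l Y)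
  | [], _, h => h
  | x :: l, _, h => goodI_cn x (goodI_T l h)

/-- an additive bijection of cohomology classes commuting with scalars -/
def SmulCompat {P Y P' Y' : CochainComplex (ModuleCat.{u} A) ℤ} {n m : ℤ}
    (e : CohomologyClass P Y n ≃+ CohomologyClass P' Y' m) : Prop :=
  ∀ (a : A) (z : Cocycle P Y n), ∃ z' : Cocycle P' Y' m,
    e (CohomologyClass.mk z) = CohomologyClass.mk z' ∧
      e (CohomologyClass.mk (a • z)) = CohomologyClass.mk (a • z')

variable {x : A} {P Y : CochainComplex (ModuleCat.{u} A) ℤ}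

theorem ofHom_smul_comp {n : ℤ} (β : Cochain P Y n) :
    (Cochain.ofHom (x • 𝟙 P)).comp β (zero_add n) = x • β := by
  ext p q hpq
  simp

theorem comp_ofHom_smul {n : ℤ} (β : Cochain P Y n) :
    β.comp (Cochain.ofHom (x • 𝟙 Y)) (add_zero n) = x • β := by
  ext p q hpq
  simp

variable (x P Y)

/-- `Hom^n(cn x P, Y) → Hom^m(P, cn x Y)` -/
noncomputable def adj (n m : ℤ) (h : m + 1 = n) (z : Cochain (cn x P) Y n) :
    Cochain P (cn x Y) m :=
  liftCochain (x • 𝟙 Y) ((Cochain.ofHom (inr (x • 𝟙 P))).comp z (zero_add n))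
    (-(n.negOnePow • (inl (x • 𝟙 P)).comp z (show -1 + n = m by omega))) h

/-- its inverse -/
noncomputable def adjInv (n m : ℤ) (h : m + 1 = n) (w : Cochain P (cn x Y) m) :
    Cochain (cn x P) Y n :=
  descCochain (x • 𝟙 P) (-(n.negOnePow • w.comp (snd (x • 𝟙 Y)) (add_zero m)))
    (w.comp (fst (x • 𝟙 Y)).1 h) h

variable {x P Y}

theorem adjInv_adj (n m : ℤ) (h : m + 1 = n) (z : Cochain (cn x P) Y n) :
    adjInv x P Y n m h (adj x P Y n m h z) = z := by
  rw [ext_cochain_from_iff _ m n h]
  refine ⟨?_, ?_⟩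
  · simp [adjInv, adj, smul_smul]
  · simp [adjInv, adj]

theorem adj_adjInv (n m : ℤ) (h : m + 1 = n) (w : Cochain P (cn x Y) m) :
    adj x P Y n m h (adjInv x P Y n m h w) = w := by
  rw [ext_cochain_to_iff _ m n h]
  refine ⟨?_, ?_⟩
  · simp [adjInv, adj]
  · simp [adjInv, adj, smul_smul]

theorem δ_adj (n m n' : ℤ) (h : m + 1 = n) (h' : n + 1 = n') (z : Cochain (cn x P) Y n) :
    δ m n (adj x P Y n m h z) = -adj x P Y n' n h' (δ n n' z) := by
  obtain ⟨α, β, rfl⟩ : ∃ α β, z = descCochain (x • 𝟙 P) α β h :=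
    ⟨(inl _).comp z (show -1 + n = m by omega), (Cochain.ofHom (inr _)).comp z (zero_add n), by
      rw [ext_cochain_from_iff _ m n h]; simp⟩
  have hd : δ n n' (descCochain (x • 𝟙 P) α β h) = descCochain (x • 𝟙 P)
      (δ m n α + n'.negOnePow • (x • β)) (δ n n' β) h' := by
    rw [δ_descCochain _ _ _ _ _ h', ofHom_smul_comp]
    rfl
  rw [hd]
  simp only [adj, inl_descCochain, inr_descCochain]
  rw [δ_liftCochain _ _ _ h n' h', comp_ofHom_smul]
  subst h'
  rw [ext_cochain_to_iff _ n (n + 1) rfl]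
  constructor
  · simp
  · simp [Int.negOnePow_succ, smul_smul]

theorem adj_sub (n m : ℤ) (h : m + 1 = n) (z z' : Cochain (cn x P) Y n) :
    adj x P Y n m h (z - z') = adj x P Y n m h z - adj x P Y n m h z' := by
  rw [ext_cochain_to_iff _ m n h]
  constructor <;> simp [adj, smul_sub] <;> abel

theorem adj_zero (n m : ℤ) (h : m + 1 = n) : adj x P Y n m h 0 = 0 := by
  simpa using adj_sub (x := x) (P := P) (Y := Y) n m h 0 0

theorem adj_add (n m : ℤ) (h : m + 1 = n) (z z' : Cochain (cn x P) Y n) :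
    adj x P Y n m h (z + z') = adj x P Y n m h z + adj x P Y n m h z' := by
  have := adj_sub n m h (z + z') z'
  rw [add_sub_cancel_right] at this
  rw [this, sub_add_cancel]

theorem adj_smul (n m : ℤ) (h : m + 1 = n) (a : A) (z : Cochain (cn x P) Y n) :
    adj x P Y n m h (a • z) = a • adj x P Y n m h z := by
  rw [ext_cochain_to_iff _ m n h]
  constructor <;> simp [adj, smul_comm a n.negOnePow]

variable (x P Y)

/-- the bijection on cocycles -/
noncomputable def adjCocycle (n m : ℤ) (h : m + 1 = n) :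
    Cocycle (cn x P) Y n →+ Cocycle P (cn x Y) m :=
  AddMonoidHom.mk' (fun z => Cocycle.mk (adj x P Y n m h z.1) n h (by
      rw [δ_adj n m (n + 1) h rfl, Cocycle.δ_eq_zero, adj_zero, neg_zero]))
    (fun z z' => Subtype.ext (adj_add n m h z.1 z'.1))

theorem exists_classEquiv (n m : ℤ) (h : m + 1 = n) :
    ∃ e : CohomologyClass (cn x P) Y n ≃+ CohomologyClass P (cn x Y) m, SmulCompat (A := A) e := by
  let f : CohomologyClass (cn x P) Y n →+ CohomologyClass P (cn x Y) m :=
    CohomologyClass.descAddMonoidHom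
      ((CohomologyClass.mkAddMonoidHom _ _ _).comp (adjCocycle x P Y n m h)) (by
        rintro z ⟨k, hk, γ, hγ⟩
        change CohomologyClass.mk _ = 0
        rw [CohomologyClass.mk_eq_zero_iff, mem_coboundaries_iff _ (k - 1) (by omega)]
        refine ⟨-adj x P Y k (k - 1) (by omega) γ, ?_⟩
        obtain rfl : k = m := by omega
        rw [δ_neg, δ_adj k (k - 1) n (by omega) h, neg_neg, hγ]
        rfl)
  refine ⟨AddEquiv.ofBijective f ⟨?_, ?_⟩, fun a z => ⟨adjCocycle x P Y n m h z, rfl,
    congrArg CohomologyClass.mk (Subtype.ext (adj_smul n m h a z.1))⟩⟩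
  · rw [injective_iff_map_eq_zero]
    intro c hc
    obtain ⟨z, rfl⟩ := c.mk_surjective
    change CohomologyClass.mk _ = 0 at hc
    rw [CohomologyClass.mk_eq_zero_iff, mem_coboundaries_iff _ (m - 1) (by omega)] at hc
    obtain ⟨w, hw⟩ := hc
    rw [CohomologyClass.mk_eq_zero_iff, mem_coboundaries_iff _ m h]
    refine ⟨-adjInv x P Y m (m - 1) (by omega) w, ?_⟩
    have key := δ_adj m (m - 1) n (by omega) h (adjInv x P Y m (m - 1) (by omega) w)
    rw [adj_adjInv, hw] at key
    have := congrArg (adjInv x P Y n m h) (neg_eq_iff_eq_neg.mpr key)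
    rw [δ_neg]
    have hinj : Function.Injective (adj x P Y n m h) :=
      Function.LeftInverse.injective (adjInv_adj n m h)
    apply hinj
    have h2 : adj x P Y n m h (-δ m n (adjInv x P Y m (m - 1) (by omega) w)) =
        -adj x P Y n m h (δ m n (adjInv x P Y m (m - 1) (by omega) w)) := by
      simpa [adj_zero] using adj_sub (x := x) (P := P) (Y := Y) n m h 0 _
    rw [h2, ← key]
    rfl
  · intro c
    obtain ⟨w, rfl⟩ := c.mk_surjective
    have hz : δ n (n + 1) (adjInv x P Y n m h w.1) = 0 := by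
      have key := δ_adj n m (n + 1) h rfl (adjInv x P Y n m h w.1)
      rw [adj_adjInv, Cocycle.δ_eq_zero, zero_eq_neg] at key
      have hinj : Function.Injective (adj x P Y (n + 1) n rfl) :=
        Function.LeftInverse.injective (adjInv_adj (n + 1) n rfl)
      exact hinj (key.trans (adj_zero _ _ _).symm)
    exact ⟨CohomologyClass.mk (Cocycle.mk (adjInv x P Y n m h w.1) (n + 1) rfl hz),
      congrArg CohomologyClass.mk (Subtype.ext (adj_adjInv n m h w.1))⟩

theorem mk_smul_congr {n : ℤ} (a : A) (z z' : Cocycle P Y n)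
    (h : CohomologyClass.mk z = CohomologyClass.mk z') :
    CohomologyClass.mk (a • z) = CohomologyClass.mk (a • z') := by
  rw [← sub_eq_zero, ← CohomologyClass.mk_sub, CohomologyClass.mk_eq_zero_iff,
    mem_coboundaries_iff _ (n - 1) (by omega)] at h ⊢
  obtain ⟨β, hβ⟩ := h
  exact ⟨a • β, by rw [δ_smul, hβ, ← smul_sub]; rfl⟩

/-- Moving a tower from the source to the target. -/
theorem exists_towerEquiv : ∀ (l : List A) (P Y : CochainComplex (ModuleCat.{u} A) ℤ) (n m : ℤ),
    m + l.length = n →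
    ∃ e : CohomologyClass (T l P) Y n ≃+ CohomologyClass P (T l.reverse Y) m,
      SmulCompat (A := A) e
  | [], P, Y, n, m, h => by
    obtain rfl : m = n := by simpa using h
    exact ⟨AddEquiv.refl _, fun a z => ⟨z, rfl, rfl⟩⟩
  | x :: l, P, Y, n, m, h => by
    have h' : m + l.length = n - 1 := by simp at h; omega
    obtain ⟨e₁, h₁⟩ := exists_classEquiv x (T l P) Y n (n - 1) (by omega)
    obtain ⟨e₂, h₂⟩ := exists_towerEquiv l P (cn x Y) (n - 1) m h'
    rw [List.reverse_cons, T_append]
    refine ⟨e₁.trans e₂, fun a z => ?_⟩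
    obtain ⟨z', hz, hz'⟩ := h₁ a z
    obtain ⟨z'', hz₂, hz₂'⟩ := h₂ a z'
    exact ⟨z'', (congrArg e₂ hz).trans hz₂, (congrArg e₂ hz').trans hz₂'⟩

end Groth.Agent.DualCx.Tower
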