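import Groth.Agent.DualCx.Hom
import Groth.Agent.DualCx.Tower
import Groth.Agent.DRing.DBasic
import Groth.Agent.DRing.Homology
import Mathlib.Algebra.Homology.DerivedCategory.KInjective
import Mathlib.Algebra.Homology.DerivedCategory.Linear
import Mathlib.Algebra.Homology.ShortComplex.Linear

/-!
# Morphisms from `A[0]`, linearity of cohomology, K-injective targets
-/

universe u

open CategoryTheory CategoryTheory.Limits DerivedCategory
open CochainComplex.HomComplex

attribute [local instance] HasDerivedCategory.standard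

namespace Groth.Agent.DualCx.Cx

open Groth.Agent.DRing.DBasic

variable {A : Type u} [CommRing A]

instance linear_cxHomology (i : ℤ) :
    (HomologicalComplex.homologyFunctor (ModuleCat.{u} A) (ComplexShape.up ℤ) i).Linear A where
  map_smul {K L} f r := by
    have : (HomologicalComplex.shortComplexFunctor (ModuleCat.{u} A) (ComplexShape.up ℤ) i).map
        (r • f) = r • (HomologicalComplex.shortComplexFunctor (ModuleCat.{u} A)
          (ComplexShape.up ℤ) i).map f := by ext <;> rfl
    change HomologicalComplex.homologyMap (r • f) i = r • HomologicalComplex.homologyMap f i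
    rw [HomologicalComplex.homologyMap, this, ShortComplex.homologyMap_smul]
    rfl

instance linear_HF (i : ℤ) : (HF (A := A) i).Linear A := by
  let : Localization.Lifting (DerivedCategory.Q (C := ModuleCat.{u} A))
      (HomologicalComplex.quasiIso (ModuleCat.{u} A) (ComplexShape.up ℤ))
      (HomologicalComplex.homologyFunctor (ModuleCat.{u} A) (ComplexShape.up ℤ) i) (HF i) :=
    ⟨homologyFunctorFactors (ModuleCat.{u} A) i⟩
  exact (Localization.functor_linear_iff DerivedCategory.Q
    (HomologicalComplex.quasiIso (ModuleCat.{u} A) (ComplexShape.up ℤ)) A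
    (HomologicalComplex.homologyFunctor (ModuleCat.{u} A) (ComplexShape.up ℤ) i) (HF i)).mp
    inferInstance

variable (A) in
/-- `A` in degree zero. -/
noncomputable abbrev unitCx : DRing.Cx A :=
  (HomologicalComplex.single (ModuleCat.{u} A) (ComplexShape.up ℤ) 0).obj (ModuleCat.of A A)

variable (A) in
/-- The complex `A[0]` represents `inD A A`. -/
noncomputable def unitIso : DRing.toD (unitCx A) ≅ Dual.inD A A :=
  ((singleFunctorIsoCompQ (ModuleCat.{u} A) 0).app (ModuleCat.of A A)).symm

instance isKProjective_unit : (unitCx A).IsKProjective := by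
  refine isKProjective_of_projective _ 0
    (fun i hi => HomologicalComplex.isZero_single_obj_X _ _ _ i (by omega)) fun i => ?_
  by_cases h : i = 0
  · subst h
    exact Module.Projective.of_equiv (HomologicalComplex.singleObjXSelf (ComplexShape.up ℤ) 0
      (ModuleCat.of A A)).toLinearEquiv.symm
  · have := ModuleCat.subsingleton_of_isZero
      (HomologicalComplex.isZero_single_obj_X (ComplexShape.up ℤ) (0 : ℤ) (ModuleCat.of A A) i h)
    infer_instance

variable (A) in
/-- the unit section of `A[0]` -/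
noncomputable def u₀ : (unitCx A).X 0 :=
  (HomologicalComplex.singleObjXSelf (ComplexShape.up ℤ) 0 (ModuleCat.of A A)).inv.hom (1 : A)

theorem isCyc_u₀ : DRing.Homology.IsCyc (unitCx A) 0 (u₀ A) := by
  have := ModuleCat.subsingleton_of_isZero (HomologicalComplex.isZero_single_obj_X
      (ComplexShape.up ℤ) (0 : ℤ) (ModuleCat.of A A) ((0 : ℤ) + 1) (by omega))
  exact Subsingleton.elim _ _

variable (A) in
/-- the unit class in `H^0(A[0])` -/
noncomputable def e₀ : Dual.HD A (Dual.inD A A) 0 :=
  ((HF 0).map (unitIso A).hom).hom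
    ((hIso (unitCx A) 0).inv.hom (DRing.Homology.cls (u₀ A) isCyc_u₀))

/-- evaluation at the unit class -/
noncomputable def evalA (K : Dual.D A) : (Dual.inD A A ⟶ K) →ₗ[A] Dual.HD A K 0 :=
  (LinearMap.applyₗ (e₀ A)).comp
    ((ModuleCat.homLinearEquiv (S := A)).toLinearMap.comp ((HF (A := A) 0).mapLinearMap A))

theorem evalA_apply (K : Dual.D A) (f : Dual.inD A A ⟶ K) :
    evalA K f = ((HF 0).map f).hom (e₀ A) := rfl

theorem evalA_Q_map {L : DRing.Cx A} (g : unitCx A ⟶ L) :
    evalA (DRing.toD L) ((unitIso A).inv ≫ Q.map g) = (hIso L 0).inv.hom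
      (DRing.Homology.cls ((g.f 0).hom (u₀ A)) (DRing.Homology.isCyc_map g isCyc_u₀)) := by
  rw [evalA_apply, e₀, ← DRing.Homology.homologyMap_cls g isCyc_u₀]
  rw [← LinearMap.comp_apply, ← ModuleCat.hom_comp, ← Functor.map_comp, Iso.hom_inv_id_assoc,
    HF_map_Q_eq]
  simp only [ModuleCat.hom_comp, LinearMap.comp_apply]
  rw [← LinearMap.comp_apply (hIso (unitCx A) 0).hom.hom, ← ModuleCat.hom_comp, Iso.inv_hom_id]
  rfl

theorem single_hom_zero {L : DRing.Cx A} (a b : (unitCx A).X 0 ⟶ L.X 0)
    (h : a.hom (u₀ A) = b.hom (u₀ A)) : a = b := by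
  let e := HomologicalComplex.singleObjXSelf (ComplexShape.up ℤ) 0 (ModuleCat.of A A)
  rw [← cancel_epi e.inv]
  exact ModuleCat.hom_ext (LinearMap.ext_ring h)

theorem evalA_bijective (K : Dual.D A) : Function.Bijective (evalA K) := by
  obtain ⟨L, ⟨e⟩⟩ : ∃ L : DRing.Cx A, Nonempty (DRing.toD L ≅ K) :=
    ⟨_, ⟨Q.objObjPreimageIso K⟩⟩
  suffices h : Function.Bijective (evalA (DRing.toD L)) by
    have hn : ∀ f, evalA K (f ≫ e.hom) = ((HF 0).map e.hom).hom (evalA (DRing.toD L) f) := by
      intro f
      rw [evalA_apply, evalA_apply, Functor.map_comp, ModuleCat.hom_comp, LinearMap.comp_apply]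
    have hb : Function.Bijective (((HF 0).map e.hom).hom) :=
      ((HF 0).mapIso e).toLinearEquiv.bijective
    have hc : Function.Bijective (fun f : Dual.inD A A ⟶ DRing.toD L => f ≫ e.hom) :=
      (Iso.homCongr (Iso.refl _) e).bijective.comp Function.bijective_id |> fun h => by
        convert h using 2 with f
        simp
    have : evalA K ∘ (fun f : Dual.inD A A ⟶ DRing.toD L => f ≫ e.hom) =
        ((HF 0).map e.hom).hom ∘ evalA (DRing.toD L) := funext hn
    exact (Function.Bijective.of_comp_iff _ hc).mp (this ▸ hb.comp h)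
  have hs : ∀ f : Dual.inD A A ⟶ DRing.toD L,
      ∃ g : unitCx A ⟶ L, f = (unitIso A).inv ≫ Q.map g := by
    intro f
    obtain ⟨g, hg⟩ := exists_Q_map_eq ((unitIso A).hom ≫ f)
    exact ⟨g, by rw [hg, Iso.inv_hom_id_assoc]⟩
  constructor
  · rw [injective_iff_map_eq_zero]
    intro f hf
    obtain ⟨g, rfl⟩ := hs f
    rw [evalA_Q_map] at hf
    replace hf := (hIso L 0).toLinearEquiv.symm.map_eq_zero_iff.mp hf
    rw [DRing.Homology.cls_eq_zero_iff (-1) (by norm_num)] at hf
    obtain ⟨w, hw⟩ := hf
    let e := HomologicalComplex.singleObjXSelf (ComplexShape.up ℤ) 0 (ModuleCat.of A A)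
    let k : (unitCx A).X 0 ⟶ L.X (-1) := e.hom ≫ ModuleCat.ofHom (LinearMap.toSpanSingleton A _ w)
    have hk : k.hom (u₀ A) = w := by
      change LinearMap.toSpanSingleton A _ w (e.hom.hom (e.inv.hom (1 : A))) = w
      rw [← LinearMap.comp_apply e.hom.hom, ← ModuleCat.hom_comp, Iso.inv_hom_id]
      simp
    have hh : Homotopy g 0 := (Cochain.equivHomotopy g 0).symm
      ⟨Cochain.single k (-1), by
        rw [Cochain.ofHom_zero, add_zero]
        refine Cochain.ext _ _ fun p q hpq => ?_
        obtain rfl : p = q := by omega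
        by_cases hp : p = 0
        · subst hp
          rw [Cochain.ofHom_v, δ_v (-1) 0 (by norm_num) _ 0 0 (by norm_num) (-1) 1 (by norm_num)
            (by norm_num)]
          have hz : (unitCx A).d 0 1 = 0 :=
            (HomologicalComplex.isZero_single_obj_X (ComplexShape.up ℤ) (0 : ℤ)
              (ModuleCat.of A A) 1 one_ne_zero).eq_of_tgt _ _
          rw [hz, zero_comp, smul_zero, add_zero, Cochain.single_v]
          refine single_hom_zero _ _ ?_
          change _ = (L.d (-1) 0).hom (k.hom (u₀ A))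
          rw [hk, hw]
        · exact (HomologicalComplex.isZero_single_obj_X (ComplexShape.up ℤ) (0 : ℤ)
            (ModuleCat.of A A) p hp).eq_of_src _ _⟩
    rw [DerivedCategory.Q_map_eq_of_homotopy (ModuleCat.{u} A) hh, Functor.map_zero, comp_zero]
  · intro c
    obtain ⟨z, hz, hzc⟩ := DRing.Homology.cls_surjective ((hIso L 0).hom.hom c)
    let e := HomologicalComplex.singleObjXSelf (ComplexShape.up ℤ) 0 (ModuleCat.of A A)
    let g : unitCx A ⟶ L :=
      HomologicalComplex.mkHomFromSingle (ModuleCat.ofHom (LinearMap.toSpanSingleton A _ z))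
        (fun k hk => by
          obtain rfl : (0 : ℤ) + 1 = k := hk
          refine ModuleCat.hom_ext (LinearMap.ext_ring ?_)
          change (L.d 0 (0 + 1)).hom ((1 : A) • z) = 0
          rw [one_smul]; exact hz)
    refine ⟨(unitIso A).inv ≫ Q.map g, ?_⟩
    rw [evalA_Q_map]
    have hg : (g.f 0).hom (u₀ A) = z := by
      rw [HomologicalComplex.mkHomFromSingle_f]
      change LinearMap.toSpanSingleton A _ z (e.hom.hom (e.inv.hom (1 : A))) = z
      rw [← LinearMap.comp_apply e.hom.hom, ← ModuleCat.hom_comp, Iso.inv_hom_id]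
      simp
    simp only [hg, hzc]
    exact (hIso L 0).toLinearEquiv.symm_apply_apply c

/-- `Hom(A[0], K) = H^0 K`. -/
noncomputable def homUnitEquiv (K : Dual.D A) : (Dual.inD A A ⟶ K) ≃ₗ[A] Dual.HD A K 0 :=
  LinearEquiv.ofBijective (evalA K) (evalA_bijective K)

/-- `Hom(A[0], K[i]) = H^i K`. -/
noncomputable def homUnitEquivShift (K : Dual.D A) (i : ℤ) :
    (Dual.inD A A ⟶ K⟦i⟧) ≃ₗ[A] Dual.HD A K i :=
  (homUnitEquiv (K⟦i⟧)).trans (HFShiftIso K i 0 i (add_zero i)).toLinearEquiv

/-- Cohomology classes into a K-injective complex are morphisms in `D(A)`. -/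
noncomputable def classHom (P L : DRing.Cx A) [L.IsKInjective] (n : ℤ) :
    CohomologyClass P L n ≃+ (DRing.toD P ⟶ (DRing.toD L)⟦n⟧) :=
  ((CohomologyClass.homAddEquiv (K := P) (L := L) (n := n)).trans
    (AddEquiv.ofBijective (DerivedCategory.Qh.mapAddHom)
      (CochainComplex.IsKInjective.Qh_map_bijective _ _))).trans
    (Hom.congr A ((quotientCompQhIso (ModuleCat.{u} A)).app P)
      ((quotientCompQhIso (ModuleCat.{u} A)).app (L⟦n⟧) ≪≫
        ((DerivedCategory.Q (C := ModuleCat.{u} A)).commShiftIso n).app L)).toAddEquiv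

theorem classHom_smul (P L : DRing.Cx A) [L.IsKInjective] (n : ℤ) (a : A) (z : Cocycle P L n) :
    classHom P L n (CohomologyClass.mk (a • z)) = a • classHom P L n (CohomologyClass.mk z) := by
  have h : (Cocycle.equivHomShift (K := P) (L := L) (n := n)).symm (a • z) =
      a • (Cocycle.equivHomShift (K := P) (L := L) (n := n)).symm z := by
    ext p
    simp [Cocycle.equivHomShift_symm_apply]
  have key : ∀ w : Cocycle P L n, classHom P L n (CohomologyClass.mk w) =
      Hom.congr A ((quotientCompQhIso (ModuleCat.{u} A)).app P)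
        ((quotientCompQhIso (ModuleCat.{u} A)).app (L⟦n⟧) ≪≫
          ((DerivedCategory.Q (C := ModuleCat.{u} A)).commShiftIso n).app L)
        (DerivedCategory.Qh.map ((HomotopyCategory.quotient _ _).map
          ((Cocycle.equivHomShift (K := P) (L := L) (n := n)).symm w))) := fun _ => rfl
  rw [key, key, h, Functor.map_smul, Functor.map_smul, map_smul]

/-- Moving a tower from the source to the target, in `D(A)`. -/
theorem nonempty_towerHom (l : List A) (P Y : DRing.Cx A) (hY : Tower.GoodI Y) (n m : ℤ)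
    (h : m + l.length = n) :
    Nonempty ((DRing.toD (Tower.T l P) ⟶ (DRing.toD Y)⟦n⟧) ≃ₗ[A]
      (DRing.toD P ⟶ (DRing.toD (Tower.T l.reverse Y))⟦m⟧)) := by
  have := hY.isKInjective
  have := (Tower.goodI_T l.reverse hY).isKInjective
  obtain ⟨e, he⟩ := Tower.exists_towerEquiv l P Y n m h
  refine ⟨(((classHom (Tower.T l P) Y n).symm.trans e).trans
    (classHom P (Tower.T l.reverse Y) m)).toLinearEquiv fun a f => ?_⟩
  obtain ⟨c, rfl⟩ := (classHom (Tower.T l P) Y n).surjective f
  obtain ⟨z, rfl⟩ := c.mk_surjective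
  obtain ⟨z', hz, hz'⟩ := he a z
  rw [← classHom_smul]
  simp only [AddEquiv.trans_apply, AddEquiv.symm_apply_apply, hz, hz']
  exact classHom_smul P _ m a z'

/-- The cone triangle of a multiplication in `D(A)`. -/
noncomputable abbrev cnTri (x : A) (Y : DRing.Cx A) : Pretriangulated.Triangle (Dual.D A) :=
  DerivedCategory.Q.mapTriangle.obj (CochainComplex.mappingCone.triangle (x • 𝟙 Y))

theorem cnTri_distinguished (x : A) (Y : DRing.Cx A) : cnTri x Y ∈ distTriang (Dual.D A) :=
  DerivedCategory.mappingCone_triangle_distinguished _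

theorem cnTri_mor₁ (x : A) (Y : DRing.Cx A) : (cnTri x Y).mor₁ = x • 𝟙 (DRing.toD Y) := by
  change DerivedCategory.Q.map (x • 𝟙 Y) = _
  rw [Functor.map_smul]
  exact congrArg (x • ·) (DerivedCategory.Q.map_id Y)

end Groth.Agent.DualCx.Cx
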