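import Groth.Agent.DualCx.LinBaseChange
import Groth.Agent.DualCx.Cx
import Groth.Agent.DualCx.Devissage
import Groth.Agent.DRing.LTensor
import Groth.Agent.DTrunc.WayOut
import Mathlib.Algebra.Category.ModuleCat.Descent

/-!
# `Hom` in `D(A)` and flat base change
-/

universe u

open CategoryTheory CategoryTheory.Limits
open scoped TensorProduct

attribute [local instance] HasDerivedCategory.standard

namespace Groth.Agent.DualCx.BaseChange

open Groth.Agent.DRing.DBasic
open Devissage (E pre)

variable (A B : Type u) [CommRing A] [CommRing B] [Algebra A B]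

/-- extension of scalars -/
noncomputable abbrev ext : ModuleCat.{u} A ⥤ ModuleCat.{u} B :=
  ModuleCat.extendScalars.{u, u, u} (algebraMap A B)

/-- `B` as an `A`-module, two ways -/
noncomputable def selfEquiv :
    B ≃ₗ[A] (ModuleCat.restrictScalars.{u} (algebraMap A B)).obj (ModuleCat.of B B) :=
  { AddEquiv.refl B with map_smul' := fun a b => Algebra.smul_def a b }

/-- `B ⊗ M` is the extension of scalars. -/
noncomputable def extEquiv (M : ModuleCat.{u} A) : B ⊗[A] M ≃ₗ[B] (ext A B).obj M :=
  { (TensorProduct.congr (selfEquiv A B) (LinearEquiv.refl A M)).toAddEquiv with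
    map_smul' := fun c t => by
      induction t using TensorProduct.induction_on with
      | zero =>
        change (TensorProduct.congr (selfEquiv A B) (LinearEquiv.refl A M)) (c • 0) = _
        simp only [smul_zero, map_zero]
        exact ((congrArg _ (map_zero (TensorProduct.congr (selfEquiv A B) (LinearEquiv.refl A M)))).trans
          (smul_zero (A := (ext A B).obj M) c)).symm
      | tmul b m => rfl
      | add x y hx hy =>
        change (TensorProduct.congr (selfEquiv A B) (LinearEquiv.refl A M)) (c • (x + y)) = _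
        simp only [smul_add, map_add]
        exact (congrArg₂ (· + ·) hx hy).trans (((congrArg _ (map_add
          (TensorProduct.congr (selfEquiv A B) (LinearEquiv.refl A M)) x y)).trans
          (smul_add (A := (ext A B).obj M) c _ _)).symm) }

theorem extEquiv_tmul (M : ModuleCat.{u} A) (b : B) (m : M) :
    extEquiv A B M (b ⊗ₜ m) = b • extEquiv A B M (1 ⊗ₜ m) := by
  rw [← map_smul, TensorProduct.smul_tmul', smul_eq_mul, mul_one]

theorem ext_map_extEquiv {M N : ModuleCat.{u} A} (g : M ⟶ N) (t : B ⊗[A] M) :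
    ((ext A B).map g).hom (extEquiv A B M t) = extEquiv A B N (g.hom.lTensor B t) := by
  induction t using TensorProduct.induction_on with
  | zero => simp
  | tmul b m => rfl
  | add x y hx hy => simp only [map_add, hx, hy]

theorem ext_map_smul (a : A) {M N : ModuleCat.{u} A} (g : M ⟶ N) :
    (ext A B).map (a • g) = algebraMap A B a • (ext A B).map g := by
  refine ModuleCat.hom_ext (LinearMap.ext fun x => ?_)
  obtain ⟨t, rfl⟩ := (extEquiv A B M).surjective x
  rw [ModuleCat.hom_smul, LinearMap.smul_apply, ext_map_extEquiv, ext_map_extEquiv, ← map_smul]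
  congr 1
  induction t using TensorProduct.induction_on with
  | zero => simp
  | tmul b m => simp [TensorProduct.tmul_smul, algebraMap_smul]
  | add x y hx hy => simp only [map_add, smul_add, hx, hy]

variable [Module.Flat A B]

instance : PreservesFiniteLimits (ext A B) :=
  ModuleCat.preservesFiniteLimits_extendScalars_of_flat (RingHom.flat_algebraMap_iff.mpr ‹_›)

instance : PreservesFiniteColimits (ext A B) := by
  have := (ModuleCat.extendRestrictScalarsAdj.{u} (algebraMap A B)).leftAdjoint_preservesColimits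
  infer_instance

/-- flat base change on derived categories -/
noncomputable abbrev FD : Dual.D A ⥤ Dual.D B := (ext A B).mapDerivedCategory

/-- termwise extension of scalars -/
noncomputable abbrev extC : DRing.Cx A ⥤ DRing.Cx B :=
  (ext A B).mapHomologicalComplex (ComplexShape.up ℤ)

instance : LinBaseChange.IsSemilinear A B (FD A B) where
  map_smul a X Y f := by
    have hid : (FD A B).map (a • 𝟙 X) = algebraMap A B a • 𝟙 ((FD A B).obj X) := by
      obtain ⟨L, ⟨e⟩⟩ : ∃ L : DRing.Cx A, Nonempty (DRing.toD L ≅ X) :=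
        ⟨_, ⟨DerivedCategory.Q.objObjPreimageIso X⟩⟩
      have h2 : (extC A B).map (a • 𝟙 L) = algebraMap A B a • 𝟙 ((extC A B).obj L) := by
        ext1 i
        simp only [Functor.mapHomologicalComplex_map_f, HomologicalComplex.smul_f_apply,
          HomologicalComplex.id_f, ext_map_smul, CategoryTheory.Functor.map_id]
        rfl
      have h0 : (FD A B).map (DerivedCategory.Q.map (a • 𝟙 L)) =
          algebraMap A B a • 𝟙 ((FD A B).obj (DRing.toD L)) := by
        rw [← cancel_mono ((ext A B).mapDerivedCategoryFactors.hom.app L),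
          Functor.mapDerivedCategoryFactors_hom_naturality, h2, Functor.map_smul,
          CategoryTheory.Functor.map_id, Linear.smul_comp, Category.id_comp, Linear.comp_smul,
          ]; exact congrArg (algebraMap A B a • ·) (Category.comp_id _)
      have h1 : a • 𝟙 X = e.inv ≫ DerivedCategory.Q.map (a • 𝟙 L) ≫ e.hom := by
        simp [Functor.map_smul]
      rw [h1, Functor.map_comp, Functor.map_comp, h0, Linear.smul_comp, Category.id_comp,
        Linear.comp_smul, ← Functor.map_comp, e.inv_hom_id, CategoryTheory.Functor.map_id]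
    have h : a • f = (a • 𝟙 X) ≫ f := by simp
    rw [h, Functor.map_comp, hid, Linear.smul_comp, Category.id_comp]

/-- cohomology of a complex commutes with flat base change -/
noncomputable def homologyNatIso (i : ℤ) :
    extC A B ⋙ HomologicalComplex.homologyFunctor (ModuleCat.{u} B) (ComplexShape.up ℤ) i ≅
      HomologicalComplex.homologyFunctor (ModuleCat.{u} A) (ComplexShape.up ℤ) i ⋙ ext A B :=
  NatIso.ofComponents (fun L => (L.sc i).mapHomologyIso (ext A B)) fun f =>
    ShortComplex.mapHomologyIso_hom_naturality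
      ((HomologicalComplex.shortComplexFunctor _ _ i).map f) (ext A B)

/-- cohomology commutes with flat base change -/
noncomputable def HFIso (i : ℤ) : FD A B ⋙ HF i ≅ HF i ⋙ ext A B :=
  have : Localization.Lifting (DerivedCategory.Q (C := ModuleCat.{u} A))
      (HomologicalComplex.quasiIso (ModuleCat.{u} A) (ComplexShape.up ℤ))
      (extC A B ⋙ HomologicalComplex.homologyFunctor (ModuleCat.{u} B) (ComplexShape.up ℤ) i)
      (FD A B ⋙ HF i) :=
    ⟨(Functor.associator _ _ _).symm ≪≫
      Functor.isoWhiskerRight (ext A B).mapDerivedCategoryFactors _ ≪≫ Functor.associator _ _ _ ≪≫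
      Functor.isoWhiskerLeft _ (DerivedCategory.homologyFunctorFactors (ModuleCat.{u} B) i)⟩
  have : Localization.Lifting (DerivedCategory.Q (C := ModuleCat.{u} A))
      (HomologicalComplex.quasiIso (ModuleCat.{u} A) (ComplexShape.up ℤ))
      (HomologicalComplex.homologyFunctor (ModuleCat.{u} A) (ComplexShape.up ℤ) i ⋙ ext A B)
      (HF i ⋙ ext A B) :=
    ⟨(Functor.associator _ _ _).symm ≪≫
      Functor.isoWhiskerRight (DerivedCategory.homologyFunctorFactors (ModuleCat.{u} A) i) _⟩
  Localization.liftNatIso DerivedCategory.Q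
    (HomologicalComplex.quasiIso (ModuleCat.{u} A) (ComplexShape.up ℤ)) _ _ _ _ (homologyNatIso A B i)

/-- `H^i(FD K) = B ⊗ H^i(K)`. -/
noncomputable def HDEquiv (K : Dual.D A) (i : ℤ) :
    B ⊗[A] Dual.HD A K i ≃ₗ[B] Dual.HD B ((FD A B).obj K) i :=
  (extEquiv A B _).trans ((HFIso A B i).app K).toLinearEquiv.symm

theorem HDEquiv_natural {K L : Dual.D A} (f : K ⟶ L) (i : ℤ) (t : B ⊗[A] Dual.HD A K i) :
    ((HF i).map ((FD A B).map f)).hom (HDEquiv A B K i t) =
      HDEquiv A B L i (((HF i).map f).hom.lTensor B t) := by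
  have h := congrArg (fun m => m.hom (extEquiv A B _ t)) ((HFIso A B i).inv.naturality f)
  simp only [Functor.comp_map, ModuleCat.hom_comp, LinearMap.comp_apply] at h
  rw [ext_map_extEquiv] at h
  exact h.symm

theorem finite_HD [IsNoetherianRing B] (K : Dual.D A) (i : ℤ) [Module.Finite A (Dual.HD A K i)] :
    Module.Finite B (Dual.HD B ((FD A B).obj K) i) :=
  Module.Finite.equiv (HDEquiv A B K i)

omit [Algebra A B] [Module.Flat A B] [CommRing B] in
theorem unit_bijective : Function.Bijective fun c : A => c • Cx.e₀ A := by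
  have h : (fun c : A => c • Cx.e₀ A) =
      Cx.evalA (Dual.inD A A) ∘ (fun c : A => c • 𝟙 (Dual.inD A A)) := by
    funext c
    simp only [Function.comp_apply, map_smul, Cx.evalA_apply, CategoryTheory.Functor.map_id]
    rfl
  rw [h]
  refine (Cx.evalA_bijective _).comp ⟨fun c d hcd => ?_, fun f => ?_⟩
  · simp only at hcd
    rw [← CategoryTheory.Functor.map_id, ← Functor.map_smul, ← Functor.map_smul] at hcd
    simpa using congrArg (fun g => g.hom (1 : A)) ((DerivedCategory.singleFunctor _ 0).map_injective hcd)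
  · obtain ⟨g, rfl⟩ := (DerivedCategory.singleFunctor (ModuleCat.{u} A) 0).map_surjective f
    refine ⟨g.hom (1 : A), ?_⟩
    simp only
    rw [← CategoryTheory.Functor.map_id, ← Functor.map_smul]
    congr 1
    exact ModuleCat.hom_ext (LinearMap.ext_ring (by simp))

/-- the unit class of `FD(A[0])` -/
noncomputable def e₁ : Dual.HD B ((FD A B).obj (Dual.inD A A)) 0 :=
  HDEquiv A B _ 0 (1 ⊗ₜ Cx.e₀ A)

/-- `B[0] → FD(A[0])` -/
noncomputable def θ : Dual.inD B B ⟶ (FD A B).obj (Dual.inD A A) :=
  (Cx.homUnitEquiv _).symm (e₁ A B)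

instance isIso_θ : IsIso (θ A B) := by
  rw [isIso_iff_HF]
  intro i
  by_cases hi : i = 0
  · subst hi
    rw [CategoryTheory.ConcreteCategory.isIso_iff_bijective]
    have h0 : ((HF 0).map (θ A B)).hom (Cx.e₀ B) = e₁ A B := by
      rw [← Cx.evalA_apply]
      exact (Cx.homUnitEquiv _).apply_symm_apply _
    have h1 : Function.Bijective fun c : B => c • e₁ A B := by
      let eA : A ≃ₗ[A] Dual.HD A (Dual.inD A A) 0 :=
        LinearEquiv.ofBijective (LinearMap.toSpanSingleton A _ (Cx.e₀ A)) (unit_bijective A)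
      let e : B ≃ₗ[B] Dual.HD B ((FD A B).obj (Dual.inD A A)) 0 :=
        ((TensorProduct.AlgebraTensorModule.rid A B B).symm.trans
          (TensorProduct.AlgebraTensorModule.congr (LinearEquiv.refl B B) eA)).trans (HDEquiv A B _ 0)
      have : (fun c : B => c • e₁ A B) = e := by
        funext c
        rw [← mul_one c, mul_one c, e₁, ← map_smul, TensorProduct.smul_tmul', smul_eq_mul, mul_one]
        simp [e, eA]
      rw [this]
      exact e.bijective
    have h2 : (fun c : B => c • e₁ A B) = ((HF 0).map (θ A B)).hom ∘ fun c : B => c • Cx.e₀ B := by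
      funext c
      simp [h0]
    rw [h2] at h1
    exact (Function.Bijective.of_comp_iff _ (unit_bijective B)).mp h1
  · have hz : ∀ K : Dual.D B, K.IsLE 0 → K.IsGE 0 → IsZero ((HF i).obj K) := fun K _ _ => by
      rcases lt_or_gt_of_ne hi with h | h
      · exact DerivedCategory.isZero_of_isGE K 0 i h
      · exact DerivedCategory.isZero_of_isLE K 0 i h
    exact isIso_of_source_target_iso_zero _
      (hz _ inferInstance inferInstance).isoZero
      (hz _ (DTrunc.isLE_mapDerivedCategory _ _ 0) (DTrunc.isGE_mapDerivedCategory _ _ 0)).isoZero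

variable {A B}

/-- the unit object satisfies base change -/
theorem bij_unit (K : Dual.D A) : LinBaseChange.Bij A B (FD A B) (Dual.inD A A) K := by
  let R : ((FD A B).obj (Dual.inD A A) ⟶ (FD A B).obj K) ≃ₗ[B] Dual.HD B ((FD A B).obj K) 0 :=
    (CategoryTheory.Linear.homCongr B (asIso (θ A B)).symm (Iso.refl _)).trans (Cx.homUnitEquiv _)
  have hR : ∀ g, R g = ((HF 0).map g).hom (e₁ A B) := by
    intro g
    have : ((HF 0).map (θ A B)).hom (Cx.e₀ B) = e₁ A B := by
      rw [← Cx.evalA_apply]
      exact (Cx.homUnitEquiv _).apply_symm_apply _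
    simp only [R, LinearEquiv.trans_apply, CategoryTheory.Linear.homCongr_apply, Iso.symm_inv,
      asIso_hom, Iso.refl_hom, Category.comp_id]
    change Cx.evalA _ (θ A B ≫ g) = _
    rw [Cx.evalA_apply, Functor.map_comp, ModuleCat.hom_comp, LinearMap.comp_apply,
      this]
  let L := LinearEquiv.lTensor B (Cx.homUnitEquiv K)
  have h : R ∘ LinBaseChange.β A B (FD A B) (Dual.inD A A) K = (HDEquiv A B K 0) ∘ L := by
    funext t
    induction t using TensorProduct.induction_on with
    | zero => simp
    | tmul b f =>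
      simp only [Function.comp_apply, LinBaseChange.β_tmul, map_smul]
      rw [hR, e₁, HDEquiv_natural, LinearMap.lTensor_tmul, ← map_smul, TensorProduct.smul_tmul',
        smul_eq_mul, mul_one]
      rfl
    | add x y hx hy => simp only [Function.comp_apply, map_add] at hx hy ⊢; rw [hx, hy]
  unfold LinBaseChange.Bij
  rw [← Function.Bijective.of_comp_iff' R.bijective, h]
  exact (HDEquiv A B K 0).bijective.comp L.bijective

/-- `β` for shifted targets -/
abbrev BijAt (X K : Dual.D A) (j : ℤ) : Prop := LinBaseChange.Bij A B (FD A B) X (K⟦j⟧)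

theorem bijAt_shift {X K : Dual.D A} (n j j' : ℤ) (h : j' + n = j) :
    LinBaseChange.Bij A B (FD A B) (X⟦n⟧) (K⟦j⟧) ↔ LinBaseChange.Bij A B (FD A B) X (K⟦j'⟧) := by
  rw [LinBaseChange.bij_iff_of_iso A B (FD A B) (Iso.refl (X⟦n⟧))
    ((shiftFunctorAdd' (Dual.D A) j' n j h).app K)]
  exact LinBaseChange.bij_shift_iff A B (FD A B) X (K⟦j'⟧) n

/-- triangles -/
theorem bijAt_middle {T : Pretriangulated.Triangle (Dual.D A)} (hT : T ∈ distTriang (Dual.D A))
    {K : Dual.D A} (h₁ : ∀ j, BijAt (B := B) T.obj₁ K j) (h₃ : ∀ j, BijAt (B := B) T.obj₃ K j) (j : ℤ) :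
    BijAt (B := B) T.obj₂ K j :=
  LinBaseChange.bij₂ A B (FD A B) hT (h₁ j) (h₃ j) ((bijAt_shift 1 j (j - 1) (by omega)).mpr (h₁ _))
    ((bijAt_shift (-1) j (j + 1) (by omega)).mpr (h₃ _))

theorem bijAt_isZero {X : Dual.D A} (hX : IsZero X) (K : Dual.D A) (j : ℤ) :
    BijAt (B := B) X K j := by
  have : Subsingleton (X ⟶ K⟦j⟧) := ⟨hX.eq_of_src⟩
  have : Subsingleton ((FD A B).obj X ⟶ (FD A B).obj (K⟦j⟧)) :=
    ⟨((FD A B).map_isZero hX).eq_of_src⟩
  refine ⟨fun x y _ => ?_, fun y => ⟨0, Subsingleton.elim _ _⟩⟩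
  have : Subsingleton (B ⊗[A] (X ⟶ K⟦j⟧)) := inferInstance
  exact Subsingleton.elim _ _

theorem bijAt_free (K : Dual.D A) : ∀ (n : ℕ) (j : ℤ), BijAt (B := B) (Dual.inD A (Fin n → A)) K j := by
  intro n
  induction n with
  | zero =>
    intro j
    exact bijAt_isZero (Functor.map_isZero _ (ModuleCat.isZero_of_subsingleton _)) K j
  | succ n ih =>
    intro j
    have hf : Function.Injective (LinearMap.vecCons (LinearMap.id : A →ₗ[A] A) 0 :
        A →ₗ[A] Fin (n + 1) → A) := fun x y h => by simpa using congrFun h 0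
    let g : (Fin (n + 1) → A) →ₗ[A] (Fin n → A) := LinearMap.funLeft A A Fin.succ
    have hg : Function.Surjective g := fun v => ⟨Fin.cons 0 v, by ext i; simp [g, LinearMap.funLeft]⟩
    have hfg : Function.Exact (LinearMap.vecCons (LinearMap.id : A →ₗ[A] A) 0 :
        A →ₗ[A] Fin (n + 1) → A) g := fun v => by
      constructor
      · intro hv
        refine ⟨v 0, funext fun i => ?_⟩
        cases i using Fin.cases with
        | zero => simp
        | succ i => simpa [g, LinearMap.funLeft] using (congrFun hv i).symm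
      · rintro ⟨x, rfl⟩; ext i; simp [g, LinearMap.funLeft]
    exact bijAt_middle (Devissage.sc_shortExact hf hg hfg).singleTriangle_distinguished
      (fun j => bij_unit (K⟦j⟧)) ih j

theorem bijAt_of_subsingleton {X K : Dual.D A} (j : ℤ) [Subsingleton (X ⟶ K⟦j⟧)]
    (h : Subsingleton ((FD A B).obj X ⟶ (FD A B).obj (K⟦j⟧))) : BijAt (B := B) X K j := by
  refine ⟨fun x y _ => ?_, fun y => ⟨0, Subsingleton.elim _ _⟩⟩
  have : Subsingleton (B ⊗[A] (X ⟶ K⟦j⟧)) := inferInstance
  exact Subsingleton.elim _ _

/-- finite modules over a Noetherian ring satisfy base change into bounded below objects -/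
theorem bijAt_finite [IsNoetherianRing A] (K : Dual.D A) (a : ℤ) [K.IsGE a] :
    ∀ (j : ℤ) (M : Type u) [AddCommGroup M] [Module A M] [Module.Finite A M],
      BijAt (B := B) (Dual.inD A M) K j := by
  suffices ∀ (n : ℕ) (j : ℤ), j < a + n → ∀ (M : Type u) [AddCommGroup M] [Module A M]
      [Module.Finite A M], BijAt (B := B) (Dual.inD A M) K j from
    fun j M _ _ _ => this ((j - a).toNat + 1) j (by omega) M
  intro n
  induction n with
  | zero =>
    intro j hj M _ _ _
    have hge : (K⟦j⟧).IsGE 1 := by
      have := DerivedCategory.TStructure.t.isGE_shift K a j (a - j) (by omega)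
      exact DerivedCategory.TStructure.t.isGE_of_ge (K⟦j⟧) 1 (a - j) (by omega)
    have : Subsingleton (Dual.inD A M ⟶ K⟦j⟧) :=
      subsingleton_of_forall_eq 0 fun f => DerivedCategory.TStructure.t.zero f 0 1 (by omega)
    have h1 := DTrunc.isLE_mapDerivedCategory (ext A B) (Dual.inD A M) 0
    have h2 := DTrunc.isGE_mapDerivedCategory (ext A B) (K⟦j⟧) 1
    exact bijAt_of_subsingleton j
      (subsingleton_of_forall_eq 0 fun f => DerivedCategory.TStructure.t.zero f 0 1 (by omega))
  | succ n ih =>
    intro j hj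
    have key : ∀ (M : Type u) [AddCommGroup M] [Module A M] [Module.Finite A M],
        ∃ (T : Pretriangulated.Triangle (Dual.D A)) (_ : T ∈ distTriang (Dual.D A)) (m : ℕ)
          (N : Type u) (_ : AddCommGroup N) (_ : Module A N) (_ : Module.Finite A N),
          T.obj₁ = Dual.inD A (Fin m → A) ∧ T.obj₂ = Dual.inD A M ∧
            T.obj₃ = (Dual.inD A N)⟦(1 : ℤ)⟧ := by
      intro M _ _ _
      obtain ⟨m, g, hg⟩ := Module.Finite.exists_fin' A M
      exact ⟨_, Pretriangulated.rot_of_distTriang _ (Devissage.sc_shortExact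
        (Submodule.injective_subtype (LinearMap.ker g)) hg
        (LinearMap.exact_subtype_ker_map g)).singleTriangle_distinguished, m, LinearMap.ker g,
        inferInstance, inferInstance, inferInstance, rfl, rfl, rfl⟩
    have hinj : ∀ (M : Type u) [AddCommGroup M] [Module A M] [Module.Finite A M],
        LinBaseChange.Inj A B (FD A B) (Dual.inD A M) (K⟦j⟧) := by
      intro M _ _ _
      obtain ⟨T, hT, m, N, _, _, _, e₁, e₂, e₃⟩ := key M
      rw [← e₂]
      refine LinBaseChange.inj₂ A B (FD A B) hT ?_ ?_ ?_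
      · rw [e₁]; exact (bijAt_free K m j).injective
      · rw [e₃]; exact ((bijAt_shift 1 j (j - 1) (by omega)).mpr (ih _ (by omega) N)).injective
      · rw [e₁]
        exact ((bijAt_shift 1 j (j - 1) (by omega)).mpr (bijAt_free K m _)).surjective
    intro M _ _ _
    refine ⟨hinj M, ?_⟩
    obtain ⟨T, hT, m, N, _, _, _, e₁, e₂, e₃⟩ := key M
    change LinBaseChange.Surj A B (FD A B) (Dual.inD A M) (K⟦j⟧)
    rw [← e₂]
    refine LinBaseChange.surj₂ A B (FD A B) hT ?_ ?_ ?_
    · rw [e₁]; exact (bijAt_free K m j).surjective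
    · rw [e₃]; exact ((bijAt_shift 1 j (j - 1) (by omega)).mpr (ih _ (by omega) N)).surjective
    · let L := (LinBaseChange.β A B (FD A B) T.invRotate.obj₁ (K⟦j⟧))
      change Function.Injective L
      have e : T.invRotate.obj₁ ≅ Dual.inD A N :=
        (shiftFunctor _ (-1 : ℤ)).mapIso (eqToIso e₃) ≪≫
          (shiftEquiv (Dual.D A) (1 : ℤ)).unitIso.symm.app _
      exact LinBaseChange.inj_of_iso A B (FD A B) e.symm (Iso.refl _) (hinj N)

end Groth.Agent.DualCx.BaseChange
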