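import Groth.Agent.DualCx.LocalDuality
import Mathlib.RingTheory.AdicCompletion.Functoriality

/-!
# Double Matlis dual of a finite module
-/

universe u v

open IsLocalRing

namespace Groth.Agent.DualCx.Bidual

variable {A : Type u} [CommRing A] [IsLocalRing A] [IsNoetherianRing A]
variable {E : Type u} [AddCommGroup E] [Module A E] {f : ResidueField A →ₗ[A] E}
  (hf : _root_.InjHull.IsInjectiveHull f) (M : Type u) [AddCommGroup M] [Module A M] [Module.Finite A M]

/-- the quotient by `m^n M` -/
abbrev Q (n : ℕ) : Type u := M ⧸ (maximalIdeal A ^ n • ⊤ : Submodule A M)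

omit [IsNoetherianRing A] [Module.Finite A M] in
theorem kills (n : ℕ) : ∀ a ∈ maximalIdeal A ^ n, ∀ x : Q (A := A) M n, a • x = 0 := fun a ha x => by
  obtain ⟨x, rfl⟩ := Submodule.Quotient.mk_surjective _ x
  rw [← Submodule.Quotient.mk_smul, Submodule.Quotient.mk_eq_zero]
  exact Submodule.smul_mem_smul ha trivial

include hf in
theorem bij (n : ℕ) :
    Function.Bijective (LinearMap.applyₗ : Q (A := A) M n →ₗ[A] (Q (A := A) M n →ₗ[A] E) →ₗ[A] E) :=
  InjHull.Matlis.applyₗ_bijective hf (LocalDuality.isFiniteLength_of_pow n (kills M n))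

/-- the component in `M/m^n M` of an element of the bidual -/
noncomputable def comp (n : ℕ) : ((M →ₗ[A] E) →ₗ[A] E) →ₗ[A] Q (A := A) M n :=
  (LinearEquiv.ofBijective _ (bij hf M n)).symm.toLinearMap.comp
    (LinearMap.lcomp A E (LinearMap.lcomp A E (Submodule.mkQ _)))

theorem comp_spec (n : ℕ) (θ : (M →ₗ[A] E) →ₗ[A] E) (φ : Q (A := A) M n →ₗ[A] E) :
    φ (comp hf M n θ) = θ (φ.comp (Submodule.mkQ _)) := by
  have := LinearMap.congr_fun ((LinearEquiv.ofBijective _ (bij hf M n)).apply_symm_apply
    (θ.comp (LinearMap.lcomp A E (Submodule.mkQ _)))) φ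
  exact this

/-- from the bidual to the completion -/
noncomputable def γ : ((M →ₗ[A] E) →ₗ[A] E) →ₗ[A] AdicCompletion (maximalIdeal A) M where
  toFun θ := ⟨fun n => comp hf M n θ, fun {m n} hmn => by
    refine InjHull.Matlis.applyₗ_injective hf (Q (A := A) M m) (LinearMap.ext fun φ => ?_)
    change φ (AdicCompletion.transitionMap _ M hmn (comp hf M n θ)) = φ (comp hf M m θ)
    rw [comp_spec, ← LinearMap.comp_apply, comp_spec]
    congr 1⟩
  map_add' θ θ' := Subtype.ext (funext fun n => map_add (comp hf M n) θ θ')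
  map_smul' a θ := Subtype.ext (funext fun n => map_smul (comp hf M n) a θ)

include hf

omit [IsNoetherianRing A] in
theorem exists_kills [IsNoetherianRing A] (φ : M →ₗ[A] E) :
    ∃ n : ℕ, (maximalIdeal A ^ n • ⊤ : Submodule A M) ≤ LinearMap.ker φ := by
  classical
  obtain ⟨s, hs⟩ := (Module.Finite.fg_top (R := A) (M := M))
  choose j hj using fun x : M => InjHull.Matlis.isPowerTorsion_hull hf (φ x)
  refine ⟨s.sup j, Submodule.smul_le.mpr fun a ha x _ => ?_⟩
  have : a • φ = 0 := LinearMap.ext_on hs fun y hy => by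
    rw [LinearMap.smul_apply, LinearMap.zero_apply]
    exact hj y a (Ideal.pow_le_pow_right (Finset.le_sup hy) ha)
  rw [LinearMap.mem_ker, map_smul]
  exact LinearMap.congr_fun this x

theorem bijective_γ : Function.Bijective (γ hf M) := by
  constructor
  · rw [injective_iff_map_eq_zero]
    intro θ hθ
    refine LinearMap.ext fun φ => ?_
    obtain ⟨n, hn⟩ := exists_kills hf M φ
    have h1 := comp_spec hf M n θ ((maximalIdeal A ^ n • ⊤ : Submodule A M).liftQ φ hn)
    rw [Submodule.liftQ_mkQ] at h1
    rw [← h1, show comp hf M n θ = 0 from congrFun (congrArg Subtype.val hθ) n, map_zero,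
      LinearMap.zero_apply]
  · intro c
    have hex : ∀ φ : M →ₗ[A] E, ∃ e : E, ∀ n (hn : (maximalIdeal A ^ n • ⊤ : Submodule A M) ≤
        LinearMap.ker φ), Submodule.liftQ _ φ hn (c.val n) = e := by
      intro φ
      obtain ⟨k, hk⟩ := exists_kills hf M φ
      refine ⟨Submodule.liftQ _ φ hk (c.val k), fun n hn => ?_⟩
      have key : ∀ (m l : ℕ) (hml : m ≤ l) (hm : (maximalIdeal A ^ m • ⊤ : Submodule A M) ≤
          LinearMap.ker φ) (hl : (maximalIdeal A ^ l • ⊤ : Submodule A M) ≤ LinearMap.ker φ),
          Submodule.liftQ _ φ hl (c.val l) = Submodule.liftQ _ φ hm (c.val m) := by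
        intro m l hml hm hl
        rw [← c.2 hml]
        obtain ⟨y, hy⟩ := Submodule.Quotient.mk_surjective _ (c.val l)
        rw [← hy]
        rfl
      rcases le_total n k with h | h
      · exact (key n k h hn hk).symm
      · exact key k n h hk hn
    choose e he using hex
    let θ : (M →ₗ[A] E) →ₗ[A] E :=
      { toFun := e
        map_add' := fun φ ψ => by
          obtain ⟨m, hm⟩ := exists_kills hf M φ
          obtain ⟨l, hl⟩ := exists_kills hf M ψ
          have hm' := (Submodule.smul_mono_left (Ideal.pow_le_pow_right (le_max_left m l))).trans hm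
          have hl' := (Submodule.smul_mono_left (Ideal.pow_le_pow_right (le_max_right m l))).trans hl
          have ha : (maximalIdeal A ^ max m l • ⊤ : Submodule A M) ≤ LinearMap.ker (φ + ψ) :=
            fun x hx => by
              rw [LinearMap.mem_ker, LinearMap.add_apply, LinearMap.mem_ker.mp (hm' hx),
                LinearMap.mem_ker.mp (hl' hx), add_zero]
          rw [← he φ _ hm', ← he ψ _ hl', ← he _ _ ha]
          obtain ⟨y, hy⟩ := Submodule.Quotient.mk_surjective _ (c.val (max m l))
          rw [← hy]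
          rfl
        map_smul' := fun a φ => by
          obtain ⟨m, hm⟩ := exists_kills hf M φ
          have ha : (maximalIdeal A ^ m • ⊤ : Submodule A M) ≤ LinearMap.ker (a • φ) :=
            fun x hx => by
              rw [LinearMap.mem_ker, LinearMap.smul_apply, LinearMap.mem_ker.mp (hm hx), smul_zero]
          rw [← he φ _ hm, ← he _ _ ha, RingHom.id_apply]
          obtain ⟨y, hy⟩ := Submodule.Quotient.mk_surjective _ (c.val m)
          rw [← hy]
          rfl }
    refine ⟨θ, Subtype.ext (funext fun n => ?_)⟩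
    refine InjHull.Matlis.applyₗ_injective hf (Q (A := A) M n) (LinearMap.ext fun φ => ?_)
    change φ (comp hf M n θ) = φ (c.val n)
    rw [comp_spec]
    have hn : (maximalIdeal A ^ n • ⊤ : Submodule A M) ≤
        LinearMap.ker (φ.comp (Submodule.mkQ _)) := fun x hx => by
      rw [LinearMap.mem_ker, LinearMap.comp_apply, Submodule.mkQ_apply,
        (Submodule.Quotient.mk_eq_zero _).mpr hx, map_zero]
    change e _ = _
    rw [← he _ n hn]
    obtain ⟨y, hy⟩ := Submodule.Quotient.mk_surjective _ (c.val n)
    rw [← hy]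
    rfl

/-- double dual = completion, in any universe -/
theorem nonempty_bidual_equiv (X : Type v) [AddCommGroup X] [Module A X] [Module.Finite A X] :
    Nonempty (((X →ₗ[A] E) →ₗ[A] E) ≃ₗ[A] AdicCompletion (maximalIdeal A) X) := by
  obtain ⟨n, q, hq⟩ := Module.Finite.exists_fin' A X
  let e := q.quotKerEquivOfSurjective hq
  exact ⟨((LinearEquiv.congrLeft E A (LinearEquiv.congrLeft E A e.symm)).trans
    (LinearEquiv.ofBijective _ (bijective_γ hf ((Fin n → A) ⧸ LinearMap.ker q)))).trans
      ((AdicCompletion.congr (maximalIdeal A) e).restrictScalars A)⟩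

omit [IsNoetherianRing A] in
/-- the dual has the same annihilator, in any universe -/
theorem annihilator_dual (X : Type v) [AddCommGroup X] [Module A X] [Module.Finite A X] :
    Module.annihilator A X = Module.annihilator A (X →ₗ[A] E) := by
  obtain ⟨n, q, hq⟩ := Module.Finite.exists_fin' A X
  let e := q.quotKerEquivOfSurjective hq
  rw [← LinearEquiv.annihilator_eq e, ← LinearEquiv.annihilator_eq (LinearEquiv.congrLeft E A e)]
  exact InjHull.Matlis.annihilator_dual hf _

/-- over a complete ring a finite module is its double dual, in any universe -/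
theorem nonempty_self_bidual [IsAdicComplete (maximalIdeal A) A] (X : Type v) [AddCommGroup X]
    [Module A X] [Module.Finite A X] : Nonempty (X ≃ₗ[A] ((X →ₗ[A] E) →ₗ[A] E)) := by
  obtain ⟨n, q, hq⟩ := Module.Finite.exists_fin' A X
  let e := q.quotKerEquivOfSurjective hq
  exact ⟨e.symm.trans ((LinearEquiv.ofBijective _
    (InjHull.Matlis.duality_finite hf ((Fin n → A) ⧸ LinearMap.ker q)).2).trans
      (LinearEquiv.congrLeft E A (LinearEquiv.congrLeft E A e.symm)).symm)⟩

end Groth.Agent.DualCx.Bidual
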