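import Groth.Agent.DualCx.Biduality
import Groth.Agent.DualCx.LocalGlobal
import Mathlib.Algebra.Homology.Embedding.CochainComplex
import Groth.Agent.DRing.Devissage
import Groth.Agent.DRing.RHomRep
import Groth.Agent.DualCx.Extended
import Groth.Agent.DualCx.Dimfun

/-!
# Biduality for complexes with finite cohomology, without boundedness
-/

set_option autoImplicit false

universe u

open CategoryTheory CategoryTheory.Limits

attribute [local instance] HasDerivedCategory.standard

namespace Groth.Agent.DualCx.BidualityGen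

open Biduality Groth.Agent.DRing
open Amplitude (sgl)

variable {A : Type u} [CommRing A] {I : DRing.Cx A} [I.IsKInjective]

variable (I) in
/-- biduality is bijective in degree `i` -/
def B (X : DRing.Cx A) (i : ℤ) : Prop := Function.Bijective (Hm (Dc.η I X) i)

theorem bijective_Hm_of_qis {X Y : DRing.Cx A} (f : X ⟶ Y) [QuasiIso f] (i : ℤ) :
    Function.Bijective (Hm f i) :=
  ConcreteCategory.bijective_of_isIso (HomologicalComplex.homologyMap f i)

theorem B_qis {X Y : DRing.Cx A} (f : X ⟶ Y) [QuasiIso f] (i : ℤ) : B I X i ↔ B I Y i := by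
  have := Dc.quasiIso_map I f
  have := Dc.quasiIso_map I (Dc.map I f)
  have h : (Hm (Dc.map I (Dc.map I f)) i) ∘ (Hm (Dc.η I X) i) = (Hm (Dc.η I Y) i) ∘ (Hm f i) :=
    funext fun x => by
      rw [Function.comp_apply, Function.comp_apply, ← Hm_comp, Dc.η_natural, Hm_comp]
  unfold B
  rw [← Function.Bijective.of_comp_iff' (bijective_Hm_of_qis (Dc.map I (Dc.map I f)) i), h]
  exact Function.Bijective.of_comp_iff _ (bijective_Hm_of_qis f i)

theorem B_iso {X Y : DRing.Cx A} (e : DRing.toD X ≅ DRing.toD Y) (i : ℤ) : B I X i ↔ B I Y i := by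
  obtain ⟨W, _, -, ⟨eW⟩⟩ := DBasic.exists_kproj_iso (DRing.toD X)
  obtain ⟨f, hf⟩ := DBasic.exists_Q_map_eq eW.hom
  obtain ⟨g, hg⟩ := DBasic.exists_Q_map_eq (eW ≪≫ e).hom
  have : QuasiIso f := (DerivedCategory.isIso_Q_map_iff_quasiIso (C := ModuleCat.{u} A) f).1
    (by rw [hf]; infer_instance)
  have : QuasiIso g := (DerivedCategory.isIso_Q_map_iff_quasiIso (C := ModuleCat.{u} A) g).1
    (by rw [hg]; infer_instance)
  exact (B_qis f i).symm.trans (B_qis g i)

theorem B_of_zero (X : DRing.Cx A) (i : ℤ) (hX : Subsingleton (X.homology i))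
    (h : Subsingleton (DRing.toD (Dc.D I X) ⟶ (DRing.toD I)⟦i⟧)) : B I X i := by
  have := (Dc.hEquiv I (Dc.D I X) i).symm.toEquiv.subsingleton
  exact ⟨fun x y _ => Subsingleton.elim x y, fun y => ⟨0, Subsingleton.elim _ _⟩⟩

theorem B_of_acyclic (X : DRing.Cx A) (hX : ∀ j, Subsingleton (X.homology j)) (i : ℤ) : B I X i := by
  have hz : IsZero (DRing.toD X) := Groth.Agent.DRing.Devissage.isZero_of_subsingleton_HD fun q => by
    have := hX q
    exact (DBasic.hIso X q).toLinearEquiv.toEquiv.subsingleton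
  refine B_of_zero X i (hX i) ?_
  have h0 : IsZero (DRing.toD (Dc.D I X)) := Groth.Agent.DRing.Devissage.isZero_of_subsingleton_HD fun q => by
    have : Subsingleton (DRing.toD X ⟶ (DRing.toD I)⟦q⟧) := ⟨hz.eq_of_src⟩
    exact ((DBasic.hIso _ q).toLinearEquiv.trans (Dc.hEquiv I X q).symm).toEquiv.subsingleton
  exact ⟨h0.eq_of_src⟩

section Five

variable (hI : ∀ q, Injective (I.X q)) {S : ShortComplex (DRing.Cx A)} (hS : S.ShortExact)

/-- the square -/
noncomputable def sq (S : ShortComplex (DRing.Cx A)) : S ⟶ ShortComplex.mk (Dc.map I (Dc.map I S.f))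
    (Dc.map I (Dc.map I S.g)) (by rw [← Dc.map_comp, ← Dc.map_comp, S.zero, Dc.map_zero, Dc.map_zero]) :=
  ShortComplex.homMk (Dc.η I _) (Dc.η I _) (Dc.η I _) (Dc.η_natural I _) (Dc.η_natural I _)

include hI hS

omit [I.IsKInjective] in
theorem B_mid (i : ℤ) (h₁ : B I S.X₁ i) (h₁' : B I S.X₁ (i + 1)) (h₃ : B I S.X₃ i)
    (h₃' : B I S.X₃ (i - 1)) : B I S.X₂ i := by
  have h2 := Dc.shortExact I (Dc.shortExact I hS hI) hI
  refine ⟨(injective_iff_map_eq_zero _).mpr fun k hk => ?_, fun y => ?_⟩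
  · obtain ⟨k₁, h, rfl⟩ := ker_step (sq (I := I) S) hS h2 i h₃.1 h₃'.2 k hk
    rw [h₁.1 (h.trans (map_zero _).symm), map_zero]
  · obtain ⟨k, y₁, rfl⟩ := coker_step (sq (I := I) S) hS h2 i h₃.2 h₁'.1 y
    obtain ⟨y₀, rfl⟩ := h₁.2 y₁
    exact ⟨k + Hm S.f i y₀, by rw [map_add]; exact congrArg (_ + ·) (comm_f (sq (I := I) S) i y₀).symm⟩

/-- if the middle term is acyclic, the outer terms determine one another -/
theorem B_outer (hC : ∀ j, Subsingleton (S.X₂.homology j)) (i : ℤ) :
    B I S.X₁ (i + 1) ↔ B I S.X₃ i := by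
  have h2 := Dc.shortExact I (Dc.shortExact I hS hI) hI
  have hC2 : ∀ j, Subsingleton ((Dc.D I (Dc.D I S.X₂)).homology j) := fun j =>
    (Equiv.ofBijective _ (B_of_acyclic S.X₂ hC j)).symm.subsingleton
  have hb : ∀ {T : ShortComplex (DRing.Cx A)} (hT : T.ShortExact),
      (∀ j, Subsingleton (T.X₂.homology j)) → Function.Bijective (dl hT i (i + 1) rfl) := fun hT h => by
    constructor
    · refine (injective_iff_map_eq_zero _).mpr fun q hq => ?_
      obtain ⟨k, rfl⟩ := (ex₃ hT i (i + 1) rfl q).mp hq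
      rw [(h i).elim k 0, map_zero]
    · exact fun y => (ex₁ hT i (i + 1) rfl y).mp ((h (i + 1)).elim _ _)
  have hd₂ := hb h2 hC2
  have hcomm : dl h2 i (i + 1) rfl ∘ Hm (Dc.η I S.X₃) i = Hm (Dc.η I S.X₁) (i + 1) ∘ dl hS i (i + 1) rfl :=
    funext fun x => comm_dl (sq (I := I) S) hS h2 i (i + 1) rfl x
  unfold B
  rw [← Function.Bijective.of_comp_iff _ (hb hS hC), ← hcomm]
  exact Function.Bijective.of_comp_iff' hd₂ _

end Five

theorem subsingleton_mid {S : ShortComplex (DRing.Cx A)} (hS : S.ShortExact) (i : ℤ)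
    (h₁ : Subsingleton (S.X₁.homology i)) (h₃ : Subsingleton (S.X₃.homology i)) :
    Subsingleton (S.X₂.homology i) := subsingleton_of_forall_eq 0 fun x => by
  obtain ⟨y, rfl⟩ := (ex₂ hS i x).mp (h₃.elim _ _)
  rw [h₁.elim y 0, map_zero]

variable (hI : ∀ q, Injective (I.X q))
include hI

theorem exists_suspension (X : DRing.Cx A) :
    ∃ Y : DRing.Cx A, (∀ i, B I X (i + 1) ↔ B I Y i) ∧
      ∀ i, Nonempty (Y.homology i ≃ₗ[A] X.homology (i + 1)) := by
  let g : X ⟶ CochainComplex.mappingCone (𝟙 X) := CochainComplex.mappingCone.inr (𝟙 X)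
  have hg : ∀ i, Mono (g.f i) := fun i =>
    mono_of_mono_fac (CochainComplex.mappingCone.inr_f_snd_v (𝟙 X) i)
  have : Mono g := HomologicalComplex.mono_of_mono_f g hg
  let S : ShortComplex (DRing.Cx A) := ShortComplex.mk g (cokernel.π g) (cokernel.condition g)
  have hS : S.ShortExact := { exact := ShortComplex.exact_of_g_is_cokernel S (cokernelIsCokernel g) }
  have hz : IsZero (DRing.toD (CochainComplex.mappingCone (𝟙 X))) := by
    refine Pretriangulated.Triangle.isZero₃_of_isIso₁ (DerivedCategory.Q.mapTriangle.obj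
      (CochainComplex.mappingCone.triangle (𝟙 X)))
      ((DerivedCategory.mem_distTriang_iff _).mpr ⟨_, _, 𝟙 X, ⟨Iso.refl _⟩⟩) ?_
    change IsIso (DerivedCategory.Q.map (𝟙 X))
    infer_instance
  have hC : ∀ j, Subsingleton (S.X₂.homology j) := fun j =>
    ModuleCat.subsingleton_of_isZero (((DBasic.HF j).map_isZero hz).of_iso (DBasic.hIso _ j).symm)
  refine ⟨S.X₃, fun i => B_outer hI hS hC i, fun i => ⟨LinearEquiv.ofBijective (dl hS i (i + 1) rfl) ⟨?_, ?_⟩⟩⟩
  · refine (injective_iff_map_eq_zero _).mpr fun q hq => ?_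
    obtain ⟨k, rfl⟩ := (ex₃ hS i (i + 1) rfl q).mp hq
    rw [(hC i).elim k 0, map_zero]
  · exact fun y => (ex₁ hS i (i + 1) rfl y).mp ((hC (i + 1)).elim _ _)

omit [I.IsKInjective] hI in
theorem nonempty_iso_single {X Y : DRing.Cx A} (n : ℤ) (hX : ∀ j, j ≠ n → Subsingleton (X.homology j))
    (hY : ∀ j, j ≠ n → Subsingleton (Y.homology j)) (e : X.homology n ≃ₗ[A] Y.homology n) :
    Nonempty (DRing.toD X ≅ DRing.toD Y) := by
  obtain ⟨s⟩ := Devissage.nonempty_single (DRing.toD X) n fun j hj =>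
    have := hX j hj
    (DBasic.hIso X j).toLinearEquiv.toEquiv.subsingleton
  obtain ⟨t⟩ := Devissage.nonempty_single (DRing.toD Y) n fun j hj =>
    have := hY j hj
    (DBasic.hIso Y j).toLinearEquiv.toEquiv.subsingleton
  exact ⟨s ≪≫ (shiftFunctor (Dual.D A) (-n)).mapIso ((DerivedCategory.singleFunctor (ModuleCat.{u} A) 0).mapIso
    (DBasic.hIso X n ≪≫ e.toModuleIso ≪≫ (DBasic.hIso Y n).symm)) ≪≫ t.symm⟩

variable [IsNoetherianRing A]
  (hmod : ∀ (M : Type u) [AddCommGroup M] [Module A M] [Module.Finite A M] (i : ℤ),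
    Function.Bijective (Hm (Dc.η I (sgl (ModuleCat.of A M))) i))
include hmod

theorem B_single : ∀ (k : ℕ) (X : DRing.Cx A) (n : ℤ), n.natAbs = k →
    (∀ j, j ≠ n → Subsingleton (X.homology j)) → Module.Finite A (X.homology n) → ∀ i, B I X i := by
  intro k
  induction k with
  | zero =>
    intro X n hn hX hfin i
    obtain rfl : n = 0 := by omega
    obtain ⟨e⟩ := nonempty_iso_single (Y := sgl (ModuleCat.of A (X.homology 0))) 0 hX
      (fun j hj => exists_rep_sgl _ j hj) (sglH0 (ModuleCat.of A (X.homology 0))).symm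
    exact (B_iso e i).mpr (hmod _ i)
  | succ k ih =>
    intro X n hn hX hfin i
    rcases Nat.lt_or_ge 0 n.toNat with hpos | hneg
    · obtain ⟨Y, hY, hH⟩ := exists_suspension hI X
      rw [show i = i - 1 + 1 by omega, hY]
      refine ih Y (n - 1) (by omega) (fun j hj => ?_) ?_ (i - 1)
      · obtain ⟨e⟩ := hH j
        have := hX (j + 1) (by omega)
        exact e.toEquiv.subsingleton
      · obtain ⟨e⟩ := hH (n - 1)
        have : Module.Finite A (X.homology (n - 1 + 1)) := by rwa [show n - 1 + 1 = n by omega]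
        exact Module.Finite.equiv e.symm
    · let Z : DRing.Cx A := (HomologicalComplex.single (ModuleCat.{u} A) (ComplexShape.up ℤ) (n + 1)).obj (X.homology n)
      let z := (HomologicalComplex.singleObjHomologySelfIso (ComplexShape.up ℤ) (n + 1) (X.homology n)).toLinearEquiv
      have hZ : ∀ j, j ≠ n + 1 → Subsingleton (Z.homology j) := fun j hj =>
        ModuleCat.subsingleton_of_isZero
          (HomologicalComplex.isZero_single_obj_homology (ComplexShape.up ℤ) (n + 1) (X.homology n) j hj)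
      obtain ⟨Y, hY, hH⟩ := exists_suspension hI Z
      obtain ⟨e⟩ := hH n
      obtain ⟨d⟩ := nonempty_iso_single n (fun j hj => by
          obtain ⟨e'⟩ := hH j
          have := hZ (j + 1) (by omega)
          exact e'.toEquiv.subsingleton) hX (e.trans z)
      rw [← B_iso d, ← hY]
      exact ih Z (n + 1) (by omega) hZ (Module.Finite.equiv z.symm) (i + 1)

omit hI hmod [I.IsKInjective] [IsNoetherianRing A] in
theorem exists_trunc (X : DRing.Cx A) (q : ℤ) :
    ∃ S : ShortComplex (DRing.Cx A), S.ShortExact ∧ S.X₂ = X ∧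
      (∀ j, q < j → Subsingleton (S.X₁.homology j)) ∧ (∀ j, j ≤ q → Subsingleton (S.X₃.homology j)) ∧
      (∀ j, j ≤ q → Function.Bijective (Hm S.f j)) ∧ (∀ j, q < j → Function.Bijective (Hm S.g j)) := by
  let S := X.shortComplexTruncLE q
  have hS := X.shortComplexTruncLE_shortExact q
  have h1 : ∀ j, q < j → Subsingleton (S.X₁.homology j) := fun j hj =>
    ModuleCat.subsingleton_of_isZero (ShortComplex.isZero_homology_of_isZero_X₂ _
      (CochainComplex.isZero_of_isStrictlyLE (X.truncLE q) q j hj))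
  have h3 : ∀ j, j ≤ q → Subsingleton (S.X₃.homology j) := fun j hj => by
    have := ModuleCat.subsingleton_of_isZero (ShortComplex.isZero_homology_of_isZero_X₂
      ((X.truncGE (q + 1)).sc j) (CochainComplex.isZero_of_isStrictlyGE (X.truncGE (q + 1)) (q + 1) j (by omega)))
    have : Subsingleton ((X.truncGE (q + 1)).homology j) := this
    exact (Equiv.ofBijective _ (bijective_Hm_of_qis
      (X.shortComplexTruncLEX₃ToTruncGE (n₀ := q) (n₁ := q + 1) rfl) j)).subsingleton
  refine ⟨S, hS, rfl, h1, h3, fun j hj => ⟨?_, fun y => ?_⟩, fun j hj => ⟨?_, fun y => ?_⟩⟩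
  · refine (injective_iff_map_eq_zero _).mpr fun x hx => ?_
    obtain ⟨z, rfl⟩ := (ex₁ hS (j - 1) j (by omega) x).mp hx
    rw [(h3 (j - 1) (by omega)).elim z 0, map_zero]
  · exact (ex₂ hS j y).mp ((h3 j hj).elim _ _)
  · refine (injective_iff_map_eq_zero _).mpr fun x hx => ?_
    obtain ⟨z, rfl⟩ := (ex₂ hS j x).mp hx
    rw [(h1 j hj).elim z 0, map_zero]
  · exact (ex₃ hS j (j + 1) rfl y).mp ((h1 (j + 1) (by omega)).elim _ _)

theorem B_bounded (a : ℤ) : ∀ (n : ℕ) (X : DRing.Cx A),
    (∀ j, (j < a ∨ a + n ≤ j) → Subsingleton (X.homology j)) →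
    (∀ j, Module.Finite A (X.homology j)) → ∀ i, B I X i := by
  intro n
  induction n with
  | zero => exact fun X hX _ i => B_of_acyclic X (fun j => hX j (by omega)) i
  | succ n ih =>
    intro X hX hfin i
    obtain ⟨S, hS, rfl, h1, h3, hf, hg⟩ := exists_trunc X (a + n - 1)
    have hX1 : ∀ j, B I S.X₁ j := ih S.X₁ (fun j hj => by
      by_cases hjq : a + n - 1 < j
      · exact h1 j hjq
      · have := hX j (by omega)
        exact (Equiv.ofBijective _ (hf j (by omega))).subsingleton) fun j => by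
      by_cases hjq : a + n - 1 < j
      · have := h1 j hjq
        infer_instance
      · exact Module.Finite.equiv (LinearEquiv.ofBijective _ (hf j (by omega))).symm
    have hX3 : ∀ j, B I S.X₃ j := B_single hI hmod _ S.X₃ (a + n) rfl (fun j hj => by
      by_cases hjq : a + n - 1 < j
      · have := hX j (by omega)
        exact (Equiv.ofBijective _ (hg j hjq)).symm.subsingleton
      · exact h3 j (by omega)) (Module.Finite.equiv (LinearEquiv.ofBijective _ (hg (a + n) (by omega))))
    exact B_mid hI hS i (hX1 i) (hX1 _) (hX3 i) (hX3 _)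

variable {a b : ℤ} (hge : (DRing.toD I).IsGE a) (hamp : DRing.HasInjAmplitudeIn A a b (DRing.toD I))
include hge hamp

theorem B_general (X : DRing.Cx A) (hX : ∀ j, Module.Finite A (X.homology j)) (i : ℤ) : B I X i := by
  -- cohomology far above `i`
  have high : ∀ (Y : DRing.Cx A) (c : ℤ), (∀ j, j < c → Subsingleton (Y.homology j)) →
      ∀ k, k < c → k + (b - c) < a → B I Y k := by
    intro Y c hY k hkc hk
    refine B_of_zero Y k (hY k hkc) ?_
    have : (DRing.toD Y).IsGE c := (DerivedCategory.isGE_iff _ c).mpr fun j hj =>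
      (DBasic.subsingleton_HD_iff_isZero _ j).mp
        (have := hY j hj; (DBasic.hIso Y j).toLinearEquiv.toEquiv.subsingleton)
    have : (DRing.toD (Dc.D I Y)).IsLE (b - c) := (DBasic.isLE_iff_subsingleton _ _).mpr fun j hj => by
      have := LocalGlobal.subsingleton_hom_injRep hamp (DRing.toD Y) c j (by omega)
      exact ((DBasic.hIso _ j).toLinearEquiv.trans (Dc.hEquiv I Y j).symm).toEquiv.subsingleton
    have := DerivedCategory.TStructure.t.isGE_shift (DRing.toD I) a k (a - k) (by omega)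
    exact subsingleton_of_forall_eq 0 fun φ =>
      DerivedCategory.TStructure.t.zero φ (b - c) (a - k) (by omega)
  -- cohomology far below `i`
  have low : ∀ (Y : DRing.Cx A) (c : ℤ), (∀ j, c < j → Subsingleton (Y.homology j)) →
      ∀ k, c < k → b - k < a - c → B I Y k := by
    intro Y c hY k hkc hk
    refine B_of_zero Y k (hY k hkc) ?_
    have : (DRing.toD Y).IsLE c := (DBasic.isLE_iff_subsingleton _ _).mpr fun j hj =>
      have := hY j hj
      (DBasic.hIso Y j).toLinearEquiv.toEquiv.subsingleton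
    have : (DRing.toD (Dc.D I Y)).IsGE (a - c) := (DerivedCategory.isGE_iff _ _).mpr fun j hj =>
      (DBasic.subsingleton_HD_iff_isZero _ j).mp (by
        have := DerivedCategory.TStructure.t.isGE_shift (DRing.toD I) a j (a - j) (by omega)
        have : Subsingleton (DRing.toD Y ⟶ (DRing.toD I)⟦j⟧) := subsingleton_of_forall_eq 0 fun φ =>
          DerivedCategory.TStructure.t.zero φ c (a - j) (by omega)
        exact ((DBasic.hIso _ j).toLinearEquiv.trans (Dc.hEquiv I Y j).symm).toEquiv.subsingleton)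
    exact LocalGlobal.subsingleton_hom_injRep hamp (DRing.toD (Dc.D I Y)) (a - c) k (by omega)
  let M : ℤ := max 0 (b - a) + 2
  obtain ⟨S, hS, rfl, h1, h3, hf, hg⟩ := exists_trunc X (i + M)
  obtain ⟨T, hT, hT2, t1, t3, tf', tg'⟩ := exists_trunc S.X₁ (i - M)
  have hB1 : ∀ k, i ≤ k → k ≤ i + 1 → B I S.X₁ k := by
    intro k hk hk'
    rw [← hT2]
    have hmid : ∀ j, B I T.X₃ j := by
      have fin1 : ∀ j, Module.Finite A (S.X₁.homology j) := fun j => by
        by_cases hj : i + M < j
        · have := h1 j hj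
          infer_instance
        · exact Module.Finite.equiv (LinearEquiv.ofBijective _ (hf j (by omega))).symm
      rw [← hT2] at fin1
      rw [← hT2] at h1
      refine B_bounded hI hmod (i - M + 1) (2 * M).toNat T.X₃ (fun j hj => ?_) fun j => ?_
      · by_cases hjq : j ≤ i - M
        · exact t3 j hjq
        · have := h1 j (by omega)
          exact (Equiv.ofBijective _ (tg' j (by omega))).symm.subsingleton
      · by_cases hjq : j ≤ i - M
        · have := t3 j hjq
          infer_instance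
        · have := fin1 j
          exact Module.Finite.equiv (LinearEquiv.ofBijective _ (tg' j (by omega)))
    exact B_mid hI hT k (low T.X₁ (i - M) t1 k (by omega) (by omega))
      (low T.X₁ (i - M) t1 (k + 1) (by omega) (by omega)) (hmid k) (hmid _)
  exact B_mid hI hS i (hB1 i le_rfl (by omega)) (hB1 (i + 1) (by omega) le_rfl)
    (high S.X₃ (i + M + 1) (fun j hj => h3 j (by omega)) i (by omega) (by omega))
    (high S.X₃ (i + M + 1) (fun j hj => h3 j (by omega)) (i - 1) (by omega) (by omega))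

end Groth.Agent.DualCx.BidualityGen

namespace Groth.Agent.DualCx.BidualityGen

open Groth.Agent.DRing Biduality

variable {A : Type u} [CommRing A]

/-- a model of a dualizing complex and biduality for it -/
theorem exists_model {ω : Dual.D A} (hω : Dual.IsDualizing A ω) :
    ∃ (I : DRing.Cx A) (_ : I.IsKInjective) (_ : DRing.toD I ≅ ω), (∀ q, Injective (I.X q)) ∧
      ∀ (X : DRing.Cx A), (∀ j, Module.Finite A (X.homology j)) → ∀ i, B I X i := by
  have := hω.isNoetherianRing
  obtain ⟨a₁, b, hab⟩ := hω.finite_injective_dimension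
  obtain ⟨a₀, hω0⟩ := Dimfun.exists_isGE hω
  let a := min a₀ a₁
  have : ω.IsGE a := DerivedCategory.TStructure.t.isGE_of_ge ω a a₀ (min_le_left _ _)
  obtain ⟨I, hI, ⟨e⟩⟩ := Residue.exists_rep (ω := ω) (a := a) fun i hi =>
    (DBasic.subsingleton_HD_iff_isZero ω i).mpr (DerivedCategory.isZero_of_isGE ω a i hi)
  have := hI.isKInjective
  have hge : (DRing.toD I).IsGE a := DerivedCategory.TStructure.t.isGE_of_iso e.symm a
  let eE : ∀ (M : Type u) [AddCommGroup M] [Module A M] (i : ℤ),
      Devissage.E M (DRing.toD I) i ≃ₗ[A] Devissage.E M ω i := fun M _ _ i =>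
    Hom.congr A (Iso.refl _) ((shiftFunctor (Dual.D A) i).mapIso e)
  have hamp : ∀ (M : Type u) [AddCommGroup M] [Module A M] (i : ℤ), (i < a ∨ b < i) →
      Subsingleton (Devissage.E M (DRing.toD I) i) := fun M _ _ i hi =>
    have := hab M i (by rcases hi with h | h <;> [exact Or.inl (lt_of_lt_of_le h (min_le_right _ _)); exact Or.inr h])
    (eE M i).toEquiv.subsingleton
  refine ⟨I, inferInstance, e, hI.1, fun X hX i => B_general hI.1
    (Biduality.bijective_finite a b (fun j =>
        have := hω.finite_cohomology j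
        Module.Finite.equiv ((DBasic.HF j).mapIso e).toLinearEquiv.symm) hamp (fun m hm => ?_) hI.1)
    hge (InjAmp.hasInjAmplitudeIn_of_vanishing fun J j hj => hamp (A ⧸ J) j hj) X hX i⟩
  obtain ⟨d, hv, ⟨eκ⟩⟩ := Extended.residue_single_maximal (B := Localization.AtPrime m) hω m
  exact ⟨d, fun i hi => have := hv i hi; (eE _ i).toEquiv.subsingleton, ⟨(eE _ d).trans eκ⟩⟩

/-- `RHom(X, ω) = D_I X` and biduality -/
theorem nonempty_dual_iso {ω : Dual.D A} {I : DRing.Cx A} [I.IsKInjective] (e : DRing.toD I ≅ ω)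
    {X P : DRing.Cx A} [DRing.HasRHomCx X] [P.IsKProjective] (eP : DRing.toD P ≅ DRing.toD X) :
    Nonempty ((DRing.RHomCx X).obj ω ≅ DRing.toD (Dc.D I P)) :=
  RHomRep.nonempty_iso_of_rep eP e

/-- finite cohomology of the dual, and biduality -/
theorem main {ω : Dual.D A} (hω : Dual.IsDualizing A ω) (K : DRing.Cx A) [DRing.HasRHomCx K]
    (hK : ∀ i : ℤ, Module.Finite A (Dual.HD A (DRing.toD K) i)) :
    (∀ i : ℤ, Module.Finite A (Dual.HD A ((DRing.RHomCx K).obj ω) i)) ∧
      ∀ (E : DRing.Cx A) [DRing.HasRHomCx E], Nonempty (DRing.toD E ≅ (DRing.RHomCx K).obj ω) →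
        Nonempty ((DRing.RHomCx E).obj ω ≅ DRing.toD K) := by
  have := hω.isNoetherianRing
  obtain ⟨I, _, e, hI, hB⟩ := exists_model hω
  obtain ⟨P, _, -, ⟨eP⟩⟩ := DBasic.exists_kproj_iso (DRing.toD K)
  obtain ⟨r⟩ := nonempty_dual_iso e eP
  refine ⟨fun i => ?_, fun E _ ⟨eE⟩ => ?_⟩
  · obtain ⟨a, b, hab⟩ := hω.finite_injective_dimension
    have := LocalGlobal.finite_hom_of_injRep hK hω.finite_cohomology
      (InjAmp.hasInjAmplitudeIn_of_vanishing (a := a) (b := b) fun J j hj => hab (A ⧸ J) j hj) i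
    exact Module.Finite.equiv
      (((Hom.congr A eP.symm ((shiftFunctor (Dual.D A) i).mapIso e.symm)).trans (Dc.hEquiv I P i)).trans
        ((DBasic.HF i).mapIso r ≪≫ DBasic.hIso _ i).toLinearEquiv.symm)
  · obtain ⟨W, _, -, ⟨eW⟩⟩ := DBasic.exists_kproj_iso (DRing.toD E)
    obtain ⟨q⟩ := nonempty_dual_iso e eW
    obtain ⟨f, hf⟩ := DBasic.exists_Q_map_eq (eW ≪≫ eE ≪≫ r).hom
    have : QuasiIso f := (DerivedCategory.isIso_Q_map_iff_quasiIso (C := ModuleCat.{u} A) f).1
      (by rw [hf]; infer_instance)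
    have := Dc.quasiIso_map I f
    have : QuasiIso (Dc.η I P) := by
      rw [quasiIso_iff]
      intro i
      rw [quasiIsoAt_iff_isIso_homologyMap, ConcreteCategory.isIso_iff_bijective]
      exact hB P (fun j =>
        have := hK j
        Module.Finite.equiv ((DBasic.HF j).mapIso eP.symm ≪≫ DBasic.hIso P j).toLinearEquiv) i
    exact ⟨q ≪≫ (asIso (DerivedCategory.Q.map (Dc.map I f))).symm ≪≫
      (asIso (DerivedCategory.Q.map (Dc.η I P))).symm ≪≫ eP⟩

end Groth.Agent.DualCx.BidualityGen
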