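import Groth.Agent.DualCx.CompletionDual
import Groth.Agent.DRing.CompletionFinite
import Groth.Agent.Adic.Basic
import Groth.Agent.InjHull.Matlis

/-!
# Finite and cofinite complexes over a complete local ring

Derived completion takes cofinite complexes to complexes with finite cohomology.
-/

set_option autoImplicit false

universe u

open CategoryTheory CategoryTheory.Limits CategoryTheory.Pretriangulated DerivedCategory IsLocalRing

attribute [local instance] HasDerivedCategory.standard

namespace Groth.Agent.DualCx.CompleteCofinite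

open Groth.Agent.DRing

variable {A : Type u} [CommRing A]

section General

variable (I : Ideal A) [DRing.HasDerivedCompletion I]

/-- `H^i` of the completion is finite -/
def Fin' (X : Dual.D A) (i : ℤ) : Prop :=
  Module.Finite A (Dual.HD A ((DRing.derivedCompletion I).obj X).obj i)

theorem fin_congr {X Y : Dual.D A} (e : X ≅ Y) (i : ℤ) (h : Fin' I X i) : Fin' I Y i :=
  @Module.Finite.equiv A _ _ _ _ _ _ _ h
    ((DBasic.HF i).mapIso ((DRing.IsDerivedComplete I).ι.mapIso
      ((DRing.derivedCompletion I).mapIso e))).toLinearEquiv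

theorem fin_shift (X : Dual.D A) (k i j : ℤ) (hj : k + i = j) (h : Fin' I X j) : Fin' I (X⟦k⟧) i := by
  obtain ⟨e, -⟩ := Completion.IsUniversal.exists_iso I ((Completion.isUniversal_unit I X).shift I k)
    (Completion.isUniversal_unit I (X⟦k⟧))
  exact @Module.Finite.equiv A _ _ _ _ _ _ _ h
    ((DBasic.HFShiftIso _ k i j hj).symm ≪≫ (DBasic.HF i).mapIso e).toLinearEquiv

theorem finite_of_exact [IsNoetherianRing A] {M N P : ModuleCat.{u} A} (f : M ⟶ N) (g : N ⟶ P)
    (w : f ≫ g = 0) (h : (ShortComplex.mk f g w).Exact) (hM : Module.Finite A M) (hP : Module.Finite A P) :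
    Module.Finite A N := by
  have hex := (ShortComplex.ShortExact.moduleCat_exact_iff_function_exact _).1 h
  refine ⟨Submodule.fg_of_fg_map_of_fg_inf_ker g.hom (IsNoetherian.noetherian _) ?_⟩
  rw [top_inf_eq, LinearMap.exact_iff.1 hex]
  exact Module.Finite.iff_fg.1 inferInstance

variable [IsNoetherianRing A]

theorem fin_mid {T : Triangle (Dual.D A)} (hT : T ∈ distinguishedTriangles) (i : ℤ)
    (h1 : Fin' I T.obj₁ i) (h3 : Fin' I T.obj₃ i) : Fin' I T.obj₂ i := by
  obtain ⟨C', l, δ, hT', ⟨e⟩⟩ := Completion.exists_completed_triangle I hT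
  exact finite_of_exact _ _ _ (HomologySequence.exact₂ _ hT' i) h1
    (@Module.Finite.equiv A _ _ _ _ _ _ _ h3 ((DBasic.HF i).mapIso e).symm.toLinearEquiv)

theorem fin_first {T : Triangle (Dual.D A)} (hT : T ∈ distinguishedTriangles) (i : ℤ)
    (h2 : Fin' I T.obj₂ i) (h3 : Fin' I T.obj₃ (i - 1)) : Fin' I T.obj₁ i := by
  obtain ⟨C', l, δ, hT', ⟨e⟩⟩ := Completion.exists_completed_triangle I hT
  exact finite_of_exact _ _ _ (HomologySequence.exact₁ _ hT' (i - 1) i (by omega))
    (@Module.Finite.equiv A _ _ _ _ _ _ _ h3 ((DBasic.HF (i - 1)).mapIso e).symm.toLinearEquiv) h2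

/-- vanishing of the completion outside the amplitude -/
theorem exists_vanish : ∃ c : ℕ, ∀ (X : Dual.D A) (i : ℤ),
    (∀ j, i ≤ j → j ≤ i + c → Subsingleton (Dual.HD A X j)) →
      Subsingleton (Dual.HD A ((DRing.derivedCompletion I).obj X).obj i) := by
  obtain ⟨s, hs⟩ := IsNoetherian.noetherian I
  exact ⟨s.card, fun X i h => (DBasic.subsingleton_HD_iff_isZero _ i).2
    (Completion.isZero_HF_completion I s hs X i fun j h1 h2 =>
      (DBasic.subsingleton_HD_iff_isZero X j).1 (h j h1 h2))⟩

/-- finiteness for bounded complexes from finiteness for their cohomology modules -/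
theorem fin_bounded {a : ℤ} : ∀ (n : ℕ) (X : Dual.D A),
    (∀ j, (j < a ∨ a + n ≤ j) → Subsingleton (Dual.HD A X j)) →
    (∀ j i, Fin' I (Dual.inD A (Dual.HD A X j)) i) → ∀ i, Fin' I X i := by
  intro n
  induction n with
  | zero =>
    intro X hX _ i
    obtain ⟨c, hc⟩ := exists_vanish I
    have := hc X i fun j _ _ => hX j (by omega)
    exact inferInstanceAs (Module.Finite A _)
  | succ n ih =>
    intro X hX hH i
    obtain ⟨T, hT, rfl, h1, h3, e1, e3⟩ := Devissage.exists_split X (a + n - 1)
    refine fin_mid I hT i (ih T.obj₁ (fun j hj => ?_) (fun j k => ?_) i) ?_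
    · by_cases hjn : a + n - 1 < j
      · exact h1 j hjn
      · obtain ⟨e⟩ := e1 j (by omega)
        have := hX j (by omega)
        exact e.toEquiv.subsingleton
    · by_cases hjn : a + n - 1 < j
      · have := h1 j hjn
        obtain ⟨c, hc⟩ := exists_vanish I
        have := hc (Dual.inD A (Dual.HD A T.obj₁ j)) k fun q _ _ =>
          (DBasic.subsingleton_HD_iff_isZero _ q).2 ((DBasic.HF q).map_isZero
            ((DerivedCategory.singleFunctor (ModuleCat.{u} A) 0).map_isZero (ModuleCat.isZero_of_subsingleton _)))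
        exact inferInstanceAs (Module.Finite A _)
      · obtain ⟨e⟩ := e1 j (by omega)
        exact fin_congr I ((DerivedCategory.singleFunctor (ModuleCat.{u} A) 0).mapIso e.symm.toModuleIso) k (hH j k)
    · obtain ⟨s⟩ := Devissage.nonempty_single T.obj₃ (a + n) fun j hj => by
        by_cases hjn : a + n - 1 < j
        · obtain ⟨e⟩ := e3 j hjn
          have := hX j (by omega)
          exact e.symm.toEquiv.subsingleton
        · exact h3 j (by omega)
      obtain ⟨e⟩ := e3 (a + n) (by omega)
      exact fin_congr I s.symm i (fin_shift I _ (-(a + n)) i (-(a + n) + i) rfl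
        (fin_congr I ((DerivedCategory.singleFunctor (ModuleCat.{u} A) 0).mapIso e.toModuleIso) _ (hH _ _)))

end General

section Complete

variable [IsLocalRing A] [IsNoetherianRing A] [IsAdicComplete (maximalIdeal A) A]
  [DRing.HasDerivedCompletion (maximalIdeal A)]

/-- over a complete ring finite cohomology means derived complete -/
theorem isIso_unit (M : Dual.D A) (hM : ∀ i, Module.Finite A (Dual.HD A M i)) :
    IsIso (DRing.toDerivedCompletion (maximalIdeal A) M) := by
  refine (DBasic.isIso_iff_HF _).2 fun i => ?_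
  have := hM i
  have := Adic.isAdicComplete_of_finite (M := Dual.HD A M i) (maximalIdeal A)
  obtain ⟨e, he⟩ := CompletionModule.exists_equiv_of_finite (maximalIdeal A) M hM i
  refine (ConcreteCategory.isIso_iff_bijective _).2 ?_
  have hb : Function.Bijective (e.symm ∘ AdicCompletion.of (maximalIdeal A) (Dual.HD A M i)) :=
    e.symm.bijective.comp (AdicCompletion.of_bijective_iff.2 inferInstance)
  convert hb using 1
  funext x
  exact (e.symm_apply_apply _).symm.trans (congrArg e.symm (he x))

variable {ω : Dual.D A} (hω : Dual.IsDualizing A ω) (hn : Dual.IsNormalized A ω)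
  [DRing.HasRgammaI (maximalIdeal A)] {E : Type u} [AddCommGroup E] [Module A E]
  {f : ResidueField A →ₗ[A] E} (hf : _root_.InjHull.IsInjectiveHull f)

include hω hn hf

theorem fin_hull (i : ℤ) : Fin' (maximalIdeal A) (Dual.inD A E) i := by
  obtain ⟨eE⟩ := CompletionDual.nonempty_RgammaI_dualizing hω hn hf
  have := LocCoh.GM.isIso_completion_map_ε (maximalIdeal A) ω
  have := isIso_unit ω hω.finite_cohomology
  let e : ((DRing.derivedCompletion (maximalIdeal A)).obj ((DRing.RgammaI (maximalIdeal A)).obj ω)).obj ≅ ω :=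
    (DRing.IsDerivedComplete (maximalIdeal A)).ι.mapIso
      (asIso ((DRing.derivedCompletion (maximalIdeal A)).map ((DRing.RgammaIε (maximalIdeal A)).app ω))) ≪≫
      (asIso (DRing.toDerivedCompletion (maximalIdeal A) ω)).symm
  exact fin_congr _ eE i (@Module.Finite.equiv A _ _ _ _ _ _ _ (hω.finite_cohomology i)
    ((DBasic.HF i).mapIso e).symm.toLinearEquiv)

theorem fin_power : ∀ (k : ℕ) (i : ℤ), Fin' (maximalIdeal A) (Dual.inD A (Fin k → E)) i
  | 0, i => by
    obtain ⟨c, hc⟩ := exists_vanish (maximalIdeal A)
    have := hc (Dual.inD A (Fin 0 → E)) i fun q _ _ => (DBasic.subsingleton_HD_iff_isZero _ q).2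
      ((DBasic.HF q).map_isZero
        ((DerivedCategory.singleFunctor (ModuleCat.{u} A) 0).map_isZero (ModuleCat.isZero_of_subsingleton _)))
    exact inferInstanceAs (Module.Finite A _)
  | k + 1, i => by
    have hex : Function.Exact (LinearMap.single A (fun _ : Fin (k + 1) => E) 0)
        (LinearMap.funLeft A E (Fin.succ : Fin k → Fin (k + 1))) := by
      intro x
      constructor
      · intro h
        refine ⟨x 0, funext fun j => ?_⟩
        refine Fin.cases ?_ (fun j => ?_) j
        · simp
        · simpa [Fin.succ_ne_zero] using (congrFun h j).symm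
      · rintro ⟨y, rfl⟩
        funext j
        simp [LinearMap.funLeft, Fin.succ_ne_zero]
    exact fin_mid _ (Devissage.sc_shortExact (fun a b h => by simpa using congrFun h 0 : Function.Injective (LinearMap.single A (fun _ : Fin (k + 1) => E) 0))
      (LinearMap.funLeft_surjective_of_injective A E _ (Fin.succ_injective k)) hex).singleTriangle_distinguished
      i (fin_hull hω hn hf i) (fin_power k i)

theorem fin_cofinite (N : Type u) [AddCommGroup N] [Module A N] [IsArtinian A N] (i : ℤ) :
    Fin' (maximalIdeal A) (Dual.inD A N) i := by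
  obtain ⟨c, hc⟩ := exists_vanish (maximalIdeal A)
  suffices ∀ (n : ℕ) (N : Type u) [AddCommGroup N] [Module A N] [IsArtinian A N] (i : ℤ),
      i ≤ -(c : ℤ) - 1 + n → Fin' (maximalIdeal A) (Dual.inD A N) i from
    this (i + c + 1).toNat N i (by omega)
  intro n
  induction n with
  | zero =>
    intro N _ _ _ i hi
    have := hc (Dual.inD A N) i fun q _ h2 => DRing.PC.subsingleton_HD_inD A N q (by omega)
    exact inferInstanceAs (Module.Finite A _)
  | succ n ih =>
    intro N _ _ _ i hi
    obtain ⟨hpt, hfin⟩ := (InjHull.Matlis.isArtinian_iff (R := A) N).1 inferInstance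
    obtain ⟨g, hg⟩ := InjHull.Matlis.embeds_in_power hf hpt _ rfl
    have := InjHull.Matlis.isArtinian_hull hf
    exact fin_first _ (Devissage.sc_shortExact hg (Submodule.mkQ_surjective _)
      (LinearMap.exact_map_mkQ_range g)).singleTriangle_distinguished i (fin_power hω hn hf _ i)
      (ih _ (i - 1) (by omega))

end Complete

end Groth.Agent.DualCx.CompleteCofinite
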