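import Groth.Agent.DualCx.Hom
import Groth.Prelude.Def_DualLC
import Groth.Prelude.Def_DRing2
import Mathlib.Algebra.Category.ModuleCat.FilteredColimits
import Mathlib.Algebra.Category.ModuleCat.Colimits
import Mathlib.Algebra.Category.Grp.FilteredColimits
import Mathlib.CategoryTheory.Limits.ConcreteCategory.Basic
import Mathlib.CategoryTheory.Triangulated.Yoneda

/-!
# `colim_n Hom(A/I^n, X)` in the derived category, elementwise
-/

universe u

open CategoryTheory CategoryTheory.Limits Opposite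

attribute [local instance] HasDerivedCategory.standard

namespace Groth.Agent.DualCx.TorsColim

variable {A : Type u} [CommRing A] (I : Ideal A)

/-- the index diagram -/
noncomputable abbrev dia : ℕᵒᵖᵒᵖ ⥤ (Dual.D A)ᵒᵖ :=
  (localCohomology.ringModIdeals (localCohomology.idealPowersDiagram I) ⋙
    DerivedCategory.singleFunctor (ModuleCat.{u} A) 0).op

/-- the diagram -/
noncomputable abbrev sys (X : Dual.D A) : ℕᵒᵖᵒᵖ ⥤ ModuleCat.{u + 1} A :=
  dia I ⋙ (linearYoneda A (Dual.D A)).obj X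

/-- `colim_n Hom(A/I^n, X)` -/
noncomputable abbrev L (X : Dual.D A) : ModuleCat.{u + 1} A := colimit (sys I X)

/-- projection -/
noncomputable def qD {n m : ℕ} (h : n ≤ m) : Dual.inD A (A ⧸ I ^ m) ⟶ Dual.inD A (A ⧸ I ^ n) :=
  (DerivedCategory.singleFunctor (ModuleCat.{u} A) 0).map
    (ModuleCat.ofHom (Submodule.mapQ _ _ LinearMap.id (Ideal.pow_le_pow_right h)))

/-- inclusion of a stage -/
noncomputable def ι (n : ℕ) (X : Dual.D A) : (Dual.inD A (A ⧸ I ^ n) ⟶ X) →ₗ[A] L I X :=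
  (colimit.ι (sys I X) (op (op n))).hom

theorem ι_qD {n m : ℕ} (h : n ≤ m) {X : Dual.D A} (e : Dual.inD A (A ⧸ I ^ n) ⟶ X) :
    ι I m X (qD I h ≫ e) = ι I n X e :=
  ConcreteCategory.congr_hom (colimit.w (sys I X)
    (show op (op n) ⟶ op (op m) from (homOfLE h).op.op)) e

theorem preserves_forget (X : Dual.D A) : PreservesColimit (sys I X) (forget (ModuleCat.{u + 1} A)) := by
  have : PreservesFilteredColimitsOfSize.{0, 0} (forget AddCommGrpCat.{u + 1}) :=
    preservesFilteredColimitsOfSize_of_univLE.{u + 1, u + 1} _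
  exact (inferInstance : PreservesColimit (sys I X)
    (forget₂ (ModuleCat.{u + 1} A) AddCommGrpCat.{u + 1} ⋙ forget AddCommGrpCat.{u + 1}))

theorem exists_rep {X : Dual.D A} (x : L I X) :
    ∃ (n : ℕ) (e : Dual.inD A (A ⧸ I ^ n) ⟶ X), ι I n X e = x := by
  have := preserves_forget I X
  obtain ⟨⟨⟨n⟩⟩, e, he⟩ := Concrete.colimit_exists_rep (sys I X) x
  exact ⟨n, e, he⟩

theorem exists_rep₂ {X : Dual.D A} (x y : L I X) :
    ∃ (n : ℕ) (e e' : Dual.inD A (A ⧸ I ^ n) ⟶ X), ι I n X e = x ∧ ι I n X e' = y := by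
  obtain ⟨n, e, rfl⟩ := exists_rep I x
  obtain ⟨m, e', rfl⟩ := exists_rep I y
  exact ⟨max n m, _, _, ι_qD I (le_max_left n m) e, ι_qD I (le_max_right n m) e'⟩

theorem ι_eq_zero_iff {n : ℕ} {X : Dual.D A} (e : Dual.inD A (A ⧸ I ^ n) ⟶ X) :
    ι I n X e = 0 ↔ ∃ (m : ℕ) (h : n ≤ m), qD I h ≫ e = 0 := by
  constructor
  · intro h0
    have := preserves_forget I X
    obtain ⟨⟨⟨m⟩⟩, f, g, hfg⟩ := Concrete.colimit_exists_of_rep_eq (sys I X)
      (i := op (op n)) (j := op (op n)) e (0 : Dual.inD A (A ⧸ I ^ n) ⟶ X)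
      (h0.trans (map_zero (ι I n X)).symm)
    exact ⟨m, leOfHom f.unop.unop, hfg.trans (map_zero ((sys I X).map g).hom)⟩
  · rintro ⟨m, h, hm⟩
    rw [← ι_qD I h, hm, map_zero]

/-- functoriality -/
noncomputable def map {X Y : Dual.D A} (f : X ⟶ Y) : L I X →ₗ[A] L I Y :=
  (colimMap (Functor.whiskerLeft (dia I) ((linearYoneda A (Dual.D A)).map f))).hom

theorem map_ι {X Y : Dual.D A} (f : X ⟶ Y) (n : ℕ) (e : Dual.inD A (A ⧸ I ^ n) ⟶ X) :
    map I f (ι I n X e) = ι I n Y (e ≫ f) :=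
  ConcreteCategory.congr_hom (ι_colimMap (
    Functor.whiskerLeft (dia I) ((linearYoneda A (Dual.D A)).map f)) (op (op n))) e

theorem hom_ext {X : Dual.D A} {N : Type*} [AddCommGroup N] [Module A N] {f g : L I X →ₗ[A] N}
    (h : ∀ n e, f (ι I n X e) = g (ι I n X e)) : f = g :=
  LinearMap.ext fun x => by
    obtain ⟨n, e, rfl⟩ := exists_rep I x
    exact h n e

theorem map_id (X : Dual.D A) : map I (𝟙 X) = LinearMap.id :=
  hom_ext I fun n e => by rw [map_ι, Category.comp_id, LinearMap.id_apply]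

theorem map_comp {X Y Z : Dual.D A} (f : X ⟶ Y) (g : Y ⟶ Z) :
    map I (f ≫ g) = (map I g).comp (map I f) :=
  hom_ext I fun n e => by rw [map_ι, LinearMap.comp_apply, map_ι, map_ι, Category.assoc]

theorem map_smul_id (a : A) (X : Dual.D A) : map I (a • 𝟙 X) = a • LinearMap.id :=
  hom_ext I fun n e => by
    rw [map_ι, CategoryTheory.Linear.comp_smul, Category.comp_id, map_smul, LinearMap.smul_apply,
      LinearMap.id_apply]

/-- isomorphic objects -/
noncomputable def congr {X Y : Dual.D A} (e : X ≅ Y) : L I X ≃ₗ[A] L I Y :=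
  LinearEquiv.ofLinear (map I e.hom) (map I e.inv)
    (by rw [← map_comp, e.inv_hom_id, map_id])
    (by rw [← map_comp, e.hom_inv_id, map_id])

theorem exact {T : Pretriangulated.Triangle (Dual.D A)} (hT : T ∈ distTriang (Dual.D A)) :
    Function.Exact (map I T.mor₁) (map I T.mor₂) := by
  intro x
  constructor
  · obtain ⟨n, e, rfl⟩ := exists_rep I x
    intro h
    rw [map_ι, ι_eq_zero_iff] at h
    obtain ⟨m, hm, he⟩ := h
    obtain ⟨d, hd⟩ := Pretriangulated.Triangle.coyoneda_exact₂ T hT (qD I hm ≫ e)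
      (by rw [Category.assoc, he])
    exact ⟨ι I m T.obj₁ d, by rw [map_ι, ← hd, ι_qD]⟩
  · rintro ⟨y, rfl⟩
    rw [← LinearMap.comp_apply, ← map_comp, Pretriangulated.comp_distTriang_mor_zero₁₂ T hT]
    obtain ⟨n, e, rfl⟩ := exists_rep I y
    rw [map_ι, comp_zero, map_zero]

theorem pow_smul_qD {n : ℕ} {a : A} (ha : a ∈ I ^ n) : a • 𝟙 (Dual.inD A (A ⧸ I ^ n)) = 0 := by
  have h : a • 𝟙 (ModuleCat.of A (A ⧸ I ^ n)) = 0 := by
    refine ModuleCat.hom_ext (LinearMap.ext fun x => ?_)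
    obtain ⟨y, rfl⟩ := Submodule.Quotient.mk_surjective _ x
    change a • Submodule.Quotient.mk (p := I ^ n) y = 0
    rw [← Submodule.Quotient.mk_smul, Submodule.Quotient.mk_eq_zero]
    exact Ideal.mul_mem_right _ _ ha
  rw [← CategoryTheory.Functor.map_id, ← Functor.map_smul, h, Functor.map_zero]

theorem smul_ι_eq_zero {n : ℕ} {a : A} (ha : a ∈ I ^ n) {X : Dual.D A}
    (e : Dual.inD A (A ⧸ I ^ n) ⟶ X) : a • ι I n X e = 0 := by
  rw [← map_smul, show a • e = (a • 𝟙 _) ≫ e by simp, pow_smul_qD I ha, zero_comp, map_zero]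

theorem isPowerTorsion (X : Dual.D A) (x : L I X) : ∃ n : ℕ, ∀ a ∈ I ^ n, a • x = 0 := by
  obtain ⟨n, e, rfl⟩ := exists_rep I x
  exact ⟨n, fun a ha => smul_ι_eq_zero I ha e⟩

end Groth.Agent.DualCx.TorsColim
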