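import Groth.Agent.DualCx.LocalDuality
import Groth.Agent.DualCx.LocalGlobal
import Groth.Agent.DRing.InjAmp
import Groth.Agent.LocCoh.HDIGamma
import Groth.Agent.LocCoh.Support

/-!
# Local duality for objects with finite cohomology in every degree
-/

universe u

open CategoryTheory CategoryTheory.Limits IsLocalRing DerivedCategory

attribute [local instance] HasDerivedCategory.standard

namespace Groth.Agent.DualCx.LocalDualityGen

open DRing.Homology
open TorsColim (L)
open LocalDuality (P Ψ)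

variable {A : Type u} [CommRing A] [IsNoetherianRing A]

/-- torsion cycles bound torsion chains far above the cohomology -/
theorem exists_torsion_preimage (E : DRing.Cx A) [∀ i, Injective (E.X i)] :
    ∀ (s : Finset A) (c : ℤ), (∀ i, c < i → Subsingleton (E.homology i)) →
      ∀ i j : ℤ, j + 1 = i → c + s.card < i →
        ∀ z ∈ DRing.torsionSub (Ideal.span (s : Set A)) (E.X i), IsCyc E i z →
          ∃ w ∈ DRing.torsionSub (Ideal.span (s : Set A)) (E.X j), (E.d j i).hom w = z := by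
  classical
  intro s
  induction s using Finset.induction with
  | empty =>
    intro c hc i j hj hi z _ hz
    have := hc i (by simpa using hi)
    obtain ⟨w, hw⟩ := (cls_eq_zero_iff j hj hz).1 (Subsingleton.elim _ _)
    exact ⟨w, by rw [Finset.coe_empty, Ideal.span_empty]; exact LocCoh.RGamma.mem_torsionSub_bot w, hw⟩
  | insert a s ha ih =>
    intro c hc i j hj hi z hz hcyc
    rw [Finset.card_insert_of_notMem ha] at hi
    rw [Finset.coe_insert, Ideal.span_insert, sup_comm] at hz ⊢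
    have hzJ : z ∈ DRing.torsionSub (Ideal.span (s : Set A)) (E.X i) :=
      hz.imp fun n hn c hc => hn c (Ideal.pow_right_mono le_sup_left n hc)
    obtain ⟨w, hwJ, rfl⟩ := ih c hc i j hj (by push_cast at hi; omega) z hzJ hcyc
    obtain ⟨n, hn⟩ := LocCoh.exists_pow_smul_of_mem_sup_span hz
    have hcyc' : IsCyc E j (a ^ n • w) := (isCyc_iff hj _).2 (by rw [map_smul, hn])
    obtain ⟨v, hvJ, hv⟩ := ih c hc j (j - 1) (by omega) (by push_cast at hi; omega) _
      (Submodule.smul_mem _ _ hwJ) hcyc'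
    obtain ⟨v', hv'J, m, hv'⟩ :=
      (LocCoh.RGamma.div_of_injective (Ideal.span (s : Set A)) a (E.X (j - 1))).exists_divide n hvJ
    refine ⟨w - (E.d (j - 1) j).hom v', LocCoh.mem_torsionSub_sup_span (k := n * m + n)
      (Submodule.sub_mem _ hwJ (LocCoh.RGamma.mem_torsionSub_d _ _ hv'J)) ?_, ?_⟩
    · rw [pow_add, pow_mul, mul_smul, smul_sub, ← hv, ← map_smul, ← map_sub, ← map_smul, hv',
        map_zero]
    · rw [map_sub, d_d, sub_zero]

/-- `colim_n Hom(A/I^n, X)` vanishes for `X` concentrated far below -/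
theorem exists_subsingleton_L (I : Ideal A) :
    ∃ N : ℕ, ∀ (X : Dual.D A) (c : ℤ), c + N < 0 →
      (∀ i, c < i → Subsingleton (Dual.HD A X i)) → Subsingleton (L I X) := by
  obtain ⟨s, rfl⟩ := IsNoetherian.noetherian I
  refine ⟨s.card, fun X c hc hX => ?_⟩
  obtain ⟨E, hE, hinj, ⟨e⟩⟩ := LocCoh.RGamma.exists_resolution X
  have hvan : ∀ i, c < i → Subsingleton (E.homology i) := fun i hi =>
    have := hX i hi
    ((DRing.DBasic.hIso E i).symm ≪≫ (DRing.DBasic.HF i).mapIso e).toLinearEquiv.toEquiv.subsingleton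
  suffices h : Subsingleton (((LocCoh.RGamma.GC (Ideal.span (s : Set A))).obj E).homology 0) from
    (LocCoh.HDIGamma.equiv (Ideal.span (s : Set A)) e).toEquiv.subsingleton
  refine subsingleton_of_forall_eq 0 fun x => ?_
  obtain ⟨⟨z, hz⟩, hcyc, rfl⟩ := cls_surjective x
  obtain ⟨w, hw, hdw⟩ := exists_torsion_preimage E s c hvan 0 (-1) (by norm_num) hc z hz
    (congrArg Subtype.val hcyc)
  exact (cls_eq_zero_iff (-1) (by norm_num) _).2 ⟨⟨w, hw⟩, Subtype.ext hdw⟩

variable [IsLocalRing A] {ω : Dual.D A} {H : Type u} [AddCommGroup H] [Module A H]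
  {f : ResidueField A →ₗ[A] H}

/-- local duality, cohomologies finite -/
theorem bijective (hω : Dual.IsDualizing A ω) (hn : Dual.IsNormalized A ω)
    (hf : InjHull.IsInjectiveHull f) {θ : L (maximalIdeal A) (ω⟦(0 : ℤ)⟧) →ₗ[A] H}
    (hθ : Function.Injective (θ.comp (TorsColim.ι (maximalIdeal A) 1 (ω⟦(0 : ℤ)⟧))))
    (X : Dual.D A) (hX : ∀ i, Module.Finite A (Dual.HD A X i)) :
    P (maximalIdeal A) (ω⟦(0 : ℤ)⟧) θ X := by
  have : Module.Injective A H := hf.isInjective
  suffices ∀ (Y : Dual.D A), (∀ i, Module.Finite A (Dual.HD A Y i)) →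
      Function.Bijective (Ψ (maximalIdeal A) (ω⟦(0 : ℤ)⟧) θ Y) from fun n =>
    this _ fun i => by
      have := hX (n + i)
      exact Module.Finite.equiv
        ((DRing.DBasic.HFShiftIso X n i (n + i) rfl).toLinearEquiv.symm)
  intro Y hY
  obtain ⟨a, b, hab⟩ := hω.finite_injective_dimension
  have hamp : DRing.HasInjAmplitudeIn A a b ω :=
    DRing.InjAmp.hasInjAmplitudeIn_of_vanishing fun J i hi => hab (A ⧸ J) i hi
  obtain ⟨a₀, hω0⟩ := Dimfun.exists_isGE hω
  obtain ⟨N, hN⟩ := exists_subsingleton_L (maximalIdeal A)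
  let q : ℤ := max b 0
  let p : ℤ := min (a₀ - 1) (-(N : ℤ) - 1) - 1
  -- objects concentrated above `q` or below `p`
  have habove : ∀ Z : Dual.D A, Z.IsGE (q + 1) → Subsingleton (L (maximalIdeal A) Z) ∧
      Subsingleton (Z ⟶ ω⟦(0 : ℤ)⟧) := fun Z hZ => by
    refine ⟨subsingleton_of_forall_eq 0 fun x => ?_,
      LocalGlobal.subsingleton_hom_injRep hamp Z (q + 1) 0 (by omega)⟩
    obtain ⟨k, e, rfl⟩ := TorsColim.exists_rep _ x
    have : Z.IsGE 1 := DerivedCategory.TStructure.t.isGE_of_ge Z 1 (q + 1) (by omega)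
    rw [DerivedCategory.TStructure.t.zero e 0 1 (by omega), map_zero]
  have hbelow : ∀ Z : Dual.D A, Z.IsLE (p + 1) → Subsingleton (L (maximalIdeal A) Z) ∧
      Subsingleton (Z ⟶ ω⟦(0 : ℤ)⟧) := fun Z hZ => by
    have := hω0
    have : (ω⟦(0 : ℤ)⟧).IsGE a₀ := DerivedCategory.TStructure.t.isGE_shift ω a₀ 0 a₀ (zero_add a₀)
    exact ⟨hN Z (p + 1) (by omega) fun i hi =>
      (DRing.DBasic.subsingleton_HD_iff_isZero Z i).mpr (DerivedCategory.isZero_of_isLE Z (p + 1) i hi),
      subsingleton_of_forall_eq 0 fun g =>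
        DerivedCategory.TStructure.t.zero g (p + 1) a₀ (by omega)⟩
  have bij_of : ∀ Z : Dual.D A, Subsingleton (L (maximalIdeal A) Z) ∧
      Subsingleton (Z ⟶ ω⟦(0 : ℤ)⟧) → Function.Bijective (Ψ (maximalIdeal A) (ω⟦(0 : ℤ)⟧) θ Z) :=
    fun Z h => LocalDuality.bijective_of_subsingleton _ _ _ h.1 h.2
  -- bounded above
  have hbdd : ∀ (Z : Dual.D A) (c : ℤ), Z.IsLE c → (∀ i, Module.Finite A (Dual.HD A Z i)) →
      Function.Bijective (Ψ (maximalIdeal A) (ω⟦(0 : ℤ)⟧) θ Z) := by
    intro Z c hc hZ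
    obtain ⟨T, hT, rfl, hl, hr, e1, e3⟩ := Devissage.exists_split Z p
    have hle1 : T.obj₁.IsLE p := (DerivedCategory.isLE_iff _ _).mpr fun j hj =>
      (DRing.DBasic.subsingleton_HD_iff_isZero _ j).mp (hl j hj)
    have hge3 : T.obj₃.IsGE (p + 1) := (DerivedCategory.isGE_iff _ _).mpr fun j hj =>
      (DRing.DBasic.subsingleton_HD_iff_isZero _ j).mp (hr j (by omega))
    have hle3 : T.obj₃.IsLE (max c p) := (DerivedCategory.isLE_iff _ _).mpr fun j hj =>
      (DRing.DBasic.subsingleton_HD_iff_isZero _ j).mp (by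
        obtain ⟨e⟩ := e3 j (by omega)
        have := (DRing.DBasic.subsingleton_HD_iff_isZero T.obj₂ j).mpr
          (DerivedCategory.isZero_of_isLE T.obj₂ c j (by omega))
        exact e.symm.toEquiv.subsingleton)
    have hfin3 : ∀ j, Module.Finite A (Dual.HD A T.obj₃ j) := fun j => by
      by_cases hj' : j ≤ p
      · have := hr j hj'; infer_instance
      · obtain ⟨e⟩ := e3 j (by omega)
        have := hZ j
        exact Module.Finite.equiv e
    have hP3 := LocalDuality.P_bounded θ hω hn hf hθ T.obj₃ (p + 1) (max c p) hge3 hle3 hfin3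
    refine LocalDuality.bijective_mid _ _ θ hT (hP3 (-1)) (bij_of _ (hbelow _ ?_))
      (LocalDuality.bijective_congr _ _ θ ((shiftFunctorZero (Dual.D A) ℤ).app T.obj₃) (hP3 0))
      (bij_of _ (hbelow _ ?_)).1
    · exact DerivedCategory.TStructure.t.isLE_of_le _ p (p + 1) (by omega)
    · change (T.obj₁⟦(1 : ℤ)⟧).IsLE (p + 1)
      have := DerivedCategory.TStructure.t.isLE_shift T.obj₁ p 1 (p - 1) (by omega)
      exact DerivedCategory.TStructure.t.isLE_of_le _ (p - 1) (p + 1) (by omega)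
  obtain ⟨T, hT, rfl, hl, hr, e1, -⟩ := Devissage.exists_split Y q
  have hge3 : T.obj₃.IsGE (q + 1) := (DerivedCategory.isGE_iff _ _).mpr fun j hj =>
    (DRing.DBasic.subsingleton_HD_iff_isZero _ j).mp (hr j (by omega))
  have hle1 : T.obj₁.IsLE q := (DerivedCategory.isLE_iff _ _).mpr fun j hj =>
    (DRing.DBasic.subsingleton_HD_iff_isZero _ j).mp (hl j hj)
  have hfin1 : ∀ j, Module.Finite A (Dual.HD A T.obj₁ j) := fun j => by
    by_cases hj : j ≤ q
    · obtain ⟨e⟩ := e1 j hj
      have := hY j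
      exact Module.Finite.equiv e.symm
    · have h00 : Subsingleton (Dual.HD A T.obj₁ j) := hl j (by omega)
      infer_instance
  refine LocalDuality.bijective_mid _ _ θ hT (bij_of _ (habove _ ?_)) (hbdd _ q hle1 hfin1)
    (bij_of _ (habove _ hge3)) (hbdd _ (q - 1) ?_ fun j => ?_).1
  · change (T.obj₃⟦(-1 : ℤ)⟧).IsGE (q + 1)
    have := DerivedCategory.TStructure.t.isGE_shift T.obj₃ (q + 1) (-1) (q + 2) (by omega)
    exact DerivedCategory.TStructure.t.isGE_of_ge _ (q + 1) (q + 2) (by omega)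
  · change (T.obj₁⟦(1 : ℤ)⟧).IsLE (q - 1)
    exact DerivedCategory.TStructure.t.isLE_shift T.obj₁ q 1 (q - 1) (by omega)
  · have := hfin1 (1 + j)
    exact Module.Finite.equiv ((DRing.DBasic.HFShiftIso T.obj₁ 1 j (1 + j) rfl).toLinearEquiv.symm)

end Groth.Agent.DualCx.LocalDualityGen
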