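import Groth.Agent.DRing.RHomCompletion
import Groth.Agent.DRing.DerivedCompletion
import Groth.Agent.LocCoh.GreenleesMay
import Groth.Agent.LocCoh.RGammaHom
import Groth.Agent.DualCx.LocalDualityGen
import Groth.Agent.S1812
import Groth.Agent.S19135

/-!
# Local duality with derived completion

`RΓ_m ω = E`, and `RHom(K, ω)^∧ = RHom(RΓ_m K, E)`.
-/

set_option autoImplicit false

universe u

open CategoryTheory CategoryTheory.Limits MonoidalCategory

attribute [local instance] HasDerivedCategory.standard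

namespace Groth.Agent.DualCx.CompletionDual

open Groth.Agent.DTenLib Groth.Agent.DRing

variable {A : Type u} [CommRing A]

/-- `RΓ_m ω ≅ E` -/
theorem nonempty_RgammaI_dualizing [IsLocalRing A] [IsNoetherianRing A] {ω : Dual.D A}
    (hω : Dual.IsDualizing A ω) (hn : Dual.IsNormalized A ω) {E : Type u} [AddCommGroup E]
    [Module A E] {f : IsLocalRing.ResidueField A →ₗ[A] E} (hf : _root_.InjHull.IsInjectiveHull f)
    [DRing.HasRgammaI (IsLocalRing.maximalIdeal A)] :
    Nonempty ((DRing.RgammaI (IsLocalRing.maximalIdeal A)).obj ω ≅ Dual.inD A E) := by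
  have hd : ∀ q : ℤ, Nonempty (Dual.HD A ((DRing.RgammaI (IsLocalRing.maximalIdeal A)).obj ω) q ≃ₗ[A]
      ((ω ⟶ ω⟦-q⟧) →ₗ[A] E)) := fun q => by
    obtain ⟨e₁⟩ := S1812.result A (IsLocalRing.maximalIdeal A) (IsNoetherian.noetherian _) ω q
    obtain ⟨e₂⟩ := S19135.nonempty_duality hω hn hf ω hω.finite_cohomology q
    exact ⟨e₁.trans e₂⟩
  obtain ⟨s⟩ := Devissage.nonempty_single ((DRing.RgammaI (IsLocalRing.maximalIdeal A)).obj ω) 0
    fun q hq => by
      obtain ⟨e⟩ := hd q
      have := hω.ext_self_subsingleton (-q) (by omega)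
      exact e.toEquiv.subsingleton_congr.2 inferInstance
  obtain ⟨e⟩ := hd 0
  let t : A ≃ₗ[A] (ω ⟶ ω⟦-(0 : ℤ)⟧) :=
    (LinearEquiv.ofBijective (LinearMap.toSpanSingleton A (ω ⟶ ω) (𝟙 ω)) hω.toEnd_bijective).trans
      (Hom.congr A (Iso.refl ω) ((shiftFunctorZero' (Dual.D A) (-(0 : ℤ)) neg_zero).app ω).symm)
  let e' : Dual.HD A ((DRing.RgammaI (IsLocalRing.maximalIdeal A)).obj ω) 0 ≃ₗ[A] E :=
    e.trans ((LinearEquiv.congrLeft E A t.symm).trans (LinearMap.ringLmapEquivSelf A A E))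
  exact ⟨s ≪≫ (shiftFunctorZero' (Dual.D A) (-(0 : ℤ)) neg_zero).app _ ≪≫
    (DerivedCategory.singleFunctor (ModuleCat.{u} A) 0).mapIso e'.toModuleIso⟩

/-- isomorphisms are detected by K-projective complexes -/
theorem isIso_of_bijective {X Y : Dual.D A} (φ : X ⟶ Y)
    (h : ∀ (W : DRing.Cx A) [W.IsKProjective],
      Function.Bijective fun v : DRing.toD W ⟶ X => v ≫ φ) : IsIso φ := by
  obtain ⟨W, _, -, ⟨e⟩⟩ := DBasic.exists_kproj_iso Y
  obtain ⟨W', _, -, ⟨e'⟩⟩ := DBasic.exists_kproj_iso X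
  obtain ⟨v, hv⟩ := (h W).2 e.hom
  dsimp only at hv
  refine ⟨e.inv ≫ v, ?_, by rw [Category.assoc, hv, e.inv_hom_id]⟩
  rw [← cancel_epi e'.hom]
  refine (h W').1 ?_
  simp only [Category.assoc, hv, e.inv_hom_id, Category.comp_id]

/-- maps into a Hom complex in `D(A)` -/
theorem exists_adj (W P I : DRing.Cx A) [W.IsKProjective] [I.IsKInjective] :
    ∃ Φ : (DRing.toD W ⟶ DRing.toD (DRing.homCx P I)) ≃ (DRing.toD (W ⊗ P : DRing.Cx A) ⟶ DRing.toD I),
      ∀ a : W ⟶ DRing.homCx P I, Φ (DerivedCategory.Q.map a) = DerivedCategory.Q.map (uncurry a) := by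
  choose a ha using fun v : DRing.toD W ⟶ DRing.toD (DRing.homCx P I) => DBasic.exists_Q_map_eq v
  choose b hb using fun w : DRing.toD (W ⊗ P : DRing.Cx A) ⟶ DRing.toD I => InjAmp.exists_Q_map_eq_inj w
  have key : ∀ c d : W ⟶ DRing.homCx P I, DerivedCategory.Q.map c = DerivedCategory.Q.map d →
      DerivedCategory.Q.map (uncurry c) = DerivedCategory.Q.map (uncurry d) := fun c d h => by
    obtain ⟨s⟩ := (DBasic.Q_map_eq_iff _ _).1 h
    exact DerivedCategory.Q_map_eq_of_homotopy (ModuleCat.{u} A) (HomCx.uncurryHomotopy s)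
  have key' : ∀ c d : (W ⊗ P : DRing.Cx A) ⟶ I, DerivedCategory.Q.map c = DerivedCategory.Q.map d →
      DerivedCategory.Q.map (curry c) = DerivedCategory.Q.map (curry d) := fun c d h => by
    obtain ⟨s⟩ := (InjAmp.Q_map_eq_iff_inj _ _).1 h
    exact DerivedCategory.Q_map_eq_of_homotopy (ModuleCat.{u} A) (curryHomotopy s)
  refine ⟨⟨fun v => DerivedCategory.Q.map (uncurry (a v)), fun w => DerivedCategory.Q.map (curry (b w)),
    fun v => ?_, fun w => ?_⟩, fun c => key _ _ (ha _)⟩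
  · refine (key' _ _ (hb _)).trans ?_
    rw [curry_uncurry]
    exact ha v
  · refine (key _ _ (ha _)).trans ?_
    rw [uncurry_curry]
    exact hb w

/-- postcomposition -/
theorem isIso_post {P I J : DRing.Cx A} [I.IsKInjective] [J.IsKInjective] (φ : I ⟶ J)
    (h : ∀ (W : DRing.Cx A) [W.IsKProjective], Function.Bijective
      fun v : DRing.toD (W ⊗ P : DRing.Cx A) ⟶ DRing.toD I => v ≫ DerivedCategory.Q.map φ) :
    IsIso (DerivedCategory.Q.map (DRing.homCxMap P φ)) := by
  refine isIso_of_bijective _ fun W _ => ?_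
  obtain ⟨Φ, hΦ⟩ := exists_adj W P I
  obtain ⟨Ψ, hΨ⟩ := exists_adj W P J
  have e : (fun v : DRing.toD W ⟶ DRing.toD (DRing.homCx P I) =>
      v ≫ DerivedCategory.Q.map (DRing.homCxMap P φ)) =
      Ψ.symm ∘ (fun v => v ≫ DerivedCategory.Q.map φ) ∘ Φ := funext fun v => by
    obtain ⟨c, rfl⟩ := DBasic.exists_Q_map_eq v
    refine Ψ.injective ?_
    rw [Function.comp_apply, Function.comp_apply, Equiv.apply_symm_apply, ← Functor.map_comp, hΨ, hΦ,
      HomCx.uncurry_post, Functor.map_comp]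
  exact e ▸ Ψ.symm.bijective.comp ((h W).comp Φ.bijective)

lemma braid_inv {A : Type u} [CommRing A] (L P : DRing.Cx A) :
    (Tensor.braid L P).inv = (Tensor.braid P L).hom :=
  HomologicalComplex.hom_ext _ _ fun _ => rfl

/-- precomposition -/
theorem isIso_pre {P P' I : DRing.Cx A} [P.IsKProjective] [P'.IsKProjective] [I.IsKInjective] (π : P' ⟶ P)
    (h : ∀ (W : DRing.Cx A) [W.IsKProjective], Function.Bijective
      fun v : DRing.toD P ⟶ DRing.toD (DRing.homCx W I) => DerivedCategory.Q.map π ≫ v) :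
    IsIso (DerivedCategory.Q.map (pre π I)) := by
  refine isIso_of_bijective _ fun W _ => ?_
  obtain ⟨Φ, hΦ⟩ := exists_adj W P I
  obtain ⟨Φ', hΦ'⟩ := exists_adj W P' I
  obtain ⟨Ψ, hΨ⟩ := exists_adj P W I
  obtain ⟨Ψ', hΨ'⟩ := exists_adj P' W I
  let b : DRing.toD (W ⊗ P : DRing.Cx A) ≅ DRing.toD (P ⊗ W : DRing.Cx A) :=
    DerivedCategory.Q.mapIso (Tensor.braid W P)
  let b' : DRing.toD (W ⊗ P' : DRing.Cx A) ≅ DRing.toD (P' ⊗ W : DRing.Cx A) :=
    DerivedCategory.Q.mapIso (Tensor.braid W P')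
  have e : (fun v : DRing.toD W ⟶ DRing.toD (DRing.homCx P I) => v ≫ DerivedCategory.Q.map (pre π I)) =
      Φ'.symm ∘ (fun v => b'.hom ≫ Ψ' v) ∘ (fun v => DerivedCategory.Q.map π ≫ v) ∘
        (fun v => Ψ.symm (b.inv ≫ Φ v)) := funext fun v => by
    obtain ⟨c, rfl⟩ := DBasic.exists_Q_map_eq v
    obtain ⟨d, hd⟩ := DBasic.exists_Q_map_eq (Ψ.symm (b.inv ≫ Φ (DerivedCategory.Q.map c)))
    refine Φ'.injective ?_
    simp only [Function.comp_apply, Equiv.apply_symm_apply]
    rw [← hd, ← Functor.map_comp, ← Functor.map_comp, hΦ', hΨ', RHomRep.uncurry_pre, HomCx.uncurry_comp,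
      Functor.map_comp, Functor.map_comp, ← hΨ, hd, Equiv.apply_symm_apply, hΦ, Tensor.whiskerRight_eq]
    simp only [Functor.map_comp, Category.assoc, b, b', Functor.mapIso_hom, Functor.mapIso_inv]
    rw [← braid_inv W P', braid_inv P W]
    simp only [← Functor.map_comp, ← Category.assoc, Iso.hom_inv_id, Category.id_comp]
  have hb1 : Function.Bijective fun v : DRing.toD W ⟶ DRing.toD (DRing.homCx P I) => Ψ.symm (b.inv ≫ Φ v) :=
    Ψ.symm.bijective.comp ((b.homFromEquiv (Z := DRing.toD I)).bijective.comp Φ.bijective)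
  have hb2 : Function.Bijective fun v : DRing.toD P' ⟶ DRing.toD (DRing.homCx W I) => b'.hom ≫ Ψ' v :=
    (b'.symm.homFromEquiv (Z := DRing.toD I)).bijective.comp Ψ'.bijective
  exact e ▸ Φ'.symm.bijective.comp (hb2.comp ((h W).comp hb1))

section Gamma

variable [IsNoetherianRing A] (I : Ideal A) [DRing.HasRgammaI I] [DRing.HasDerivedCompletion I]

/-- a complete object does not see the difference between `K` and `RΓ_I K` -/
theorem bijective_ε_comp (K L : Dual.D A) (hL : DRing.IsDerivedComplete I L) :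
    Function.Bijective fun v : K ⟶ L => (DRing.RgammaIε I).app K ≫ v := by
  have := LocCoh.GM.isIso_completion_map_ε I K
  let adj := DRing.derivedCompletionAdj I
  let L' : DRing.DComp I := ⟨L, hL⟩
  have := ((adj.homEquiv ((DRing.RgammaI I).obj K) L').bijective.comp
    ((asIso ((DRing.derivedCompletion I).map ((DRing.RgammaIε I).app K))).symm.homFromEquiv (Z := L')).bijective).comp
      (adj.homEquiv K L').symm.bijective
  convert this using 1
  funext v
  simp only [Function.comp_apply, Iso.homFromEquiv_apply, Iso.symm_inv, asIso_hom]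
  rw [adj.homEquiv_naturality_left]
  exact congrArg ((DRing.RgammaIε I).app K ≫ ·) ((adj.homEquiv K L').apply_symm_apply v).symm

/-- torsion objects do not see the difference between `X` and its completion -/
theorem bijective_comp_unit {S : Dual.D A} (hS : ∀ i, _root_.LocCoh.IsPowerTorsion I (Dual.HD A S i))
    (X : Dual.D A) :
    Function.Bijective fun v : S ⟶ X => v ≫ DRing.toDerivedCompletion I X := by
  have := LocCoh.GM.isIso_map_toDerivedCompletion I (IsNoetherian.noetherian I) X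
  let η := DRing.toDerivedCompletion I X
  have h1 := LocCoh.RGHom.bijective_comp_ε I hS X
  have h2 := LocCoh.RGHom.bijective_comp_ε I hS ((DRing.derivedCompletion I).obj X).obj
  have h3 : ((fun v : S ⟶ X => v ≫ η) ∘ fun w : S ⟶ (DRing.RgammaI I).obj X => w ≫ (DRing.RgammaIε I).app X) =
      (fun w => w ≫ (DRing.RgammaIε I).app _) ∘ fun w => w ≫ (DRing.RgammaI I).map η := funext fun w => by
    change (w ≫ _) ≫ η = (w ≫ _) ≫ _
    rw [Category.assoc, Category.assoc, (DRing.RgammaIε I).naturality]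
    rfl
  have h4 : Function.Bijective fun w : S ⟶ (DRing.RgammaI I).obj X => w ≫ (DRing.RgammaI I).map η :=
    ((asIso ((DRing.RgammaI I).map η)).homToEquiv (Z := S)).bijective
  exact (Function.Bijective.of_comp_iff _ h1).1 (h3 ▸ h2.comp h4)

omit [IsNoetherianRing A] [DRing.HasRgammaI I] [DRing.HasDerivedCompletion I] in
/-- a tensor product with a complex of torsion modules has torsion cohomology -/
theorem torsion_tensor (W : DRing.Cx A) {G : DRing.Cx A}
    (hG : ∀ j, ∀ x : G.X j, ∃ n : ℕ, ∀ c ∈ I ^ n, c • x = 0) (i : ℤ) :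
    _root_.LocCoh.IsPowerTorsion I (Dual.HD A (DRing.toD (W ⊗ G : DRing.Cx A)) i) := by
  refine LocCoh.RGamma.HD_torsion_of_torsionHom (Iso.refl _) ((LocCoh.RGamma.torsionHom_iff I _).2 fun j => ?_) i
  have key : ∀ z : (W ⊗ G : DRing.Cx A).X j, z ∈ DRing.torsionSub I ((W ⊗ G : DRing.Cx A).X j) := by
    have h0 : ModuleCat.ofHom (DRing.torsionSub I ((W ⊗ G : DRing.Cx A).X j)).mkQ = 0 := by
      refine Tensor.hom_ext fun p q hpq => ModuleCat.hom_ext (LinearMap.ext fun w => ?_)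
      rw [comp_zero]
      refine (Submodule.Quotient.mk_eq_zero _).2 ?_
      induction (w : TensorProduct A (W.X p) (G.X q)) using TensorProduct.induction_on with
      | zero => rw [map_zero]; exact Submodule.zero_mem _
      | tmul a x =>
        obtain ⟨n, hn⟩ := hG q x
        refine ⟨n, fun c hc => ?_⟩
        rw [← map_smul, ← TensorProduct.tmul_smul, hn c hc, TensorProduct.tmul_zero, map_zero]
      | add a b ha hb => rw [map_add]; exact Submodule.add_mem _ ha hb
    intro z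
    exact (Submodule.Quotient.mk_eq_zero _).1 (congrArg (fun φ => φ.hom z) h0)
  intro x
  obtain ⟨z, hz, rfl⟩ := Homology.cls_surjective x
  obtain ⟨n, hn⟩ := key z
  refine ⟨n, fun c hc => ?_⟩
  rw [← Homology.cls_smul hz]
  have := hn c hc
  simp only [this]
  exact (Homology.cls_eq_zero_iff (j - 1) (by omega) _).2 ⟨0, map_zero _⟩

/-- `RHom(K, ω)^∧ ≅ RHom(RΓ K, E)` whenever `RΓ ω ≅ E` -/
theorem nonempty_main {ω E : Dual.D A} (eE : (DRing.RgammaI I).obj ω ≅ E) (K : DRing.Cx A)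
    [DRing.HasRHomCx K] (G : DRing.Cx A) [DRing.HasRHomCx G]
    (eG : DRing.toD G ≅ (DRing.RgammaI I).obj (DRing.toD K)) :
    Nonempty (((DRing.derivedCompletion I).obj ((DRing.RHomCx K).obj ω)).obj ≅ (DRing.RHomCx G).obj E) := by
  obtain ⟨c, -⟩ := Completion.IsUniversal.exists_iso I
    (Completion.isUniversal_unit I ((DRing.RHomCx K).obj ω))
    (RHomCompletion.isUniversal_RHom I (IsNoetherian.noetherian I) K ω)
  let X := ((DRing.derivedCompletion I).obj ω).obj
  obtain ⟨IX, _, ⟨eX⟩⟩ := Completion.exists_kinj X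
  obtain ⟨IE, _, ⟨eIE⟩⟩ := Completion.exists_kinj E
  obtain ⟨P, _, -, ⟨eP⟩⟩ := DBasic.exists_kproj_iso (DRing.toD K)
  obtain ⟨Pg, _, -, ⟨ePg⟩⟩ := DBasic.exists_kproj_iso (DRing.toD G)
  obtain ⟨a⟩ := RHomRep.nonempty_iso_of_rep eP eX
  obtain ⟨b⟩ := RHomRep.nonempty_iso_of_rep ePg eIE
  -- precomposition
  obtain ⟨π, hπ⟩ := DBasic.exists_Q_map_eq
    (ePg.hom ≫ eG.hom ≫ (DRing.RgammaIε I).app (DRing.toD K) ≫ eP.inv)
  have h1 : IsIso (DerivedCategory.Q.map (pre π IX)) := isIso_pre π fun W _ => by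
    have hY : DRing.IsDerivedComplete I (DRing.toD (DRing.homCx W IX)) := fun f hf n =>
      RHomCompletion.complete_homCx f W IX ((Completion.complete_iff_contr f IX).1 fun m =>
        (Completion.complete_congr f eX m).2
          (((DRing.derivedCompletion I).obj ω).property f hf m)) n
    have hb := ((ePg ≪≫ eG).symm.homFromEquiv (Z := DRing.toD (DRing.homCx W IX))).bijective.comp
      ((bijective_ε_comp I (DRing.toD K) _ hY).comp
        (eP.homFromEquiv (Z := DRing.toD (DRing.homCx W IX))).bijective)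
    convert hb using 1
    funext v
    rw [hπ]
    simp
  -- postcomposition
  obtain ⟨φ, hφ⟩ := InjAmp.exists_Q_map_eq_inj
    (eIE.hom ≫ eE.inv ≫ (DRing.RgammaIε I).app ω ≫ DRing.toDerivedCompletion I ω ≫ eX.inv)
  obtain ⟨J, hJ, hinj, ⟨eJ⟩⟩ := LocCoh.RGamma.exists_resolution (DRing.toD K)
  have := LocCoh.RGamma.isIso_unitQ I J
  obtain ⟨q, hq⟩ := DBasic.exists_Q_map_eq (ePg.hom ≫ eG.hom ≫
    (DRing.RgammaI I).map eJ.inv ≫ inv (LocCoh.RGamma.unitQ I J))
  have : QuasiIso q := (DerivedCategory.isIso_Q_map_iff_quasiIso (C := ModuleCat.{u} A) q).1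
    (by rw [hq]; infer_instance)
  have h2 : IsIso (DerivedCategory.Q.map (DRing.homCxMap Pg φ)) := isIso_post φ fun W _ => by
    have := KFlat.quasiIso_whiskerLeft (KFlat.isKFlat_of_isKProjective W) q
    let e : DRing.toD (W ⊗ Pg : DRing.Cx A) ≅
        DRing.toD (W ⊗ (LocCoh.RGamma.GC I).obj J : DRing.Cx A) :=
      asIso (DerivedCategory.Q.map (W ◁ q))
    have hS : ∀ i, _root_.LocCoh.IsPowerTorsion I (Dual.HD A (DRing.toD (W ⊗ Pg : DRing.Cx A)) i) := by
      intro i x
      let ψ := ((DBasic.HF i).mapIso e).toLinearEquiv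
      obtain ⟨n, hn⟩ := torsion_tensor I W (G := (LocCoh.RGamma.GC I).obj J)
        (fun j y => y.2.imp fun n hn c hc => Subtype.ext (hn c hc)) i (ψ x)
      exact ⟨n, fun c hc => ψ.injective (by rw [map_smul, hn c hc, map_zero])⟩
    have hb := (eX.symm.homToEquiv (Z := DRing.toD (W ⊗ Pg : DRing.Cx A))).bijective.comp
      ((bijective_comp_unit I hS ω).comp ((LocCoh.RGHom.bijective_comp_ε I hS ω).comp
        ((eIE ≪≫ eE.symm).homToEquiv (Z := DRing.toD (W ⊗ Pg : DRing.Cx A))).bijective))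
    convert hb using 1
    funext v
    rw [hφ]
    simp
  exact ⟨c ≪≫ a ≪≫ @asIso _ _ _ _ _ h1 ≪≫ (@asIso _ _ _ _ _ h2).symm ≪≫ b.symm⟩

end Gamma

end Groth.Agent.DualCx.CompletionDual
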