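import Groth.Agent.DualCx.Cx
import Groth.Agent.DualCx.Amplitude
import Groth.Agent.DRing.Homology
import Groth.Prelude.Def_DRing4
import Mathlib.Algebra.Homology.HomologySequence
import Mathlib.Algebra.Category.ModuleCat.Injective

/-!
# The dual `Hom•(-, I)` on complexes and the biduality map
-/

universe u

open CategoryTheory CategoryTheory.Limits
open CochainComplex.HomComplex

attribute [local instance] HasDerivedCategory.standard

namespace Groth.Agent.DualCx.Dc

variable {A : Type u} [CommRing A] (I : DRing.Cx A)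

/-- `Hom•(X, I)` -/
noncomputable abbrev D (X : DRing.Cx A) : DRing.Cx A := DRing.homCx X I

/-- precomposition on cochains, linearly -/
noncomputable def preLin {X Y : DRing.Cx A} (f : X ⟶ Y) (i : ℤ) :
    Cochain Y I i →ₗ[A] Cochain X I i where
  toFun z := (Cochain.ofHom f).comp z (zero_add i)
  map_add' z z' := by simp
  map_smul' a z := by simp

/-- contravariant functoriality -/
noncomputable def map {X Y : DRing.Cx A} (f : X ⟶ Y) : D I Y ⟶ D I X where
  f i := ModuleCat.ofHom (preLin I f i)
  comm' i j _ := by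
    refine ModuleCat.hom_ext (LinearMap.ext fun (z : Cochain Y I i) => ?_)
    change δ i j ((Cochain.ofHom f).comp z (zero_add i)) =
      (Cochain.ofHom f).comp (δ i j z) (zero_add j)
    exact δ_ofHom_comp f z j

theorem map_f_v {X Y : DRing.Cx A} (f : X ⟶ Y) (i : ℤ) (z : Cochain Y I i) (p q : ℤ) (h : p + i = q) :
    (((map I f).f i).hom z : Cochain X I i).v p q h = f.f p ≫ z.v p q h := by
  change ((Cochain.ofHom f).comp z (zero_add i)).v p q h = _
  simp

theorem map_comp {X Y Z : DRing.Cx A} (f : X ⟶ Y) (g : Y ⟶ Z) :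
    map I (f ≫ g) = map I g ≫ map I f := by
  refine HomologicalComplex.hom_ext _ _ fun i => ModuleCat.hom_ext (LinearMap.ext fun z => ?_)
  refine Cochain.ext (z₁ := ((map I (f ≫ g)).f i).hom z)
    (z₂ := ((map I f).f i).hom (((map I g).f i).hom z)) fun p q h => ?_
  simp [map_f_v]

theorem map_id (X : DRing.Cx A) : map I (𝟙 X) = 𝟙 (D I X) := by
  refine HomologicalComplex.hom_ext _ _ fun i => ModuleCat.hom_ext (LinearMap.ext fun z => ?_)
  exact Cochain.id_comp z

theorem map_smul {X Y : DRing.Cx A} (a : A) (f : X ⟶ Y) : map I (a • f) = a • map I f := by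
  refine HomologicalComplex.hom_ext _ _ fun i => ModuleCat.hom_ext (LinearMap.ext fun z => ?_)
  refine Cochain.ext (z₁ := ((map I (a • f)).f i).hom z)
    (z₂ := a • (((map I f).f i).hom z : Cochain X I i)) fun p q h => ?_
  erw [Cochain.smul_v]
  rw [map_f_v, map_f_v]
  simp

theorem map_zero (X Y : DRing.Cx A) : map I (0 : X ⟶ Y) = 0 := by
  refine HomologicalComplex.hom_ext _ _ fun i => ModuleCat.hom_ext (LinearMap.ext fun z => ?_)
  refine Cochain.ext (z₁ := ((map I (0 : X ⟶ Y)).f i).hom z) (z₂ := (0 : Cochain X I i)) fun p q h => ?_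
  rw [map_f_v]
  simp

/-- exactness, degreewise -/
theorem shortExact {S : ShortComplex (DRing.Cx A)} (hS : S.ShortExact)
    (hI : ∀ q, Injective (I.X q)) :
    (ShortComplex.mk (map I S.g) (map I S.f) (by rw [← map_comp, S.zero, map_zero])).ShortExact := by
  have hS' : ∀ p, (S.map (HomologicalComplex.eval _ _ p)).ShortExact := fun p =>
    hS.map_of_exact (HomologicalComplex.eval _ _ p)
  refine HomologicalComplex.shortExact_of_degreewise_shortExact _ fun i => ?_
  refine ShortComplex.ShortExact.mk' ((ShortComplex.ShortExact.moduleCat_exact_iff_function_exact _).mpr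
    fun z => ?_) ((ModuleCat.mono_iff_injective _).mpr ?_) ((ModuleCat.epi_iff_surjective _).mpr ?_)
  · change Cochain S.X₂ I i at z
    constructor
    · intro hz
      have h0 : ∀ (p q : ℤ) (h : p + i = q), S.f.f p ≫ z.v p q h = 0 := fun p q h => by
        rw [← map_f_v I S.f i z p q h]
        exact congrArg (fun w : Cochain S.X₁ I i => w.v p q h) hz
      have hepi : ∀ p, Epi (S.map (HomologicalComplex.eval _ _ p)).g := fun p => (hS' p).epi_g
      have hd : ∀ (p q : ℤ) (h : p + i = q), ∃ w : S.X₃.X p ⟶ I.X q, S.g.f p ≫ w = z.v p q h :=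
        fun p q h => ⟨(hS' p).exact.desc (z.v p q h) (h0 p q h), (hS' p).exact.g_desc _ _⟩
      choose w hw using hd
      refine ⟨Cochain.mk w, Cochain.ext (z₁ := ((map I S.g).f i).hom (Cochain.mk w)) (z₂ := z)
        fun p q h => ?_⟩
      rw [map_f_v, Cochain.mk_v, hw]
    · rintro ⟨w, rfl⟩
      change ((map I S.f).f i).hom (((map I S.g).f i).hom w) = 0
      rw [← LinearMap.comp_apply, ← ModuleCat.hom_comp, ← HomologicalComplex.comp_f, ← map_comp,
        S.zero, map_zero]
      rfl
  · intro z z' hzz'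
    change Cochain S.X₃ I i at z z'
    refine Cochain.ext (z₁ := z) (z₂ := z') fun p q h => ?_
    have : Epi (S.g.f p) := (hS' p).epi_g
    rw [← cancel_epi (S.g.f p), ← map_f_v I S.g i z p q h, ← map_f_v I S.g i z' p q h]
    exact congrArg (fun w : Cochain S.X₂ I i => w.v p q h) hzz'
  · intro z
    change Cochain S.X₁ I i at z
    have hd : ∀ (p q : ℤ) (h : p + i = q), ∃ w : S.X₂.X p ⟶ I.X q, S.f.f p ≫ w = z.v p q h :=
      fun p q h =>
        have : Mono (S.f.f p) := (hS' p).mono_f
        have := hI q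
        ⟨Injective.factorThru (z.v p q h) (S.f.f p), Injective.comp_factorThru _ _⟩
    choose w hw using hd
    refine ⟨Cochain.mk w, Cochain.ext (z₁ := ((map I S.f).f i).hom (Cochain.mk w)) (z₂ := z)
      fun p q h => ?_⟩
    rw [map_f_v, Cochain.mk_v, hw]

section Homology

variable [I.IsKInjective]

theorem isCyc_iff {X : DRing.Cx A} (n : ℤ) (z : Cochain X I n) :
    DRing.Homology.IsCyc (D I X) n z ↔ δ n (n + 1) z = 0 := Iff.rfl

/-- cohomology class of a cocycle -/
noncomputable def toH (X : DRing.Cx A) (n : ℤ) : Cocycle X I n →+ (D I X).homology n where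
  toFun z := DRing.Homology.cls (K := D I X) (i := n) z.1 (Cocycle.δ_eq_zero z (n + 1))
  map_zero' := (DRing.Homology.cls_eq_zero_iff (K := D I X) (n - 1) (by omega) _).mpr ⟨(0 : Cochain X I (n - 1)), _root_.map_zero (δ_hom A X I (n - 1) n)⟩
  map_add' z w := DRing.Homology.cls_add (K := D I X) (Cocycle.δ_eq_zero z (n + 1))
    (Cocycle.δ_eq_zero w (n + 1))

theorem toH_eq_zero_iff {X : DRing.Cx A} (n : ℤ) (z : Cocycle X I n) :
    toH I X n z = 0 ↔ CohomologyClass.mk z = 0 := by
  rw [CohomologyClass.mk_eq_zero_iff, mem_coboundaries_iff _ (n - 1) (by omega)]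
  exact (DRing.Homology.cls_eq_zero_iff (K := D I X) (n - 1) (by omega) _)

/-- `H^n Hom•(X, I) = Hom_{D(A)}(X, I[n])` -/
noncomputable def hEquiv (X : DRing.Cx A) (n : ℤ) :
    (DRing.toD X ⟶ (DRing.toD I)⟦n⟧) ≃ₗ[A] (D I X).homology n := by
  refine ((Cx.classHom X I n).symm.trans (AddEquiv.ofBijective
    (QuotientAddGroup.lift (coboundaries X I n) (toH I X n) fun z hz => ?_)
    ⟨?_, ?_⟩)).toLinearEquiv fun a f => ?_
  · exact AddMonoidHom.mem_ker.mpr
      ((toH_eq_zero_iff I n z).mpr ((CohomologyClass.mk_eq_zero_iff z).mpr hz))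
  · rw [injective_iff_map_eq_zero]
    intro c hc
    obtain ⟨z, rfl⟩ := CohomologyClass.mk_surjective c
    exact (toH_eq_zero_iff I n z).mp hc
  · intro h
    obtain ⟨z, hz, rfl⟩ := DRing.Homology.cls_surjective h
    exact ⟨CohomologyClass.mk (Cocycle.mk z (n + 1) rfl hz), rfl⟩
  · obtain ⟨c, rfl⟩ := (Cx.classHom X I n).surjective f
    obtain ⟨z, rfl⟩ := CohomologyClass.mk_surjective c
    rw [← Cx.classHom_smul]
    simp only [AddEquiv.trans_apply, AddEquiv.symm_apply_apply]
    exact DRing.Homology.cls_smul (K := D I X) (Cocycle.δ_eq_zero z (n + 1)) a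

theorem hEquiv_classHom {X : DRing.Cx A} (n : ℤ) (z : Cocycle X I n) :
    hEquiv I X n (Cx.classHom X I n (CohomologyClass.mk z)) = toH I X n z := by
  simp only [hEquiv, AddEquiv.coe_toLinearEquiv, AddEquiv.trans_apply, AddEquiv.symm_apply_apply]
  rfl

theorem classHom_precomp {X Y : DRing.Cx A} (f : X ⟶ Y) (n : ℤ) (z : Cocycle Y I n) :
    Cx.classHom X I n (CohomologyClass.mk (z.precomp f)) =
      DerivedCategory.Q.map f ≫ Cx.classHom Y I n (CohomologyClass.mk z) := by
  change Hom.congr A ((DerivedCategory.quotientCompQhIso (ModuleCat.{u} A)).app X)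
    ((DerivedCategory.quotientCompQhIso (ModuleCat.{u} A)).app (I⟦n⟧) ≪≫
      ((DerivedCategory.Q (C := ModuleCat.{u} A)).commShiftIso n).app I)
    (DerivedCategory.Qh.map ((HomotopyCategory.quotient _ _).map
    (Cocycle.equivHomShift.symm (z.precomp f)))) = DerivedCategory.Q.map f ≫
      Hom.congr A ((DerivedCategory.quotientCompQhIso (ModuleCat.{u} A)).app Y)
    ((DerivedCategory.quotientCompQhIso (ModuleCat.{u} A)).app (I⟦n⟧) ≪≫
      ((DerivedCategory.Q (C := ModuleCat.{u} A)).commShiftIso n).app I)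
      (DerivedCategory.Qh.map ((HomotopyCategory.quotient _ _).map (Cocycle.equivHomShift.symm z)))
  rw [Cocycle.equivHomShift_symm_precomp, Functor.map_comp, Functor.map_comp]
  simp only [Hom.congr, CategoryTheory.Linear.homCongr_apply, Category.assoc]
  exact ((DerivedCategory.quotientCompQhIso (ModuleCat.{u} A)).inv.naturality_assoc f _).symm

theorem hEquiv_natural {X Y : DRing.Cx A} (f : X ⟶ Y) (n : ℤ)
    (g : DRing.toD Y ⟶ (DRing.toD I)⟦n⟧) :
    (HomologicalComplex.homologyMap (map I f) n).hom (hEquiv I Y n g) =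
      hEquiv I X n (DerivedCategory.Q.map f ≫ g) := by
  obtain ⟨c, rfl⟩ := (Cx.classHom Y I n).surjective g
  obtain ⟨z, rfl⟩ := CohomologyClass.mk_surjective c
  rw [← classHom_precomp, hEquiv_classHom, hEquiv_classHom]
  exact DRing.Homology.homologyMap_cls (map I f) (Cocycle.δ_eq_zero z (n + 1))

theorem quasiIso_map {X Y : DRing.Cx A} (f : X ⟶ Y) [QuasiIso f] : QuasiIso (map I f) := by
  rw [quasiIso_iff]
  intro n
  rw [quasiIsoAt_iff_isIso_homologyMap, ConcreteCategory.isIso_iff_bijective]
  let e := (CategoryTheory.Linear.homCongr A (asIso (DerivedCategory.Q.map f))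
    (Iso.refl ((DRing.toD I)⟦n⟧))).symm
  have key : ((HomologicalComplex.homologyMap (map I f) n).hom : _ → _) ∘ hEquiv I Y n =
      hEquiv I X n ∘ e := by
    funext g
    simp only [Function.comp_apply, hEquiv_natural]
    congr 1
    simp [e, CategoryTheory.Linear.homCongr_symm_apply]
  exact (Function.Bijective.of_comp_iff _ (hEquiv I Y n).bijective).mp
    (key ▸ (hEquiv I X n).bijective.comp e.bijective)

end Homology

/-- evaluation cochain at `z ∈ X^p` -/
noncomputable def evCochain (X : DRing.Cx A) (p : ℤ) : X.X p →ₗ[A] Cochain (D I X) I p where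
  toFun z := Cochain.mk fun n q h => ModuleCat.ofHom
    { toFun := fun ψ : Cochain X I n =>
        ((n * p).negOnePow : ℤ) • (ψ.v p q (by omega)).hom z
      map_add' := fun ψ ψ' => by simp
      map_smul' := fun a ψ => by simp [smul_comm _ a] }
  map_add' z z' := by
    refine Cochain.ext _ _ fun n q h => ModuleCat.hom_ext (LinearMap.ext fun ψ => ?_)
    change ((n * p).negOnePow : ℤ) • ((ψ : Cochain X I n).v p q (by omega)).hom (z + z') = _ + _
    rw [_root_.map_add, smul_add]
    rfl
  map_smul' a z := by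
    refine Cochain.ext _ _ fun n q h => ModuleCat.hom_ext (LinearMap.ext fun ψ => ?_)
    change ((n * p).negOnePow : ℤ) • ((ψ : Cochain X I n).v p q (by omega)).hom (a • z) = a • _
    rw [_root_.map_smul, smul_comm]
    rfl

theorem evCochain_v {X : DRing.Cx A} (p : ℤ) (z : X.X p) (n q : ℤ) (h : n + p = q)
    (ψ : Cochain X I n) :
    ((evCochain I X p z).v n q h).hom ψ =
      ((n * p).negOnePow : ℤ) • (ψ.v p q (by omega)).hom z := rfl

theorem δ_evCochain {X : DRing.Cx A} (p : ℤ) (z : X.X p) :
    δ p (p + 1) (evCochain I X p z) = evCochain I X (p + 1) ((X.d p (p + 1)).hom z) := by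
  refine Cochain.ext _ _ fun n q h => ModuleCat.hom_ext (LinearMap.ext fun ψ => ?_)
  change Cochain X I n at ψ
  rw [δ_v p (p + 1) rfl _ n q h (q - 1) (n + 1) rfl rfl]
  simp only [ModuleCat.hom_add, LinearMap.add_apply, ModuleCat.hom_comp, LinearMap.comp_apply,
    Units.smul_def, ModuleCat.hom_zsmul, LinearMap.smul_apply]
  rw [evCochain_v, evCochain_v]
  erw [evCochain_v]
  change _ + _ • _ • ((δ n (n + 1) ψ).v p q _).hom z = _
  rw [δ_v n (n + 1) rfl ψ p q (by omega) (q - 1) (p + 1) rfl rfl]
  simp only [ModuleCat.hom_add, LinearMap.add_apply, ModuleCat.hom_comp, LinearMap.comp_apply,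
    Units.smul_def, ModuleCat.hom_zsmul, LinearMap.smul_apply, map_zsmul, smul_add, smul_smul]
  have e1 : (((p + 1).negOnePow : ℤ) * ((n + 1) * p).negOnePow) = -((n * p).negOnePow : ℤ) := by
    rw [← Units.val_mul, ← Int.negOnePow_add,
      show p + 1 + (n + 1) * p = n * p + 1 + 2 * p by ring, Int.negOnePow_add, Int.negOnePow_succ,
      Int.negOnePow_two_mul, mul_one, Units.val_neg]
  have e2 : -((n * p).negOnePow : ℤ) * (n + 1).negOnePow = (n * (p + 1)).negOnePow := by
    rw [Int.negOnePow_succ, Units.val_neg, neg_mul_neg, ← Units.val_mul, ← Int.negOnePow_add,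
      mul_add_one]
  rw [← mul_assoc, e1, e2, ← add_assoc, neg_smul, add_neg_cancel, zero_add]

/-- the biduality map -/
noncomputable def η (X : DRing.Cx A) : X ⟶ D I (D I X) where
  f p := ModuleCat.ofHom (evCochain I X p)
  comm' p q hpq := by
    obtain rfl : p + 1 = q := hpq
    refine ModuleCat.hom_ext (LinearMap.ext fun z => ?_)
    exact δ_evCochain I p z

theorem η_natural {X Y : DRing.Cx A} (f : X ⟶ Y) : η I X ≫ map I (map I f) = f ≫ η I Y := by
  refine HomologicalComplex.hom_ext _ _ fun p => ModuleCat.hom_ext (LinearMap.ext fun z => ?_)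
  refine Cochain.ext (z₁ := ((map I (map I f)).f p).hom (evCochain I X p z))
    (z₂ := evCochain I Y p ((f.f p).hom z)) fun n q h => ?_
  refine ModuleCat.hom_ext (LinearMap.ext fun ψ => ?_)
  rw [map_f_v]
  change ((evCochain I X p z).v n q h).hom (((map I f).f n).hom ψ) = _
  rw [evCochain_v, evCochain_v]
  change Cochain Y I n at ψ
  erw [map_f_v]
  rfl

end Groth.Agent.DualCx.Dc
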