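import Groth.Agent.DualCx.BidualityGen
import Groth.Agent.DualCx.CompletionDual
import Groth.Agent.DRing.TorAmp
import Groth.Agent.DRing.SingleTensor
import Groth.Agent.S6942

/-!
# Finite tor dimension is dual to finite injective dimension
-/

set_option autoImplicit false

universe u

open CategoryTheory CategoryTheory.Limits MonoidalCategory

attribute [local instance] HasDerivedCategory.standard

namespace Groth.Agent.DualCx.DualAmplitude

open Groth.Agent.DRing Groth.Agent.DTenLib PC

variable {A : Type u} [CommRing A] {ω : Dual.D A} {I : DRing.Cx A} [I.IsKInjective]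

/-- maps from a module into the dual of `G` are maps from the tensor product into `ω` -/
theorem subsingleton_iff (e : DRing.toD I ≅ ω) {G P : DRing.Cx A} [DRing.HasRHomCx G]
    (hP : KFlat.IsKFlat P) (eP : DRing.toD P ≅ DRing.toD G) (N : Type u) [AddCommGroup N] [Module A N]
    (i : ℤ) :
    Subsingleton (Dual.inD A N ⟶ ((DRing.RHomCx G).obj ω)⟦i⟧) ↔
      Subsingleton (DRing.toD (DRing.tensorCx P (ModuleCat.of A N)) ⟶ ω⟦i⟧) := by
  obtain ⟨Pk, _, -, ⟨ePk⟩⟩ := DBasic.exists_kproj_iso (DRing.toD G)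
  obtain ⟨r⟩ := BidualityGen.nonempty_dual_iso e ePk
  refine (InjAmp.subsingleton_ext_iff ((DRing.RHomCx G).obj ω) N i).trans ?_
  let S := sgl i (ModuleCat.of A N)
  obtain ⟨W, _, -, ⟨eW⟩⟩ := DBasic.exists_kproj_iso (DRing.toD S)
  obtain ⟨g, hg⟩ := DBasic.exists_Q_map_eq eW.hom
  have : QuasiIso g := (DerivedCategory.isIso_Q_map_iff_quasiIso (C := ModuleCat.{u} A) g).1
    (by rw [hg]; infer_instance)
  obtain ⟨φ, hφ⟩ := DBasic.exists_Q_map_eq (ePk ≪≫ eP.symm).hom
  have : QuasiIso φ := (DerivedCategory.isIso_Q_map_iff_quasiIso (C := ModuleCat.{u} A) φ).1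
    (by rw [hφ]; infer_instance)
  obtain ⟨Φ, -⟩ := CompletionDual.exists_adj W Pk I
  have := KFlat.quasiIso_whiskerLeft (KFlat.isKFlat_of_isKProjective W) φ
  have : QuasiIso (g ▷ P) := by
    have := KFlat.quasiIso_whiskerLeft hP g
    rw [Tensor.whiskerRight_eq]; infer_instance
  let M := SingleTensor.S0 (ModuleCat.of A N)
  let eS : M⟦-i⟧ ≅ S := ((CochainComplex.singleFunctors (ModuleCat.{u} A)).shiftIso (-i) i 0 (by omega)).app _
  let c : (S ⊗ P : DRing.Cx A) ≅ (DRing.tensorCx P (ModuleCat.of A N))⟦-i⟧ :=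
    ((shiftFunctor (DRing.Cx A) (-i)).mapIso (SingleTensor.iso (ModuleCat.of A N) P) ≪≫
      (shiftFunctor (DRing.Cx A) (-i)).mapIso (Tensor.braid M P) ≪≫
      (Tensor.shiftIso P M (-i)).symm ≪≫ whiskerLeftIso P eS ≪≫ Tensor.braid P S).symm
  let q : DRing.toD (W ⊗ Pk : DRing.Cx A) ≅ (DRing.toD (DRing.tensorCx P (ModuleCat.of A N)))⟦-i⟧ :=
    asIso (DerivedCategory.Q.map (W ◁ φ)) ≪≫ asIso (DerivedCategory.Q.map (g ▷ P)) ≪≫
      DerivedCategory.Q.mapIso c ≪≫
        ((DerivedCategory.Q (C := ModuleCat.{u} A)).commShiftIso (-i)).app _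
  refine ((Iso.homCongr eW.symm r).trans Φ).subsingleton_congr.trans ?_
  exact ((Iso.homCongr q e).trans ((Iso.homCongr (Iso.refl _)
    ((shiftFunctorZero (Dual.D A) ℤ).app ω).symm).trans
      (Hom.shiftHom A (-i) i 0 (by omega) _ ω).symm.toEquiv)).subsingleton_congr

/-- exactness of a tensor product with a flat complex is tested on finite modules -/
theorem exactAt_tensor_of_finite {P : DRing.Cx A} (hP : ∀ i, Module.Flat A (P.X i)) (i : ℤ)
    (h : ∀ (N : Type u) [AddCommGroup N] [Module A N] [Module.Finite A N],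
      (DRing.tensorCx P (ModuleCat.of A N)).ExactAt i) (M : ModuleCat.{u} A) :
    (DRing.tensorCx P M).ExactAt i := by
  rw [Homology.exactAt_iff_forall i (i - 1) (by omega)]
  intro z hz
  obtain ⟨N, hN, hsub⟩ := TensorProduct.exists_finite_submodule_right_of_setFinite
    {(show TensorProduct A (P.X i) M from z)} (Set.finite_singleton _)
  obtain ⟨w, hw⟩ := hsub rfl
  have := hP (i + 1)
  have hd : ∀ (p q : ℤ) (y : TensorProduct A (P.X p) N),
      ((DRing.tensorCx P M).d p q).hom (N.subtype.lTensor (P.X p) y) =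
        N.subtype.lTensor (P.X q) (((DRing.tensorCx P (ModuleCat.of A N)).d p q).hom y) := fun p q y =>
    LinearMap.congr_fun (by
      change (P.d p q).hom.rTensor M ∘ₗ N.subtype.lTensor (P.X p) =
        N.subtype.lTensor (P.X q) ∘ₗ (P.d p q).hom.rTensor N
      rw [LinearMap.rTensor_comp_lTensor, LinearMap.lTensor_comp_rTensor]) y
  have hwc : Homology.IsCyc (DRing.tensorCx P (ModuleCat.of A N)) i w := by
    rw [Homology.isCyc_iff rfl] at hz ⊢
    refine Module.Flat.lTensor_preserves_injective_linearMap (M := P.X (i + 1)) N.subtype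
      N.injective_subtype ((hd i (i + 1) w).symm.trans ?_)
    refine Eq.trans ?_ (_root_.map_zero _).symm
    exact (congrArg _ hw).trans hz
  obtain ⟨v, hv⟩ := (Homology.exactAt_iff_forall i (i - 1) (by omega)).1 (h N) w hwc
  exact ⟨N.subtype.lTensor (P.X (i - 1)) v, by rw [hd, hv]; exact hw⟩

omit [I.IsKInjective] in
theorem main (hω : Dual.IsDualizing A ω) (G : DRing.Cx A) [DRing.HasRHomCx G]
    (hfin : ∀ i : ℤ, Module.Finite A (Dual.HD A (DRing.toD G) i))
    (hbdd : ∃ a b : ℤ, ∀ i : ℤ, (i < a ∨ b < i) → Subsingleton (Dual.HD A (DRing.toD G) i)) :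
    DRing.HasFiniteTorDimCx A (DRing.toD G) ↔ DRing.HasFiniteInjDim A ((DRing.RHomCx G).obj ω) := by
  have := hω.isNoetherianRing
  obtain ⟨I, _, e, hI, hB⟩ := BidualityGen.exists_model hω
  obtain ⟨aω, bω, hab⟩ := hω.finite_injective_dimension
  have hamp : DRing.HasInjAmplitudeIn A aω bω ω :=
    InjAmp.hasInjAmplitudeIn_of_vanishing fun J j hj => hab (A ⧸ J) j hj
  obtain ⟨a₀, hω0⟩ := Dimfun.exists_isGE hω
  constructor
  · rintro ⟨c, d, E, hEv, hEf, ⟨eE⟩⟩
    refine ⟨min aω a₀ - d, bω - c, InjAmp.hasInjAmplitudeIn_of_vanishing fun J i hi => ?_⟩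
    refine (subsingleton_iff e (TorAmp.isKFlat_of_flat hEv hEf) eE (A ⧸ J) i).mpr ?_
    have hz : ∀ j, (j < c ∨ d < j) →
        Subsingleton (Dual.HD A (DRing.toD (DRing.tensorCx E (ModuleCat.of A (A ⧸ J)))) j) := fun j hj => by
      rw [DBasic.subsingleton_HD_toD_iff, ← HomologicalComplex.exactAt_iff_isZero_homology]
      exact TorAmp.torVan_of_flat hEv _ j hj
    rcases hi with hi | hi
    · have : (DRing.toD (DRing.tensorCx E (ModuleCat.of A (A ⧸ J)))).IsLE d :=
        (DBasic.isLE_iff_subsingleton _ _).mpr fun j hj => hz j (Or.inr hj)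
      have := DerivedCategory.TStructure.t.isGE_shift ω a₀ i (a₀ - i) (by omega)
      exact subsingleton_of_forall_eq 0 fun φ =>
        DerivedCategory.TStructure.t.zero φ d (a₀ - i) (by omega)
    · have : (DRing.toD (DRing.tensorCx E (ModuleCat.of A (A ⧸ J)))).IsGE c :=
        (DerivedCategory.isGE_iff _ c).mpr fun j hj =>
          (DBasic.subsingleton_HD_iff_isZero _ j).mp (hz j (Or.inl hj))
      exact LocalGlobal.subsingleton_hom_injRep hamp _ c i (by omega)
  · rintro ⟨a, b, hD⟩
    obtain ⟨c, d, hcd⟩ := hbdd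
    obtain ⟨P, hPb, hPf, ⟨eP⟩⟩ := PC.exists_finiteFree_rep (K := DRing.toD G)
      (fun m => (S6942.result A m (DRing.toD G) PUnit.{u + 1}).1.2
        ⟨⟨d, fun i hi => hcd i (Or.inr hi)⟩, fun i _ => hfin i⟩) (b := d) fun i hi => hcd i (Or.inr hi)
    have hflat : ∀ i, Module.Flat A (P.X i) := fun i => have := (hPf i).2; inferInstance
    have hPk : KFlat.IsKFlat P := KFlat.isKFlat_of_boundedAbove_flat P d hPb hflat
    refine ⟨min aω a₀ - b, bω - a, (TorAmp.hasTorAmp_iff hPk eP _ _).mpr fun M j hj => ?_⟩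
    refine exactAt_tensor_of_finite hflat j (fun N _ _ _ => ?_) M
    let X := DRing.tensorCx P (ModuleCat.of A N)
    have hXfin : ∀ k, Module.Finite A (X.homology k) := fun k => by
      have := (hPf k).1
      have : IsNoetherian A (X.X k) := inferInstanceAs (IsNoetherian A (TensorProduct A (P.X k) N))
      exact Module.Finite.of_surjective (PC.clsLin X k) PC.clsLin_surjective
    -- cohomology of the dual
    have hDX : ∀ i, (i < a ∨ b < i) → Subsingleton (DRing.toD X ⟶ (DRing.toD I)⟦i⟧) := fun i hi => by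
      have := (((InjAmp.injAmp_tfae ((DRing.RHomCx G).obj ω) a b).out 0 1 : DRing.HasInjAmplitudeIn A a b ((DRing.RHomCx G).obj ω) ↔ ∀ (N : Type u) [AddCommGroup N] [Module A N] (i : ℤ), (i < a ∨ b < i) → Subsingleton (DRing.ExtD A (Dual.inD A N) ((DRing.RHomCx G).obj ω) i))).mp hD N i hi
      have := (subsingleton_iff e hPk eP N i).mp this
      exact ((Iso.refl (DRing.toD X)).homCongr ((shiftFunctor (Dual.D A) i).mapIso e)).subsingleton
    have hH : ∀ i, (i < a ∨ b < i) → Subsingleton (Dual.HD A (DRing.toD (Dc.D I X)) i) := fun i hi =>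
      have := hDX i hi
      ((DBasic.hIso _ i).toLinearEquiv.trans (Dc.hEquiv I X i).symm).toEquiv.subsingleton
    have hsub : Subsingleton (DRing.toD (Dc.D I X) ⟶ (DRing.toD I)⟦j⟧) := by
      refine ((Iso.refl _).homCongr ((shiftFunctor (Dual.D A) j).mapIso e)).subsingleton_congr.mpr ?_
      rcases hj with hj | hj
      · have : (DRing.toD (Dc.D I X)).IsLE b :=
          (DBasic.isLE_iff_subsingleton _ _).mpr fun i hi => hH i (Or.inr hi)
        have hge : ω.IsGE (min aω a₀) :=
          DerivedCategory.TStructure.t.isGE_of_ge ω _ a₀ (min_le_right _ _)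
        have := DerivedCategory.TStructure.t.isGE_shift ω (min aω a₀) j (min aω a₀ - j) (by omega)
        exact subsingleton_of_forall_eq 0 fun φ =>
          DerivedCategory.TStructure.t.zero φ b (min aω a₀ - j) (by omega)
      · have : (DRing.toD (Dc.D I X)).IsGE a := (DerivedCategory.isGE_iff _ a).mpr fun i hi =>
          (DBasic.subsingleton_HD_iff_isZero _ i).mp (hH i (Or.inl hi))
        exact LocalGlobal.subsingleton_hom_injRep hamp _ a j (by omega)
    have := (Dc.hEquiv I (Dc.D I X) j).symm.toEquiv.subsingleton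
    have : Subsingleton (X.homology j) := (Equiv.ofBijective _ (hB X hXfin j)).subsingleton
    rw [HomologicalComplex.exactAt_iff_isZero_homology]
    exact ModuleCat.isZero_of_subsingleton _

end Groth.Agent.DualCx.DualAmplitude
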