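import Groth.Agent.DualCx.SkCrit
import Groth.Agent.DualCx.TopModule
import Groth.Agent.LocCoh.Connected
import Groth.Agent.PtTop.Catenary

/-!
# Endomorphisms of the dualizing module under `(S_2)` / `(S_3)`
-/

set_option autoImplicit false

universe u

open CategoryTheory CategoryTheory.Limits IsLocalRing
open scoped TensorProduct

attribute [local instance] HasDerivedCategory.standard

namespace Groth.Agent.DualCx.DualModule

open Devissage (E F)
open Dimfun (B Z deg)

variable {A : Type u} [CommRing A]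

/-- maps of modules as maps in the derived category -/
noncomputable def singleHom (M N : Type u) [AddCommGroup M] [Module A M] [AddCommGroup N]
    [Module A N] : (M →ₗ[A] N) ≃ₗ[A] (Dual.inD A M ⟶ Dual.inD A N) :=
  LinearEquiv.ofBijective
    { toFun := fun f => (DerivedCategory.singleFunctor (ModuleCat.{u} A) 0).map (ModuleCat.ofHom f)
      map_add' := fun f g => by
        rw [show ModuleCat.ofHom (f + g) = ModuleCat.ofHom f + ModuleCat.ofHom g from rfl,
          Functor.map_add]
      map_smul' := fun a f => by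
        rw [show ModuleCat.ofHom (a • f) = a • ModuleCat.ofHom f from rfl, Functor.map_smul]
        rfl }
    ⟨fun f g h => by
      have h' := congrArg ModuleCat.Hom.hom
        ((DerivedCategory.singleFunctor (ModuleCat.{u} A) 0).map_injective h)
      exact h',
    fun φ => by
      obtain ⟨g, hg⟩ := (DerivedCategory.singleFunctor (ModuleCat.{u} A) 0).map_surjective φ
      exact ⟨g.hom, hg⟩⟩

variable (K : Type u) [AddCommGroup K] [Module A K] (X : Dual.D A) (q : ℤ)
  (hX : ∀ i, i < q → Subsingleton (Dual.HD A X i))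

include hX

/-- maps into the lowest cohomology of a complex -/
theorem nonempty_hom_lowest :
    Nonempty ((K →ₗ[A] Dual.HD A X q) ≃ₗ[A] E K X q) ∧
      ∃ f : E K (Dual.inD A (Dual.HD A X q)) 1 →ₗ[A] E K X (q + 1), Function.Injective f := by
  obtain ⟨T, hT, rfl, hl, hr, e1, e3⟩ := Devissage.exists_split X q
  obtain ⟨eT⟩ := Devissage.nonempty_single T.obj₁ q fun i hi => by
    by_cases hi' : i ≤ q
    · obtain ⟨e⟩ := e1 i hi'
      have := hX i (by omega)
      exact e.toEquiv.subsingleton
    · exact hl i (by omega)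
  obtain ⟨eH⟩ := e1 q le_rfl
  have hκ : (Dual.inD A K).IsLE 0 :=
    inferInstanceAs (((DerivedCategory.singleFunctor (ModuleCat.{u} A) 0).obj _).IsLE 0)
  have hge3 : T.obj₃.IsGE (q + 1) := (DerivedCategory.isGE_iff _ _).mpr fun i hi =>
    (DRing.DBasic.subsingleton_HD_iff_isZero _ i).mp (hr i (by omega))
  have h3 : ∀ j, j ≤ q → Subsingleton (Dual.inD A K ⟶ T.obj₃⟦j⟧) := fun j hj => by
    have : (T.obj₃⟦j⟧).IsGE (q + 1 - j) :=
      DerivedCategory.TStructure.t.isGE_shift T.obj₃ (q + 1) j _ (by omega)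
    exact subsingleton_of_forall_eq 0 fun g => DerivedCategory.TStructure.t.zero g 0
      (q + 1 - j) (by omega)
  have e : ∀ i j : ℤ, -q + j = i → Nonempty
      (E K (Dual.inD A (Dual.HD A T.obj₂ q)) i ≃ₗ[A] (Dual.inD A K ⟶ T.obj₁⟦j⟧)) := fun i j hij =>
    ⟨((Hom.congr A (Iso.refl _) ((shiftFunctor (Dual.D A) j).mapIso (eT ≪≫
      (shiftFunctor (Dual.D A) (-q)).mapIso
        ((DerivedCategory.singleFunctor (ModuleCat.{u} A) 0).mapIso eH.toModuleIso)))).trans
      (Hom.shiftTarget A (-q) j i hij _ _)).symm⟩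
  have hinj : ∀ j, j ≤ q + 1 → Function.Injective (Hom.post₁ A T (Dual.inD A K) j) := fun j hj => by
    rw [injective_iff_map_eq_zero]
    intro g hg
    obtain ⟨g', rfl⟩ := (Hom.exact_dδ_post A (Dual.inD A K) hT (j - 1) j (by omega) g).mp hg
    have := h3 (j - 1) (by omega)
    rw [Subsingleton.elim g' 0, map_zero]
  constructor
  · obtain ⟨e0⟩ := e 0 q (by omega)
    have hsurj : Function.Surjective (Hom.post₁ A T (Dual.inD A K) q) := fun f =>
      (Hom.exact_post A (Dual.inD A K) hT q f).mp (@Subsingleton.elim _ (h3 q le_rfl) _ _)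
    exact ⟨(((singleHom K (Dual.HD A T.obj₂ q)).trans (Hom.shiftZero A _ _).symm).trans e0).trans
      (LinearEquiv.ofBijective (Hom.post₁ A T (Dual.inD A K) q) ⟨hinj q (by omega), hsurj⟩)⟩
  · obtain ⟨e0⟩ := e 1 (q + 1) (by omega)
    exact ⟨(Hom.post₁ A T (Dual.inD A K) (q + 1)).comp e0.toLinearMap,
      (hinj (q + 1) le_rfl).comp e0.injective⟩

end Groth.Agent.DualCx.DualModule

namespace Groth.Agent.DualCx.DualModule

open Devissage (E F)
open Dimfun (B Z deg)

variable {A : Type u} [CommRing A] [IsNoetherianRing A] [IsLocalRing A] {ω : Dual.D A}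
  (hω : Dual.IsDualizing A ω) (hn : Dual.IsNormalized A ω) (n : ℕ) (hd : ringKrullDim A = n)

include hω in
theorem isEquidim_of_hasSk_two (h : LocCoh.HasSk 2 A A) : EGA4.IsEquidimModule A A := by
  have hcat : CAlg.IsCatenary A := (PtTop.Catenary.cat_iff_isCatenary _).mp
    (PtTop.Catenary.cat_of_rank (deg hω) (fun p q h => Dimfun.deg_lt hω h)
      fun p q h => Dimfun.deg_covBy hω h)
  intro p hp
  rw [Module.supportDim_self_eq_ringKrullDim]
  refine Groth.Agent.LocCoh.ringKrullDim_quotient_minimalPrime hcat (fun q hq => ?_) p ?_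
  · have h1 := h q.1
    have h2 : Module.supportDim (B q) (LocalizedModule q.1.primeCompl A) =
        (q.1.height : WithBot ℕ∞) := by
      rw [← IsLocalization.AtPrime.ringKrullDim_eq_height q.1 (B q)]
      exact Module.supportDim_self_eq_ringKrullDim (R := B q)
    rw [show Module.supportDim (Localization.AtPrime q.1) (LocalizedModule q.1.primeCompl A) = _
      from h2] at h1
    have h3 : min ((2 : ℕ∞) : WithBot ℕ∞) (q.1.height : WithBot ℕ∞) = ((2 : ℕ∞) : WithBot ℕ∞) :=
      min_eq_left (WithBot.coe_le_coe.mpr hq)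
    exact WithBot.coe_le_coe.mp (le_trans (le_of_eq h3.symm) h1)
  · have h0 : Module.annihilator A A = ⊥ := Submodule.eq_bot_iff _ |>.mpr fun a ha => by
      simpa using Module.mem_annihilator.mp ha 1
    rwa [h0] at hp

include hω hn hd

theorem subsingleton_HD_low (i : ℤ) (hi : i < -(n : ℤ)) : Subsingleton (Dual.HD A ω i) := by
  have := Normal.subsingleton_E hω hn n A
    (le_of_eq ((Module.supportDim_self_eq_ringKrullDim (R := A)).trans hd)) i (Or.inl hi)
  exact (Cx.homUnitEquivShift ω i).symm.toEquiv.subsingleton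

theorem subsingleton_HD_high (i : ℤ) (hi : 0 < i) : Subsingleton (Dual.HD A ω i) := by
  have := Normal.subsingleton_E hω hn n A
    (le_of_eq ((Module.supportDim_self_eq_ringKrullDim (R := A)).trans hd)) i (Or.inr hi)
  exact (Cx.homUnitEquivShift ω i).symm.toEquiv.subsingleton

theorem subsingleton_E_HD (s : ℕ) (hs : 2 ≤ s) (h : LocCoh.HasSk s A A) (q : ℤ)
    (hq : -(n : ℤ) < q) (i : ℤ) (hi : i < q + s) : Subsingleton (E (Dual.HD A ω q) ω i) := by
  have h2 : LocCoh.HasSk 2 A A := fun p _ =>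
    le_trans (min_le_min (Nat.cast_le.mpr hs) le_rfl) (h p)
  obtain ⟨hA, hB⟩ := (SkCrit.hasSk_iff_supportDim_le hω A hn n
    ((Module.supportDim_self_eq_ringKrullDim (R := A)).trans hd) (isEquidim_of_hasSk_two hω h2) s).mp h q
    (by omega)
  have : Module.Finite A (Dual.HD A ω q) := hω.finite_cohomology q
  by_cases hneg : -q - (s : ℤ) < 0
  · have := hA hneg
    have := (Cx.homUnitEquivShift ω q).symm.toEquiv.subsingleton
    exact Devissage.subsingleton_of_subsingleton i
  · refine Normal.subsingleton_E hω hn (-q - (s : ℤ)).toNat _ ?_ i (Or.inl (by omega))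
    refine le_trans (le_of_eq ?_) (hB (by omega))
    exact Module.supportDim_eq_of_equiv (Cx.homUnitEquivShift ω q).symm

theorem bijective_smul_id (h : LocCoh.HasSk 2 A A) :
    Function.Bijective fun r : A => r •
      (LinearMap.id : Dual.HD A ω (-(n : ℤ)) →ₗ[A] Dual.HD A ω (-(n : ℤ))) := by
  obtain ⟨eF⟩ := Devissage.nonempty_F_lowest (K := ω) ω (-(n : ℤ)) 0
    (fun i hi => hi.elim (subsingleton_HD_low hω hn n hd i) (subsingleton_HD_high hω hn n hd i)) 0
    (fun q hq _ => subsingleton_E_HD hω hn n hd 2 le_rfl h q hq _ (by omega))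
    (fun q hq _ => subsingleton_E_HD hω hn n hd 2 le_rfl h q hq _ (by omega))
  obtain ⟨⟨eH⟩, -⟩ := nonempty_hom_lowest (Dual.HD A ω (-(n : ℤ))) ω (-(n : ℤ))
    (subsingleton_HD_low hω hn n hd)
  let eA : A ≃ₗ[A] (ω ⟶ ω) := LinearEquiv.ofBijective (LinearMap.toSpanSingleton A _ (𝟙 ω))
    hω.toEnd_bijective
  rw [zero_add] at eF
  exact Biduality.bijective_smul_one_of_linearEquiv
    (R := Module.End A (Dual.HD A ω (-(n : ℤ))))
    (((eA.trans (Hom.shiftZero A ω ω).symm).trans eF).trans eH.symm)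

theorem subsingleton_ext_one (h : LocCoh.HasSk 3 A A) :
    Subsingleton (E (Dual.HD A ω (-(n : ℤ))) (Dual.inD A (Dual.HD A ω (-(n : ℤ)))) 1) := by
  have := hω.ext_self_subsingleton 1 one_ne_zero
  obtain ⟨eF⟩ := Devissage.nonempty_F_lowest (K := ω) ω (-(n : ℤ)) 0
    (fun i hi => hi.elim (subsingleton_HD_low hω hn n hd i) (subsingleton_HD_high hω hn n hd i)) 1
    (fun q hq _ => subsingleton_E_HD hω hn n hd 3 (by omega) h q hq _ (by omega))
    (fun q hq _ => subsingleton_E_HD hω hn n hd 3 (by omega) h q hq _ (by omega))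
  have := eF.symm.toEquiv.subsingleton
  rw [show (1 : ℤ) + -(n : ℤ) = -(n : ℤ) + 1 by omega] at this
  obtain ⟨-, f, hf⟩ := nonempty_hom_lowest (Dual.HD A ω (-(n : ℤ))) ω (-(n : ℤ))
    (subsingleton_HD_low hω hn n hd)
  exact hf.subsingleton

end Groth.Agent.DualCx.DualModule
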