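import Groth.Agent.DualCx.SkCrit
import Groth.Agent.CohOps.DualModule
import Groth.Agent.EGA4Lib.Hyperplane

/-!
# Dualizing complexes which are a module in degree zero off a small closed set
-/

set_option autoImplicit false

universe u

open CategoryTheory CategoryTheory.Limits IsLocalRing
open scoped TensorProduct

attribute [local instance] HasDerivedCategory.standard

namespace Groth.Agent.DualCx.DualSheaf

open Devissage (E)
open Dimfun (B Z deg)

variable {A : Type u} [CommRing A] [IsNoetherianRing A]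

theorem le_idealDepth_of_hasSk {k : ℕ} (J : Ideal A) (hJ : (k : ℕ∞) ≤ J.height)
    (h : LocCoh.HasSk k A A) : (k : ℕ∞) ≤ LocCoh.idealDepth J A := by
  rw [Depth.idealDepth_eq_iInf_depth]
  refine le_iInf₂ fun p hp => ?_
  have h1 := h p.1
  have h2 : Module.supportDim (B p) (LocalizedModule p.1.primeCompl A) =
      (p.1.height : WithBot ℕ∞) := by
    rw [← IsLocalization.AtPrime.ringKrullDim_eq_height p.1 (B p)]
    exact Module.supportDim_self_eq_ringKrullDim (R := B p)
  rw [show Module.supportDim (Localization.AtPrime p.1) (LocalizedModule p.1.primeCompl A) = _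
    from h2] at h1
  have h3 : min ((k : ℕ∞) : WithBot ℕ∞) (p.1.height : WithBot ℕ∞) = ((k : ℕ∞) : WithBot ℕ∞) :=
    min_eq_left (WithBot.coe_le_coe.mpr (hJ.trans (Ideal.height_mono hp)))
  exact WithBot.coe_le_coe.mp (le_trans (le_of_eq h3.symm) h1)

variable [IsLocalRing A] {ω : Dual.D A} (hω : Dual.IsDualizing A ω)
  (n : ℕ) (hd : ringKrullDim A = n) (J : Ideal A) (hJ : 1 ≤ J.height)
  (hoff : ∀ p : PrimeSpectrum A, ¬ J ≤ p.asIdeal → ∀ i : ℤ, i ≠ 0 →
    p ∉ Module.support A (Dual.HD A ω i))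

include hω hJ hoff

theorem deg_minimal (q : PrimeSpectrum A) (hq : q.1 ∈ minimalPrimes A) : deg hω q = 0 := by
  by_contra hne
  refine (Dimfun.not_Z_HD_iff_minimal hω q hq (deg hω q)).mpr rfl ?_
  have hnle : ¬ J ≤ q.1 := fun hle => by
    have := hJ.trans (Ideal.height_mono hle)
    rw [Ideal.height_eq_zero_iff.mpr hq] at this
    exact absurd this (by simp)
  exact not_not.mp ((not_congr (SkCrit.mem_support_iff_not_Z q _)).mp (hoff q hnle _ hne))

omit hJ hoff in
theorem deg_mono {q p : PrimeSpectrum A} (h : q ≤ p) : deg hω q ≤ deg hω p := by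
  rcases eq_or_lt_of_le h with e | hlt
  · rw [e]
  · exact (Dimfun.deg_lt hω hlt).le

theorem deg_nonneg (p : PrimeSpectrum A) : 0 ≤ deg hω p := by
  obtain ⟨Q, hQ, hQp⟩ := Ideal.exists_minimalPrimes_le (bot_le (a := p.1))
  rw [← deg_minimal hω J hJ hoff ⟨Q, hQ.1.1⟩ hQ]
  exact deg_mono hω hQp

include hd

theorem deg_closed : deg hω ⟨maximalIdeal A, inferInstance⟩ = (n : ℤ) := by
  set D := deg hω ⟨maximalIdeal A, inferInstance⟩
  have h1 : ringKrullDim A ≤ (D.toNat : WithBot ℕ∞) := by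
    rw [ringKrullDim, Order.krullDim_eq_iSup_coheight]
    refine iSup_le fun p => ?_
    rw [LocalGlobal.coheight_eq_sub hω p]
    have := deg_nonneg hω J hJ hoff p
    exact WithBot.coe_le_coe.mpr (Nat.cast_le.mpr (by omega))
  obtain ⟨Q, hQ, -⟩ := Ideal.exists_minimalPrimes_le (bot_le (a := maximalIdeal A))
  have h2 : (Order.coheight (⟨Q, hQ.1.1⟩ : PrimeSpectrum A) : WithBot ℕ∞) ≤ ringKrullDim A :=
    Order.coheight_le_krullDim _
  rw [LocalGlobal.coheight_eq_sub hω, deg_minimal hω J hJ hoff ⟨Q, hQ.1.1⟩ hQ, sub_zero] at h2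
  rw [hd] at h1 h2
  have h1' : n ≤ D.toNat := by exact_mod_cast h1
  have h2' : D.toNat ≤ n := by exact_mod_cast h2
  have := deg_nonneg hω J hJ hoff ⟨maximalIdeal A, inferInstance⟩
  omega

theorem isEquidim : EGA4.IsEquidim A := by
  intro Q hQ
  rw [Dimfun.ringKrullDim_quotient_eq_coheight ⟨Q, hQ.1.1⟩, LocalGlobal.coheight_eq_sub hω,
    deg_closed hω n hd J hJ hoff, deg_minimal hω J hJ hoff ⟨Q, hQ.1.1⟩ hQ, hd]
  rw [sub_zero, Int.toNat_natCast]
  rfl

theorem isNormalized : Dual.IsNormalized A (ω⟦(n : ℤ)⟧) := fun i hi => by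
  have hZ := Dimfun.Z_of_ne hω ⟨maximalIdeal A, inferInstance⟩ ((n : ℤ) + i) (by
    rw [deg_closed hω n hd J hJ hoff]; omega)
  have : Subsingleton (E (A ⧸ maximalIdeal A) ω ((n : ℤ) + i)) := subsingleton_of_forall_eq 0 fun e => by
    obtain ⟨s, hs, he⟩ := hZ e
    exact ((IsLocalRing.notMem_maximalIdeal.mp hs).smul_eq_zero).mp he
  exact (Normalized.shiftE (A ⧸ maximalIdeal A) ω (n : ℤ) i ((n : ℤ) + i) rfl).toEquiv.subsingleton

omit hd hJ hoff in
theorem nonempty_shiftHD (i j : ℤ) (h : (n : ℤ) + i = j) :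
    Nonempty (Dual.HD A (ω⟦(n : ℤ)⟧) i ≃ₗ[A] Dual.HD A ω j) :=
  ⟨(Cx.homUnitEquivShift _ i).symm.trans
    ((Normalized.shiftE A ω (n : ℤ) i j h).trans (Cx.homUnitEquivShift ω j))⟩

theorem subsingleton_low (i : ℤ) (hi : i < -(n : ℤ)) : Subsingleton (Dual.HD A (ω⟦(n : ℤ)⟧) i) := by
  have := Normal.subsingleton_E (Normalized.isDualizing_shift hω _)
    (isNormalized hω n hd J hJ hoff) n A
    (le_of_eq ((Module.supportDim_self_eq_ringKrullDim (R := A)).trans hd)) i (Or.inl hi)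
  exact (Cx.homUnitEquivShift _ i).symm.toEquiv.subsingleton

theorem hasSk_two : LocCoh.HasSk 2 A (Dual.HD A ω 0) := by
  obtain ⟨e⟩ := nonempty_shiftHD hω n (-(n : ℤ)) 0 (by omega)
  have := (Normalized.isDualizing_shift hω (n : ℤ)).finite_cohomology (-(n : ℤ))
  exact EGA4Lib.hasSk_congr e (CohOps.DualModule.hasSk_two (Normalized.isDualizing_shift hω _)
    (isNormalized hω n hd J hJ hoff) _ (subsingleton_low hω n hd J hJ hoff))

theorem le_idealDepth (hJ2 : 2 ≤ J.height) : 2 ≤ LocCoh.idealDepth J (Dual.HD A ω 0) := by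
  obtain ⟨e⟩ := nonempty_shiftHD hω n (-(n : ℤ)) 0 (by omega)
  have hω' := Normalized.isDualizing_shift hω (n : ℤ)
  have hn' := isNormalized hω n hd J hJ hoff
  have := hω'.finite_cohomology (-(n : ℤ))
  rw [← Depth.idealDepth_congr e, Depth.idealDepth_eq_iInf_depth]
  refine le_iInf₂ fun p hp => ?_
  by_cases hZ : Z p (Dual.HD A (ω⟦(n : ℤ)⟧) (-(n : ℤ)))
  · have := (Dimfun.Z_iff_localized p _).mp hZ
    rw [LocCoh.depth, Depth.idealDepth_eq_top_of_subsingleton]
    exact le_top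
  obtain ⟨h, h1, hdep, -⟩ :=
    CohOps.DualModule.exists_at hω' hn' _ (subsingleton_low hω n hd J hJ hoff) p hZ
  obtain ⟨h', hh', h2, -⟩ := TopModule.exists_minimal hω' hn' n hd p hZ
  have h3 : 2 ≤ h' := by
    have := hJ2.trans (Ideal.height_mono hp)
    rw [hh'] at this
    exact_mod_cast this
  refine le_trans ?_ hdep
  exact_mod_cast (show 2 ≤ min 2 h by omega)

end Groth.Agent.DualCx.DualSheaf
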