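import Groth.Agent.DualCx.Sec
import Groth.Prelude.Def_DualSh

/-!
# Independence of the presentation
-/

universe u

open CategoryTheory CategoryTheory.Limits

attribute [local instance] HasDerivedCategory.standard

namespace Groth.Agent.DualCx.Indep

open BaseChange (FD)

/-- adding variables to a presentation -/
theorem nonempty_step {R A P T : Type u} [CommRing R] [CommRing A] [CommRing P] [CommRing T]
    [Algebra R A] [Algebra R P] [Algebra R T] [Algebra P T] [IsScalarTower R P T]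
    [Module.Flat R P] [Module.Flat R T] (m : ℕ) (e : T ≃ₐ[P] MvPolynomial (Fin m) P)
    (ψ : P →ₐ[R] A) (hψ : Function.Surjective ψ) (Ψ : T →ₐ[R] A)
    (hΨ : ∀ p, Ψ (algebraMap P T p) = ψ p)
    {Rψ : Dual.D P ⥤ Dual.D A} (adj : DRing.restrictD ψ.toRingHom ⊣ Rψ)
    {RΨ : Dual.D T ⥤ Dual.D A} (adjΨ : DRing.restrictD Ψ.toRingHom ⊣ RΨ) (K : Dual.D R) :
    Nonempty ((RΨ.obj ((FD R T).obj K))⟦(m : ℤ)⟧ ≅ Rψ.obj ((FD R P).obj K)) := by
  have : Module.Flat P T := Sec.flat_of_equiv e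
  choose f hf using fun j : Fin m => hψ (Ψ (e.symm (MvPolynomial.X j)))
  let s : T →ₐ[P] P := (MvPolynomial.aeval f).comp e.toAlgHom
  have hs : ψ.toRingHom.comp s.toRingHom = Ψ.toRingHom := by
    have h : (ψ.toRingHom.comp s.toRingHom).comp e.symm.toRingEquiv.toRingHom =
        Ψ.toRingHom.comp e.symm.toRingEquiv.toRingHom := by
      refine MvPolynomial.ringHom_ext (fun p => ?_) (fun j => ?_)
      · change ψ (MvPolynomial.aeval f (e (e.symm (MvPolynomial.C p)))) = Ψ (e.symm (MvPolynomial.C p))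
        rw [e.apply_symm_apply, MvPolynomial.aeval_C, ← MvPolynomial.algebraMap_eq, e.symm.commutes, hΨ]
        rfl
      · change ψ (MvPolynomial.aeval f (e (e.symm (MvPolynomial.X j)))) = Ψ (e.symm (MvPolynomial.X j))
        rw [e.apply_symm_apply, MvPolynomial.aeval_X, hf]
    refine RingHom.ext fun x => ?_
    obtain ⟨y, rfl⟩ := e.symm.surjective x
    exact RingHom.congr_fun h y
  obtain ⟨Rs, ⟨adjs⟩⟩ := RAdj.exists_adj s.toRingHom
  obtain ⟨σ⟩ := RAdj.nonempty_shiftIso adjΨ ((FD R T).obj K) (m : ℤ)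
  obtain ⟨c⟩ := RAdj.nonempty_comp s.toRingHom ψ.toRingHom Ψ.toRingHom hs adjs adj adjΨ
    (((FD R T).obj K)⟦(m : ℤ)⟧)
  obtain ⟨f'⟩ := Comp.nonempty_iso R P T K
  obtain ⟨r⟩ := Sec.nonempty_iso m P T e s Rs adjs ((FD R P).obj K)
  exact ⟨σ.symm ≪≫ c ≪≫ Rψ.mapIso (Rs.mapIso ((shiftFunctor _ _).mapIso f') ≪≫ r)⟩

variable {R A : Type u} [CommRing R] [CommRing A] [Algebra R A]

/-- one of the two halves of a joint presentation -/
theorem nonempty_half (n m : ℕ) {ρ : Type} (u' : Fin m ⊕ Fin n ≃ ρ)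
    (ψ : MvPolynomial (Fin n) R →ₐ[R] A) (hψ : Function.Surjective ψ)
    (Ψ : MvPolynomial ρ R →ₐ[R] A)
    (hΨ : ∀ i, Ψ (MvPolynomial.X (u' (Sum.inr i))) = ψ (MvPolynomial.X i))
    {Rψ : Dual.D (MvPolynomial (Fin n) R) ⥤ Dual.D A} (adj : DRing.restrictD ψ.toRingHom ⊣ Rψ)
    {RΨ : Dual.D (MvPolynomial ρ R) ⥤ Dual.D A} (adjΨ : DRing.restrictD Ψ.toRingHom ⊣ RΨ)
    (K : Dual.D R) :
    Nonempty ((RΨ.obj ((FD R (MvPolynomial ρ R)).obj K))⟦((n + m : ℕ) : ℤ)⟧ ≅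
      (Rψ.obj ((FD R (MvPolynomial (Fin n) R)).obj K))⟦(n : ℤ)⟧) := by
  let ι : MvPolynomial (Fin n) R →ₐ[R] MvPolynomial ρ R :=
    MvPolynomial.rename fun i => u' (Sum.inr i)
  let := ι.toRingHom.toAlgebra
  have : IsScalarTower R (MvPolynomial (Fin n) R) (MvPolynomial ρ R) :=
    IsScalarTower.of_algebraMap_eq fun r => (ι.commutes r).symm
  let e₀ : MvPolynomial ρ R ≃ₐ[R] MvPolynomial (Fin m) (MvPolynomial (Fin n) R) :=
    (MvPolynomial.renameEquiv R u'.symm).trans (MvPolynomial.sumAlgEquiv R (Fin m) (Fin n))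
  have he : e₀.toAlgHom.comp ι = IsScalarTower.toAlgHom R (MvPolynomial (Fin n) R)
      (MvPolynomial (Fin m) (MvPolynomial (Fin n) R)) := by
    refine MvPolynomial.algHom_ext fun i => ?_
    simp [e₀, ι]
  let e : MvPolynomial ρ R ≃ₐ[MvPolynomial (Fin n) R]
      MvPolynomial (Fin m) (MvPolynomial (Fin n) R) :=
    AlgEquiv.ofRingEquiv (f := e₀.toRingEquiv) fun p => AlgHom.congr_fun he p
  have hΨ' : Ψ.comp ι = ψ := MvPolynomial.algHom_ext fun i => by simp [ι, hΨ]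
  obtain ⟨i⟩ := nonempty_step m e ψ hψ Ψ (fun p => AlgHom.congr_fun hΨ' p) adj adjΨ K
  exact ⟨(shiftFunctorAdd' (Dual.D A) (m : ℤ) (n : ℤ) _ (by push_cast; omega)).app _ ≪≫
    (shiftFunctor _ (n : ℤ)).mapIso i⟩

/-- any two presentations give the same upper shriek -/
theorem nonempty_iso (n m : ℕ) (ψ : MvPolynomial (Fin n) R →ₐ[R] A) (hψ : Function.Surjective ψ)
    {Rψ : Dual.D (MvPolynomial (Fin n) R) ⥤ Dual.D A} (adj : DRing.restrictD ψ.toRingHom ⊣ Rψ)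
    (ψ' : MvPolynomial (Fin m) R →ₐ[R] A) (hψ' : Function.Surjective ψ')
    {Rψ' : Dual.D (MvPolynomial (Fin m) R) ⥤ Dual.D A} (adj' : DRing.restrictD ψ'.toRingHom ⊣ Rψ')
    (K : Dual.D R) :
    Nonempty ((Rψ.obj ((FD R (MvPolynomial (Fin n) R)).obj K))⟦(n : ℤ)⟧ ≅
      (Rψ'.obj ((FD R (MvPolynomial (Fin m) R)).obj K))⟦(m : ℤ)⟧) := by
  let Ψ : MvPolynomial (Fin m ⊕ Fin n) R →ₐ[R] A :=
    MvPolynomial.aeval (Sum.elim (fun j => ψ' (MvPolynomial.X j)) fun i => ψ (MvPolynomial.X i))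
  obtain ⟨RΨ, ⟨adjΨ⟩⟩ := RAdj.exists_adj Ψ.toRingHom
  obtain ⟨a⟩ := nonempty_half n m (Equiv.refl _) ψ hψ Ψ (fun i => by simp [Ψ]) adj adjΨ K
  obtain ⟨b⟩ := nonempty_half m n (Equiv.sumComm (Fin n) (Fin m)) ψ' hψ' Ψ (fun j => by simp [Ψ])
    adj' adjΨ K
  exact ⟨a.symm ≪≫ eqToIso (by rw [Nat.add_comm]) ≪≫ b⟩

/-- `φ^!` does not depend on the presentation -/
theorem nonempty_shriekVia_iso (n : ℕ) (ψ : MvPolynomial (Fin n) R →ₐ[R] A)
    (hψ : Function.Surjective ψ) [DRing.HasLBaseChange (algebraMap R (MvPolynomial (Fin n) R))]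
    (Rψ : Dual.D (MvPolynomial (Fin n) R) ⥤ Dual.D A) (adj : DRing.restrictD ψ.toRingHom ⊣ Rψ)
    (m : ℕ) (ψ' : MvPolynomial (Fin m) R →ₐ[R] A) (hψ' : Function.Surjective ψ')
    {Rψ' : Dual.D (MvPolynomial (Fin m) R) ⥤ Dual.D A} (adj' : DRing.restrictD ψ'.toRingHom ⊣ Rψ')
    (K : Dual.D R) :
    Nonempty (Dual2.shriekVia n Rψ K ≅
      (Rψ'.obj ((FD R (MvPolynomial (Fin m) R)).obj K))⟦(m : ℤ)⟧) := by
  obtain ⟨a⟩ := FlatBC.nonempty_LBaseChange (A := R) (B := MvPolynomial (Fin n) R) K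
  obtain ⟨b⟩ := nonempty_iso n m ψ hψ adj ψ' hψ' adj' K
  exact ⟨(shiftFunctor _ _).mapIso (Rψ.mapIso a) ≪≫ b⟩

end Groth.Agent.DualCx.Indep
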