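import Groth.Agent.DualCx.SurjBC
import Groth.Agent.DualCx.Indep
import Mathlib.RingTheory.TensorProduct.MvPolynomial
import Mathlib.RingTheory.Flat.Stability

/-!
# Upper shriek and flat base change
-/

universe u

open CategoryTheory CategoryTheory.Limits
open scoped TensorProduct

attribute [local instance] HasDerivedCategory.standard MvPolynomial.algebraMvPolynomial

namespace Groth.Agent.DualCx.ShriekFlatBC

open BaseChange (FD)

variable {R R' A : Type u} [CommRing R] [CommRing R'] [CommRing A] [Algebra R R'] [Algebra R A]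

/-- the base changed presentation -/
noncomputable def presentation {n : ℕ} (ψ : MvPolynomial (Fin n) R →ₐ[R] A) :
    MvPolynomial (Fin n) R' →ₐ[R'] R' ⊗[R] A :=
  MvPolynomial.aeval fun i => (1 : R') ⊗ₜ[R] ψ (MvPolynomial.X i)

theorem presentation_map {n : ℕ} (ψ : MvPolynomial (Fin n) R →ₐ[R] A) (p : MvPolynomial (Fin n) R) :
    presentation (R' := R') ψ (MvPolynomial.map (algebraMap R R') p) = 1 ⊗ₜ ψ p := by
  have h : ((presentation (R' := R') ψ).restrictScalars R).comp (MvPolynomial.mapAlgHom (Algebra.ofId R R')) =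
      (Algebra.TensorProduct.includeRight : A →ₐ[R] R' ⊗[R] A).comp ψ :=
    MvPolynomial.algHom_ext fun i => by simp [presentation]
  exact AlgHom.congr_fun h p

theorem presentation_surjective {n : ℕ} (ψ : MvPolynomial (Fin n) R →ₐ[R] A)
    (hψ : Function.Surjective ψ) : Function.Surjective (presentation (R' := R') ψ) := by
  intro x
  induction x using TensorProduct.induction_on with
  | zero => exact ⟨0, map_zero _⟩
  | tmul r a =>
    obtain ⟨p, rfl⟩ := hψ a
    refine ⟨r • MvPolynomial.map (algebraMap R R') p, ?_⟩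
    rw [map_smul, presentation_map, TensorProduct.smul_tmul', smul_eq_mul, mul_one]
  | add x y hx hy =>
    obtain ⟨a, rfl⟩ := hx
    obtain ⟨b, rfl⟩ := hy
    exact ⟨a + b, map_add _ _ _⟩

theorem presentation_ker {n : ℕ} (ψ : MvPolynomial (Fin n) R →ₐ[R] A) (hψ : Function.Surjective ψ) :
    RingHom.ker (presentation (R' := R') ψ).toRingHom =
      (RingHom.ker ψ.toRingHom).map (MvPolynomial.map (algebraMap R R')) := by
  let J := (RingHom.ker ψ.toRingHom).map
    (MvPolynomial.map (algebraMap R R') : MvPolynomial (Fin n) R →+* MvPolynomial (Fin n) R')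
  refine le_antisymm (fun x hx => ?_) (Ideal.map_le_iff_le_comap.mpr fun p hp => ?_)
  · let g : MvPolynomial (Fin n) R →ₐ[R] MvPolynomial (Fin n) R' ⧸ J :=
      (Ideal.Quotient.mkₐ R J).comp (MvPolynomial.mapAlgHom (Algebra.ofId R R'))
    have hg : RingHom.ker ψ.toRingHom ≤ RingHom.ker g.toRingHom := fun p hp =>
      Ideal.Quotient.eq_zero_iff_mem.mpr (Ideal.mem_map_of_mem _ hp)
    let gA : A →ₐ[R] MvPolynomial (Fin n) R' ⧸ J :=
      (Ideal.Quotient.liftₐ (RingHom.ker ψ.toRingHom) g hg).comp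
        (Ideal.quotientKerAlgEquivOfSurjective hψ).symm.toAlgHom
    let L : R' ⊗[R] A →ₐ[R'] MvPolynomial (Fin n) R' ⧸ J :=
      Algebra.TensorProduct.lift (Algebra.ofId R' _) gA fun a b => mul_comm _ _
    have hL : L.comp (presentation ψ) = Ideal.Quotient.mkₐ R' J := by
      refine MvPolynomial.algHom_ext fun i => ?_
      simp only [presentation, AlgHom.comp_apply, MvPolynomial.aeval_X, L, gA]
      erw [Algebra.TensorProduct.lift_tmul]
      rw [map_one, one_mul]
      change Ideal.Quotient.liftₐ _ g hg ((Ideal.quotientKerAlgEquivOfSurjective hψ).symm (ψ (MvPolynomial.X i))) = _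
      rw [show (Ideal.quotientKerAlgEquivOfSurjective hψ).symm (ψ (MvPolynomial.X i)) =
        Ideal.Quotient.mk _ (MvPolynomial.X i) from by
          rw [AlgEquiv.symm_apply_eq]
          rfl]
      change g (MvPolynomial.X i) = _
      simp [g]
    have h0 : Ideal.Quotient.mkₐ R' J x = 0 := by
      rw [← hL, AlgHom.comp_apply, show presentation ψ x = 0 from hx, map_zero]
    exact Ideal.Quotient.eq_zero_iff_mem.mp h0
  · change presentation ψ _ = 0
    rw [presentation_map, show ψ p = 0 from hp, TensorProduct.tmul_zero]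

variable [IsNoetherianRing R]

/-- flat base change -/
theorem nonempty_iso [Module.Flat R R'] (n : ℕ) (ψ : MvPolynomial (Fin n) R →ₐ[R] A)
    (hψ : Function.Surjective ψ) [DRing.HasLBaseChange (algebraMap R (MvPolynomial (Fin n) R))]
    (Rψ : Dual.D (MvPolynomial (Fin n) R) ⥤ Dual.D A) (adj : DRing.restrictD ψ.toRingHom ⊣ Rψ)
    (m : ℕ) (ψ' : MvPolynomial (Fin m) R' →ₐ[R'] (R' ⊗[R] A)) (hψ' : Function.Surjective ψ')
    [DRing.HasLBaseChange (algebraMap R' (MvPolynomial (Fin m) R'))]
    (Rψ' : Dual.D (MvPolynomial (Fin m) R') ⥤ Dual.D (R' ⊗[R] A))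
    (adj' : DRing.restrictD ψ'.toRingHom ⊣ Rψ')
    [DRing.HasLBaseChange (Algebra.TensorProduct.includeRight : A →ₐ[R] R' ⊗[R] A).toRingHom]
    [DRing.HasLBaseChange (algebraMap R R')] (K : Dual.D R) (c : ℤ) [K.IsGE c] :
    Nonempty ((DRing.LBaseChange (Algebra.TensorProduct.includeRight : A →ₐ[R] R' ⊗[R] A).toRingHom).obj
      (Dual2.shriekVia n Rψ K) ≅ Dual2.shriekVia m Rψ' ((DRing.LBaseChange (algebraMap R R')).obj K)) := by
  let P := MvPolynomial (Fin n) R
  let P₁ := MvPolynomial (Fin n) R'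
  let A' := R' ⊗[R] A
  let : Algebra A A' := Algebra.TensorProduct.rightAlgebra
  let : Algebra P A := ψ.toRingHom.toAlgebra
  let : Algebra P₁ A' := (presentation (R' := R') ψ).toRingHom.toAlgebra
  let : Algebra P A' := ((algebraMap A A').comp (algebraMap P A)).toAlgebra
  have : IsScalarTower P A A' := IsScalarTower.of_algebraMap_eq fun _ => rfl
  have : IsScalarTower P P₁ A' := IsScalarTower.of_algebraMap_eq fun p =>
    (presentation_map ψ p).symm
  have : Module.Flat P P₁ :=
    Module.Flat.of_linearEquiv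
      (Algebra.IsPushout.out (R := R) (S := P) (R' := R') (S' := P₁)).equiv.symm
  have : Module.Flat A A' := Module.Flat.of_linearEquiv
    ({ (TensorProduct.comm R R' A).toAddEquiv with
        map_smul' := fun a x => by
          induction x using TensorProduct.induction_on with
          | zero => simp
          | tmul r b =>
            change TensorProduct.comm R R' A (a • (r ⊗ₜ[R] b)) = a • (b ⊗ₜ[R] r)
            rw [Algebra.smul_def, Algebra.TensorProduct.right_algebraMap_apply,
              Algebra.TensorProduct.tmul_mul_tmul, one_mul, TensorProduct.comm_tmul,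
              TensorProduct.smul_tmul', smul_eq_mul]
          | add x y hx hy =>
            change TensorProduct.comm R R' A (a • (x + y)) = a • TensorProduct.comm R R' A (x + y)
            rw [smul_add, map_add, map_add, smul_add]
            exact congrArg₂ (· + ·) hx hy } : A' ≃ₗ[A] A ⊗[R] R')
  have hyp : SurjBC.Hyp P A P₁ A' :=
    ⟨hψ, presentation_surjective ψ hψ, presentation_ker ψ hψ⟩
  obtain ⟨R₁, ⟨adj₁⟩⟩ := RAdj.exists_adj (presentation (R' := R') ψ).toRingHom
  obtain ⟨i⟩ := Indep.nonempty_shriekVia_iso m ψ' hψ' Rψ' adj' n (presentation ψ)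
    (presentation_surjective ψ hψ) adj₁ ((DRing.LBaseChange (algebraMap R R')).obj K)
  obtain ⟨b₀⟩ := FlatBC.nonempty_LBaseChange (A := R) (B := P) K
  obtain ⟨b₁⟩ := FlatBC.nonempty_LBaseChange (A := R) (B := R') K
  obtain ⟨b₂⟩ := FlatBC.nonempty_LBaseChange (A := A) (B := A') (Dual2.shriekVia n Rψ K)
  have := FlatBC.isGE_FD (B := P) K c
  obtain ⟨x⟩ := SurjBC.nonempty_iso hyp adj adj₁ ((FD R P).obj K) c
  have : Module.Flat R P₁ := Module.Flat.trans R R' P₁
  obtain ⟨h₁⟩ := Comp.nonempty_iso R P P₁ K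
  obtain ⟨h₂⟩ := Comp.nonempty_iso R R' P₁ K
  exact ⟨b₂ ≪≫ (FD A A').mapIso ((shiftFunctor _ _).mapIso (Rψ.mapIso b₀)) ≪≫
    ((FD A A').commShiftIso (n : ℤ)).app _ ≪≫
    (shiftFunctor _ _).mapIso (x ≪≫ R₁.mapIso (h₁.symm ≪≫ h₂ ≪≫ (FD R' P₁).mapIso b₁.symm)) ≪≫ i.symm⟩

end Groth.Agent.DualCx.ShriekFlatBC
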