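import Groth.Agent.Omega.SmoothFibreDim
import Groth.Agent.CAlgLib.LocalDimSpec
import Groth.Agent.DualCx.ShriekFlatBC
import Groth.Agent.S0358
import Groth.Agent.Depth.Basic
import Groth.Agent.Depth.CM
import Mathlib.RingTheory.RegularLocalRing.Polynomial

/-!
# The grade of the ideal of an algebra of finite type in a polynomial algebra
-/

universe u

open CategoryTheory
open scoped TensorProduct

namespace Groth.Agent.DualCx.FibreGrade

open AlgebraicGeometry

attribute [local instance] Algebra.TensorProduct.rightAlgebra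

/-- chains in a localized quotient -/
theorem ringKrullDim_quotient_le {P : Type u} [CommRing P] (Q : Ideal P) [Q.IsPrime]
    (I : Ideal (Localization.AtPrime Q)) {α : Type u} [PartialOrder α] (a : α)
    (g : ∀ Q' : PrimeSpectrum P, Q'.asIdeal ≤ Q → I.comap (algebraMap P (Localization.AtPrime Q)) ≤ Q'.asIdeal → α)
    (hg : ∀ Q₁ Q₂ h₁ h₁' h₂ h₂', Q₁ < Q₂ → g Q₁ h₁ h₁' < g Q₂ h₂ h₂') (hga : ∀ Q' h h', g Q' h h' ≤ a) :
    ringKrullDim (Localization.AtPrime Q ⧸ I) ≤ (Order.height a : WithBot ℕ∞) := by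
  let T := Localization.AtPrime Q
  refine iSup_le fun l => ?_
  let c : PrimeSpectrum (T ⧸ I) → PrimeSpectrum P := fun x =>
    PrimeSpectrum.comap (algebraMap P T) (PrimeSpectrum.comap (Ideal.Quotient.mk I) x)
  have h1 : ∀ x, (c x).asIdeal ≤ Q := fun x => by
    refine le_trans (Ideal.comap_mono (IsLocalRing.le_maximalIdeal (PrimeSpectrum.comap (Ideal.Quotient.mk I) x).2.ne_top)) ?_
    exact (IsLocalization.AtPrime.comap_maximalIdeal T Q).le
  have h2 : ∀ x, I.comap (algebraMap P T) ≤ (c x).asIdeal := fun x => Ideal.comap_mono fun y hy => by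
    change Ideal.Quotient.mk I y ∈ x.asIdeal
    rw [Ideal.Quotient.eq_zero_iff_mem.2 hy]
    exact zero_mem _
  have hc : StrictMono c := (Monotone.strictMono_of_injective
    (fun x y h => Ideal.comap_mono (Ideal.comap_mono h)) fun x y h =>
      PrimeSpectrum.comap_injective_of_surjective _ Ideal.Quotient.mk_surjective
        (PrimeSpectrum.localization_comap_injective T Q.primeCompl h))
  let L : LTSeries α := LTSeries.mk l.length (fun i => g (c (l i)) (h1 _) (h2 _)) fun i j hij =>
    hg _ _ _ _ _ _ (hc (l.strictMono hij))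
  exact_mod_cast (Order.length_le_height (p := L) (x := a) (hga _ _ _) : (L.length : ℕ∞) ≤ _)

/-- chains below a prime survive in a localized quotient -/
theorem height_le_ringKrullDim_quotient {P S : Type u} [CommRing P] [CommRing S] (Q : Ideal P) [Q.IsPrime]
    (I : Ideal (Localization.AtPrime Q)) (f : P →+* S) (hf : Function.Injective (PrimeSpectrum.comap f))
    (s : PrimeSpectrum S) (hs : s.asIdeal.comap f = Q)
    (hI : ∀ s' : PrimeSpectrum S, s' ≤ s →
      I ≤ (s'.asIdeal.comap f).map (algebraMap P (Localization.AtPrime Q))) :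
    (Order.height s : WithBot ℕ∞) ≤ ringKrullDim (Localization.AtPrime Q ⧸ I) := by
  let T := Localization.AtPrime Q
  rw [Order.height_eq_krullDim_Iic]
  refine iSup_le fun l => ?_
  let c : Set.Iic s → Ideal T := fun x => (x.1.asIdeal.comap f).map (algebraMap P T)
  have hd : ∀ x : Set.Iic s, Disjoint (Q.primeCompl : Set P) (x.1.asIdeal.comap f : Set P) := fun x =>
    Set.disjoint_left.2 fun y hy hy' => hy (hs ▸ Ideal.comap_mono x.2 hy')
  have hp : ∀ x, (c x).IsPrime := fun x =>
    IsLocalization.isPrime_of_isPrime_disjoint Q.primeCompl T _ inferInstance (hd x)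
  have hcc : ∀ x, (c x).comap (algebraMap P T) = x.1.asIdeal.comap f := fun x =>
    IsLocalization.comap_map_of_isPrime_disjoint Q.primeCompl T (hI := inferInstance) (hd x)
  let c' : Set.Iic s → PrimeSpectrum (T ⧸ I) := fun x =>
    ⟨(c x).map (Ideal.Quotient.mk I), Ideal.map_isPrime_of_surjective (H := hp x) Ideal.Quotient.mk_surjective
      (by rw [Ideal.mk_ker]; exact hI x.1 x.2)⟩
  have hc' : ∀ x, (c' x).asIdeal.comap (Ideal.Quotient.mk I) = c x := fun x => by
    rw [Ideal.comap_map_of_surjective _ Ideal.Quotient.mk_surjective, ← RingHom.ker_eq_comap_bot, Ideal.mk_ker,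
      sup_eq_left.2 (hI x.1 x.2)]
  have hmono : StrictMono c' := Monotone.strictMono_of_injective
    (fun x y h => Ideal.map_mono (Ideal.map_mono (Ideal.comap_mono h))) fun x y h => by
      have h' := congrArg (fun z : PrimeSpectrum (T ⧸ I) => (z.asIdeal.comap (Ideal.Quotient.mk I)).comap (algebraMap P T)) h
      simp only [hc', hcc] at h'
      exact Subtype.ext (hf (PrimeSpectrum.ext h'))
  exact Order.LTSeries.length_le_krullDim (l.map c' hmono)

/-- elements of the residue field are fractions -/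
theorem exists_frac {R K : Type u} [CommRing R] [Field K] [Algebra R K] (p : Ideal R) [p.IsPrime]
    [Algebra (R ⧸ p) K] [IsScalarTower R (R ⧸ p) K] [IsFractionRing (R ⧸ p) K] (a : K) :
    ∃ (c b : R), c ∉ p ∧ algebraMap R K c * a = algebraMap R K b := by
  obtain ⟨⟨b, c⟩, h⟩ := IsLocalization.surj (nonZeroDivisors (R ⧸ p)) a
  obtain ⟨b, rfl⟩ := Ideal.Quotient.mk_surjective b
  obtain ⟨c', hc'⟩ := Ideal.Quotient.mk_surjective c.1
  refine ⟨c', b, fun h' => nonZeroDivisors.ne_zero c.2 ?_, ?_⟩
  · rw [← hc', Ideal.Quotient.eq_zero_iff_mem]; exact h'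
  · rw [IsScalarTower.algebraMap_apply R (R ⧸ p) K, IsScalarTower.algebraMap_apply R (R ⧸ p) K,
      Ideal.Quotient.algebraMap_eq, hc', mul_comm]
    exact h

/-- polynomials over the residue field come from polynomials, up to a scalar -/
theorem exists_map_eq {R K : Type u} [CommRing R] [Field K] [Algebra R K] (p : Ideal R) [p.IsPrime]
    [Algebra (R ⧸ p) K] [IsScalarTower R (R ⧸ p) K] [IsFractionRing (R ⧸ p) K] {n : ℕ}
    (s : MvPolynomial (Fin n) K) :
    ∃ (c : R) (x : MvPolynomial (Fin n) R), c ∉ p ∧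
      MvPolynomial.map (algebraMap R K) x = MvPolynomial.C (algebraMap R K c) * s := by
  induction s using MvPolynomial.induction_on with
  | C a =>
    obtain ⟨c, b, hc, h⟩ := exists_frac p a
    exact ⟨c, MvPolynomial.C b, hc, by rw [MvPolynomial.map_C, ← h, map_mul]⟩
  | add s t hs ht =>
    obtain ⟨c, x, hc, hx⟩ := hs
    obtain ⟨d, y, hd, hy⟩ := ht
    exact ⟨c * d, MvPolynomial.C d * x + MvPolynomial.C c * y, ‹p.IsPrime›.mul_notMem hc hd, by
      simp only [map_add, map_mul, hx, hy, MvPolynomial.map_C]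
      ring⟩
  | mul_X s i hs =>
    obtain ⟨c, x, hc, hx⟩ := hs
    exact ⟨c, x * MvPolynomial.X i, hc, by rw [map_mul, hx, mul_assoc, MvPolynomial.map_X]⟩

theorem algebraMap_eq_zero_iff_mem {R K : Type u} [CommRing R] [Field K] [Algebra R K] (p : Ideal R) [p.IsPrime]
    [Algebra (R ⧸ p) K] [IsScalarTower R (R ⧸ p) K] [IsFractionRing (R ⧸ p) K] (a : R) :
    algebraMap R K a = 0 ↔ a ∈ p := by
  rw [IsScalarTower.algebraMap_apply R (R ⧸ p) K,
    map_eq_zero_iff (algebraMap (R ⧸ p) K) (IsFractionRing.injective (R ⧸ p) K),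
    Ideal.Quotient.algebraMap_eq, Ideal.Quotient.eq_zero_iff_mem]

theorem comap_map_injective {R K : Type u} [CommRing R] [Field K] [Algebra R K] (p : Ideal R) [p.IsPrime]
    [Algebra (R ⧸ p) K] [IsScalarTower R (R ⧸ p) K] [IsFractionRing (R ⧸ p) K] (n : ℕ) :
    Function.Injective (PrimeSpectrum.comap
      (MvPolynomial.map (algebraMap R K) : MvPolynomial (Fin n) R →+* MvPolynomial (Fin n) K)) := by
  intro x y h
  refine PrimeSpectrum.ext (Ideal.ext fun s => ?_)
  obtain ⟨c, t, hc, ht⟩ := exists_map_eq p s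
  have hu : IsUnit (MvPolynomial.C (algebraMap R K c) : MvPolynomial (Fin n) K) :=
    (IsUnit.mk0 _ fun h => hc ((algebraMap_eq_zero_iff_mem p c).1 h)).map MvPolynomial.C
  have := SetLike.ext_iff.1 (congrArg PrimeSpectrum.asIdeal h) t
  rw [PrimeSpectrum.comap_asIdeal, PrimeSpectrum.comap_asIdeal, Ideal.mem_comap, Ideal.mem_comap, ht,
    Ideal.unit_mul_mem_iff_mem _ hu, Ideal.unit_mul_mem_iff_mem _ hu] at this
  exact this

/-- dimensions in the fibre -/
theorem exists_dims {k : Type u} [Field k] (n : ℕ) {F : Type u} [CommRing F] [Algebra k F]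
    (g : MvPolynomial (Fin n) k →ₐ[k] F) (hgs : Function.Surjective g) (qb : PrimeSpectrum F) (d : ℕ)
    (hd : FlatMor.localDim (PrimeSpectrum F) qb ≤ d) :
    ∃ r : ℕ, (Order.height qb : WithBot ℕ∞) + r ≤ (d : WithBot ℕ∞) ∧
      (r : WithBot ℕ∞) + (Order.height (PrimeSpectrum.comap g.toRingHom qb) : WithBot ℕ∞) = n := by
  have : Algebra.FiniteType k F := Algebra.FiniteType.of_surjective g hgs
  let S := MvPolynomial (Fin n) k
  let Qb : PrimeSpectrum S := PrimeSpectrum.comap g.toRingHom qb
  let eQ : (S ⧸ Qb.asIdeal) ≃ₐ[k] (F ⧸ qb.asIdeal) :=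
    (Ideal.quotientEquivAlgOfEq k (show Qb.asIdeal = RingHom.ker ((Ideal.Quotient.mkₐ k qb.asIdeal).comp g) from
      Ideal.ext fun x => (Ideal.Quotient.eq_zero_iff_mem (I := qb.asIdeal) (a := g x)).symm)).trans
      (Ideal.quotientKerAlgEquivOfSurjective (Ideal.Quotient.mk_surjective.comp hgs))
  obtain ⟨r, hr1, hr2, -⟩ := VarDim.exists_ringKrullDim_eq_trdeg k (F ⧸ qb.asIdeal)
  have hr : Algebra.trdeg k qb.asIdeal.ResidueField = r := by
    have : Algebra.IsAlgebraic (F ⧸ qb.asIdeal) qb.asIdeal.ResidueField :=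
      IsLocalization.isAlgebraic qb.asIdeal.ResidueField (nonZeroDivisors (F ⧸ qb.asIdeal))
    rw [← trdeg_add_eq k (F ⧸ qb.asIdeal), trdeg_eq_zero (R := F ⧸ qb.asIdeal), add_zero, hr2]
  have hA := CAlgLib.LocalDimSpec.localDim_eq_add_trdeg k qb.asIdeal r hr
  rw [show (⟨qb.asIdeal, inferInstance⟩ : PrimeSpectrum F) = qb from rfl,
    IsLocalization.AtPrime.ringKrullDim_eq_height qb.asIdeal, qb.height_eq_orderHeight] at hA
  have hS := VarDim.ringKrullDim_quotient_add_height k S Qb.asIdeal
  rw [ringKrullDim_eq_of_ringEquiv eQ.toRingEquiv, hr1, MvPolynomial.ringKrullDim_of_isNoetherianRing,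
    ringKrullDim_eq_zero_of_field, zero_add, Nat.card_fin, Qb.height_eq_orderHeight] at hS
  exact ⟨r, hA ▸ hd, hS⟩

/-- the closed fibre of a localised polynomial algebra is Cohen-Macaulay -/
theorem isCohenMacaulay_closedFibre {R : Type u} [CommRing R] [IsNoetherianRing R] (n : ℕ)
    (Q : Ideal (MvPolynomial (Fin n) R)) [Q.IsPrime] (p : Ideal R) [p.IsPrime]
    (hQp : Q.comap (algebraMap R (MvPolynomial (Fin n) R)) = p)
    (k : Type u) [Field k] [Algebra R k] [Algebra (R ⧸ p) k] [IsScalarTower R (R ⧸ p) k]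
    [IsFractionRing (R ⧸ p) k]
    (Qb : Ideal (MvPolynomial (Fin n) k)) [Qb.IsPrime]
    (hQb : Qb.comap (MvPolynomial.map (algebraMap R k)) = Q) :
    LocCoh.IsCohenMacaulayLocalRing
      (Localization.AtPrime Q ⧸ p.map (algebraMap R (Localization.AtPrime Q))) := by
  let P := MvPolynomial (Fin n) R
  let S := MvPolynomial (Fin n) k
  let T := Localization.AtPrime Q
  let m := p.map (algebraMap R T)
  let fP : P →+* S := MvPolynomial.map (algebraMap R k)
  let mk : P →+* T ⧸ m := (Ideal.Quotient.mk m).comp (algebraMap P T)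
  have hu : ∀ x, x ∉ Q → IsUnit (mk x) := fun x hx =>
    (IsLocalization.map_units T (⟨x, hx⟩ : Q.primeCompl)).map (Ideal.Quotient.mk m)
  have hmkR : ∀ a : R, mk (MvPolynomial.C a) = Ideal.Quotient.mk m (algebraMap R T a) := fun a => by
    change Ideal.Quotient.mk m (algebraMap P T (algebraMap R P a)) = _
    rw [← IsScalarTower.algebraMap_apply]
  let gR : R →+* T ⧸ m := mk.comp MvPolynomial.C
  have hgR : ∀ a ∈ p, gR a = 0 := fun a ha => by
    change mk (MvPolynomial.C a) = 0
    rw [hmkR, Ideal.Quotient.eq_zero_iff_mem]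
    exact Ideal.mem_map_of_mem _ ha
  have hgu : ∀ y : nonZeroDivisors (R ⧸ p), IsUnit (Ideal.Quotient.lift p gR hgR y) := by
    rintro ⟨y, hy⟩
    obtain ⟨a, rfl⟩ := Ideal.Quotient.mk_surjective y
    change IsUnit (gR a)
    refine hu _ fun h => nonZeroDivisors.ne_zero hy (Ideal.Quotient.eq_zero_iff_mem.2 ?_)
    rw [← hQp]; exact h
  let fk : k →+* T ⧸ m := IsLocalization.lift (M := nonZeroDivisors (R ⧸ p)) (S := k) (P := T ⧸ m) hgu
  have hfk : ∀ a : R, fk (algebraMap R k a) = gR a := fun a => by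
    rw [IsScalarTower.algebraMap_apply R (R ⧸ p) k]
    exact IsLocalization.lift_eq hgu _
  let φ : S →+* T ⧸ m := MvPolynomial.eval₂Hom fk fun i => mk (MvPolynomial.X i)
  have hfC : ∀ a : R, fP (MvPolynomial.C a) = MvPolynomial.C (algebraMap R k a) := fun a =>
    MvPolynomial.map_C _ _
  have hfX : ∀ i, fP (MvPolynomial.X i) = MvPolynomial.X i := fun i => MvPolynomial.map_X _ _
  have hφ : φ.comp fP = mk := MvPolynomial.ringHom_ext
    (fun a => by
      change φ (fP (MvPolynomial.C a)) = _
      rw [hfC]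
      exact (MvPolynomial.eval₂Hom_C _ _ _).trans (hfk a))
    fun i => by
      change φ (fP (MvPolynomial.X i)) = _
      rw [hfX]
      exact MvPolynomial.eval₂Hom_X' _ _ _
  have hφ' : ∀ x, φ (fP x) = mk x := fun x => RingHom.congr_fun hφ x
  have hc : ∀ c : R, c ∉ p → IsUnit (MvPolynomial.C (algebraMap R k c) : S) := fun c hc =>
    (IsUnit.mk0 _ fun h => hc ((algebraMap_eq_zero_iff_mem p c).1 h)).map MvPolynomial.C
  have hsurj : ∀ s : S, ∃ (c : R) (x : P), c ∉ p ∧ fP x = MvPolynomial.C (algebraMap R k c) * s :=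
    fun s => exists_map_eq p s
  let : Algebra S (T ⧸ m) := RingHom.toAlgebra (R := S) (S := T ⧸ m) φ
  have hloc : IsLocalization.AtPrime (T ⧸ m) Qb := by
    refine ⟨⟨?_, ?_, ?_⟩⟩
    · rintro ⟨s, hs⟩
      obtain ⟨c, x, hc', hx⟩ := hsurj s
      have h1 : IsUnit (φ (fP x)) := by
        rw [hφ']
        refine hu x fun h => hs ?_
        rw [← hQb] at h
        exact (Ideal.unit_mul_mem_iff_mem Qb (hc c hc')).1 (hx ▸ h)
      rw [hx, map_mul, IsUnit.mul_iff] at h1
      exact h1.2
    · intro z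
      obtain ⟨z, rfl⟩ := Ideal.Quotient.mk_surjective z
      obtain ⟨⟨x, t⟩, h⟩ := IsLocalization.surj Q.primeCompl z
      refine ⟨(fP x, ⟨fP t, fun h' => t.2 (hQb ▸ h')⟩), ?_⟩
      change _ * φ (fP t) = φ (fP x)
      rw [hφ', hφ']
      exact (map_mul (Ideal.Quotient.mk m) _ _).symm.trans (congrArg _ h)
    · intro s₁ s₂ h
      obtain ⟨c, x, hc', hx⟩ := hsurj s₁
      obtain ⟨d, y, hd', hy⟩ := hsurj s₂
      replace h : φ s₁ = φ s₂ := h
      have hxy : mk (MvPolynomial.C d * x - MvPolynomial.C c * y) = 0 := by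
        rw [← hφ', map_sub, map_mul, map_mul, hx, hy,
          show fP (MvPolynomial.C c) = MvPolynomial.C (algebraMap R k c) from MvPolynomial.map_C _ _,
          show fP (MvPolynomial.C d) = MvPolynomial.C (algebraMap R k d) from MvPolynomial.map_C _ _]
        simp only [map_sub, map_mul, h]
        ring
      replace hxy : algebraMap P T (MvPolynomial.C d * x - MvPolynomial.C c * y) ∈
          (p.map (algebraMap R P)).map (algebraMap P T) := by
        rw [Ideal.map_map, ← IsScalarTower.algebraMap_eq]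
        exact Ideal.Quotient.eq_zero_iff_mem.1 hxy
      obtain ⟨t, ht, ht'⟩ := (IsLocalization.algebraMap_mem_map_algebraMap_iff Q.primeCompl T _ _).1 hxy
      refine ⟨⟨fP t, fun h' => ht (hQb ▸ h')⟩, ?_⟩
      have h0 : fP (t * (MvPolynomial.C d * x - MvPolynomial.C c * y)) = 0 := by
        refine (Ideal.map_le_iff_le_comap.2 ?_ : p.map (algebraMap R P) ≤ RingHom.ker fP) ht'
        intro a ha
        change fP (MvPolynomial.C a) = 0
        rw [show fP (MvPolynomial.C a) = MvPolynomial.C (algebraMap R k a) from MvPolynomial.map_C _ _,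
          (algebraMap_eq_zero_iff_mem p a).2 ha, map_zero]
      rw [map_mul, map_sub, map_mul, map_mul, hx, hy,
        show fP (MvPolynomial.C c) = MvPolynomial.C (algebraMap R k c) from MvPolynomial.map_C _ _,
        show fP (MvPolynomial.C d) = MvPolynomial.C (algebraMap R k d) from MvPolynomial.map_C _ _] at h0
      change fP t * s₁ = fP t * s₂
      refine ((hc c hc').mul (hc d hd')).mul_left_cancel ?_
      linear_combination h0
  have : IsRegularLocalRing (Localization.AtPrime Qb) := IsRegularRing.isRegularLocalRing_localization Qb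
  have : IsRegularLocalRing (T ⧸ m) := IsRegularLocalRing.of_ringEquiv
    (IsLocalization.algEquiv Qb.primeCompl (Localization.AtPrime Qb) (T ⧸ m)).toRingEquiv
  exact Depth.isCohenMacaulayLocalRing_of_isRegularLocalRing

variable {R A : Type u} [CommRing R] [CommRing A] [IsNoetherianRing R] [Algebra R A]

/-- the grade of `ker ψ` at a prime is at least `n - d` -/
theorem le_idealDepth (n : ℕ) (ψ : MvPolynomial (Fin n) R →ₐ[R] A) (hψ : Function.Surjective ψ)
    (q : PrimeSpectrum A) (d : ℕ)
    (hd : FlatMor.fibreDimAt (Spec.map (CommRingCat.ofHom (algebraMap R A))) q ≤ d) :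
    ((n - d : ℕ) : ℕ∞) ≤ LocCoh.idealDepth
      ((RingHom.ker ψ.toRingHom).map
        (algebraMap (MvPolynomial (Fin n) R) (Localization.AtPrime (q.asIdeal.comap ψ.toRingHom))))
      (Localization.AtPrime (q.asIdeal.comap ψ.toRingHom)) := by
  have : Algebra.FiniteType R A := Algebra.FiniteType.of_surjective ψ hψ
  let P := MvPolynomial (Fin n) R
  let Q : Ideal P := q.asIdeal.comap ψ.toRingHom
  let T := Localization.AtPrime Q
  let p : Ideal R := q.asIdeal.comap (algebraMap R A)
  have hQp : Q.LiesOver p := ⟨by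
    change q.asIdeal.comap (algebraMap R A) = (q.asIdeal.comap ψ.toRingHom).comap (algebraMap R P)
    rw [Ideal.comap_comap, show ψ.toRingHom.comp (algebraMap R P) = algebraMap R A from ψ.comp_algebraMap]⟩
  let k := p.ResidueField
  let F := k ⊗[R] A
  let S := MvPolynomial (Fin n) k
  let g := ShriekFlatBC.presentation (R' := k) ψ
  have hgs := ShriekFlatBC.presentation_surjective (R' := k) ψ hψ
  obtain ⟨qb, hqb, hdim⟩ : ∃ qb : PrimeSpectrum F, PrimeSpectrum.comap (algebraMap A F) qb = q ∧
      FlatMor.fibreDimAt (Spec.map (CommRingCat.ofHom (algebraMap R A))) q =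
        FlatMor.localDim (PrimeSpectrum F) qb :=
    Omega.SmoothFibreDim.fibreDimAt_eq_localDim_fiber R A q
  have hF : Algebra.FiniteType k F := inferInstance
  replace hd : FlatMor.localDim (PrimeSpectrum F) qb ≤ d := hdim ▸ hd
  let Qb : PrimeSpectrum S := PrimeSpectrum.comap g.toRingHom qb
  let fP : P →+* S := MvPolynomial.map (algebraMap R k)
  have hsq : g.toRingHom.comp fP = (algebraMap A F).comp ψ.toRingHom :=
    RingHom.ext fun x => ShriekFlatBC.presentation_map ψ x
  have hQb : Qb.asIdeal.comap fP = Q := by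
    change (qb.asIdeal.comap g.toRingHom).comap fP = q.asIdeal.comap ψ.toRingHom
    rw [Ideal.comap_comap, hsq, ← Ideal.comap_comap]
    exact congrArg (fun x : PrimeSpectrum A => x.asIdeal.comap ψ.toRingHom) hqb
  obtain ⟨r, hA, hS⟩ := exists_dims n g hgs qb d hd
  -- the closed fibre
  let R₀ := Localization.AtPrime p
  let : Algebra R₀ T := (Localization.localRingHom p Q (algebraMap R P) hQp.over).toAlgebra
  have : IsScalarTower R R₀ T := IsScalarTower.of_algebraMap_eq fun x => by
    change algebraMap R T x = Localization.localRingHom p Q (algebraMap R P) hQp.over (algebraMap R R₀ x)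
    rw [Localization.localRingHom_to_map, ← IsScalarTower.algebraMap_apply]
  have : IsLocalHom (algebraMap R₀ T) := Localization.isLocalHom_localRingHom p Q (algebraMap R P) hQp.over
  have : Module.Flat R T := Module.Flat.trans R P T
  have : Module.Flat R₀ T := (Module.flat_iff_of_isLocalization R₀ p.primeCompl T).2 inferInstance
  let m := (IsLocalRing.maximalIdeal R₀).map (algebraMap R₀ T)
  have hm : m = p.map (algebraMap R T) := by
    rw [IsScalarTower.algebraMap_eq R R₀ T, ← Ideal.map_map, IsLocalization.AtPrime.map_eq_maximalIdeal p R₀]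
  have hmle : ∀ Q' : Ideal P, p ≤ Q'.comap (algebraMap R P) → m ≤ Q'.map (algebraMap P T) := fun Q' h => by
    rw [hm, IsScalarTower.algebraMap_eq R P T, ← Ideal.map_map]
    exact Ideal.map_mono (Ideal.map_le_iff_le_comap.2 h)
  have hlow : (Order.height Qb : WithBot ℕ∞) ≤ ringKrullDim (T ⧸ m) := by
    refine height_le_ringKrullDim_quotient Q m fP (comap_map_injective p n) Qb hQb fun s' _ => hmle _ ?_
    intro a ha
    change fP (algebraMap R P a) ∈ s'.asIdeal
    rw [show fP (algebraMap R P a) = MvPolynomial.C (algebraMap R k a) from MvPolynomial.map_C _ _,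
      show algebraMap R k a = 0 from (Ideal.algebraMap_residueField_eq_zero).2 ha, map_zero]
    exact zero_mem _
  -- the closed fibre of the quotient
  let J := (RingHom.ker ψ.toRingHom).map (algebraMap P T)
  let pp : PrimeSpectrum R := ⟨p, inferInstance⟩
  let H := PrimeSpectrum.preimageOrderIsoFiber R A pp
  have hup : ringKrullDim (T ⧸ (m ⊔ J)) ≤ (Order.height qb : WithBot ℕ∞) := by
    have hkerle : ∀ Q' : PrimeSpectrum P, (m ⊔ J).comap (algebraMap P T) ≤ Q'.asIdeal →
        RingHom.ker ψ.toRingHom ≤ Q'.asIdeal :=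
      fun Q' h => le_trans Ideal.le_comap_map (le_trans (Ideal.comap_mono le_sup_right) h)
    let toA : ∀ Q' : PrimeSpectrum P, RingHom.ker ψ.toRingHom ≤ Q'.asIdeal → PrimeSpectrum A := fun Q' h =>
      ⟨Q'.asIdeal.map ψ.toRingHom, Ideal.map_isPrime_of_surjective hψ h⟩
    have htoA : ∀ Q' h, (toA Q' h).asIdeal.comap ψ.toRingHom = Q'.asIdeal := fun Q' h => by
      change (Q'.asIdeal.map ψ.toRingHom).comap ψ.toRingHom = _
      rw [Ideal.comap_map_of_surjective ψ.toRingHom hψ, ← RingHom.ker_eq_comap_bot, sup_eq_left.2 h]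
    have hmem : ∀ Q' h, Q'.asIdeal ≤ Q → (m ⊔ J).comap (algebraMap P T) ≤ Q'.asIdeal →
        PrimeSpectrum.comap (algebraMap R A) (toA Q' h) = pp := fun Q' h h1 h2 => PrimeSpectrum.ext (by
      change (toA Q' h).asIdeal.comap (algebraMap R A) = p
      rw [← ψ.comp_algebraMap, ← Ideal.comap_comap]
      change ((toA Q' h).asIdeal.comap ψ.toRingHom).comap (algebraMap R P) = p
      rw [htoA _ h]
      refine le_antisymm ((Ideal.comap_mono h1).trans hQp.over.ge) fun a ha => h2 ?_
      refine Ideal.mem_sup_left ?_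
      rw [hm, ← IsScalarTower.algebraMap_apply]
      exact Ideal.mem_map_of_mem _ ha)
    refine ringKrullDim_quotient_le Q (m ⊔ J) qb
      (fun Q' h1 h2 => H ⟨toA Q' (hkerle Q' h2), hmem Q' (hkerle Q' h2) h1 h2⟩)
      (fun Q₁ Q₂ h₁ h₁' h₂ h₂' hlt => H.strictMono (lt_of_le_not_ge
        (show (toA Q₁ (hkerle Q₁ h₁')).asIdeal ≤ (toA Q₂ (hkerle Q₂ h₂')).asIdeal from Ideal.map_mono hlt.le)
        fun hge => hlt.not_ge (by
          have := Ideal.comap_mono (f := ψ.toRingHom) (show (toA Q₂ (hkerle Q₂ h₂')).asIdeal ≤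
            (toA Q₁ (hkerle Q₁ h₁')).asIdeal from hge)
          rwa [htoA _ (hkerle Q₂ h₂'), htoA _ (hkerle Q₁ h₁')] at this))) fun Q' h1 h2 => ?_
    rw [show qb = H ⟨q, rfl⟩ from H.symm_apply_eq.1 (Subtype.ext hqb)]
    refine H.monotone ?_
    change (toA Q' (hkerle Q' h2)).asIdeal ≤ q.asIdeal
    exact Ideal.map_le_iff_le_comap.2 h1
  -- Cohen-Macaulay closed fibre
  have hCM : LocCoh.IsCohenMacaulayLocalRing (T ⧸ m) := by
    rw [hm]
    exact isCohenMacaulay_closedFibre n Q p hQp.over.symm k Qb.asIdeal hQb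
  have hJ : J ≠ ⊤ := by
    refine ne_top_of_le_ne_top (IsLocalRing.maximalIdeal.isMaximal T).ne_top ?_
    rw [← IsLocalization.AtPrime.map_eq_maximalIdeal Q T]
    refine Ideal.map_mono fun x hx => ?_
    change ψ x ∈ q.asIdeal
    rw [show ψ x = 0 from hx]
    exact zero_mem _
  have key := S0358.result R₀ T hCM J hJ
  have h1 : (Order.height Qb : WithBot ℕ∞) ≤
      (Order.height qb : WithBot ℕ∞) + ((LocCoh.idealDepth J T : ℕ∞) : WithBot ℕ∞) :=
    hlow.trans (key.trans (add_le_add hup le_rfl))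
  change ((n - d : ℕ) : ℕ∞) ≤ LocCoh.idealDepth J T
  generalize LocCoh.idealDepth J T = e at h1 ⊢
  generalize Order.height Qb = a at h1 hS
  generalize Order.height qb = b at h1 hA
  induction e with
  | top => simp
  | coe e =>
    induction a with
    | top =>
      simp only [← WithBot.coe_natCast, ← WithBot.coe_add, WithBot.coe_eq_coe, add_top] at hS
      simp at hS
    | coe a =>
      induction b with
      | top =>
        simp only [← WithBot.coe_natCast, ← WithBot.coe_add, WithBot.coe_le_coe, top_add] at hA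
        simp at hA
      | coe b =>
        norm_cast at h1 hA hS ⊢
        omega

end Groth.Agent.DualCx.FibreGrade
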