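import Groth.Agent.DualCx.Frob
import Groth.Agent.DualCx.Indep
import Mathlib.RingTheory.TensorProduct.MvPolynomial

/-!
# Upper shriek of a finite ring map is the right adjoint of restriction
-/

universe u

open CategoryTheory CategoryTheory.Limits

attribute [local instance] HasDerivedCategory.standard MvPolynomial.algebraMvPolynomial

namespace Groth.Agent.DualCx.FiniteShriek

open BaseChange (FD)

variable {R : Type u} [CommRing R]

/-- the case of a finite free algebra with dual bases -/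
theorem nonempty_free {S : Type u} [CommRing S] [Algebra R S] (F : Frob.Data R S) (k : ℕ)
    (π : MvPolynomial (Fin k) R →ₐ[R] S) {Rπ : Dual.D (MvPolynomial (Fin k) R) ⥤ Dual.D S}
    (adj : DRing.restrictD π.toRingHom ⊣ Rπ) {R' : Dual.D R ⥤ Dual.D S}
    (adjR : DRing.restrictD (algebraMap R S) ⊣ R') (K : Dual.D R) :
    Nonempty ((Rπ.obj ((FD R (MvPolynomial (Fin k) R)).obj K))⟦(k : ℤ)⟧ ≅ R'.obj K) := by
  have : Module.Free R S := Module.Free.of_basis F.b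
  let F' : Frob.Data (MvPolynomial (Fin k) R) (MvPolynomial (Fin k) S) :=
    Frob.baseChange (R := R) (S := S) inferInstance F
  have : Module.Free (MvPolynomial (Fin k) R) (MvPolynomial (Fin k) S) := Module.Free.of_basis F'.b
  let s : MvPolynomial (Fin k) S →ₐ[S] S :=
    MvPolynomial.aeval fun i => π (MvPolynomial.X i)
  have hs : s.toRingHom.comp (algebraMap (MvPolynomial (Fin k) R) (MvPolynomial (Fin k) S)) =
      π.toRingHom := by
    refine MvPolynomial.ringHom_ext (fun r => ?_) (fun i => ?_)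
    · simp [s]
    · simp [s]
  obtain ⟨Rm, ⟨adjm⟩⟩ :=
    RAdj.exists_adj (algebraMap (MvPolynomial (Fin k) R) (MvPolynomial (Fin k) S))
  obtain ⟨Rs, ⟨adjs⟩⟩ := RAdj.exists_adj s.toRingHom
  obtain ⟨c⟩ := RAdj.nonempty_comp _ _ π.toRingHom hs adjm adjs adj
    ((FD R (MvPolynomial (Fin k) R)).obj K)
  obtain ⟨f⟩ := Frob.nonempty_iso_FD F' adjm ((FD R (MvPolynomial (Fin k) R)).obj K)
  obtain ⟨g⟩ := Frob.nonempty_iso_FD F adjR K
  obtain ⟨h₁⟩ := Comp.nonempty_iso R (MvPolynomial (Fin k) R) (MvPolynomial (Fin k) S) K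
  obtain ⟨h₂⟩ := Comp.nonempty_iso R S (MvPolynomial (Fin k) S) K
  obtain ⟨σ⟩ := RAdj.nonempty_shiftIso adjs
    ((FD S (MvPolynomial (Fin k) S)).obj ((FD R S).obj K)) (k : ℤ)
  obtain ⟨r⟩ := Sec.nonempty_iso k S (MvPolynomial (Fin k) S) AlgEquiv.refl s Rs adjs ((FD R S).obj K)
  exact ⟨(shiftFunctor _ _).mapIso (c ≪≫ Rs.mapIso (f ≪≫ h₁.symm ≪≫ h₂)) ≪≫ σ.symm ≪≫ r ≪≫ g.symm⟩

/-- finite algebras -/
theorem nonempty_finite {A : Type u} [CommRing A] [Algebra R A] [Module.Finite R A] (n : ℕ)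
    (ψ : MvPolynomial (Fin n) R →ₐ[R] A) (hψ : Function.Surjective ψ)
    [DRing.HasLBaseChange (algebraMap R (MvPolynomial (Fin n) R))]
    (Rψ : Dual.D (MvPolynomial (Fin n) R) ⥤ Dual.D A) (adj : DRing.restrictD ψ.toRingHom ⊣ Rψ)
    {R' : Dual.D R ⥤ Dual.D A} (adjR : DRing.restrictD (algebraMap R A) ⊣ R') (K : Dual.D R) :
    Nonempty (Dual2.shriekVia n Rψ K ≅ R'.obj K) := by
  obtain ⟨S, _, _, p, hp, ⟨F⟩⟩ := Frob.exists_surjective R A
  have : Module.Finite R S := Module.Finite.of_basis F.b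
  have : Algebra.FiniteType R S := inferInstance
  obtain ⟨k, π, hπ⟩ := Algebra.FiniteType.iff_quotient_mvPolynomial''.mp this
  obtain ⟨Rπ, ⟨adjπ⟩⟩ := RAdj.exists_adj π.toRingHom
  obtain ⟨Rp, ⟨adjp⟩⟩ := RAdj.exists_adj p.toRingHom
  obtain ⟨R₁, ⟨adj₁⟩⟩ := RAdj.exists_adj (p.comp π).toRingHom
  obtain ⟨RS, ⟨adjS⟩⟩ := RAdj.exists_adj (algebraMap R S)
  obtain ⟨a⟩ := Indep.nonempty_shriekVia_iso n ψ hψ Rψ adj k (p.comp π) (hp.comp hπ) adj₁ K
  obtain ⟨b⟩ := RAdj.nonempty_comp π.toRingHom p.toRingHom (p.comp π).toRingHom rfl adjπ adjp adj₁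
    ((FD R (MvPolynomial (Fin k) R)).obj K)
  obtain ⟨σ⟩ := RAdj.nonempty_shiftIso adjp (Rπ.obj ((FD R (MvPolynomial (Fin k) R)).obj K)) (k : ℤ)
  obtain ⟨c⟩ := nonempty_free F k π adjπ adjS K
  obtain ⟨d⟩ := RAdj.nonempty_comp (algebraMap R S) p.toRingHom (algebraMap R A) p.comp_algebraMap
    adjS adjp adjR K
  exact ⟨a ≪≫ (shiftFunctor _ _).mapIso b ≪≫ σ.symm ≪≫ Rp.mapIso c ≪≫ d.symm⟩

end Groth.Agent.DualCx.FiniteShriek
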