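import Groth.Agent.DualCx.BaseChange
import Groth.Agent.DualCx.Criterion

/-!
# Flat base change of dualizing complexes
-/

universe u

open CategoryTheory CategoryTheory.Limits
open scoped TensorProduct

attribute [local instance] HasDerivedCategory.standard

namespace Groth.Agent.DualCx.FlatBC

open BaseChange (FD ext BijAt)
open Devissage (E)

variable {A B : Type u} [CommRing A] [CommRing B] [Algebra A B] [Module.Flat A B]

theorem isGE_FD (K : Dual.D A) (a : ℤ) [K.IsGE a] : ((FD A B).obj K).IsGE a :=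
  DTrunc.isGE_mapDerivedCategory (ext A B) K a

theorem bijAt_bounded [IsNoetherianRing A] (K : Dual.D A) (a' : ℤ) [K.IsGE a'] (X : Dual.D A)
    (a b : ℤ) (hge : X.IsGE a) (hle : X.IsLE b) (hf : ∀ i, Module.Finite A (Dual.HD A X i)) :
    ∀ j, BijAt (B := B) X K j := by
  refine Criterion.bounded_induction (P := fun X => ∀ j, BijAt (B := B) X K j)
    (fun X hX j => BaseChange.bijAt_isZero hX K j) (fun X Y e h j => ?_)
    (fun T hT h1 h3 j => BaseChange.bijAt_middle hT h1 h3 j) (fun q M hM j => ?_) X a b hge hle hf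
  · exact (LinBaseChange.bij_iff_of_iso A B (FD A B) e (Iso.refl _)).mp (h j)
  · refine (LinBaseChange.bij_iff_of_iso A B (FD A B)
      (((DerivedCategory.singleFunctors (ModuleCat.{u} A)).shiftIso (-q) q 0 (by omega)).app M)
      (Iso.refl _)).mp ?_
    exact (BaseChange.bijAt_shift (-q) j (j + q) (by omega)).mpr
      (BaseChange.bijAt_finite K a' (j + q) M)

/-- shift of the target commutes with `FD` -/
noncomputable def shiftFD (K : Dual.D A) (j : ℤ) :
    (FD A B).obj (K⟦j⟧) ≅ ((FD A B).obj K)⟦j⟧ :=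
  ((FD A B).commShiftIso j).app K

/-- `FD(M[0]) = (B ⊗ M)[0]` -/
noncomputable def FDinD (M : Type u) [AddCommGroup M] [Module A M] :
    (FD A B).obj (Dual.inD A M) ≅ Dual.inD B (B ⊗[A] M) :=
  ((ext A B).mapDerivedCategorySingleFunctor 0).app (ModuleCat.of A M) ≪≫
    (DerivedCategory.singleFunctor (ModuleCat.{u} B) 0).mapIso
      (BaseChange.extEquiv A B (ModuleCat.of A M)).toModuleIso.symm

/-- `Hom_B(B ⊗ M, K_B[j]) = B ⊗ Hom_A(M, K[j])` as additive groups -/
noncomputable def homEquiv [IsNoetherianRing A] (K : Dual.D A) (a : ℤ) [K.IsGE a] (M : Type u)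
    [AddCommGroup M] [Module A M] [Module.Finite A M] (j : ℤ) :
    B ⊗[A] (E M K j) ≃+ E (B ⊗[A] M) ((FD A B).obj K) j :=
  (AddEquiv.ofBijective (LinBaseChange.β A B (FD A B) (Dual.inD A M) (K⟦j⟧))
    (BaseChange.bijAt_finite K a j M)).trans
    (CategoryTheory.Linear.homCongr B (FDinD M) (shiftFD K j)).toAddEquiv

theorem homEquiv_smul [IsNoetherianRing A] (K : Dual.D A) (a : ℤ) [K.IsGE a] (M : Type u)
    [AddCommGroup M] [Module A M] [Module.Finite A M] (j : ℤ) (c : B) (t : B ⊗[A] (E M K j)) :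
    homEquiv K a M j (c • t) = c • homEquiv K a M j t := by
  have : LinBaseChange.β A B (FD A B) (Dual.inD A M) (K⟦j⟧) (c • t) =
      c • LinBaseChange.β A B (FD A B) (Dual.inD A M) (K⟦j⟧) t := by
    induction t using TensorProduct.induction_on with
    | zero => simp
    | tmul b f =>
      rw [TensorProduct.smul_tmul', LinBaseChange.β_tmul, LinBaseChange.β_tmul, smul_smul,
        smul_eq_mul]
    | add x y hx hy => simp only [smul_add, map_add, hx, hy]
  simp only [homEquiv, AddEquiv.trans_apply, AddEquiv.ofBijective_apply, this]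
  exact (CategoryTheory.Linear.homCongr B (FDinD M) (shiftFD K j)).map_smul c _

/-- The linear version. -/
noncomputable def homLEquiv [IsNoetherianRing A] (K : Dual.D A) (a : ℤ) [K.IsGE a] (M : Type u)
    [AddCommGroup M] [Module A M] [Module.Finite A M] (j : ℤ) :
    B ⊗[A] (E M K j) ≃ₗ[B] E (B ⊗[A] M) ((FD A B).obj K) j :=
  (homEquiv K a M j).toLinearEquiv (homEquiv_smul K a M j)

theorem subsingleton_of_base [IsNoetherianRing A] (K : Dual.D A) (a : ℤ) [K.IsGE a] (M : Type u)
    [AddCommGroup M] [Module A M] [Module.Finite A M] (N : Type u) [AddCommGroup N] [Module B N]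
    (e : B ⊗[A] M ≃ₗ[B] N) (j : ℤ) (h : Subsingleton (E M K j)) :
    Subsingleton (E N ((FD A B).obj K) j) := by
  have : Subsingleton (B ⊗[A] E M K j) := inferInstance
  exact ((homEquiv K a M j).toEquiv.trans
    (Devissage.congrE e _ j).toEquiv).symm.subsingleton

/-- `A/I` base changes to `B/IB`. -/
theorem nonempty_quotient (I : Ideal A) :
    Nonempty (B ⊗[A] (A ⧸ I) ≃ₗ[B] B ⧸ I.map (algebraMap A B)) := by
  let J := I.map (algebraMap A B)
  let m : A ⧸ I →ₗ[A] B ⧸ J := Submodule.liftQ I
    (LinearMap.toSpanSingleton A (B ⧸ J) 1) fun a ha => by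
      rw [LinearMap.mem_ker, LinearMap.toSpanSingleton_apply, Algebra.smul_def, mul_one,
        IsScalarTower.algebraMap_apply A B (B ⧸ J), Ideal.Quotient.algebraMap_eq,
        Ideal.Quotient.eq_zero_iff_mem]
      exact Ideal.mem_map_of_mem _ ha
  let f : B ⊗[A] (A ⧸ I) →ₗ[B] B ⧸ J := m.liftBaseChange B
  let g : B ⧸ J →ₗ[B] B ⊗[A] (A ⧸ I) :=
    Submodule.liftQ J (LinearMap.toSpanSingleton B _ (1 ⊗ₜ Submodule.Quotient.mk (1 : A))) (by
      refine Ideal.map_le_iff_le_comap.mpr fun a ha => ?_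
      rw [Ideal.mem_comap, LinearMap.mem_ker, LinearMap.toSpanSingleton_apply, algebraMap_smul,
        ← TensorProduct.tmul_smul, ← Submodule.Quotient.mk_smul,
        (Submodule.Quotient.mk_eq_zero I).mpr (by rwa [smul_eq_mul, mul_one]), TensorProduct.tmul_zero])
  refine ⟨LinearEquiv.ofLinear f g ?_ ?_⟩
  · refine Submodule.linearMap_qext _ (LinearMap.ext_ring ?_)
    change f (((1 : B) : B) • ((1 : B) ⊗ₜ Submodule.Quotient.mk (1 : A))) = _
    rw [one_smul]
    change (1 : B) • ((1 : A) • (1 : B ⧸ J)) = _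
    rw [one_smul, one_smul]
    rfl
  · refine TensorProduct.AlgebraTensorModule.ext fun b x => ?_
    obtain ⟨a, rfl⟩ := Submodule.Quotient.mk_surjective I x
    have h1 : f (b ⊗ₜ Submodule.Quotient.mk a) = Submodule.Quotient.mk (b * algebraMap A B a) := by
      change b • (a • (1 : B ⧸ J)) = _
      rw [Algebra.smul_def a, mul_one, IsScalarTower.algebraMap_apply A B (B ⧸ J),
        Algebra.smul_def, ← map_mul]
      rfl
    rw [LinearMap.comp_apply, h1, LinearMap.id_apply]
    change (b * algebraMap A B a) • ((1 : B) ⊗ₜ[A] Submodule.Quotient.mk (1 : A)) = _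
    rw [mul_smul, algebraMap_smul, ← TensorProduct.tmul_smul, ← Submodule.Quotient.mk_smul,
      smul_eq_mul, mul_one, TensorProduct.smul_tmul', smul_eq_mul, mul_one]

/-- Flat base change of a dualizing complex, given a bound at the closed points. -/
theorem isDualizing [IsNoetherianRing B] {ω : Dual.D A} (hω : Dual.IsDualizing A ω) (b₀ : ℤ)
    (hm : ∀ i, b₀ < i → ∀ m : Ideal B, m.IsMaximal →
      Subsingleton (E (B ⧸ m) ((FD A B).obj ω) i)) :
    Dual.IsDualizing B ((FD A B).obj ω) := by
  have := hω.isNoetherianRing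
  obtain ⟨a, b, hab⟩ := Residue.exists_cohomology_bounds hω
  have hge : ω.IsGE a := (DerivedCategory.isGE_iff ω a).mpr fun i hi =>
    (DRing.DBasic.subsingleton_HD_iff_isZero ω i).mp (hab i (Or.inl hi))
  have hle : ω.IsLE b := (DerivedCategory.isLE_iff ω b).mpr fun i hi =>
    (DRing.DBasic.subsingleton_HD_iff_isZero ω i).mp (hab i (Or.inr hi))
  have hfin : ∀ i, Module.Finite B (Dual.HD B ((FD A B).obj ω) i) := fun i =>
    have := hω.finite_cohomology i
    BaseChange.finite_HD A B ω i
  have hgeB : ((FD A B).obj ω).IsGE a := isGE_FD ω a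
  have hβ := bijAt_bounded (B := B) ω a ω a b hge hle hω.finite_cohomology
  refine ⟨inferInstance, ⟨a, b₀, Criterion.exists_amplitude a hfin b₀ hm⟩, hfin, ?_, fun j hj => ?_⟩
  · have h0 : LinBaseChange.Bij A B (FD A B) ω ω :=
      (LinBaseChange.bij_iff_of_iso A B (FD A B) (Iso.refl ω)
        ((shiftFunctorZero (Dual.D A) ℤ).app ω)).mp (hβ 0)
    let eA : A ≃ₗ[A] (ω ⟶ ω) :=
      LinearEquiv.ofBijective (LinearMap.toSpanSingleton A _ (𝟙 ω)) hω.toEnd_bijective
    have h1 := h0.comp
      ((TensorProduct.rid A B).symm.trans (LinearEquiv.lTensor B eA)).bijective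
    convert h1 using 1
    funext c
    simp [eA]
  · have := hω.ext_self_subsingleton j hj
    have : Subsingleton (B ⊗[A] (ω ⟶ ω⟦j⟧)) := inferInstance
    exact ((AddEquiv.ofBijective _ (hβ j)).toEquiv.trans
      (CategoryTheory.Linear.homCongr B (Iso.refl _) (shiftFD ω j)).toEquiv).symm.subsingleton

/-- Base change in the derived sense agrees with `FD` for flat algebras. -/
theorem nonempty_LBaseChange [DRing.HasLBaseChange (algebraMap A B)] (K : Dual.D A) :
    Nonempty ((DRing.LBaseChange (algebraMap A B)).obj K ≅ (FD A B).obj K) := by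
  obtain ⟨P, hP, -, ⟨e⟩⟩ := DRing.DBasic.exists_kproj_iso K
  exact ⟨(DRing.LBaseChange (algebraMap A B)).mapIso e.symm ≪≫
    DRing.LTensor.LBaseChangeIso (algebraMap A B) (DRing.KFlat.isKFlat_of_isKProjective P) ≪≫
    ((ext A B).mapDerivedCategoryFactors.app P).symm ≪≫ (FD A B).mapIso e⟩

omit [Module.Flat A B] [CommRing A] [Algebra A B] in
/-- transport along isomorphisms -/
theorem isDualizing_of_iso {K L : Dual.D B} (e : K ≅ L) (h : Dual.IsDualizing B K) :
    Dual.IsDualizing B L := by
  obtain ⟨a, b, hab⟩ := h.finite_injective_dimension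
  let c : (K ⟶ K) ≃ₗ[B] (L ⟶ L) := CategoryTheory.Linear.homCongr B e e
  refine ⟨h.isNoetherianRing, ⟨a, b, fun M _ _ i hi => ?_⟩, fun i => ?_, ?_, fun i hi => ?_⟩
  · have := hab M i hi
    exact (Hom.congr B (Iso.refl _) ((shiftFunctor (Dual.D B) i).mapIso e)).symm.toEquiv.subsingleton
  · have := h.finite_cohomology i
    exact Module.Finite.equiv ((DRing.DBasic.HF i).mapIso e).toLinearEquiv
  · have := c.bijective.comp h.toEnd_bijective
    convert this using 1
    funext x
    simp [c, CategoryTheory.Linear.homCongr_apply]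
  · have := h.ext_self_subsingleton i hi
    exact (Hom.congr B e ((shiftFunctor (Dual.D B) i).mapIso e)).symm.toEquiv.subsingleton

end Groth.Agent.DualCx.FlatBC
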