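import Groth.Agent.DualCx.Indep
import Groth.Agent.DRing.EpiRing
import Groth.Agent.KFlat.CxAdj
import Mathlib.CategoryTheory.Localization.Adjunction
import Mathlib.CategoryTheory.Monad.Adjunction
import Mathlib.RingTheory.TensorProduct.MvPolynomial
import Mathlib.RingTheory.Flat.FaithfullyFlat.Algebra
import Mathlib.AlgebraicGeometry.Morphisms.Flat

/-!
# Upper shriek along an open immersion of affine schemes
-/

universe u

open CategoryTheory CategoryTheory.Limits CategoryTheory.Pretriangulated
open scoped TensorProduct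

attribute [local instance] HasDerivedCategory.standard MvPolynomial.algebraMvPolynomial

namespace Groth.Agent.DualCx.FlatEpi

open BaseChange (FD ext)
open Groth.Agent.DRing.DBasic

section Adj

variable {C₁ C₂ : Type*} [Category* C₁] [Category* C₂] [Abelian C₁] [Abelian C₂]
  [HasDerivedCategory C₁] [HasDerivedCategory C₂]

/-- adjoint exact functors give adjoint derived functors -/
theorem nonempty_mapAdj {F : C₁ ⥤ C₂} {G : C₂ ⥤ C₁} (adj : F ⊣ G)
    [F.Additive] [PreservesFiniteLimits F] [PreservesFiniteColimits F]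
    [G.Additive] [PreservesFiniteLimits G] [PreservesFiniteColimits G] :
    Nonempty (F.mapDerivedCategory ⊣ G.mapDerivedCategory) := by
  let : CatCommSq (F.mapHomologicalComplex (ComplexShape.up ℤ)) DerivedCategory.Q DerivedCategory.Q
      F.mapDerivedCategory := ⟨F.mapDerivedCategoryFactors.symm⟩
  let : CatCommSq (G.mapHomologicalComplex (ComplexShape.up ℤ)) DerivedCategory.Q DerivedCategory.Q
      G.mapDerivedCategory := ⟨G.mapDerivedCategoryFactors.symm⟩
  exact ⟨(KFlat.CxAdj.mapCx adj (ComplexShape.up ℤ)).localization DerivedCategory.Q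
    (HomologicalComplex.quasiIso C₁ (ComplexShape.up ℤ)) DerivedCategory.Q
    (HomologicalComplex.quasiIso C₂ (ComplexShape.up ℤ)) _ _⟩

end Adj

variable {P P' : Type u} [CommRing P] [CommRing P'] [Algebra P P'] [Module.Flat P P']

/-- the derived adjunction -/
theorem nonempty_adj : Nonempty (FD P P' ⊣ DRing.restrictD (algebraMap P P')) :=
  nonempty_mapAdj (ModuleCat.extendRestrictScalarsAdj.{u} (algebraMap P P'))

section Epi

variable (hepi : Epi (CommRingCat.ofHom (algebraMap P P')))

include hepi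

omit [Module.Flat P P'] in
theorem nonempty_fullyFaithful_mod :
    Nonempty (ModuleCat.restrictScalars.{u} (algebraMap P P')).FullyFaithful :=
  ⟨{ preimage := fun {M N} g => ModuleCat.ofHom
      { toFun := fun x => g.hom x
        map_add' := fun x y => g.hom.map_add x y
        map_smul' := fun s x => DRing.EpiRing.map_smul_of_epi (algebraMap P P') hepi
          (M := M) (N := N) g.hom.toAddMonoidHom (fun r y => g.hom.map_smul r y) s x }
     map_preimage := fun _ => rfl
     preimage_map := fun _ => rfl }⟩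

/-- base change is left inverse to restriction -/
theorem nonempty_res_FD :
    Nonempty (DRing.restrictD (algebraMap P P') ⋙ FD P P' ≅ 𝟭 (Dual.D P')) := by
  obtain ⟨hff⟩ := nonempty_fullyFaithful_mod hepi
  have := hff.full
  have := hff.faithful
  obtain ⟨a⟩ := RAdj.nonempty_mapComp (ModuleCat.restrictScalars.{u} (algebraMap P P'))
    (ext P P') (ModuleCat.restrictScalars.{u} (RingHom.id P'))
    (ModuleCat.restrictScalarsId.{u} P' ≪≫
      (asIso (ModuleCat.extendRestrictScalarsAdj.{u} (algebraMap P P')).counit).symm)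
  obtain ⟨b⟩ := RAdj.nonempty_restrictId P'
  exact ⟨a.symm ≪≫ b⟩

/-- restriction along a flat epimorphism is fully faithful -/
theorem nonempty_fullyFaithful : Nonempty (DRing.restrictD (algebraMap P P')).FullyFaithful := by
  obtain ⟨a⟩ := nonempty_adj (P := P) (P' := P')
  obtain ⟨i⟩ := nonempty_res_FD hepi
  exact ⟨a.fullyFaithfulROfCompIsoId i⟩

/-- the right adjoint of restriction is left inverse to restriction -/
theorem nonempty_rightAdjoint_restrict {R : Dual.D P ⥤ Dual.D P'}
    (adj : DRing.restrictD (algebraMap P P') ⊣ R) (Y : Dual.D P') :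
    Nonempty (R.obj ((DRing.restrictD (algebraMap P P')).obj Y) ≅ Y) := by
  obtain ⟨hff⟩ := nonempty_fullyFaithful hepi
  have := hff.full
  have := hff.faithful
  exact ⟨(asIso adj.unit).symm.app Y⟩

omit hepi in
/-- modules killed by a flat extension -/
theorem smul_bijective {M : Type*} [AddCommGroup M] [Module P M] [Subsingleton (P' ⊗[P] M)] (t : P)
    (ht : ∀ q : Ideal P, q.IsPrime → t ∈ q → ∃ q' : Ideal P', q'.IsPrime ∧ q'.comap (algebraMap P P') = q) :
    Function.Bijective fun x : M => t • x := by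
  have key : ∀ x : M, ∃ b : P, x = (b * t) • x := by
    intro x
    let f : P →ₗ[P] M := LinearMap.toSpanSingleton P M x
    have hsup : LinearMap.ker f ⊔ Ideal.span {t} = ⊤ := by
      by_contra hne
      obtain ⟨q, hq, hle⟩ := Ideal.exists_le_maximal _ hne
      obtain ⟨q', hq', rfl⟩ := ht q hq.isPrime (hle (Submodule.mem_sup_right (Ideal.mem_span_singleton_self t)))
      let I : Ideal P := LinearMap.ker f
      have hinj : Function.Injective ((Submodule.liftQ I f le_rfl).lTensor P') :=
        Module.Flat.lTensor_preserves_injective_linearMap _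
          (LinearMap.ker_eq_bot.mp (Submodule.ker_liftQ_eq_bot I f le_rfl le_rfl))
      have hs : Subsingleton (P' ⊗[P] (P ⧸ I)) := hinj.subsingleton
      have hI : (algebraMap P P') '' I ⊆ q' := by
        rintro _ ⟨a, ha, rfl⟩
        exact hle (Submodule.mem_sup_left ha)
      have hIq : I.map (algebraMap P P') ≠ ⊤ := fun h => hq'.ne_top
        (top_le_iff.mp (h ▸ Ideal.span_le.mpr hI))
      obtain ⟨e⟩ := FlatBC.nonempty_quotient (A := P) (B := P') I
      have := e.symm.toEquiv.subsingleton
      exact hIq (Ideal.Quotient.subsingleton_iff.mp this)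
    obtain ⟨a, ha, c, hc, hac⟩ := Submodule.mem_sup.mp ((Ideal.eq_top_iff_one _).mp hsup)
    obtain ⟨b, rfl⟩ := Ideal.mem_span_singleton'.mp hc
    exact ⟨b, by
      conv_lhs => rw [← one_smul P x, ← hac, add_smul]
      rw [show a • x = 0 from LinearMap.mem_ker.mp ha, zero_add]⟩
  refine ⟨fun x y hxy => ?_, fun x => ?_⟩
  · obtain ⟨b, hb⟩ := key (x - y)
    rw [← sub_eq_zero, hb, mul_smul, smul_sub, sub_eq_zero.mpr hxy, smul_zero]
  · obtain ⟨b, hb⟩ := key x
    exact ⟨b • x, by simp only; rw [← mul_smul, mul_comm, ← hb]⟩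

omit [Module.Flat P P'] hepi in
theorem isIso_smul_id {Z : Dual.D P} (t : P)
    (h : ∀ i, Function.Bijective fun x : Dual.HD P Z i => t • x) : IsIso (t • 𝟙 Z) := by
  rw [isIso_iff_HF]
  intro i
  rw [Functor.map_smul, CategoryTheory.Functor.map_id, ConcreteCategory.isIso_iff_bijective]
  exact h i

section Shriek

variable {S : Type u} [CommRing S] (ψ : P →+* S) (t : P) (htψ : ψ t = 0)
  (ht : ∀ q : Ideal P, q.IsPrime → t ∈ q → ∃ q' : Ideal P', q'.IsPrime ∧ q'.comap (algebraMap P P') = q)

include htψ ht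

/-- maps out of objects killed by `t` only see the restriction to `P'` -/
theorem nonempty_shriek_res {Rψ : Dual.D P ⥤ Dual.D S} (adj : DRing.restrictD ψ ⊣ Rψ) (X : Dual.D P) :
    Nonempty (Rψ.obj X ≅ Rψ.obj ((DRing.restrictD (algebraMap P P')).obj ((FD P P').obj X))) := by
  obtain ⟨a⟩ := nonempty_adj (P := P) (P' := P')
  let η : X ⟶ (DRing.restrictD (algebraMap P P')).obj ((FD P P').obj X) := a.unit.app X
  obtain ⟨Z, p, δ, hT⟩ := distinguished_cocone_triangle η
  have hη : IsIso ((FD P P').map η) := by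
    obtain ⟨hff⟩ := nonempty_fullyFaithful hepi
    have := hff.full
    have := hff.faithful
    have h : (FD P P').map η ≫ a.counit.app ((FD P P').obj X) = 𝟙 ((FD P P').obj X) :=
      a.left_triangle_components X
    exact ⟨a.counit.app ((FD P P').obj X), h, by
      rw [← cancel_mono (a.counit.app ((FD P P').obj X)), Category.assoc, h, Category.id_comp]
      exact Category.comp_id _⟩
  have hZ : IsZero ((FD P P').obj Z) :=
    (Triangle.isZero₃_iff_isIso₁ _ ((FD P P').map_distinguished _ hT)).mpr hη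
  have hM : ∀ i, Function.Bijective fun x : Dual.HD P Z i => t • x := fun i =>
    have : Subsingleton (Dual.HD P' ((FD P P').obj Z) i) :=
      ModuleCat.subsingleton_of_isZero ((HF i).map_isZero hZ)
    have : Subsingleton (P' ⊗[P] Dual.HD P Z i) :=
      (BaseChange.HDEquiv P P' Z i).toEquiv.subsingleton
    smul_bijective t ht
  have hiso := isIso_smul_id t hM
  have hN : ∀ N : Dual.D S, t • 𝟙 ((DRing.restrictD ψ).obj N) = 0 := fun N => by
    let := ψ.toAlgebra
    have := RegEl.restrictD_map_smul (C := P) (B' := S) t (𝟙 N)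
    rw [show algebraMap P S t = 0 from htψ, zero_smul, Functor.map_zero,
      CategoryTheory.Functor.map_id] at this
    exact this.symm
  have hvan : ∀ (N : Dual.D S) (f : (DRing.restrictD ψ).obj N ⟶ Z), f = 0 := fun N f => by
    rw [← cancel_mono (t • 𝟙 Z), zero_comp, Linear.comp_smul, Category.comp_id,
      ← Category.id_comp f, ← Linear.smul_comp, hN, zero_comp]
  have hvan' : ∀ (N : Dual.D S) (f : (DRing.restrictD ψ).obj N ⟶ Z⟦(-1 : ℤ)⟧), f = 0 := fun N f => by
    apply (shiftFunctor (Dual.D P) (1 : ℤ)).map_injective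
    rw [Functor.map_zero]
    have h := hvan (N⟦(1 : ℤ)⟧) (((DRing.restrictD ψ).commShiftIso (1 : ℤ)).hom.app N ≫ f⟦(1 : ℤ)⟧' ≫
      (shiftFunctorCompIsoId (Dual.D P) (-1 : ℤ) 1 (by omega)).hom.app Z)
    rw [Preadditive.IsIso.comp_left_eq_zero] at h
    exact (Preadditive.IsIso.comp_right_eq_zero _ _).mp h
  have key : ∀ N : Dual.D S, Function.Bijective fun g : (DRing.restrictD ψ).obj N ⟶ X => g ≫ η := by
    intro N
    refine ⟨?_, fun f => ?_⟩
    · rw [show (fun g : (DRing.restrictD ψ).obj N ⟶ X => g ≫ η) =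
        ⇑(AddMonoidHom.mk' (fun g : (DRing.restrictD ψ).obj N ⟶ X => g ≫ η)
          fun x y => Preadditive.add_comp _ _ _ _ _ _) from rfl, injective_iff_map_eq_zero]
      intro g hg
      obtain ⟨u, hu⟩ := Triangle.coyoneda_exact₂ _ (inv_rot_of_distTriang _ hT) g hg
      exact hu.trans ((congrArg (· ≫ _) (hvan' N u)).trans zero_comp)
    · obtain ⟨g, hg⟩ := Triangle.coyoneda_exact₂ _ hT f (hvan N (f ≫ p))
      exact ⟨g, hg.symm⟩
  have : IsIso (Rψ.map η) := by
    refine (isIso_iff_yoneda_map_bijective _).mpr fun N => ?_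
    refine (congrArg Function.Bijective (funext fun g => ?_)).mp
      ((adj.homEquiv _ _).bijective.comp ((key N).comp (adj.homEquiv _ _).symm.bijective))
    simp only [Function.comp_apply]
    rw [Adjunction.homEquiv_naturality_right, Equiv.apply_symm_apply]
  exact ⟨asIso (Rψ.map η)⟩

end Shriek

end Epi

section OpenImmersion

variable {R R' : Type u} [CommRing R] [CommRing R'] [Algebra R R']

/-- primes of a base change of polynomial rings -/
theorem exists_prime {n : ℕ} (q : Ideal (MvPolynomial (Fin n) R)) [q.IsPrime] (p' : Ideal R')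
    [p'.IsPrime] (h : q.comap MvPolynomial.C = p'.comap (algebraMap R R')) :
    ∃ q' : Ideal (MvPolynomial (Fin n) R'), q'.IsPrime ∧
      q'.comap (algebraMap (MvPolynomial (Fin n) R) (MvPolynomial (Fin n) R')) = q := by
  let p : Ideal R := q.comap MvPolynomial.C
  let fK : p.ResidueField →+* q.ResidueField := Ideal.ResidueField.map p q MvPolynomial.C rfl
  let fL : p.ResidueField →+* p'.ResidueField := Ideal.ResidueField.map p p' (algebraMap R R') h
  let : Algebra p.ResidueField q.ResidueField := fK.toAlgebra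
  let : Algebra p.ResidueField p'.ResidueField := fL.toAlgebra
  have : Nontrivial (q.ResidueField ⊗[p.ResidueField] p'.ResidueField) :=
    Algebra.TensorProduct.nontrivial_of_algebraMap_injective_of_flat_left _ _ _ fL.injective
  obtain ⟨Q, hQ⟩ := Ideal.exists_maximal (q.ResidueField ⊗[p.ResidueField] p'.ResidueField)
  let π := Ideal.Quotient.mk Q
  let gK : q.ResidueField →+* _ := π.comp
    (Algebra.TensorProduct.includeLeftRingHom (R := p.ResidueField) (B := p'.ResidueField))
  let gL : p'.ResidueField →+* _ := π.comp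
    (Algebra.TensorProduct.includeRight (R := p.ResidueField) (A := q.ResidueField)).toRingHom
  let α : MvPolynomial (Fin n) R →+* _ := gK.comp (algebraMap _ q.ResidueField)
  let η : MvPolynomial (Fin n) R' →+* _ :=
    MvPolynomial.eval₂Hom (gL.comp (algebraMap R' p'.ResidueField)) fun i => α (MvPolynomial.X i)
  have hη : η.comp (algebraMap (MvPolynomial (Fin n) R) (MvPolynomial (Fin n) R')) = α := by
    refine MvPolynomial.ringHom_ext (fun r => ?_) (fun i => by simp [η])
    have hL : fL (algebraMap R p.ResidueField r) = algebraMap R' p'.ResidueField (algebraMap R R' r) := by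
      simp [fL]
    have hK : fK (algebraMap R p.ResidueField r) =
        algebraMap (MvPolynomial (Fin n) R) q.ResidueField (MvPolynomial.C r) := by
      simp [fK]
    have hc := congrArg π
      ((Algebra.TensorProduct.includeLeft (R := p.ResidueField) (S := p.ResidueField)
        (A := q.ResidueField) (B := p'.ResidueField)).commutes (algebraMap R p.ResidueField r) |>.trans
      ((Algebra.TensorProduct.includeRight (R := p.ResidueField)
        (A := q.ResidueField) (B := p'.ResidueField)).commutes (algebraMap R p.ResidueField r)).symm)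
    simp [η, α, gK, gL, ← hL, ← hK]
    exact hc.symm
  have hprime : IsDomain ((q.ResidueField ⊗[p.ResidueField] p'.ResidueField) ⧸ Q) :=
    Ideal.Quotient.isDomain Q
  refine ⟨RingHom.ker η, RingHom.ker_isPrime η, ?_⟩
  rw [RingHom.comap_ker, hη, show RingHom.ker α = RingHom.ker (algebraMap _ q.ResidueField) from
    RingHom.ker_comp_of_injective _ gK.injective]
  exact Ideal.ker_algebraMap_residueField q

open AlgebraicGeometry in
/-- open immersions of affine schemes -/
theorem nonempty_openImmersion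
    (hopen : IsOpenImmersion (Spec.map (CommRingCat.ofHom (algebraMap R R')))) (n : ℕ)
    (ψ : MvPolynomial (Fin n) R →ₐ[R] R') (hψ : Function.Surjective ψ)
    [DRing.HasLBaseChange (algebraMap R (MvPolynomial (Fin n) R))]
    (Rψ : Dual.D (MvPolynomial (Fin n) R) ⥤ Dual.D R') (adj : DRing.restrictD ψ.toRingHom ⊣ Rψ)
    [DRing.HasLBaseChange (algebraMap R R')] (K : Dual.D R) :
    Nonempty (Dual2.shriekVia n Rψ K ≅ (DRing.LBaseChange (algebraMap R R')).obj K) := by
  let f := CommRingCat.ofHom (algebraMap R R')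
  have hflat : Module.Flat R R' :=
    RingHom.flat_algebraMap_iff.mp ((HasRingHomProperty.Spec_iff (P := @Flat)).mp
      (inferInstance : Flat (Spec.map f)))
  have hepiR : Epi f := ⟨fun g h hgh => Spec.map_injective (by
    rw [← cancel_mono (Spec.map f), ← Spec.map_comp, ← Spec.map_comp, hgh])⟩
  let P := MvPolynomial (Fin n) R
  let P' := MvPolynomial (Fin n) R'
  have : Module.Flat P P' :=
    Module.Flat.of_linearEquiv
      (Algebra.IsPushout.out (R := R) (S := P) (R' := R') (S' := P')).equiv.symm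
  have hmap : algebraMap P P' = MvPolynomial.map (algebraMap R R') := rfl
  have hepiP : Epi (CommRingCat.ofHom (algebraMap P P')) := ⟨fun {Z} g h hgh => by
    have hC : g.hom.comp MvPolynomial.C = h.hom.comp MvPolynomial.C := by
      have := hepiR.left_cancellation (CommRingCat.ofHom (g.hom.comp MvPolynomial.C))
        (CommRingCat.ofHom (h.hom.comp MvPolynomial.C)) (by
          ext r
          have := RingHom.congr_fun (congrArg CommRingCat.Hom.hom hgh) (MvPolynomial.C r)
          simpa [f, P, P', hmap] using this)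
      exact congrArg CommRingCat.Hom.hom this
    refine CommRingCat.hom_ext (MvPolynomial.ringHom_ext (fun r => RingHom.congr_fun hC r) fun i => ?_)
    have := RingHom.congr_fun (congrArg CommRingCat.Hom.hom hgh) (MvPolynomial.X i)
    simpa [P, P', hmap] using this⟩
  have hU : IsOpen (Set.range (PrimeSpectrum.comap (algebraMap R R'))) :=
    (Spec.map f).isOpenEmbedding.isOpen_range
  obtain ⟨I, hI⟩ := (PrimeSpectrum.isClosed_iff_zeroLocus_ideal _).mp hU.isClosed_compl
  have hsup : RingHom.ker ψ.toRingHom ⊔ I.map (MvPolynomial.C : R →+* P) = ⊤ := by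
    by_contra hne
    obtain ⟨q, hq, hle⟩ := Ideal.exists_le_maximal _ hne
    obtain ⟨q'', hq''p, hq''⟩ : ∃ q'' : Ideal R', q''.IsPrime ∧ I ≤ q''.comap (algebraMap R R') := by
      refine ⟨q.map ψ.toRingHom, (Ideal.IsMaximal.map_of_surjective_of_ker_le hψ
        (le_sup_left.trans hle)).isPrime, fun r hr => ?_⟩
      rw [Ideal.mem_comap, ← ψ.commutes r]
      exact Ideal.mem_map_of_mem _ (hle (Submodule.mem_sup_right (Ideal.mem_map_of_mem _ hr)))
    exact (hI ▸ hq'' : (⟨q''.comap (algebraMap R R'), inferInstance⟩ : PrimeSpectrum R) ∈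
      (Set.range (PrimeSpectrum.comap (algebraMap R R')))ᶜ) ⟨⟨q'', hq''p⟩, rfl⟩
  obtain ⟨t, htψ, a, ha, hta⟩ := Submodule.mem_sup.mp ((Ideal.eq_top_iff_one _).mp hsup)
  have ht : ∀ q : Ideal P, q.IsPrime → t ∈ q →
      ∃ q' : Ideal P', q'.IsPrime ∧ q'.comap (algebraMap P P') = q := by
    intro q hq htq
    by_contra hno
    have hmem : (⟨q.comap MvPolynomial.C, inferInstance⟩ : PrimeSpectrum R) ∈
        (Set.range (PrimeSpectrum.comap (algebraMap R R')))ᶜ := by
      rintro ⟨p', hp'⟩
      exact hno (exists_prime q p'.asIdeal (congrArg PrimeSpectrum.asIdeal hp').symm)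
    rw [hI, PrimeSpectrum.mem_zeroLocus] at hmem
    refine hq.ne_top ((Ideal.eq_top_iff_one _).mpr (hta ▸ q.add_mem htq ?_))
    exact Ideal.map_le_iff_le_comap.mpr hmem ha
  let s : P' →ₐ[R'] R' := MvPolynomial.aeval fun i => ψ (MvPolynomial.X i)
  have hs : s.toRingHom.comp (algebraMap P P') = ψ.toRingHom :=
    MvPolynomial.ringHom_ext (fun r => by rw [hmap]; simp [s, P, P']) (fun i => by rw [hmap]; simp [s, P, P'])
  obtain ⟨Rj, ⟨adjj⟩⟩ := RAdj.exists_adj (algebraMap P P')
  obtain ⟨Rs, ⟨adjs⟩⟩ := RAdj.exists_adj s.toRingHom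
  obtain ⟨b₀⟩ := FlatBC.nonempty_LBaseChange (A := R) (B := P) K
  obtain ⟨b₁⟩ := FlatBC.nonempty_LBaseChange (A := R) (B := R') K
  obtain ⟨x⟩ := nonempty_shriek_res hepiP ψ.toRingHom t htψ ht adj ((FD R P).obj K)
  obtain ⟨c⟩ := RAdj.nonempty_comp _ _ ψ.toRingHom hs adjj adjs adj
    ((DRing.restrictD (algebraMap P P')).obj ((FD P P').obj ((FD R P).obj K)))
  obtain ⟨y⟩ := nonempty_rightAdjoint_restrict hepiP adjj ((FD P P').obj ((FD R P).obj K))
  have : Module.Flat R P' := Module.Flat.trans R R' P'
  obtain ⟨h₁⟩ := Comp.nonempty_iso R P P' K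
  obtain ⟨h₂⟩ := Comp.nonempty_iso R R' P' K
  obtain ⟨σ⟩ := RAdj.nonempty_shiftIso adjs ((FD R' P').obj ((FD R R').obj K)) (n : ℤ)
  obtain ⟨r⟩ := Sec.nonempty_iso n R' P' AlgEquiv.refl s Rs adjs ((FD R R').obj K)
  exact ⟨(shiftFunctor _ _).mapIso (Rψ.mapIso b₀ ≪≫ x ≪≫ c ≪≫
    Rs.mapIso (y ≪≫ h₁.symm ≪≫ h₂)) ≪≫ σ.symm ≪≫ r ≪≫ b₁.symm⟩

end OpenImmersion

end Groth.Agent.DualCx.FlatEpi
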