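import Groth.Agent.DualCx.RAdj
import Groth.Agent.DualCx.FlatBC
import Mathlib.RingTheory.AdjoinRoot
import Mathlib.RingTheory.AlgebraTower
import Mathlib.RingTheory.IsTensorProduct
import Mathlib.RingTheory.TensorProduct.Free
import Mathlib.RingTheory.IntegralClosure.IsIntegralClosure.Basic

/-!
# Finite free algebras with a trace form having dual bases

For such `R → S` the right adjoint of restriction on derived categories is extension of scalars.
-/

universe u

open CategoryTheory CategoryTheory.Limits
open scoped TensorProduct

attribute [local instance] HasDerivedCategory.standard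

namespace Groth.Agent.DualCx.Frob

/-- a linear form with dual bases -/
structure Data (R S : Type u) [CommRing R] [CommRing S] [Algebra R S] where
  ι : Type
  [fin : Fintype ι]
  b : Module.Basis ι R S
  c : ι → S
  τ : S →ₗ[R] R
  repr : ∀ x i, b.repr x i = τ (c i * x)

attribute [instance] Data.fin

variable {R S : Type u} [CommRing R] [CommRing S] [Algebra R S] (F : Data R S)

include F

theorem nondeg {z : S} (h : ∀ j, F.τ (z * F.b j) = 0) : z = 0 := by
  have h' : ∀ y, F.τ (z * y) = 0 := fun y => by
    have : F.τ.comp (LinearMap.mulLeft R z) = 0 := F.b.ext fun j => h j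
    exact LinearMap.congr_fun this y
  refine F.b.ext_elem fun i => ?_
  rw [F.repr, mul_comm, h', map_zero]
  rfl

theorem dual (x : S) : ∑ i, F.τ (x * F.b i) • F.c i = x := by
  classical
  refine sub_eq_zero.mp (nondeg F fun j => ?_)
  have hd : ∀ i, F.τ (F.c i * F.b j) = if j = i then 1 else 0 := fun i => by
    rw [← F.repr, Module.Basis.repr_self, Finsupp.single_apply]
  simp [sub_mul, Finset.sum_mul, hd]

omit F

/-- the trivial algebra -/
noncomputable def self (R : Type u) [CommRing R] : Data R R where
  ι := Unit
  b := Module.Basis.singleton Unit R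
  c _ := 1
  τ := LinearMap.id
  repr x i := by simp

/-- composites -/
noncomputable def comp {T : Type u} [CommRing T] [Algebra R T] [Algebra S T] [IsScalarTower R S T]
    (F : Data R S) (G : Data S T) : Data R T where
  ι := F.ι × G.ι
  b := F.b.smulTower G.b
  c p := F.c p.1 • G.c p.2
  τ := F.τ.comp (G.τ.restrictScalars R)
  repr x p := by
    rw [Module.Basis.smulTower_repr, F.repr, G.repr]
    simp

/-- base change -/
noncomputable def baseChange {P S' : Type u} [CommRing P] [CommRing S'] [Algebra R P] [Algebra R S']
    [Algebra P S'] [Algebra S S'] [IsScalarTower R P S'] [IsScalarTower R S S']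
    (h : Algebra.IsPushout R P S S') (F : Data R S) : Data P S' :=
  let b' : Module.Basis F.ι P S' := (Algebra.TensorProduct.basis P F.b).map h.out.equiv
  let τ' : S' →ₗ[P] P := b'.constr P fun i => algebraMap R P (F.τ (F.b i))
  { ι := F.ι
    b := b'
    c := fun i => algebraMap S S' (F.c i)
    τ := τ'
    repr := fun x i => by
      classical
      have hb : ∀ j, b' j = algebraMap S S' (F.b j) := fun j => by
        simp [b', IsBaseChange.equiv_tmul]
      have hτ : ∀ y, τ' (algebraMap S S' y) = algebraMap R P (F.τ y) := by
        have : (τ'.restrictScalars R).comp (IsScalarTower.toAlgHom R S S').toLinearMap =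
            (Algebra.linearMap R P).comp F.τ := F.b.ext fun j => by
          simp [← hb, τ']
        exact fun y => LinearMap.congr_fun this y
      have : (Finsupp.lapply i).comp b'.repr.toLinearMap =
          τ'.comp (LinearMap.mulLeft P (algebraMap S S' (F.c i))) := b'.ext fun j => by
        rw [LinearMap.comp_apply, LinearMap.comp_apply, LinearEquiv.coe_coe, b'.repr_self,
          LinearMap.mulLeft_apply, hb, ← map_mul, hτ, ← F.repr, Module.Basis.repr_self,
          Finsupp.lapply_apply, Finsupp.single_apply, Finsupp.single_apply]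
        split <;> simp
      exact LinearMap.congr_fun this x }

/-- `R[X]/(g)` for monic `g` -/
theorem nonempty_adjoinRoot {g : Polynomial R} (hg : g.Monic) : Nonempty (Data R (AdjoinRoot g)) := by
  classical
  let b := AdjoinRoot.powerBasisAux' hg
  let τ : AdjoinRoot g →ₗ[R] R :=
    (Polynomial.lcoeff R (g.natDegree - 1)).comp (AdjoinRoot.modByMonicHom hg)
  let θ : AdjoinRoot g →ₗ[R] (Fin g.natDegree → R) :=
    LinearMap.pi fun l => τ.comp (LinearMap.mulRight R (b l))
  have hb : ∀ l : Fin g.natDegree, b l = AdjoinRoot.mk g (Polynomial.X ^ (l : ℕ)) := fun l => by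
    have := (AdjoinRoot.powerBasis' hg).basis_eq_pow l
    rw [map_pow, AdjoinRoot.mk_X]
    exact this
  have hlow : ∀ j : ℕ, j < g.natDegree →
      τ (AdjoinRoot.mk g (Polynomial.X ^ j)) = if g.natDegree - 1 = j then 1 else 0 := fun j hj => by
    nontriviality R
    simp only [τ, LinearMap.comp_apply, AdjoinRoot.modByMonicHom_mk, Polynomial.lcoeff_apply]
    rw [(Polynomial.modByMonic_eq_self_iff hg).mpr (by
      rw [Polynomial.degree_X_pow, Polynomial.degree_eq_natDegree hg.ne_zero]; exact_mod_cast hj),
      Polynomial.coeff_X_pow]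
  have key : ∀ (k : ℕ) (i : Fin g.natDegree), g.natDegree - 1 - (i : ℕ) = k →
      Pi.single i (1 : R) ∈ LinearMap.range θ := by
    intro k
    induction k using Nat.strong_induction_on with
    | _ k ih =>
      intro i hi
      let y := θ (AdjoinRoot.mk g (Polynomial.X ^ k))
      have hy : ∀ l : Fin g.natDegree, (l : ℕ) ≤ i → y l = if i = l then 1 else 0 := fun l hl => by
        have := i.2
        change τ (AdjoinRoot.mk g (Polynomial.X ^ k) * b l) = _
        rw [hb, ← map_mul, ← pow_add, hlow _ (by omega)]
        exact if_congr ⟨fun h => Fin.ext (by omega), fun h => by subst h; omega⟩ rfl rfl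
      have hrest : ∀ v : Fin g.natDegree → R, (∀ l : Fin g.natDegree, (l : ℕ) ≤ i → v l = 0) →
          v ∈ LinearMap.range θ := fun v hv => by
        rw [pi_eq_sum_univ v]
        refine Submodule.sum_mem _ fun l _ => ?_
        by_cases hl : (l : ℕ) ≤ i
        · rw [hv l hl, zero_smul]
          exact Submodule.zero_mem _
        · have hmem := ih (g.natDegree - 1 - l) (by have := l.2; omega) l rfl
          rw [show (fun j => if l = j then (1 : R) else 0) = Pi.single l 1 by
            funext j; simp [Pi.single_apply, eq_comm]]
          exact Submodule.smul_mem _ _ hmem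
      have h := Submodule.sub_mem _ (LinearMap.mem_range_self θ (AdjoinRoot.mk g (Polynomial.X ^ k)))
        (hrest (fun l => y l - (Pi.single i (1 : R) : Fin g.natDegree → R) l) fun l hl => by
          rw [hy l hl, Pi.single_apply]
          simp [eq_comm])
      convert h using 1
      funext l
      simp [y]
  choose c hc using fun i : Fin g.natDegree => LinearMap.mem_range.mp (key _ i rfl)
  refine ⟨⟨Fin g.natDegree, b, c, τ, fun x i => ?_⟩⟩
  have : (Finsupp.lapply i).comp b.repr.toLinearMap = τ.comp (LinearMap.mulLeft R (c i)) :=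
    b.ext fun l => by
      rw [LinearMap.comp_apply, LinearMap.comp_apply, LinearEquiv.coe_coe, b.repr_self,
        Finsupp.lapply_apply, LinearMap.mulLeft_apply]
      refine Eq.trans ?_ (congrFun (hc i) l).symm
      rw [Finsupp.single_apply, Pi.single_apply]
  exact LinearMap.congr_fun this x

/-- a finite algebra is a quotient of one with dual bases -/
theorem exists_surjective (R A : Type u) [CommRing R] [CommRing A] [Algebra R A]
    [Module.Finite R A] :
    ∃ (S : Type u) (_ : CommRing S) (_ : Algebra R S) (p : S →ₐ[R] A),
      Function.Surjective p ∧ Nonempty (Data R S) := by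
  classical
  suffices h : ∀ s : Finset A, ∃ (S : Type u) (_ : CommRing S) (_ : Algebra R S) (p : S →ₐ[R] A),
      (↑s : Set A) ⊆ p.range ∧ Nonempty (Data R S) by
    obtain ⟨s, hs⟩ := (Module.Finite.fg_top : (⊤ : Submodule R A).FG)
    obtain ⟨S, _, _, p, hp, hd⟩ := h s
    refine ⟨S, inferInstance, inferInstance, p, fun a => ?_, hd⟩
    have : Submodule.span R (↑s : Set A) ≤ p.range.toSubmodule := Submodule.span_le.mpr hp
    rw [hs] at this
    exact this (Submodule.mem_top (x := a))
  intro s
  induction s using Finset.induction with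
  | empty => exact ⟨R, inferInstance, inferInstance, Algebra.ofId R A, by simp, ⟨self R⟩⟩
  | @insert a s _ ih =>
    obtain ⟨S, _, _, p, hp, ⟨F⟩⟩ := ih
    obtain ⟨g, hg, hga⟩ := IsIntegral.of_finite R a
    let g' := g.map (algebraMap R S)
    have hroot : Polynomial.eval₂ p.toRingHom a g' = 0 := by
      rw [Polynomial.eval₂_map, show p.toRingHom.comp (algebraMap R S) = algebraMap R A from p.comp_algebraMap]
      exact hga
    obtain ⟨G⟩ := nonempty_adjoinRoot (hg.map (algebraMap R S))
    let p' : AdjoinRoot g' →ₐ[R] A := AdjoinRoot.liftAlgHom g' p a hroot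
    refine ⟨AdjoinRoot g', inferInstance, inferInstance, p', ?_, ⟨comp F G⟩⟩
    rw [Finset.coe_insert, Set.insert_subset_iff]
    refine ⟨⟨AdjoinRoot.root g', AdjoinRoot.liftAlgHom_root g' p a hroot⟩, fun x hx => ?_⟩
    obtain ⟨y, rfl⟩ := hp hx
    exact ⟨AdjoinRoot.of g' y, AdjoinRoot.liftAlgHom_of g' p a hroot y⟩

/-- extension is coextension -/
noncomputable def coextEquiv (F : Data R S) (M : ModuleCat.{u} R) :
    (ModuleCat.of S (S ⊗[R] M)) ≅ (ModuleCat.coextendScalars.{u, u, u} (algebraMap R S)).obj M :=
  let J := (ModuleCat.restrictScalars.{u} (algebraMap R S)).obj (ModuleCat.of S S)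
  let j : S ≃ₗ[R] J := BaseChange.selfEquiv R S
  let fwd : S ⊗[R] M →ₗ[R] (J →ₗ[R] M) := TensorProduct.lift (LinearMap.mk₂ R
    (fun s m => ((LinearMap.toSpanSingleton R M m).comp
      (F.τ.comp ((LinearMap.mulRight R s).comp j.symm.toLinearMap))))
    (fun s s' m => by ext x; simp [mul_add, add_smul])
    (fun r s m => by ext x; simp [mul_smul])
    (fun s m m' => by ext x; simp [smul_add])
    (fun r s m => by ext x; simp [smul_smul, mul_comm]))
  let e : (S ⊗[R] M) ≃ₗ[S] (J →ₗ[R] M) :=
    { toFun := fun t => fwd t
      map_add' := fun x y => fwd.map_add x y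
      map_smul' := fun s t => by
        refine LinearMap.ext fun (x : S) => ?_
        change fwd (s • t) (j x) = fwd t (j (x * s))
        induction t using TensorProduct.induction_on with
        | zero => simp
        | tmul s' m => simp [fwd, TensorProduct.smul_tmul', mul_assoc]
        | add y z hy hz => simp only [smul_add, map_add, LinearMap.add_apply, hy, hz]
      invFun := fun f => ∑ i, F.b i ⊗ₜ[R] (f (j (F.c i)))
      left_inv := fun t => by
        change ∑ i, F.b i ⊗ₜ[R] (fwd t (j (F.c i))) = t
        induction t using TensorProduct.induction_on with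
        | zero => simp
        | tmul s m =>
          simp only [fwd, TensorProduct.lift.tmul, LinearMap.mk₂_apply, LinearMap.comp_apply,
            LinearEquiv.coe_coe, LinearEquiv.symm_apply_apply, LinearMap.mulRight_apply,
            LinearMap.toSpanSingleton_apply, ← TensorProduct.smul_tmul, ← TensorProduct.sum_tmul]
          congr 1
          conv_rhs => rw [← F.b.sum_repr s]
          simp only [F.repr]
        | add y z hy hz =>
          simp only [map_add, LinearMap.add_apply, TensorProduct.tmul_add, Finset.sum_add_distrib,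
            hy, hz]
      right_inv := fun f => by
        refine LinearMap.ext fun (x : S) => ?_
        change fwd (∑ i, F.b i ⊗ₜ[R] (f (j (F.c i)))) (j x) = f (j x)
        conv_rhs => rw [← dual F x]
        simp [fwd, map_sum] }
  (e.trans (ModuleCat.CoextendScalars.equiv (algebraMap R S) M).symm).toModuleIso

/-- the natural isomorphism -/
noncomputable def extCoext (F : Data R S) : BaseChange.ext R S ≅
    ModuleCat.coextendScalars.{u, u, u} (algebraMap R S) :=
  NatIso.ofComponents (fun M => (BaseChange.extEquiv R S M).toModuleIso.symm ≪≫ coextEquiv F M)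
    fun {M N} g => by
      refine ModuleCat.hom_ext (LinearMap.ext fun x => ?_)
      obtain ⟨t, rfl⟩ := (BaseChange.extEquiv R S M).surjective x
      change (coextEquiv F N).hom.hom ((BaseChange.extEquiv R S N).symm
          (((BaseChange.ext R S).map g).hom (BaseChange.extEquiv R S M t))) =
        ((ModuleCat.coextendScalars.{u, u, u} (algebraMap R S)).map g).hom
          ((coextEquiv F M).hom.hom ((BaseChange.extEquiv R S M).symm (BaseChange.extEquiv R S M t)))
      rw [BaseChange.ext_map_extEquiv, LinearEquiv.symm_apply_apply, LinearEquiv.symm_apply_apply]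
      induction t using TensorProduct.induction_on with
      | zero => simp
      | tmul s m =>
        refine LinearMap.ext fun (y : S) => ?_
        exact (g.hom.map_smul _ _).symm
      | add y z hy hz => simp only [map_add, hy, hz]

/-- right adjoints are given by extension of scalars -/
theorem nonempty_iso_FD (F : Data R S) [Module.Flat R S] {G : Dual.D R ⥤ Dual.D S}
    (adj : DRing.restrictD (algebraMap R S) ⊣ G) (K : Dual.D R) :
    Nonempty (G.obj K ≅ (BaseChange.FD R S).obj K) := by
  obtain ⟨L, ⟨e⟩⟩ : ∃ L : DRing.Cx R, Nonempty (DRing.toD L ≅ K) :=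
    ⟨_, ⟨DerivedCategory.Q.objObjPreimageIso K⟩⟩
  obtain ⟨I, f, hI, hf, -, -⟩ := DHA.KInj.exists_resolution (ModuleCat.{u} R) L
  let eI : DRing.toD I ≅ K := (asIso (DerivedCategory.Q.map f)).symm ≪≫ e
  have : (ModuleCat.coextendScalars.{u, u, u} (algebraMap R S)).Additive :=
    (ModuleCat.restrictCoextendScalarsAdj (algebraMap R S)).right_adjoint_additive
  let eC : (BaseChange.extC R S).obj I ≅ Shriek.coextC (B := S) I :=
    (NatIso.mapHomologicalComplex (extCoext F) (ComplexShape.up ℤ)).app I
  let hr : ((DRing.restrictD (algebraMap R S)).op ⋙ yoneda.obj (DRing.toD I)).RepresentableBy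
      (DRing.toD (Shriek.coextC (B := S) I)) :=
    { homEquiv := fun {X} => Equiv.ofBijective _ (RAdj.counit_bijective' I X)
      homEquiv_comp := fun {X X'} h g => by
        change (DRing.restrictD (algebraMap R S)).map (h ≫ g) ≫ _ = _
        rw [Functor.map_comp, Category.assoc]
        rfl }
  let hr' : ((DRing.restrictD (algebraMap R S)).op ⋙ yoneda.obj (DRing.toD I)).RepresentableBy
      (G.obj (DRing.toD I)) :=
    { homEquiv := fun {X} => (adj.homEquiv X _).symm
      homEquiv_comp := fun {X X'} h g => adj.homEquiv_naturality_left_symm h g }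
  exact ⟨G.mapIso eI.symm ≪≫ hr'.uniqueUpToIso hr ≪≫ DerivedCategory.Q.mapIso eC.symm ≪≫
    ((BaseChange.ext R S).mapDerivedCategoryFactors.app I).symm ≪≫ (BaseChange.FD R S).mapIso eI⟩

end Groth.Agent.DualCx.Frob
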