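import Groth.Agent.DualCx.Fiber
import Groth.Agent.DualCx.Smooth
import Groth.Agent.Gor.Ring

/-!
# Base change of dualizing complexes along flat maps with Gorenstein fibres
-/

universe u

open CategoryTheory IsLocalRing
open scoped TensorProduct

attribute [local instance] HasDerivedCategory.standard

namespace Groth.Agent.DualCx.GorFibre

open Devissage (E pre)
open Dimfun (Z deg)
open Algebra.TensorProduct (includeRight)

variable {A B : Type u} [CommRing A] [CommRing B] [Algebra A B] [Module.Flat A B]
  [IsNoetherianRing A] [IsNoetherianRing B]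

/-- the fibre over `p` in a local ring over `p` -/
theorem H_of_flat [IsLocalRing B] {ω : Dual.D A} (hω : Dual.IsDualizing A ω) (p : PrimeSpectrum A)
    (hp : (maximalIdeal B).comap (algebraMap A B) = p.1) :
    Fiber.H ((BaseChange.FD A B).obj ω) (p.1.map (algebraMap A B)) (deg hω p) := by
  classical
  set d := deg hω p
  set K := (BaseChange.FD A B).obj ω
  obtain ⟨a₀, ha₀⟩ := Dimfun.exists_isGE hω
  let q : Ideal B := p.1.map (algebraMap A B)
  obtain ⟨eq⟩ := FlatBC.nonempty_quotient (B := B) p.1
  let eP : ∀ i, B ⊗[A] E (A ⧸ p.1) ω i ≃ₗ[B] E (B ⧸ q) K i := fun i =>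
    (FlatBC.homLEquiv ω a₀ (A ⧸ p.1) i).trans (Devissage.congrE eq K i)
  have hunit : ∀ s : A, s ∉ p.1 → IsUnit (algebraMap A B s) := fun s hs => by
    by_contra h
    exact hs (hp.le ((mem_maximalIdeal _).mpr h))
  refine ⟨fun i hi => subsingleton_of_forall_eq 0 fun e => ?_, ?_⟩
  · obtain ⟨t, rfl⟩ := (eP i).surjective e
    induction t using TensorProduct.induction_on with
    | zero => exact map_zero _
    | tmul b m =>
      obtain ⟨s, hs, hm⟩ := Dimfun.Z_of_ne hω p i hi m
      refine (hunit s hs).smul_left_cancel.mp ?_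
      rw [← map_smul, algebraMap_smul, ← TensorProduct.tmul_smul, hm, TensorProduct.tmul_zero,
        map_zero, smul_zero]
    | add y z hy hz => rw [map_add, hy, hz, add_zero]
  · obtain ⟨x, hgen, hfree⟩ := Polynomial.exists_gen hω p
    let T : A →ₗ[A] E (A ⧸ p.1) ω d := LinearMap.toSpanSingleton A _ x
    let y : E (B ⧸ q) K d := eP d (1 ⊗ₜ x)
    have hy : ∀ b : B, b • y = eP d (b ⊗ₜ x) := fun b => by
      rw [← map_smul, TensorProduct.smul_tmul', smul_eq_mul, mul_one]
    have hsur : Function.Surjective (LinearMap.toSpanSingleton B _ y) := by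
      intro e
      obtain ⟨t, rfl⟩ := (eP d).surjective e
      induction t using TensorProduct.induction_on with
      | zero => exact ⟨0, by simp⟩
      | tmul b m =>
        obtain ⟨s, a, hs, hse⟩ := hgen m
        obtain ⟨v, hv⟩ := hunit s hs
        refine ⟨↑v⁻¹ * (a • b), (hunit s hs).smul_left_cancel.mp ?_⟩
        rw [LinearMap.toSpanSingleton_apply, smul_smul, ← mul_assoc, ← hv, Units.mul_inv, one_mul,
          hy, ← map_smul, hv, algebraMap_smul, ← TensorProduct.tmul_smul, hse,
          TensorProduct.tmul_smul, TensorProduct.smul_tmul']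
      | add e e' he he' =>
        obtain ⟨b, hb⟩ := he
        obtain ⟨b', hb'⟩ := he'
        exact ⟨b + b', by rw [map_add, map_add, hb, hb']⟩
    have hker : LinearMap.ker (LinearMap.toSpanSingleton B _ y) = q := by
      refine le_antisymm (fun b hb => ?_) fun b hb => ?_
      · have h1 : b ⊗ₜ[A] x = 0 := (eP d).injective (by
          rw [map_zero, ← hy]; exact hb)
        obtain ⟨t, ht⟩ := (Module.Flat.lTensor_exact B T.exact_subtype_ker_map (b ⊗ₜ[A] (1 : A))).mp
          (by rw [LinearMap.lTensor_tmul, LinearMap.toSpanSingleton_apply, one_smul, h1])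
        have h2 := congrArg (TensorProduct.rid A B) ht
        rw [TensorProduct.rid_tmul, one_smul] at h2
        rw [← h2]
        clear ht h2
        induction t using TensorProduct.induction_on with
        | zero => simp
        | tmul b a =>
          rw [LinearMap.lTensor_tmul, TensorProduct.rid_tmul, Algebra.smul_def]
          refine Ideal.mul_mem_right _ _ (Ideal.mem_map_of_mem _ (hfree a ⟨1,
            fun h => p.2.ne_top ((Ideal.eq_top_iff_one _).mpr h), ?_⟩))
          rw [one_smul]
          exact a.2
        | add y z hy hz =>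
          rw [map_add, map_add]
          exact q.add_mem hy hz
      · exact Dimfun.smul_E_eq_zero q d hb y
    exact ⟨((LinearMap.quotKerEquivOfSurjective _ hsur).symm).trans
      (Submodule.quotEquivOfEq _ _ hker)⟩

omit [Module.Flat A B] [IsNoetherianRing A] [IsNoetherianRing B] in
/-- fibre rings as quotients of local rings -/
theorem gorenstein_quotient_iff (p : Ideal A) [p.IsPrime] (Q : Ideal (p.Fiber B)) [Q.IsPrime]
    (q : Ideal B) [q.IsPrime]
    (h : Q.comap (includeRight (R := A) (A := p.ResidueField) (B := B)) = q) :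
    LocCoh.IsGorensteinLocalRing (Localization.AtPrime Q) ↔
      LocCoh.IsGorensteinLocalRing
        (Localization.AtPrime q ⧸ p.map (algebraMap A (Localization.AtPrime q))) := by
  subst h
  let := Localization.AtPrime.algebraOfLiesOver p
    (Q.comap (includeRight (R := A) (A := p.ResidueField) (B := B)))
  exact Gor.FlatLocal.gorenstein_iff_of_ringEquiv
    (Ideal.Fiber.localizationAlgEquivQuotient p Q).toRingEquiv

omit [Module.Flat A B] [IsNoetherianRing A] [IsNoetherianRing B] in
theorem gorenstein_quotient (q : Ideal B) [q.IsPrime]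
    (hF : LocCoh.IsGorensteinRing ((q.comap (algebraMap A B)).Fiber B)) :
    LocCoh.IsGorensteinLocalRing (Localization.AtPrime q ⧸
      (q.comap (algebraMap A B)).map (algebraMap A (Localization.AtPrime q))) := by
  obtain ⟨Q, hQ, h⟩ := Gor.Ring.exists_fibre_prime (A := A) q
  exact (gorenstein_quotient_iff _ Q q h).mp (hF.isGorensteinLocalRing_localization Q)

omit [Algebra A B] [Module.Flat A B] [IsNoetherianRing A] in
/-- vanishing at a maximal ideal from the local ring -/
theorem subsingleton_of_local (K : Dual.D B) (a : ℤ) [K.IsGE a] (m : Ideal B) [m.IsMaximal] (i : ℤ)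
    (h : Subsingleton (E (ResidueField (Localization.AtPrime m))
      ((BaseChange.FD B (Localization.AtPrime m)).obj K) i)) : Subsingleton (E (B ⧸ m) K i) := by
  have : Module.Flat B (Localization.AtPrime m) := IsLocalization.flat _ m.primeCompl
  obtain ⟨eq⟩ := FlatBC.nonempty_quotient (B := Localization.AtPrime m) m
  let eQ : Localization.AtPrime m ⊗[B] (B ⧸ m) ≃ₗ[Localization.AtPrime m]
      ResidueField (Localization.AtPrime m) :=
    eq.trans (Submodule.quotEquivOfEq _ _ (IsLocalization.AtPrime.map_eq_maximalIdeal m _))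
  obtain ⟨e⟩ := Extended.nonempty_linearEquiv_baseChange (B := Localization.AtPrime m) m _
    (LocalGlobal.smul_E_quot m (K := K) i)
  exact (e.toEquiv.trans
    ((FlatBC.homLEquiv K a (B ⧸ m) i).trans (Devissage.congrE eQ _ i)).toEquiv).subsingleton

/-- base change along a flat map with Gorenstein fibres, of bounded dimension -/
theorem isDualizing {ω : Dual.D A} (hω : Dual.IsDualizing A ω)
    (hF : ∀ (p : Ideal A) [p.IsPrime], LocCoh.IsGorensteinRing (p.Fiber B)) (N : ℕ)
    (hdim : ∀ (m : Ideal B) [m.IsMaximal], ringKrullDim (Localization.AtPrime m) ≤ N) :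
    Dual.IsDualizing B ((BaseChange.FD A B).obj ω) := by
  obtain ⟨a, ha⟩ := Dimfun.exists_isGE hω
  obtain ⟨a', b, hb⟩ := Dimfun.deg_bounds hω
  have : ((BaseChange.FD A B).obj ω).IsGE a := FlatBC.isGE_FD ω a
  have hfin : ∀ i, Module.Finite B (Dual.HD B ((BaseChange.FD A B).obj ω) i) := fun i => by
    have := hω.finite_cohomology i
    exact Module.Finite.equiv (BaseChange.HDEquiv A B ω i)
  have key : ∀ (m : Ideal B) [m.IsMaximal],
      Dual.IsDualizing (Localization.AtPrime m)
        ((BaseChange.FD B (Localization.AtPrime m)).obj ((BaseChange.FD A B).obj ω)) ∧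
      ∀ i, b + N < i → Subsingleton (E (ResidueField (Localization.AtPrime m))
        ((BaseChange.FD B (Localization.AtPrime m)).obj ((BaseChange.FD A B).obj ω)) i) := by
    intro m _
    let L := Localization.AtPrime m
    have : Module.Flat B L := IsLocalization.flat _ m.primeCompl
    have : Module.Flat A L := Module.Flat.trans A B L
    let p : PrimeSpectrum A := ⟨m.comap (algebraMap A B), inferInstance⟩
    have hp : (maximalIdeal L).comap (algebraMap A L) = p.1 := by
      rw [IsScalarTower.algebraMap_eq A B L, ← Ideal.comap_comap]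
      exact congrArg (Ideal.comap (algebraMap A B)) (Localization.AtPrime.under_maximalIdeal (I := m))
    have : ((BaseChange.FD A L).obj ω).IsGE a := FlatBC.isGE_FD ω a
    have hG := gorenstein_quotient m (hF p.1)
    obtain ⟨n, hn⟩ := Gor.Basic.exists_natCast_ringKrullDim (A := L ⧸ p.1.map (algebraMap A L))
    have hnN : n ≤ N := by
      have := (ringKrullDim_quotient_le (p.1.map (algebraMap A L))).trans (hdim m)
      rw [hn] at this
      exact_mod_cast this
    obtain ⟨hv, ⟨e⟩⟩ := Fiber.residue a n _ (deg hω p) hG hn (H_of_flat hω p hp)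
    have hd : Dual.IsDualizing L ((BaseChange.FD A L).obj ω) := by
      refine Biduality.isDualizing _ a (fun i => ?_) (b + N) fun m' hm' => ?_
      · have := hω.finite_cohomology i
        exact Module.Finite.equiv (BaseChange.HDEquiv A L ω i)
      · obtain rfl := IsLocalRing.eq_maximalIdeal hm'
        exact ⟨deg hω p + n, by have := (hb p).2; omega, hv, ⟨e⟩⟩
    obtain ⟨ec⟩ := Comp.nonempty_iso A B L ω
    refine ⟨FlatBC.isDualizing_of_iso ec hd, fun i hi => ?_⟩
    have := hv i (by have := (hb p).2; omega)
    exact ((Hom.congr L (Iso.refl _) ((shiftFunctor (Dual.D L) i).mapIso ec)).symm).toEquiv.subsingleton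
  exact LocalGlobal.isDualizing_of_local _ a hfin (b + N)
    (fun i hi m hm => subsingleton_of_local _ a m i ((key m).2 i hi)) fun m _ => (key m).1

end Groth.Agent.DualCx.GorFibre
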