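import Mathlib.CategoryTheory.Triangulated.Pretriangulated
import Mathlib.CategoryTheory.Linear.LinearFunctor
import Mathlib.CategoryTheory.Shift.Linear
import Mathlib.Algebra.Exact.Basic
import Mathlib.CategoryTheory.Linear.Basic

/-!
# Elementwise linear long exact Hom sequences of a distinguished triangle
-/

universe w v u

open CategoryTheory CategoryTheory.Limits CategoryTheory.Pretriangulated

namespace Groth.Agent.DualCx.Hom

variable (R : Type w) [CommRing R] {C : Type u} [Category.{v} C] [Preadditive C]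
  [CategoryTheory.Linear R C] [HasShift C ℤ] [∀ n : ℤ, (shiftFunctor C n).Additive]
  [∀ n : ℤ, (shiftFunctor C n).Linear R]

/-- composing with isomorphisms, linearly -/
noncomputable def congr {X X' Y Y' : C} (eX : X ≅ X') (eY : Y ≅ Y') : (X ⟶ Y) ≃ₗ[R] (X' ⟶ Y') :=
  CategoryTheory.Linear.homCongr R eX eY

/-- shifting both sides -/
noncomputable def shiftE (a : ℤ) (X Y : C) : (X ⟶ Y) ≃ₗ[R] (X⟦a⟧ ⟶ Y⟦a⟧) :=
  LinearEquiv.ofBijective ((shiftFunctor C a).mapLinearMap R)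
    ⟨(shiftFunctor C a).map_injective, (shiftFunctor C a).map_surjective⟩

/-- `Hom(X, Y[b]) = Hom(X[a], Y[c])` when `b + a = c`. -/
noncomputable def shiftHom (a b c : ℤ) (h : b + a = c) (X Y : C) :
    (X ⟶ Y⟦b⟧) ≃ₗ[R] (X⟦a⟧ ⟶ Y⟦c⟧) :=
  (shiftE R a X (Y⟦b⟧)).trans (congr R (Iso.refl _) ((shiftFunctorAdd' C b a c h).app Y).symm)

/-- `Hom(X, Y[a][j]) = Hom(X, Y[b])` when `a + j = b`. -/
noncomputable def shiftTarget (a j b : ℤ) (h : a + j = b) (X Y : C) :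
    (X ⟶ (Y⟦a⟧)⟦j⟧) ≃ₗ[R] (X ⟶ Y⟦b⟧) :=
  congr R (Iso.refl _) ((shiftFunctorAdd' C a j b h).app Y).symm

/-- `Hom(X, Y[0]) = Hom(X, Y)`. -/
noncomputable def shiftZero (X Y : C) : (X ⟶ Y⟦(0 : ℤ)⟧) ≃ₗ[R] (X ⟶ Y) :=
  congr R (Iso.refl _) ((shiftFunctorZero C ℤ).app Y)

variable (T : Triangle C) (W : C)

/-- precomposition with the first map -/
noncomputable def pre₁ (j : ℤ) : (T.obj₂ ⟶ W⟦j⟧) →ₗ[R] (T.obj₁ ⟶ W⟦j⟧) :=
  CategoryTheory.Linear.leftComp R _ T.mor₁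

/-- precomposition with the second map -/
noncomputable def pre₂ (j : ℤ) : (T.obj₃ ⟶ W⟦j⟧) →ₗ[R] (T.obj₂ ⟶ W⟦j⟧) :=
  CategoryTheory.Linear.leftComp R _ T.mor₂

/-- contravariant connecting map -/
noncomputable def cδ (j j' : ℤ) (h : j + 1 = j') : (T.obj₁ ⟶ W⟦j⟧) →ₗ[R] (T.obj₃ ⟶ W⟦j'⟧) :=
  (CategoryTheory.Linear.leftComp R _ T.mor₃).comp (shiftHom R 1 j j' h T.obj₁ W).toLinearMap

/-- postcomposition with the first map -/
noncomputable def post₁ (j : ℤ) : (W ⟶ T.obj₁⟦j⟧) →ₗ[R] (W ⟶ T.obj₂⟦j⟧) :=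
  CategoryTheory.Linear.rightComp R W (T.mor₁⟦j⟧')

/-- postcomposition with the second map -/
noncomputable def post₂ (j : ℤ) : (W ⟶ T.obj₂⟦j⟧) →ₗ[R] (W ⟶ T.obj₃⟦j⟧) :=
  CategoryTheory.Linear.rightComp R W (T.mor₂⟦j⟧')

/-- covariant connecting map -/
noncomputable def dδ (j j' : ℤ) (h : j + 1 = j') : (W ⟶ T.obj₃⟦j⟧) →ₗ[R] (W ⟶ T.obj₁⟦j'⟧) :=
  CategoryTheory.Linear.rightComp R W
    (T.mor₃⟦j⟧' ≫ (shiftFunctorAdd' C 1 j j' (by omega)).inv.app T.obj₁)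

theorem cδ_apply (j j' : ℤ) (h : j + 1 = j') (f : T.obj₁ ⟶ W⟦j⟧) :
    cδ R T W j j' h f = T.mor₃ ≫ f⟦1⟧' ≫ (shiftFunctorAdd' C j 1 j' h).inv.app W := by
  simp [cδ, shiftHom, shiftE, congr, CategoryTheory.Linear.homCongr_apply]

omit [∀ n : ℤ, (shiftFunctor C n).Additive] [∀ n : ℤ, (shiftFunctor C n).Linear R] in
theorem dδ_apply (j j' : ℤ) (h : j + 1 = j') (f : W ⟶ T.obj₃⟦j⟧) :
    dδ R T W j j' h f =
      f ≫ T.mor₃⟦j⟧' ≫ (shiftFunctorAdd' C 1 j j' (by omega)).inv.app T.obj₁ := rfl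

variable [HasZeroObject C] [Pretriangulated C] {T} (hT : T ∈ distTriang C)

include hT

/-- exactness at the middle, after shifting -/
theorem co₂ (j : ℤ) {W : C} (f : W ⟶ T.obj₂⟦j⟧) (hf : f ≫ T.mor₂⟦j⟧' = 0) :
    ∃ g : W ⟶ T.obj₁⟦j⟧, f = g ≫ T.mor₁⟦j⟧' := by
  obtain ⟨(g : W ⟶ T.obj₁⟦j⟧), hg⟩ :=
    Triangle.coyoneda_exact₂ _ (Triangle.shift_distinguished T hT j) f
    (by
      change f ≫ (j.negOnePow • T.mor₂⟦j⟧') = 0
      rw [Linear.comp_units_smul, hf, smul_zero])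
  refine ⟨j.negOnePow • g, ?_⟩
  have hg' : f = g ≫ (j.negOnePow • T.mor₁⟦j⟧') := hg
  rw [hg', Linear.comp_units_smul, Linear.units_smul_comp]

omit [∀ n : ℤ, (shiftFunctor C n).Linear R] in
theorem exact_pre (j : ℤ) : Function.Exact (pre₂ R T W j) (pre₁ R T W j) := by
  intro f
  constructor
  · intro hf
    obtain ⟨g, hg⟩ := Triangle.yoneda_exact₂ T hT f hf
    exact ⟨g, hg.symm⟩
  · rintro ⟨g, rfl⟩
    change T.mor₁ ≫ T.mor₂ ≫ g = 0
    rw [← Category.assoc, comp_distTriang_mor_zero₁₂ T hT, zero_comp]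

theorem exact_cδ_pre (j j' : ℤ) (h : j + 1 = j') :
    Function.Exact (cδ R T W j j' h) (pre₂ R T W j') := by
  intro f
  constructor
  · intro hf
    obtain ⟨g, hg⟩ := Triangle.yoneda_exact₃ T hT f hf
    obtain ⟨k, hk⟩ := (shiftHom R 1 j j' h T.obj₁ W).surjective g
    exact ⟨k, by rw [hg, ← hk]; rfl⟩
  · rintro ⟨g, rfl⟩
    rw [cδ_apply]
    change T.mor₂ ≫ T.mor₃ ≫ _ = 0
    rw [← Category.assoc, comp_distTriang_mor_zero₂₃ T hT, zero_comp]

theorem exact_pre_cδ (j j' : ℤ) (h : j + 1 = j') :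
    Function.Exact (pre₁ R T W j) (cδ R T W j j' h) := by
  intro f
  constructor
  · intro hf
    obtain ⟨g, hg⟩ := Triangle.yoneda_exact₃ _ (rot_of_distTriang _ hT)
      (shiftHom R 1 j j' h T.obj₁ W f) hf
    obtain ⟨k, hk⟩ := (shiftHom R 1 j j' h T.obj₂ W).surjective g
    refine ⟨-k, (shiftHom R 1 j j' h T.obj₁ W).injective ?_⟩
    rw [hg, ← hk]
    change shiftHom R 1 j j' h T.obj₁ W (T.mor₁ ≫ (-k)) =
      (-T.mor₁⟦(1 : ℤ)⟧') ≫ shiftHom R 1 j j' h T.obj₂ W k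
    simp [shiftHom, shiftE, congr, CategoryTheory.Linear.homCongr_apply]
  · rintro ⟨g, rfl⟩
    rw [cδ_apply]
    simp only [pre₁, CategoryTheory.Linear.leftComp_apply, Functor.map_comp, Category.assoc]
    rw [← Category.assoc, comp_distTriang_mor_zero₃₁ T hT, zero_comp]

omit [∀ n : ℤ, (shiftFunctor C n).Linear R] in
theorem exact_post (j : ℤ) : Function.Exact (post₁ R T W j) (post₂ R T W j) := by
  intro f
  constructor
  · intro hf
    obtain ⟨g, hg⟩ := co₂ hT j f hf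
    exact ⟨g, hg.symm⟩
  · rintro ⟨g, rfl⟩
    change (g ≫ T.mor₁⟦j⟧') ≫ T.mor₂⟦j⟧' = 0
    rw [Category.assoc, ← Functor.map_comp, comp_distTriang_mor_zero₁₂ T hT, Functor.map_zero,
      comp_zero]

omit [∀ n : ℤ, (shiftFunctor C n).Linear R] in
theorem exact_post_dδ (j j' : ℤ) (h : j + 1 = j') :
    Function.Exact (post₂ R T W j) (dδ R T W j j' h) := by
  intro f
  constructor
  · intro hf
    rw [dδ_apply, ← Category.assoc, Preadditive.IsIso.comp_right_eq_zero] at hf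
    obtain ⟨g, hg⟩ := co₂ (rot_of_distTriang _ hT) j f hf
    exact ⟨g, hg.symm⟩
  · rintro ⟨g, rfl⟩
    rw [dδ_apply]
    simp only [post₂, CategoryTheory.Linear.rightComp_apply, Category.assoc]
    rw [← Functor.map_comp_assoc, comp_distTriang_mor_zero₂₃ T hT, Functor.map_zero, zero_comp,
      comp_zero]

omit [∀ n : ℤ, (shiftFunctor C n).Linear R] in
theorem exact_dδ_post (j j' : ℤ) (h : j + 1 = j') :
    Function.Exact (dδ R T W j j' h) (post₁ R T W j') := by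
  intro f
  constructor
  · intro hf
    have hf' : f ≫ T.mor₁⟦j'⟧' = 0 := hf
    obtain ⟨g, hg⟩ := co₂ (rot_of_distTriang _ (rot_of_distTriang _ hT)) j
      (f ≫ (shiftFunctorAdd' C 1 j j' (by omega)).hom.app T.obj₁)
      (by
        change (f ≫ _) ≫ (-T.mor₁⟦(1 : ℤ)⟧')⟦j⟧' = 0
        rw [Functor.map_neg, Preadditive.comp_neg, Category.assoc, neg_eq_zero]
        have := (shiftFunctorAdd' C 1 j j' (by omega)).hom.naturality T.mor₁
        simp only [Functor.comp_map] at this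
        erw [← this, ← Category.assoc, hf', zero_comp])
    refine ⟨g, ?_⟩
    refine (dδ_apply R T W j j' h g).trans ((Category.assoc _ _ _).symm.trans ?_)
    erw [← hg]
    exact (Category.assoc _ _ _).trans ((congrArg (f ≫ ·)
      ((shiftFunctorAdd' C 1 j j' (by omega)).hom_inv_id_app T.obj₁)).trans (Category.comp_id f))
  · rintro ⟨g, rfl⟩
    change (g ≫ T.mor₃⟦j⟧' ≫ (shiftFunctorAdd' C 1 j j' (by omega)).inv.app T.obj₁) ≫ T.mor₁⟦j'⟧' = 0
    have := (shiftFunctorAdd' C 1 j j' (by omega)).inv.naturality T.mor₁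
    simp only [Functor.comp_map] at this
    rw [Category.assoc, Category.assoc, ← this, ← Functor.map_comp_assoc,
      comp_distTriang_mor_zero₃₁ T hT, Functor.map_zero, zero_comp, comp_zero]

end Groth.Agent.DualCx.Hom
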