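import Groth.Agent.DualCx.Amplitude
import Mathlib.Algebra.Category.ModuleCat.Basic
import Mathlib.Algebra.Homology.Additive

/-!
# The complex `Hom_A(M, I)` for a K-injective complex `I`
-/

universe u

open CategoryTheory CategoryTheory.Limits
open CochainComplex.HomComplex

attribute [local instance] HasDerivedCategory.standard

namespace Groth.Agent.DualCx.HomInj

open Devissage (E)

variable {A : Type u} [CommRing A] (M : Type u) [AddCommGroup M] [Module A M] (I : DRing.Cx A)

/-- termwise `Hom_A(M, I)` -/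
noncomputable def homC : DRing.Cx A :=
  CochainComplex.of (fun n => ModuleCat.of A (M →ₗ[A] I.X n))
    (fun n => ModuleCat.ofHom ((I.d n (n + 1)).hom.compRight A)) fun n => by
      refine ModuleCat.hom_ext (LinearMap.ext fun φ => LinearMap.ext fun m => ?_)
      exact DRing.Homology.d_d n (n + 1) (n + 1 + 1) (φ m)

theorem homC_d (n : ℤ) (φ : M →ₗ[A] I.X n) :
    ((homC M I).d n (n + 1)).hom φ = (I.d n (n + 1)).hom.comp φ := by
  have h : (homC M I).d n (n + 1) = ModuleCat.ofHom ((I.d n (n + 1)).hom.compRight A) := by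
    change CochainComplex.of.d (fun k => ModuleCat.of A (M →ₗ[A] I.X k))
      (fun k => ModuleCat.ofHom ((I.d k (k + 1)).hom.compRight A)) n (n + 1) = _
    exact CochainComplex.of_d (fun k => ModuleCat.of A (M →ₗ[A] I.X k)) _ n
  exact congrArg (fun g => g.hom φ) h

theorem homC_d_apply (i j : ℤ) (h : i + 1 = j) (φ : M →ₗ[A] I.X i) (m : M) :
    (show M →ₗ[A] I.X j from ((homC M I).d i j).hom φ) m = (I.d i j).hom (φ m) := by
  subst h
  exact congrArg (fun g : M →ₗ[A] I.X (i + 1) => g m) (homC_d M I i φ)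

variable [I.IsKInjective]

theorem exactAt (i : ℤ) (h : Subsingleton (E M (DRing.toD I) i)) : (homC M I).ExactAt i := by
  rw [DRing.Homology.exactAt_iff_forall i (i - 1) (by omega)]
  intro (φ : M →ₗ[A] I.X i) hφ
  obtain ⟨ψ, hψ⟩ := Amplitude.exists_lift I M i h φ fun m =>
    (homC_d_apply M I i (i + 1) rfl φ m).symm.trans (congrArg (fun g : M →ₗ[A] I.X (i + 1) => g m) hφ)
  exact ⟨ψ, LinearMap.ext fun m => (homC_d_apply M I (i - 1) i (by omega) ψ m).trans (hψ m)⟩

theorem subsingleton_HD (i : ℤ) (h : Subsingleton (E M (DRing.toD I) i)) :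
    Subsingleton (Dual.HD A (DRing.toD (homC M I)) i) := by
  have := ModuleCat.subsingleton_of_isZero
    ((HomologicalComplex.exactAt_iff_isZero_homology _ _).mp (exactAt M I i h))
  exact (DRing.DBasic.hIso (homC M I) i).toLinearEquiv.toEquiv.subsingleton

/-- cocycles as morphisms in `D(A)` -/
theorem exists_class (i : ℤ) :
    ∃ Φ : LinearMap.ker ((I.d i (i + 1)).hom.compRight A (M := M)) →ₗ[A] E M (DRing.toD I) i,
      Function.Surjective Φ ∧ ∀ φ, Φ φ = 0 ↔ ∃ ψ : M →ₗ[A] I.X (i - 1), (I.d (i - 1) i).hom.comp ψ = φ.1 := by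
  let s := Amplitude.sgl (ModuleCat.of A M)
  let e : (DRing.toD s ⟶ (DRing.toD I)⟦i⟧) ≃ₗ[A] E M (DRing.toD I) i :=
    Hom.congr A (Amplitude.sglIso (ModuleCat.of A M)) (Iso.refl _)
  let z (φ : LinearMap.ker ((I.d i (i + 1)).hom.compRight A (M := M))) : Cocycle s I i :=
    Cocycle.fromSingleMk (ModuleCat.ofHom φ.1) (zero_add i) (i + 1) rfl
      (ModuleCat.hom_ext φ.2)
  have hadd : ∀ φ ψ, z (φ + ψ) = z φ + z ψ := fun φ ψ => by
    refine Cocycle.ext ?_
    simp only [z, Cocycle.coe_add, Cocycle.fromSingleMk_coe]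
    rw [Submodule.coe_add, ModuleCat.ofHom_add, Cochain.fromSingleMk_add]
  have hsmul : ∀ (a : A) φ, z (a • φ) = a • z φ := fun a φ => by
    refine Cocycle.ext ?_
    simp only [z, Cocycle.coe_smul, Cocycle.fromSingleMk_coe]
    rw [Submodule.coe_smul]
    refine Cochain.ext _ _ fun p q hpq => ?_
    by_cases hp : p = 0
    · subst hp
      obtain rfl : q = i := by omega
      simp only [Cochain.fromSingleMk_v, Cochain.smul_v]
      rfl
    · exact (HomologicalComplex.isZero_single_obj_X (ComplexShape.up ℤ) (0 : ℤ) _ p hp).eq_of_src _ _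
  refine ⟨{ toFun := fun φ => e (Cx.classHom s I i (CohomologyClass.mk (z φ)))
            map_add' := fun φ ψ => by
              rw [hadd, CohomologyClass.mk_add, map_add, map_add]
            map_smul' := fun a φ => by
              rw [hsmul, Cx.classHom_smul, map_smul, RingHom.id_apply] }, fun x => ?_, fun φ => ?_⟩
  · obtain ⟨c, hc⟩ := (Cx.classHom s I i).surjective (e.symm x)
    obtain ⟨w, rfl⟩ := c.mk_surjective
    obtain ⟨f, hf⟩ := Cochain.fromSingleMk_surjective w.1 i (zero_add i)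
    have hd : f ≫ I.d i (i + 1) = 0 := by
      have h0 : δ i (i + 1) w.1 = 0 := Cocycle.δ_eq_zero w (i + 1)
      rw [← hf, Cochain.δ_fromSingleMk _ _ _ (i + 1) (zero_add _)] at h0
      simpa using congrArg (Cochain.fromSingleEquiv (zero_add (i + 1))) h0
    refine ⟨⟨f.hom, congrArg ModuleCat.Hom.hom hd⟩, ?_⟩
    change e (Cx.classHom s I i (CohomologyClass.mk _)) = x
    have : z ⟨f.hom, congrArg ModuleCat.Hom.hom hd⟩ = w := Cocycle.ext hf
    rw [this, hc, LinearEquiv.apply_symm_apply]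
  · change e _ = 0 ↔ _
    rw [LinearEquiv.map_eq_zero_iff, AddEquiv.map_eq_zero_iff, CohomologyClass.mk_eq_zero_iff,
      mem_coboundaries_iff _ (i - 1) (by omega)]
    constructor
    · rintro ⟨β, hβ⟩
      obtain ⟨ψ, rfl⟩ := Cochain.fromSingleMk_surjective β (i - 1) (zero_add _)
      rw [Cochain.δ_fromSingleMk _ _ _ i (zero_add i)] at hβ
      have := congrArg (Cochain.fromSingleEquiv (zero_add i)) hβ
      simp only [z, Cocycle.fromSingleMk_coe, Cochain.fromSingleEquiv_fromSingleMk] at this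
      exact ⟨ψ.hom, congrArg ModuleCat.Hom.hom this⟩
    · rintro ⟨ψ, hψ⟩
      refine ⟨Cochain.fromSingleMk (ModuleCat.ofHom ψ) (zero_add (i - 1)), ?_⟩
      rw [Cochain.δ_fromSingleMk _ _ _ i (zero_add i)]
      simp only [z, Cocycle.fromSingleMk_coe]
      congr 1
      exact ModuleCat.hom_ext hψ

theorem isCyc_iff (i : ℤ) (φ : M →ₗ[A] I.X i) :
    DRing.Homology.IsCyc (homC M I) i φ ↔ φ ∈ LinearMap.ker ((I.d i (i + 1)).hom.compRight A (M := M)) := by
  unfold DRing.Homology.IsCyc
  rw [show ((homC M I).d i (i + 1)).hom φ = (I.d i (i + 1)).hom.comp φ from homC_d M I i φ]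
  exact Iff.rfl

theorem nonempty_HD_equiv (i : ℤ) :
    Nonempty (Dual.HD A (DRing.toD (homC M I)) i ≃ₗ[A] E M (DRing.toD I) i) := by
  obtain ⟨Φ, hΦ, hker⟩ := exists_class M I i
  let Ψ : LinearMap.ker ((I.d i (i + 1)).hom.compRight A (M := M)) →ₗ[A] (homC M I).homology i :=
    { toFun := fun φ => DRing.Homology.cls (K := homC M I) (φ.1 : M →ₗ[A] I.X i) ((isCyc_iff M I i φ.1).mpr φ.2)
      map_add' := fun φ ψ => DRing.Homology.cls_add (K := homC M I) _ _
      map_smul' := fun a φ => DRing.Homology.cls_smul (K := homC M I) _ a }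
  have hΨ : Function.Surjective Ψ := fun x => by
    obtain ⟨z, hz, rfl⟩ := DRing.Homology.cls_surjective x
    exact ⟨⟨z, (isCyc_iff M I i z).mp hz⟩, rfl⟩
  have hk : LinearMap.ker Ψ = LinearMap.ker Φ := by
    ext φ
    rw [LinearMap.mem_ker, LinearMap.mem_ker, hker]
    refine (DRing.Homology.cls_eq_zero_iff (K := homC M I) (i - 1) (by omega) _).trans ?_
    exact exists_congr fun (ψ : M →ₗ[A] I.X (i - 1)) =>
      ⟨fun h => LinearMap.ext fun m => (homC_d_apply M I (i - 1) i (by omega) ψ m).symm.trans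
          (congrArg (fun g : M →ₗ[A] I.X i => g m) h),
        fun h => LinearMap.ext fun m => (homC_d_apply M I (i - 1) i (by omega) ψ m).trans
          (congrArg (fun g : M →ₗ[A] I.X i => g m) h)⟩
  exact ⟨(DRing.DBasic.hIso (homC M I) i).toLinearEquiv.trans
    (((Ψ.quotKerEquivOfSurjective hΨ).symm.trans (Submodule.quotEquivOfEq _ _ hk)).trans
      (Φ.quotKerEquivOfSurjective hΦ))⟩

end Groth.Agent.DualCx.HomInj
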