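import Groth.Agent.DualCx.Span
import Groth.Agent.DualCx.Devissage
import Mathlib.Algebra.Category.ModuleCat.EnoughInjectives
import Mathlib.Algebra.Homology.DerivedCategory.DerivabilityStructureInjectives
import Mathlib.RingTheory.Length

/-!
# The residue field of a local ring has `Ext` into a dualizing complex in exactly one degree
-/

universe u

open CategoryTheory CategoryTheory.Limits IsLocalRing

attribute [local instance] HasDerivedCategory.standard

namespace Groth.Agent.DualCx.Residue

variable {A : Type u} [CommRing A] {ω : Dual.D A}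

open Devissage (E)

theorem exists_cohomology_bounds (hω : Dual.IsDualizing A ω) :
    ∃ a b : ℤ, ∀ i, i < a ∨ b < i → Subsingleton (Dual.HD A ω i) := by
  obtain ⟨a, b, h⟩ := hω.finite_injective_dimension
  exact ⟨a, b, fun i hi => have := h A i hi; (Cx.homUnitEquivShift ω i).symm.toEquiv.subsingleton⟩

/-- a bounded below injective representative -/
theorem exists_rep {a : ℤ} (h : ∀ i, i < a → Subsingleton (Dual.HD A ω i)) :
    ∃ I : DRing.Cx A, Tower.GoodI I ∧ Nonempty (DRing.toD I ≅ ω) := by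
  have : ω.IsGE a := (DerivedCategory.isGE_iff ω a).mpr fun i hi =>
    (DRing.DBasic.subsingleton_HD_iff_isZero ω i).mp (h i hi)
  obtain ⟨K, _, ⟨e⟩⟩ := ω.exists_iso_Q_obj_of_isGE a
  obtain ⟨L, i, hi, hL, hL'⟩ :=
    CochainComplex.Plus.modelCategoryQuillen.exists_quasiIso_injective K a
  exact ⟨L, ⟨hL, a, hL'⟩, ⟨(asIso (DerivedCategory.Q.map i)).symm ≪≫ e.symm⟩⟩

theorem pt_self (hω : Dual.IsDualizing A ω) {I : DRing.Cx A} (e : DRing.toD I ≅ ω) :
    Span.Pt ω I := by
  refine ⟨fun j hj => ?_, ?_⟩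
  · have := hω.ext_self_subsingleton j hj
    exact (Hom.congr A (Iso.refl ω) ((shiftFunctor (Dual.D A) j).mapIso e)).toEquiv.subsingleton
  · have h : Function.Bijective (LinearMap.toSpanSingleton A (ω ⟶ ω) (𝟙 ω)) := hω.toEnd_bijective
    exact ⟨((Hom.congr A (Iso.refl ω) ((shiftFunctor (Dual.D A) (0 : ℤ)).mapIso e)).trans
      (Hom.shiftZero A ω ω)).trans (LinearEquiv.ofBijective _ h).symm⟩

theorem subsingleton_HD_unit (j : ℤ) (hj : j ≠ 0) :
    Subsingleton (Dual.HD A (DRing.toD (Cx.unitCx A)) j) :=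
  (DRing.DBasic.subsingleton_HD_toD_iff _ j).mpr
    (HomologicalComplex.isZero_single_obj_homology _ _ _ _ hj)

/-- `H^0` of `A[0]` -/
noncomputable def unitH0 : Dual.HD A (DRing.toD (Cx.unitCx A)) 0 ≃ₗ[A] A :=
  ((DRing.DBasic.hIso (Cx.unitCx A) 0).trans
    (HomologicalComplex.singleObjHomologySelfIso (ComplexShape.up ℤ) (0 : ℤ)
      (ModuleCat.of A A))).toLinearEquiv

theorem pt_unit : Span.Pt (Dual.inD A A) (Cx.unitCx A) := by
  refine ⟨fun j hj => ?_, ⟨(Cx.homUnitEquivShift _ 0).trans unitH0⟩⟩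
  have := subsingleton_HD_unit (A := A) j hj
  exact (Cx.homUnitEquivShift _ j).toEquiv.subsingleton

theorem finite_unit [IsNoetherianRing A] (j : ℤ) :
    Module.Finite A (Span.G (Dual.inD A A) (Cx.unitCx A) j) := by
  by_cases h : j = 0
  · subst h
    exact Module.Finite.equiv ((Cx.homUnitEquivShift _ 0).trans unitH0).symm
  · have := (pt_unit (A := A)).1 j h
    infer_instance

section Local

variable [IsLocalRing A] [IsNoetherianRing A]

omit [IsNoetherianRing A] in
theorem length_E {n : ℤ} (h : ∀ i, i ≠ n → Subsingleton (E (ResidueField A) ω i))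
    {N : Type u} [AddCommGroup N] [Module A N] (hN : IsFiniteLength A N) :
    Module.length A (E N ω n) =
      Module.length A (E (ResidueField A) ω n) * Module.length A N := by
  induction hN with
  | of_subsingleton =>
    rename_i M _ _ _
    have := Devissage.subsingleton_of_subsingleton (A := A) (M := M) (K := ω) n
    rw [Module.length_eq_zero (R := A) (M := E M ω n), Module.length_eq_zero (R := A) (M := M),
      mul_zero]
  | of_simple_quotient hN ih =>
    rename_i P _ _ N _
    obtain ⟨e⟩ := Devissage.nonempty_residue_equiv (A := A) (P ⧸ N)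
    have : IsSimpleModule A (ResidueField A) := IsSimpleModule.congr e.symm
    have hx := LinearMap.exact_subtype_mkQ N
    have hi := Submodule.injective_subtype N
    have hs := Submodule.mkQ_surjective N
    rw [Module.length_eq_add_of_exact _ _
      (Devissage.injective_pre (K := ω) hi hs hx n
        (Devissage.subsingleton_finiteLength (n - 1) (h _ (by omega)) hN))
      (Devissage.surjective_pre (K := ω) hi hs hx n
        (have := h (n + 1) (by omega); (Devissage.congrE e ω (n + 1)).toEquiv.subsingleton))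
      (Devissage.exact_mid hi hs hx n),
      Module.length_eq_add_of_exact _ _ hi hs hx, ih, (Devissage.congrE e ω n).length_eq,
      e.length_eq, mul_add, Module.length_eq_one A (ResidueField A), mul_one, add_comm]

/-- For a dualizing complex over a local ring, `Ext(κ, ω)` is `κ` in one degree and zero elsewhere. -/
theorem residue_single (hω : Dual.IsDualizing A ω) :
    ∃ n : ℤ, (∀ i, i ≠ n → Subsingleton (E (ResidueField A) ω i)) ∧
      Nonempty (E (ResidueField A) ω n ≃ₗ[A] ResidueField A) := by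
  classical
  obtain ⟨aω, bω, hbd⟩ := exists_cohomology_bounds hω
  obtain ⟨I, hI, ⟨eI⟩⟩ := exists_rep fun i hi => hbd i (Or.inl hi)
  obtain ⟨r, w, hr, hmr, hspec⟩ := Span.exists_span A
  let k : ℤ := r.length
  let P : Dual.D A := DRing.toD (Tower.T r (Cx.unitCx A))
  let C : Dual.D A := DRing.toD (Tower.T r.reverse I)
  obtain ⟨hPv, ⟨φP, hφP, hkP⟩, hPb⟩ := hspec _ _ (pt_unit (A := A))
  obtain ⟨hSv, ⟨φS, hφS, hkS⟩, hSb⟩ := hspec _ _ (pt_self hω eI)
  have hmrr : maximalIdeal A ≤ Ideal.ofList r.reverse := by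
    have : Ideal.ofList r.reverse = Ideal.ofList r := by simp [Ideal.ofList]
    rw [this]; exact hmr
  have hproper : Ideal.ofList r ≠ ⊤ := fun h =>
    (maximalIdeal.isMaximal A).ne_top (top_le_iff.mp (h ▸ Ideal.span_le.mpr hr))
  -- the comparison isomorphisms
  have ePC : ∀ t : ℤ, Nonempty (Devissage.F P ω t ≃ₗ[A] Dual.HD A C (t - k)) := fun t => by
    obtain ⟨e⟩ := Cx.nonempty_towerHom r (Cx.unitCx A) I hI t (t - k) (by simp [k])
    exact ⟨(((Hom.congr A (Iso.refl P) ((shiftFunctor (Dual.D A) t).mapIso eI.symm)).trans e).trans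
      (Hom.congr A (Cx.unitIso A) (Iso.refl _))).trans (Cx.homUnitEquivShift C (t - k))⟩
  have eCS : ∀ t : ℤ, Nonempty (Devissage.F C ω t ≃ₗ[A] Span.G ω (Tower.T r I) (t - k)) := fun t => by
    obtain ⟨e⟩ := Cx.nonempty_towerHom r.reverse I I hI t (t - k) (by simp [k])
    rw [List.reverse_reverse] at e
    exact ⟨((Hom.congr A (Iso.refl C) ((shiftFunctor (Dual.D A) t).mapIso eI.symm)).trans e).trans
      (Hom.congr A eI (Iso.refl _))⟩
  -- finiteness of the cohomology
  have hfl : ∀ q, IsFiniteLength A (Dual.HD A P q) := fun q => by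
    have := Span.finite_T r (finite_unit (A := A)) q
    exact (Cx.homUnitEquivShift P q).isFiniteLength
      (Span.isFiniteLength_of_kills r hmr fun x hx => by
        obtain ⟨N, hN⟩ := Span.exists_pow_kills (W := Dual.inD A A) (Y := Cx.unitCx A) r x hx
        exact ⟨N, hN q⟩)
  have hflC : ∀ q, IsFiniteLength A (Dual.HD A C q) := fun q => by
    have hfin : ∀ j, Module.Finite A (Span.G (Dual.inD A A) I j) := fun j => by
      have := hω.finite_cohomology j
      exact Module.Finite.equiv
        (((Cx.homUnitEquivShift (DRing.toD I) j).trans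
          ((DRing.DBasic.HF j).mapIso eI).toLinearEquiv)).symm
    have := Span.finite_T r.reverse hfin q
    exact (Cx.homUnitEquivShift C q).isFiniteLength
      (Span.isFiniteLength_of_kills r.reverse hmrr fun x hx => by
        obtain ⟨N, hN⟩ := Span.exists_pow_kills (W := Dual.inD A A) (Y := I) r.reverse x hx
        exact ⟨N, hN q⟩)
  have hP0 : ∀ q, q < -(w : ℤ) ∨ 0 < q → Subsingleton (Dual.HD A P q) := fun q hq => by
    have := hPv q hq.symm
    exact (Cx.homUnitEquivShift P q).symm.toEquiv.subsingleton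
  have eP0 : Nonempty ((A ⧸ Ideal.ofList r) ≃ₗ[A] Dual.HD A P 0) :=
    ⟨((Submodule.quotEquivOfEq _ _ hkP.symm).trans (φP.quotKerEquivOfSurjective hφP)).trans
      (Cx.homUnitEquivShift P 0)⟩
  have eS0 : Nonempty ((A ⧸ Ideal.ofList r) ≃ₗ[A] Span.G ω (Tower.T r I) 0) :=
    ⟨(Submodule.quotEquivOfEq _ _ hkS.symm).trans (φS.quotKerEquivOfSurjective hφS)⟩
  have hL0 : Nontrivial (A ⧸ Ideal.ofList r) := Ideal.Quotient.nontrivial_iff.mpr hproper
  -- the degrees of `Ext(κ, ω)`
  obtain ⟨a, b, hab⟩ := hω.finite_injective_dimension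
  have hbound : ∀ i, Nontrivial (E (ResidueField A) ω i) → a ≤ i ∧ i ≤ b := fun i hi => by
    by_contra h
    have := hab (ResidueField A) i (by omega)
    exact false_of_nontrivial_of_subsingleton (E (ResidueField A) ω i)
  have hne : ∃ i, Nontrivial (E (ResidueField A) ω i) := by
    by_contra hall
    push Not at hall
    have hPz : ∀ t, Subsingleton (Devissage.F P ω t) := fun t =>
      Devissage.subsingleton_F P (-(w : ℤ)) 0 hP0 t fun q _ _ =>
        Devissage.subsingleton_finiteLength (t + q) (hall _) (hfl q)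
    have hCz : ∀ q, Subsingleton (Dual.HD A C q) := fun q => by
      obtain ⟨e⟩ := ePC (q + k)
      have := hPz (q + k)
      have := e.symm.toEquiv.subsingleton
      rwa [add_sub_cancel_right] at this
    have : Subsingleton (Devissage.F C ω k) :=
      Devissage.subsingleton_F C 0 0 (fun i _ => hCz i) k fun q _ _ =>
        have := hCz q; Devissage.subsingleton_of_subsingleton _
    obtain ⟨e⟩ := eCS k
    rw [sub_self] at e
    have := e.symm.toEquiv.subsingleton
    obtain ⟨e'⟩ := eS0
    have := e'.toEquiv.subsingleton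
    exact false_of_nontrivial_of_subsingleton (A ⧸ Ideal.ofList r)
  obtain ⟨n₀, hn₀, hmin⟩ := Int.exists_least_of_bdd ⟨a, fun i hi => (hbound i hi).1⟩ hne
  obtain ⟨n₁, hn₁, hmax⟩ := Int.exists_greatest_of_bdd ⟨b, fun i hi => (hbound i hi).2⟩ hne
  have hvan : ∀ i, i < n₀ ∨ n₁ < i → Subsingleton (E (ResidueField A) ω i) := fun i hi => by
    rw [← not_nontrivial_iff_subsingleton]
    intro h
    have := hmin i h; have := hmax i h; omega
  have hEv : ∀ (X : Dual.D A) (q t : ℤ), IsFiniteLength A (Dual.HD A X q) →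
      (t + q < n₀ ∨ n₁ < t + q) → Subsingleton (E (Dual.HD A X q) ω (t + q)) :=
    fun X q t hX h => Devissage.subsingleton_finiteLength (t + q) (hvan _ h) hX
  have hPnz : Nontrivial (Dual.HD A P (-(w : ℤ))) :=
    have := hPb; (Cx.homUnitEquivShift P _).symm.toEquiv.nontrivial
  have hFP : ∀ t, (t < n₀ ∨ n₁ + w < t) → Subsingleton (Devissage.F P ω t) := fun t ht =>
    Devissage.subsingleton_F P (-(w : ℤ)) 0 hP0 t fun q hq hq' => hEv P q t (hfl q) (by omega)
  have hC0 : ∀ q, q < n₀ - k ∨ n₁ + w - k < q → Subsingleton (Dual.HD A C q) := fun q hq => by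
    obtain ⟨e⟩ := ePC (q + k)
    rw [add_sub_cancel_right] at e
    have := hFP (q + k) (by omega)
    exact e.symm.toEquiv.subsingleton
  have hCtop : Nontrivial (Dual.HD A C (n₁ + w - k)) := by
    obtain ⟨e₁⟩ := ePC (n₁ + w)
    obtain ⟨e₂⟩ := Devissage.nonempty_F_lowest (K := ω) P (-(w : ℤ)) 0 hP0 (n₁ + w)
      (fun q hq hq' => hEv P q _ (hfl q) (by omega))
      (fun q hq hq' => hEv P q _ (hfl q) (by omega))
    have : Nontrivial (E (Dual.HD A P (-(w : ℤ))) ω (n₁ + w + -(w : ℤ))) :=
      Devissage.nontrivial_top _ (by rwa [add_neg_cancel_right])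
        (hvan _ (by omega)) (hfl _)
    have := e₂.toEquiv.nontrivial
    exact e₁.symm.toEquiv.nontrivial
  -- the span forces a single degree
  have hle : n₁ ≤ n₀ := by
    by_contra hlt
    obtain ⟨e₁⟩ := eCS (n₀ - (n₁ + w - k))
    obtain ⟨e₂⟩ := Devissage.nonempty_F_highest (K := ω) C (n₀ - k) (n₁ + w - k) hC0
      (n₀ - (n₁ + w - k))
      (fun q hq hq' => hEv C q _ (hflC q) (by omega))
      (fun q hq hq' => hEv C q _ (hflC q) (by omega))
    have : Nontrivial (E (Dual.HD A C (n₁ + w - k)) ω (n₀ - (n₁ + w - k) + (n₁ + w - k))) :=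
      Devissage.nontrivial_bot _ (by rwa [sub_add_cancel]) (hvan _ (by omega)) (hflC _)
    have := e₂.toEquiv.nontrivial
    have := e₁.symm.toEquiv.nontrivial
    have := hSv (n₀ - (n₁ + w - k) - k) (Or.inr (by omega))
    exact false_of_nontrivial_of_subsingleton (Span.G ω (Tower.T r I) (n₀ - (n₁ + w - k) - k))
  obtain rfl : n₀ = n₁ := le_antisymm (hmin n₁ hn₁) hle
  refine ⟨n₀, fun i hi => hvan i (by omega), ?_⟩
  -- multiplicity one
  have hone : Module.length A (E (ResidueField A) ω n₀) = 1 := by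
    have hlen := fun {N : Type u} [AddCommGroup N] [Module A N] (hN : IsFiniteLength A N) =>
      length_E (ω := ω) (n := n₀) (fun i hi => hvan i (by omega)) hN
    obtain ⟨eq0⟩ := eP0
    -- `H^{n₀-k} C = E(A/(r))`
    have hq0 : Module.length A (Dual.HD A C (n₀ - k)) =
        Module.length A (E (ResidueField A) ω n₀) * Module.length A (A ⧸ Ideal.ofList r) := by
      obtain ⟨e₁⟩ := ePC n₀
      obtain ⟨e₂⟩ := Devissage.nonempty_F_highest (K := ω) P (-(w : ℤ)) 0 hP0 n₀
        (fun q hq hq' => hEv P q _ (hfl q) (by omega))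
        (fun q hq hq' => hEv P q _ (hfl q) (by omega))
      rw [← e₁.length_eq, e₂.length_eq, eq0.length_eq, ← hlen (hfl 0), add_zero]
    -- `E(H^{n₀-k} C) = A/(r)`
    obtain ⟨e₁⟩ := eCS (n₀ - (n₀ - k))
    obtain ⟨e₂⟩ := Devissage.nonempty_F_lowest (K := ω) C (n₀ - k) (n₀ + w - k) hC0 (n₀ - (n₀ - k))
      (fun q hq hq' => hEv C q _ (hflC q) (by omega))
      (fun q hq hq' => hEv C q _ (hflC q) (by omega))
    obtain ⟨e₃⟩ := eS0
    have hkey := hlen (hflC (n₀ - k))
    rw [show n₀ - (n₀ - k) + (n₀ - k) = n₀ by omega] at e₂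
    rw [show n₀ - (n₀ - k) - k = 0 by omega] at e₁
    rw [← e₂.length_eq, e₁.length_eq, ← e₃.length_eq, hq0, ← mul_assoc] at hkey
    have hfin : Module.length A (A ⧸ Ideal.ofList r) ≠ ⊤ :=
      Module.length_ne_top_iff.mpr (eq0.symm.isFiniteLength (hfl 0))
    have hpos : Module.length A (A ⧸ Ideal.ofList r) ≠ 0 := fun h =>
      have := Module.length_eq_zero_iff.mp h
      false_of_nontrivial_of_subsingleton (A ⧸ Ideal.ofList r)
    generalize Module.length A (E (ResidueField A) ω n₀) = ρ at hkey ⊢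
    generalize Module.length A (A ⧸ Ideal.ofList r) = L at hkey hfin hpos
    lift L to ℕ using hfin
    have hL : (L : ℕ) ≠ 0 := fun h => hpos (by simp [h])
    cases ρ with
    | top => simp [hpos] at hkey
    | coe ρ =>
      norm_cast at hkey ⊢
      have : ρ * ρ = 1 := Nat.eq_of_mul_eq_mul_right (Nat.pos_of_ne_zero hL) (by rw [one_mul]; exact hkey.symm)
      exact Nat.eq_one_of_mul_eq_one_left this
  have hsimple : IsSimpleModule A (E (ResidueField A) ω n₀) :=
    Module.length_eq_one_iff.mp hone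
  obtain ⟨m, hm, ⟨e⟩⟩ := isSimpleModule_iff_quot_maximal.mp hsimple
  obtain rfl := IsLocalRing.eq_maximalIdeal hm
  exact ⟨e⟩

end Local

end Groth.Agent.DualCx.Residue
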