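import Groth.Agent.DualCx.Cx
import Groth.Agent.DualCx.Residue
import Groth.Agent.DualCx.Devissage
import Groth.Agent.KoszulWiebe.Regular
import Groth.Agent.DRing.SingleTensor
import Groth.Agent.DRing.TorBalance

/-!
# Iterated cones of multiplications on a module, and `Ext`, `Tor` against a regular quotient
-/

universe u

open CategoryTheory CategoryTheory.Limits DerivedCategory Pretriangulated MonoidalCategory

attribute [local instance] HasDerivedCategory.standard

namespace Groth.Agent.DualCx.KoszulTower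

open DRing.Homology Tower

variable {A : Type u} [CommRing A]

/-- homology map to the cone -/
noncomputable def ιh (x : A) (Y : DRing.Cx A) (i : ℤ) :
    Y.homology i →ₗ[A] (cn x Y).homology i :=
  (HomologicalComplex.homologyMap (CochainComplex.mappingCone.triangle (x • 𝟙 Y)).mor₂ i).hom

/-- connecting map -/
noncomputable def δh (x : A) (Y : DRing.Cx A) (i j : ℤ) (h : i + 1 = j) :
    (cn x Y).homology i →ₗ[A] Y.homology j :=
  (CochainComplex.homologyδOfTriangle (CochainComplex.mappingCone.triangle (x • 𝟙 Y)) i j h).hom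

theorem ιh_eq_zero_iff (x : A) (Y : DRing.Cx A) (i : ℤ) (c : Y.homology i) :
    ιh x Y i c = 0 ↔ ∃ y, x • y = c := by
  have hT := DerivedCategory.mappingCone_triangle_distinguished (x • 𝟙 Y)
  have h1 : HomologicalComplex.homologyMap (CochainComplex.mappingCone.triangle (x • 𝟙 Y)).mor₁ i =
      x • 𝟙 _ := KosCone.Basic.homologyMap_smul_id x Y i
  constructor
  · intro hc
    obtain ⟨y, hy⟩ := (ShortComplex.moduleCat_exact_iff _).mp
      (CochainComplex.homologyMap_exact₂_of_distTriang _ hT i) c hc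
    refine ⟨y, ?_⟩
    rw [← hy]
    change _ = (HomologicalComplex.homologyMap (CochainComplex.mappingCone.triangle (x • 𝟙 Y)).mor₁ i).hom y
    rw [h1]
    rfl
  · rintro ⟨y, rfl⟩
    have := ConcreteCategory.congr_hom
      (CochainComplex.homologyMap_comp_eq_zero_of_distTriang _ hT i) y
    rw [h1] at this
    exact this

theorem δh_eq_zero_iff (x : A) (Y : DRing.Cx A) (i j : ℤ) (h : i + 1 = j) (c : (cn x Y).homology i) :
    δh x Y i j h c = 0 ↔ ∃ y, ιh x Y i y = c := by
  have hT := DerivedCategory.mappingCone_triangle_distinguished (x • 𝟙 Y)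
  constructor
  · intro hc
    exact (ShortComplex.moduleCat_exact_iff _).mp
      (CochainComplex.homologyMap_exact₃_of_distTriang _ hT i j h) c hc
  · rintro ⟨y, rfl⟩
    exact ConcreteCategory.congr_hom
      (CochainComplex.homologyMap_homologyδOfTriangle _ hT i j h) y

theorem smul_eq_zero_iff (x : A) (Y : DRing.Cx A) (i j : ℤ) (h : i + 1 = j) (c : Y.homology j) :
    x • c = 0 ↔ ∃ y, δh x Y i j h y = c := by
  have hT := DerivedCategory.mappingCone_triangle_distinguished (x • 𝟙 Y)
  have h1 : HomologicalComplex.homologyMap (CochainComplex.mappingCone.triangle (x • 𝟙 Y)).mor₁ j =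
      x • 𝟙 _ := KosCone.Basic.homologyMap_smul_id x Y j
  constructor
  · intro hc
    exact (ShortComplex.moduleCat_exact_iff _).mp
      (CochainComplex.homologyMap_exact₁_of_distTriang _ hT i j h) c (by
        change (HomologicalComplex.homologyMap (CochainComplex.mappingCone.triangle (x • 𝟙 Y)).mor₁ j).hom c = 0
        rw [h1]; exact hc)
  · rintro ⟨y, rfl⟩
    have := ConcreteCategory.congr_hom
      (CochainComplex.homologyδOfTriangle_homologyMap _ hT i j h) y
    rw [h1] at this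
    exact this

/-- the degree `j` term of a cone -/
noncomputable def coneX (x : A) (Y : DRing.Cx A) (j : ℤ) :
    (cn x Y).X j ≅ Y.X (j + 1) ⊞ Y.X j :=
  HomologicalComplex.homotopyCofiber.XIsoBiprod (x • 𝟙 Y) j (j + 1) rfl

/-- `M[0]` -/
noncomputable abbrev S0 (M : ModuleCat.{u} A) : DRing.Cx A := DRing.SingleTensor.S0 M

theorem isZero_X (M : ModuleCat.{u} A) : ∀ (l : List A) (i : ℤ), (0 < i ∨ i < -(l.length : ℤ)) →
    IsZero ((T l (S0 M)).X i)
  | [], i, hi => HomologicalComplex.isZero_single_obj_X _ _ _ i (by simp at hi; omega)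
  | x :: l, i, hi => by
    rw [List.length_cons] at hi
    push_cast at hi
    exact ((biprod_isZero_iff _ _).mpr
      ⟨isZero_X M l (i + 1) (by omega), isZero_X M l i (by omega)⟩).of_iso (coneX x _ i)

theorem subsingleton_homology (M : ModuleCat.{u} A) (l : List A) (i : ℤ)
    (hi : 0 < i ∨ i < -(l.length : ℤ)) : Subsingleton ((T l (S0 M)).homology i) :=
  ModuleCat.subsingleton_of_isZero
    (ShortComplex.isZero_homology_of_isZero_X₂ _ (isZero_X M l i hi))

theorem exists_toH0 (M : ModuleCat.{u} A) : ∀ (l : List A),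
    ∃ π : M →ₗ[A] (T l (S0 M)).homology 0,
      Function.Surjective π ∧ LinearMap.ker π = Ideal.ofList l • (⊤ : Submodule A M)
  | [] => by
    let e := (HomologicalComplex.singleObjHomologySelfIso (ComplexShape.up ℤ) (0 : ℤ) M).toLinearEquiv
    exact ⟨e.symm.toLinearMap, e.symm.surjective, by
      rw [Ideal.ofList_nil, Submodule.bot_smul]; exact e.symm.ker⟩
  | x :: l => by
    obtain ⟨π, hπ, hk⟩ := exists_toH0 M l
    refine ⟨ιh x _ 0 ∘ₗ π, ?_, ?_⟩
    · intro c
      have := subsingleton_homology M l 1 (Or.inl (by omega))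
      obtain ⟨y, hy⟩ := (δh_eq_zero_iff x (T l (S0 M)) 0 1 rfl c).mp (Subsingleton.elim _ _)
      obtain ⟨a, rfl⟩ := hπ y
      exact ⟨a, hy⟩
    · ext a
      refine LinearMap.mem_ker.trans ((ιh_eq_zero_iff x (T l (S0 M)) 0 (π a)).trans ?_)
      rw [Ideal.ofList_cons, Submodule.sup_smul, Submodule.mem_sup]
      constructor
      · rintro ⟨y, hy⟩
        obtain ⟨b, rfl⟩ := hπ y
        refine ⟨x • b, Submodule.smul_mem_smul (Ideal.mem_span_singleton_self x) Submodule.mem_top,
          a - x • b, ?_, add_sub_cancel _ _⟩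
        rw [← hk, LinearMap.mem_ker, map_sub, map_smul, hy, sub_self]
      · rintro ⟨u, hu, v, hv, rfl⟩
        rw [Submodule.ideal_span_singleton_smul, Submodule.mem_smul_pointwise_iff_exists] at hu
        obtain ⟨b, -, rfl⟩ := hu
        rw [← hk, LinearMap.mem_ker] at hv
        exact ⟨π b, by rw [map_add, hv, add_zero, map_smul]⟩

theorem exists_fromHtop (M : ModuleCat.{u} A) : ∀ (l : List A),
    ∃ ι : (T l (S0 M)).homology (-(l.length : ℤ)) →ₗ[A] M, Function.Injective ι ∧
      ∀ m, m ∈ LinearMap.range ι ↔ ∀ a ∈ l, a • m = 0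
  | [] => by
    let e := (HomologicalComplex.singleObjHomologySelfIso (ComplexShape.up ℤ) (0 : ℤ) M).toLinearEquiv
    exact ⟨e.toLinearMap, e.injective, fun m => ⟨fun _ _ ha => absurd ha List.not_mem_nil, fun _ => ⟨e.symm m, e.apply_symm_apply m⟩⟩⟩
  | x :: l => by
    obtain ⟨ι, hι, hr⟩ := exists_fromHtop M l
    refine ⟨ι ∘ₗ δh x (T l (S0 M)) (-((x :: l).length : ℤ)) (-(l.length : ℤ))
      (by rw [List.length_cons]; push_cast; omega), ?_, fun m => ?_⟩
    · refine hι.comp ((injective_iff_map_eq_zero _).mpr fun c hc => ?_)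
      obtain ⟨y, rfl⟩ := (δh_eq_zero_iff _ _ _ _ _ c).mp hc
      have := subsingleton_homology M l (-((x :: l).length : ℤ))
        (Or.inr (by rw [List.length_cons]; push_cast; omega))
      exact (congrArg _ (Subsingleton.elim y 0)).trans (map_zero _)
    · constructor
      · rintro ⟨y, rfl⟩ a ha
        rcases List.mem_cons.mp ha with rfl | ha
        · exact (ι.map_smul a _).symm.trans ((congrArg ι
            ((smul_eq_zero_iff a (T l (S0 M)) _ _ _ _).mpr ⟨y, rfl⟩)).trans (map_zero ι))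
        · exact (hr _).mp ⟨_, rfl⟩ a ha
      · intro hm
        obtain ⟨y, rfl⟩ := (hr m).mpr fun a ha => hm a (List.mem_cons_of_mem x ha)
        have h0 : x • y = 0 := hι (by rw [map_smul, map_zero, hm x List.mem_cons_self])
        obtain ⟨z, hz⟩ := (smul_eq_zero_iff x (T l (S0 M)) (-((x :: l).length : ℤ)) _
          (by rw [List.length_cons]; push_cast; omega) y).mp h0
        exact ⟨z, congrArg ι hz⟩

/-- all differentials vanish and the terms are powers of `M`, if `M` is killed by the list -/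
theorem killed (M : ModuleCat.{u} A) : ∀ (l : List A), (∀ a ∈ l, ∀ m : M, a • m = 0) →
    (∀ i j, (T l (S0 M)).d i j = 0) ∧ ∀ k : ℕ,
      Nonempty ((T l (S0 M)).X (-(k : ℤ)) ≃ₗ[A] (Fin (l.length.choose k) → M))
  | [], _ => by
    refine ⟨fun i j => HomologicalComplex.single_obj_d _ _ _ i j, fun k => ?_⟩
    rcases k with _ | k
    · exact ⟨(HomologicalComplex.singleObjXSelf (ComplexShape.up ℤ) (0 : ℤ) M).toLinearEquiv.trans
        (LinearEquiv.funUnique (Fin 1) A M).symm⟩
    · have := ModuleCat.subsingleton_of_isZero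
        (isZero_X M ([] : List A) (-((k + 1 : ℕ) : ℤ)) (Or.inr (by simp; omega)))
      have : IsEmpty (Fin (([] : List A).length.choose (k + 1))) := by
        simp only [List.length_nil, Nat.choose_zero_succ]; infer_instance
      exact ⟨LinearEquiv.ofSubsingleton _ _⟩
  | x :: l, h => by
    obtain ⟨hd, hX⟩ := killed M l fun a ha => h a (List.mem_cons_of_mem x ha)
    have hx : ∀ i (c : (T l (S0 M)).X i), x • c = 0 := by
      intro i c
      by_cases hi : 0 < i
      · have := ModuleCat.subsingleton_of_isZero (isZero_X M l i (Or.inl hi))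
        exact Subsingleton.elim _ _
      · obtain ⟨k, rfl⟩ : ∃ k : ℕ, i = -(k : ℤ) := ⟨(-i).toNat, by omega⟩
        obtain ⟨e⟩ := hX k
        refine e.injective ?_
        rw [map_smul, map_zero]
        exact funext fun r => h x List.mem_cons_self _
    refine ⟨fun i j => ?_, fun k => ?_⟩
    · change (cn x (T l (S0 M))).d i j = 0
      by_cases hij : i + 1 = j
      · subst hij
        refine CochainComplex.mappingCone.ext_from _ (i + 1) i rfl ?_ ?_
        · rw [CochainComplex.mappingCone.inl_v_d _ (i + 1) i (i + 2) (by omega) (by omega), hd,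
            zero_comp, sub_zero, comp_zero]
          rw [show (x • 𝟙 (T l (S0 M))).f (i + 1) = 0 from
            ModuleCat.hom_ext (LinearMap.ext fun c => hx (i + 1) c), zero_comp]
        · rw [CochainComplex.mappingCone.inr_f_d, hd, zero_comp, comp_zero]
      · exact HomologicalComplex.shape _ _ _ hij
    · rcases k with _ | k
      · obtain ⟨e⟩ := hX 0
        have := ModuleCat.subsingleton_of_isZero (isZero_X M l (-((0 : ℕ) : ℤ) + 1) (Or.inl (by simp)))
        let u : ((T l (S0 M)).X (-((0 : ℕ) : ℤ) + 1) : Type u) ≃ₗ[A] (Fin 0 → M) :=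
          LinearEquiv.ofSubsingleton _ _
        let w := (coneX x (T l (S0 M)) (-((0 : ℕ) : ℤ)) ≪≫
          ModuleCat.biprodIsoProd _ _).toLinearEquiv.trans (u.prodCongr e)
        let r : (Fin 0 ⊕ Fin (l.length.choose 0) → M) ≃ₗ[A] (Fin ((x :: l).length.choose 0) → M) :=
          LinearEquiv.funCongrLeft A M ((finCongr (by simp)).trans finSumFinEquiv.symm)
        exact ⟨w.trans ((LinearEquiv.sumArrowLequivProdArrow (Fin 0) (Fin (l.length.choose 0)) A M).symm.trans r)⟩
      · obtain ⟨e₁⟩ := hX k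
        obtain ⟨e₂⟩ := hX (k + 1)
        have hk : -((k + 1 : ℕ) : ℤ) + 1 = -(k : ℤ) := by push_cast; omega
        let w := (coneX x (T l (S0 M)) (-((k + 1 : ℕ) : ℤ)) ≪≫
          ModuleCat.biprodIsoProd _ _).toLinearEquiv.trans
          (((eqToIso (congrArg (T l (S0 M)).X hk)).toLinearEquiv.trans e₁).prodCongr e₂)
        let r : (Fin (l.length.choose k) ⊕ Fin (l.length.choose (k + 1)) → M) ≃ₗ[A]
            (Fin ((x :: l).length.choose (k + 1)) → M) :=
          LinearEquiv.funCongrLeft A M ((finCongr (by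
            rw [List.length_cons, Nat.choose_succ_succ])).trans finSumFinEquiv.symm)
        exact ⟨w.trans ((LinearEquiv.sumArrowLequivProdArrow (Fin (l.length.choose k))
          (Fin (l.length.choose (k + 1))) A M).symm.trans r)⟩

theorem nonempty_killed_homology (M : ModuleCat.{u} A) (l : List A)
    (h : ∀ a ∈ l, ∀ m : M, a • m = 0) (k : ℕ) :
    Nonempty ((T l (S0 M)).homology (-(k : ℤ)) ≃ₗ[A] (Fin (l.length.choose k) → M)) := by
  obtain ⟨hd, hX⟩ := killed M l h
  obtain ⟨e⟩ := hX k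
  exact ⟨(ShortComplex.HomologyData.ofZeros ((T l (S0 M)).sc (-(k : ℤ)))
    (hd _ _) (hd _ _)).left.homologyIso.toLinearEquiv.trans e⟩

theorem koszul_eq : ∀ l : List A, Koszul.koszul A l = T l (S0 (ModuleCat.of A A))
  | [] => rfl
  | x :: l => congrArg (fun K : DRing.Cx A => CochainComplex.mappingCone (x • 𝟙 K)) (koszul_eq l)

/-- iterated cones respect isomorphisms in `D(A)` -/
theorem nonempty_T_congr : ∀ (l : List A) {Y Y' : DRing.Cx A} (_ : DRing.toD Y ≅ DRing.toD Y'),
    Nonempty (DRing.toD (T l Y) ≅ DRing.toD (T l Y'))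
  | [], _, _, e => ⟨e⟩
  | x :: l, Y, Y', e => by
    obtain ⟨e'⟩ := nonempty_T_congr l e
    exact ⟨Triangle.π₃.mapIso (isoTriangleOfIso₁₂ _ _ (Cx.cnTri_distinguished x (T l Y))
      (Cx.cnTri_distinguished x (T l Y')) e' e' (by
        rw [Cx.cnTri_mor₁, Cx.cnTri_mor₁]
        change (x • 𝟙 (DRing.toD (T l Y))) ≫ e'.hom = e'.hom ≫ (x • 𝟙 (DRing.toD (T l Y')))
        rw [Linear.smul_comp, Linear.comp_smul, Category.id_comp, Category.comp_id]))⟩

theorem nonempty_quotient_iso (l : List A) (hl : RingTheory.Sequence.IsWeaklyRegular A l.reverse) :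
    Nonempty (DRing.toD (T l (S0 (ModuleCat.of A A))) ≅ Dual.inD A (A ⧸ Ideal.ofList l)) := by
  have hac : ∀ i, i ≠ 0 → Subsingleton ((T l (S0 (ModuleCat.of A A))).homology i) := fun i hi => by
    rw [← koszul_eq]
    exact ModuleCat.subsingleton_of_isZero (KoszulWiebe.acyclic_of_isWeaklyRegular_reverse l hl i hi)
  obtain ⟨s⟩ := Devissage.nonempty_single (DRing.toD (T l (S0 (ModuleCat.of A A)))) 0 fun i hi =>
    have := hac i hi
    (DRing.DBasic.hIso _ i).toLinearEquiv.toEquiv.subsingleton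
  obtain ⟨π, hπ, hk⟩ := exists_toH0 (ModuleCat.of A A) l
  let eH := ((Submodule.quotEquivOfEq _ _ (hk.trans (Ideal.mul_top _))).symm.trans
    (π.quotKerEquivOfSurjective hπ)).trans
      (DRing.DBasic.hIso (T l (S0 (ModuleCat.of A A))) 0).toLinearEquiv.symm
  exact ⟨s ≪≫ (shiftFunctor (Dual.D A) (-(0 : ℤ))).mapIso
    ((singleFunctor (ModuleCat.{u} A) 0).mapIso eH.symm.toModuleIso) ≪≫
    (shiftFunctorZero' (Dual.D A) (-(0 : ℤ)) (by simp)).app _⟩

theorem nonempty_Ext (l : List A) (hl : RingTheory.Sequence.IsWeaklyRegular A l.reverse)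
    (M : Type u) [AddCommGroup M] [Module A M] (i : ℕ) :
    Nonempty (Abelian.Ext.{u} (ModuleCat.of A (A ⧸ Ideal.ofList l)) (ModuleCat.of A M) i ≃ₗ[A]
      (T l.reverse (S0 (ModuleCat.of A M))).homology ((i : ℤ) - l.length)) := by
  obtain ⟨e⟩ := nonempty_quotient_iso l hl
  obtain ⟨I, hI, ⟨eI⟩⟩ := Residue.exists_rep (ω := Dual.inD A M) (a := 0) fun j hj =>
    DRing.PC.subsingleton_HD_inD A M j (by omega)
  obtain ⟨tE⟩ := Cx.nonempty_towerHom l (Cx.unitCx A) I hI (i : ℤ) ((i : ℤ) - l.length) (by omega)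
  obtain ⟨c⟩ := nonempty_T_congr l.reverse
    (Y := I) (Y' := S0 (ModuleCat.of A M)) (eI ≪≫ ((singleFunctorIsoCompQ (ModuleCat.{u} A) 0).app (ModuleCat.of A M)))
  exact ⟨(((Abelian.Ext.homLinearEquiv.trans
    (Hom.congr A e ((shiftFunctor (Dual.D A) (i : ℤ)).mapIso eI)).symm).trans tE).trans
      ((Hom.congr A (Cx.unitIso A) (Iso.refl _)).trans (Cx.homUnitEquivShift _ _))).trans
        ((DRing.DBasic.HF _).mapIso c ≪≫ DRing.DBasic.hIso _ _).toLinearEquiv⟩

theorem projective_X : ∀ (l : List A) (i : ℤ),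
    Module.Projective A ((T l (S0 (ModuleCat.of A A))).X i)
  | [], i => by
    by_cases h : i = 0
    · subst h
      exact Module.Projective.of_equiv (HomologicalComplex.singleObjXSelf (ComplexShape.up ℤ) (0 : ℤ)
        (ModuleCat.of A A)).toLinearEquiv.symm
    · have := ModuleCat.subsingleton_of_isZero
        (HomologicalComplex.isZero_single_obj_X (ComplexShape.up ℤ) (0 : ℤ) (ModuleCat.of A A) i h)
      exact @Module.Projective.of_free A _ _ _ _ (@Module.Free.of_subsingleton A _ _ _ _ this)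
  | x :: l, i => by
    have := projective_X l (i + 1)
    have := projective_X l i
    exact Module.Projective.of_equiv (coneX x _ i ≪≫ ModuleCat.biprodIsoProd _ _).toLinearEquiv.symm

/-- tensoring a tower with a module -/
theorem nonempty_tensor_T (M : ModuleCat.{u} A) : ∀ (l : List A),
    Nonempty (DRing.toD (DRing.tensorCx (T l (S0 (ModuleCat.of A A))) M) ≅
      DRing.toD (T l (S0 M)))
  | [] => ⟨DerivedCategory.Q.mapIso
      ((HomologicalComplex.singleMapHomologicalComplex (tensorRight M) (ComplexShape.up ℤ) 0).app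
        (ModuleCat.of A A) ≪≫ (HomologicalComplex.single _ _ 0).mapIso (λ_ M))⟩
  | x :: l => by
    obtain ⟨e⟩ := nonempty_tensor_T M l
    let F := tensorRight M
    have hmap : (F.mapHomologicalComplex (ComplexShape.up ℤ)).map
        (x • 𝟙 (T l (S0 (ModuleCat.of A A)))) =
        x • 𝟙 ((F.mapHomologicalComplex (ComplexShape.up ℤ)).obj (T l (S0 (ModuleCat.of A A)))) := by
      rw [Functor.map_smul, CategoryTheory.Functor.map_id]
    obtain ⟨e'⟩ := nonempty_T_congr [x] e
    exact ⟨DerivedCategory.Q.mapIso (CochainComplex.mappingCone.mapHomologicalComplexIso _ F ≪≫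
      eqToIso (congrArg (fun φ => CochainComplex.mappingCone φ) hmap)) ≪≫ e'⟩

/-- `Tor_{k+1}(A/(l), M)` -/
theorem nonempty_Tor' (l : List A) (hl : RingTheory.Sequence.IsWeaklyRegular A l.reverse)
    (M : Type u) [AddCommGroup M] [Module A M] (k : ℕ) :
    Nonempty (((((CategoryTheory.Tor' (ModuleCat.{u} A) (k + 1)).obj
        (ModuleCat.of A (A ⧸ Ideal.ofList l))).obj (ModuleCat.of A M)) : ModuleCat.{u} A) ≃ₗ[A]
      (T l (S0 (ModuleCat.of A M))).homology (-((k + 1 : ℕ) : ℤ))) := by
  let N := ModuleCat.of A (A ⧸ Ideal.ofList l)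
  let F := tensorRight (ModuleCat.of A M)
  let R := projectiveResolution N
  let R' := R.cochainComplex
  have hproj : ∀ i, Module.Projective A (R'.X i) := fun i => (IsProjective.iff_projective _).2
    (inferInstanceAs (Projective (R'.X i)))
  have := DRing.DBasic.isKProjective_of_projective R' 0
    (fun i hi => CochainComplex.isZero_of_isStrictlyLE _ 0 i hi) hproj
  let rX : ∀ (n : ℤ) (j : ℕ), -(j : ℤ) = n →
      ((DRing.tensorCx R' (ModuleCat.of A M)).X n ≅ F.obj (R.complex.X j)) :=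
    fun n j h => F.mapIso (R.cochainComplexXIso n j h)
  have hcomm : ∀ (n₁ n₂ : ℤ) (j₁ j₂ : ℕ) (h₁ : -(j₁ : ℤ) = n₁) (h₂ : -(j₂ : ℤ) = n₂),
      (DRing.tensorCx R' (ModuleCat.of A M)).d n₁ n₂ ≫ (rX n₂ j₂ h₂).hom =
        (rX n₁ j₁ h₁).hom ≫ F.map (R.complex.d j₁ j₂) := by
    intro n₁ n₂ j₁ j₂ h₁ h₂
    change F.map (R'.d n₁ n₂) ≫ F.map _ = F.map _ ≫ F.map _
    rw [← F.map_comp, ← F.map_comp, R.cochainComplex_d n₁ n₂ j₁ j₂ h₁ h₂, Category.assoc,
      Category.assoc, Iso.inv_hom_id, Category.comp_id]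
  let C := (F.mapHomologicalComplex (ComplexShape.down ℕ)).obj R.complex
  let D := DRing.tensorCx R' (ModuleCat.of A M)
  let e₀ : D.sc' (-((k + 2 : ℕ) : ℤ)) (-((k + 1 : ℕ) : ℤ)) (-(k : ℤ)) ≅ C.sc' (k + 2) (k + 1) k :=
    ShortComplex.isoMk (rX _ (k + 2) rfl) (rX _ (k + 1) rfl) (rX _ k rfl)
      (hcomm _ _ (k + 2) (k + 1) rfl rfl).symm (hcomm _ _ (k + 1) k rfl rfl).symm
  let e₁ := (C.isoSc' (k + 2) (k + 1) k (by simp) (by simp))
  let e₂ := (D.isoSc' (-((k + 2 : ℕ) : ℤ)) (-((k + 1 : ℕ) : ℤ)) (-(k : ℤ))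
    (by simp; omega) (by simp))
  obtain ⟨eQ⟩ := nonempty_quotient_iso l hl
  let eR : DRing.toD R' ≅ DRing.toD (T l (S0 (ModuleCat.of A A))) :=
    DRing.TorBalance.resIso R ≪≫ DRing.TorBalance.inDS0 (A ⧸ Ideal.ofList l) ≪≫ eQ.symm
  obtain ⟨g, hg⟩ := DRing.DBasic.exists_Q_map_eq eR.hom
  have : QuasiIso g := (isIso_Q_map_iff_quasiIso (C := ModuleCat.{u} A) g).1
    (by rw [hg]; infer_instance)
  have := DRing.SingleTensor.quasiIso_tensorRight (ModuleCat.of A M) g
    (DRing.KFlat.isKFlat_of_isKProjective R')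
    (DRing.TorAmp.isKFlat_of_projective (b := 0)
      (fun i hi => isZero_X _ l i (Or.inl hi)) (projective_X l))
  obtain ⟨c⟩ := nonempty_tensor_T (ModuleCat.of A M) l
  exact ⟨((R.isoLeftDerivedObj F (k + 1)) ≪≫
    ShortComplex.homologyMapIso (e₁ ≪≫ e₀.symm ≪≫ e₂.symm) ≪≫
    @asIso _ _ _ _ (HomologicalComplex.homologyMap
      (((tensorRight (ModuleCat.of A M)).mapHomologicalComplex (ComplexShape.up ℤ)).map g) _)
      ((quasiIsoAt_iff_isIso_homologyMap _ _).mp inferInstance) ≪≫
    (DRing.DBasic.hIso _ _).symm ≪≫ (DRing.DBasic.HF _).mapIso c ≪≫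
    DRing.DBasic.hIso _ _).toLinearEquiv⟩

end Groth.Agent.DualCx.KoszulTower
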