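import Groth.Agent.DualCx.RegEl
import Groth.Agent.DualCx.Comp

/-!
# Flat base change of the right adjoint of restriction along a surjection
-/

universe u v

open CategoryTheory CategoryTheory.Limits
open scoped TensorProduct

attribute [local instance] HasDerivedCategory.standard

namespace Groth.Agent.DualCx.SurjBC

open BaseChange (ext FD extEquiv)
open LinBaseChange (β Bij)

variable {P B P₁ B₁ : Type u} [CommRing P] [CommRing B] [CommRing P₁] [CommRing B₁]
  [Algebra P B] [Algebra P P₁] [Algebra B B₁] [Algebra P₁ B₁] [Algebra P B₁]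
  [IsScalarTower P B B₁] [IsScalarTower P P₁ B₁]

variable (P B P₁ B₁) in
/-- `P → B` is surjective and `B₁` is its base change to `P₁` -/
structure Hyp : Prop where
  surj : Function.Surjective (algebraMap P B)
  surj₁ : Function.Surjective (algebraMap P₁ B₁)
  ker : RingHom.ker (algebraMap P₁ B₁) = (RingHom.ker (algebraMap P B)).map (algebraMap P P₁)

section Modules

variable (M : Type v) [AddCommGroup M] [Module P M] [Module B M] [IsScalarTower P B M]

variable (P B P₁ B₁) in
/-- `P₁ ⊗ M → B₁ ⊗ M` -/
noncomputable def q : P₁ ⊗[P] M →ₗ[P₁] B₁ ⊗[B] M :=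
  TensorProduct.AlgebraTensorModule.lift
    { toFun := fun x =>
        { toFun := fun m => algebraMap P₁ B₁ x ⊗ₜ[B] m
          map_add' := fun m m' => TensorProduct.tmul_add _ _ _
          map_smul' := fun p m => by
            rw [← algebraMap_smul B p m, TensorProduct.tmul_smul, algebraMap_smul,
              RingHom.id_apply] }
      map_add' := fun x y => by ext m; simp [TensorProduct.add_tmul]
      map_smul' := fun c x => by
        ext m
        change algebraMap P₁ B₁ (c * x) ⊗ₜ[B] m = c • (algebraMap P₁ B₁ x ⊗ₜ[B] m)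
        rw [map_mul, TensorProduct.smul_tmul', Algebra.smul_def] }

theorem q_tmul (x : P₁) (m : M) : q P B P₁ B₁ M (x ⊗ₜ m) = algebraMap P₁ B₁ x ⊗ₜ[B] m := rfl

theorem bijective_q (h : Hyp P B P₁ B₁) : Function.Bijective (q P B P₁ B₁ M) := by
  have hJ : ∀ c ∈ RingHom.ker (algebraMap P₁ B₁), ∀ t : P₁ ⊗[P] M, c • t = 0 := by
    intro c hc t
    rw [h.ker] at hc
    induction hc using Submodule.span_induction with
    | mem c hc =>
      obtain ⟨p, hp, rfl⟩ := hc
      rw [algebraMap_smul]
      induction t using TensorProduct.induction_on with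
      | zero => simp
      | tmul x m =>
        rw [← TensorProduct.tmul_smul, ← algebraMap_smul B p m,
          show algebraMap P B p = 0 from hp, zero_smul, TensorProduct.tmul_zero]
      | add x y hx hy => rw [smul_add, hx, hy, add_zero]
    | zero => rw [zero_smul]
    | add c c' _ _ h h' => rw [add_smul, h, h', add_zero]
    | smul a c _ h => rw [smul_eq_mul, mul_smul, h, smul_zero]
  choose σ hσ using h.surj₁
  have hσ' : ∀ (b : B₁) (c : P₁) (m : M), algebraMap P₁ B₁ c = b →
      (σ b) ⊗ₜ[P] m = c ⊗ₜ m := fun b c m hc => by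
    rw [← sub_eq_zero, ← TensorProduct.sub_tmul]
    have := hJ (σ b - c) (by rw [RingHom.mem_ker, map_sub, hσ, hc, sub_self]) (1 ⊗ₜ m)
    rwa [TensorProduct.smul_tmul', smul_eq_mul, mul_one] at this
  let inv : B₁ ⊗[B] M →+ P₁ ⊗[P] M := TensorProduct.liftAddHom
    { toFun := fun b =>
        { toFun := fun m => σ b ⊗ₜ[P] m
          map_zero' := TensorProduct.tmul_zero _ _
          map_add' := TensorProduct.tmul_add _ }
      map_zero' := by
        ext m
        exact (hσ' 0 0 m (map_zero _)).trans (TensorProduct.zero_tmul _ _)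
      map_add' := fun b b' => by
        ext m
        exact (hσ' (b + b') (σ b + σ b') m (by rw [map_add, hσ, hσ])).trans
          (TensorProduct.add_tmul _ _ _) }
    fun r b m => by
      obtain ⟨p, rfl⟩ := h.surj r
      change σ (algebraMap P B p • b) ⊗ₜ[P] m = σ b ⊗ₜ[P] (algebraMap P B p • m)
      rw [algebraMap_smul B p m, TensorProduct.tmul_smul, TensorProduct.smul_tmul']
      refine hσ' _ _ m ?_
      rw [Algebra.smul_def, map_mul, hσ, algebraMap_smul, Algebra.smul_def,
        ← IsScalarTower.algebraMap_apply]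
  refine Function.bijective_iff_has_inverse.mpr ⟨inv, fun t => ?_, fun t => ?_⟩
  · induction t using TensorProduct.induction_on with
    | zero => simp
    | tmul x m => exact hσ' _ x m rfl
    | add x y hx hy => rw [map_add, map_add, hx, hy]
  · induction t using TensorProduct.induction_on with
    | zero => simp
    | tmul b m => exact congrArg (· ⊗ₜ[B] m) (hσ b)
    | add x y hx hy => rw [map_add, map_add, hx, hy]

end Modules

/-- `B₁ ⊗ M` seen over `P₁` -/
noncomputable def extEquiv₁ (M : ModuleCat.{u} B) :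
    B₁ ⊗[B] M ≃ₗ[P₁] (ext B B₁ ⋙ ModuleCat.restrictScalars.{u} (algebraMap P₁ B₁)).obj M :=
  letI : Module P₁ ((ext B B₁ ⋙ ModuleCat.restrictScalars.{u} (algebraMap P₁ B₁)).obj M) :=
    ((ext B B₁ ⋙ ModuleCat.restrictScalars.{u} (algebraMap P₁ B₁)).obj M).isModule
  { (extEquiv B B₁ M).toAddEquiv with
    map_smul' := fun c x => by
      change extEquiv B B₁ M (c • x) = algebraMap P₁ B₁ c • extEquiv B B₁ M x
      rw [← map_smul, algebraMap_smul] }

variable (h : Hyp P B P₁ B₁)

include h

/-- the module-level exchange -/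
theorem nonempty_exchange :
    Nonempty (ext B B₁ ⋙ ModuleCat.restrictScalars.{u} (algebraMap P₁ B₁) ≅
      ModuleCat.restrictScalars.{u} (algebraMap P B) ⋙ ext P P₁) := by
  refine ⟨(NatIso.ofComponents (fun M => ?_) fun {M N} g => ?_).symm⟩
  · letI : Module P M := Module.compHom M (algebraMap P B)
    have : IsScalarTower P B M := IsScalarTower.of_algebraMap_smul fun _ _ => rfl
    exact (extEquiv P P₁ ((ModuleCat.restrictScalars (algebraMap P B)).obj M)).toModuleIso.symm ≪≫
      ((LinearEquiv.ofBijective (q P B P₁ B₁ M) (bijective_q M h)).trans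
        (extEquiv₁ (P₁ := P₁) (B₁ := B₁) M)).toModuleIso
  · refine ModuleCat.hom_ext (LinearMap.ext fun x => ?_)
    obtain ⟨y, rfl⟩ := (extEquiv P P₁ ((ModuleCat.restrictScalars (algebraMap P B)).obj M)).surjective x
    induction y using TensorProduct.induction_on with
    | zero => simp only [map_zero]
    | tmul a m => rfl
    | add y z hy hz => simp only [map_add, hy, hz]

section Main

variable [Module.Flat P P₁] [Module.Flat B B₁]

omit h in
theorem bij_res [IsNoetherianRing P] (hs : Function.Surjective (algebraMap P B)) (X : Dual.D P)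
    (a : ℤ) [X.IsGE a] (i : ℤ) :
    Bij P P₁ (FD P P₁) ((DRing.restrictD (algebraMap P B)).obj (DRing.toD (RegEl.U B i))) X := by
  have : Module.Finite P B := Module.Finite.of_surjective (Algebra.linearMap P B) hs
  let e : (Dual.inD P B)⟦-i⟧ ≅ (DRing.restrictD (algebraMap P B)).obj (DRing.toD (RegEl.U B i)) :=
    (Shriek.resShiftIso B i).symm ≪≫ (DRing.restrictD (algebraMap P B)).mapIso (RegEl.UIso B i).symm
  refine (LinBaseChange.bij_iff_of_iso P P₁ (FD P P₁) e
    ((shiftFunctorCompIsoId (Dual.D P) i (-i) (add_neg_cancel i)).app X)).mp ?_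
  exact (LinBaseChange.bij_shift_iff P P₁ (FD P P₁) (Dual.inD P B) (X⟦i⟧) (-i)).mpr
    (BaseChange.bijAt_finite X a i B)

/-- flat base change of the right adjoint along a surjection -/
theorem nonempty_iso [IsNoetherianRing P] {R : Dual.D P ⥤ Dual.D B}
    (adj : DRing.restrictD (algebraMap P B) ⊣ R) {R₁ : Dual.D P₁ ⥤ Dual.D B₁}
    (adj₁ : DRing.restrictD (algebraMap P₁ B₁) ⊣ R₁) (X : Dual.D P) (a : ℤ) [X.IsGE a] :
    Nonempty ((FD B B₁).obj (R.obj X) ≅ R₁.obj ((FD P P₁).obj X)) := by
  obtain ⟨e⟩ := nonempty_exchange h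
  obtain ⟨a₁⟩ := RAdj.nonempty_mapComp (ext B B₁) (ModuleCat.restrictScalars.{u} (algebraMap P₁ B₁))
    (ext B B₁ ⋙ ModuleCat.restrictScalars.{u} (algebraMap P₁ B₁)) (Iso.refl _)
  obtain ⟨a₂⟩ := RAdj.nonempty_mapComp (ModuleCat.restrictScalars.{u} (algebraMap P B)) (ext P P₁)
    (ext B B₁ ⋙ ModuleCat.restrictScalars.{u} (algebraMap P₁ B₁)) e
  let κ : FD B B₁ ⋙ DRing.restrictD (algebraMap P₁ B₁) ≅ DRing.restrictD (algebraMap P B) ⋙ FD P P₁ :=
    a₁.symm ≪≫ a₂
  let ε : (DRing.restrictD (algebraMap P B)).obj (R.obj X) ⟶ X := adj.counit.app X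
  let c : (DRing.restrictD (algebraMap P₁ B₁)).obj ((FD B B₁).obj (R.obj X)) ⟶ (FD P P₁).obj X :=
    κ.hom.app (R.obj X) ≫ (FD P P₁).map ε
  have key : ∀ i, Function.Bijective
      fun g : (FD B B₁).obj (DRing.toD (RegEl.U B i)) ⟶ (FD B B₁).obj (R.obj X) =>
        (DRing.restrictD (algebraMap P₁ B₁)).map g ≫ c := by
    intro i
    let U := DRing.toD (RegEl.U B i)
    let : Module P (U ⟶ R.obj X) := Module.compHom _ (algebraMap P B)
    have : IsScalarTower P B (U ⟶ R.obj X) := IsScalarTower.of_algebraMap_smul fun _ _ => rfl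
    let A : (U ⟶ R.obj X) ≃ₗ[P] ((DRing.restrictD (algebraMap P B)).obj U ⟶ X) :=
      { (adj.homEquiv U X).symm with
        map_add' := fun f g => (adj.homAddEquiv U X).symm.map_add f g
        map_smul' := fun p f => by
          simp only [Equiv.toFun_as_coe, Adjunction.homEquiv_counit, RingHom.id_apply]
          rw [← algebraMap_smul B p f, RegEl.restrictD_map_smul, Linear.smul_comp] }
    have hB := RegEl.bij_U (B := B) (C := B₁) i (R.obj X)
    have hP := bij_res (B := B) (P₁ := P₁) h.surj X a i
    have hq := bijective_q (U ⟶ R.obj X) h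
    have hR : Function.Bijective fun f : (FD P P₁).obj ((DRing.restrictD (algebraMap P B)).obj U) ⟶
        (FD P P₁).obj X => κ.hom.app U ≫ f := (κ.app U).symm.homFromEquiv.bijective
    have hcomp := hR.comp (hP.comp (LinearEquiv.lTensor P₁ A).bijective)
    refine (Function.Bijective.of_comp_iff _ (hB.comp hq)).mp ?_
    refine (congrArg Function.Bijective (funext fun t => ?_)).mp hcomp
    simp only [Function.comp_apply]
    induction t using TensorProduct.induction_on with
    | zero => rw [map_zero, map_zero, map_zero, map_zero, Functor.map_zero, zero_comp, comp_zero]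
    | tmul x f =>
      rw [LinearEquiv.lTensor_tmul, LinBaseChange.β_tmul, q_tmul, LinBaseChange.β_tmul,
        RegEl.restrictD_map_smul, Linear.smul_comp, Linear.comp_smul]
      congr 1
      change κ.hom.app U ≫ (FD P P₁).map ((adj.homEquiv U X).symm f) =
        (DRing.restrictD (algebraMap P₁ B₁)).map ((FD B B₁).map f) ≫ c
      rw [Adjunction.homEquiv_counit, Functor.map_comp]
      exact (κ.hom.naturality_assoc f _).symm
    | add y z hy hz => simp only [map_add, Functor.map_add, Preadditive.add_comp,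
        Preadditive.comp_add, hy, hz]
  let η : (FD B B₁).obj (R.obj X) ⟶ R₁.obj ((FD P P₁).obj X) := adj₁.homEquiv _ _ c
  have : IsIso η := RegEl.isIso_of_bijective η fun i => by
    let eT := RegEl.testIso (B' := B₁) B i
    refine (congrArg Function.Bijective (funext fun g => ?_)).mp
      (eT.symm.homFromEquiv.bijective.comp
        ((adj₁.homEquiv _ _).bijective.comp ((key i).comp eT.homFromEquiv.bijective)))
    simp only [Function.comp_apply, η, Iso.homFromEquiv_apply, Iso.symm_inv]
    rw [Adjunction.homEquiv_naturality_left, Category.assoc, Iso.hom_inv_id_assoc]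
  exact ⟨asIso η⟩

end Main

end Groth.Agent.DualCx.SurjBC
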