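import Groth.Agent.DualCx.ShriekFlatSelf
import Groth.Agent.DualCx.SurjBC
import Groth.Agent.DualCx.Indep
import Groth.Agent.DualCx.KoszulTower
import Groth.Agent.KReg44.Basic
import Groth.Prelude.Def_LCI2

/-!
# The right adjoint of restriction along a Koszul-regular quotient, and lci algebras
-/

universe u

open CategoryTheory CategoryTheory.Limits DerivedCategory

attribute [local instance] HasDerivedCategory.standard

namespace Groth.Agent.DualCx.KoszulShriek

open Groth.Agent.DRing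
open Tower (T)
open KoszulTower (exists_toH0 koszul_eq nonempty_T_congr)

variable {P B : Type u} [CommRing P] [CommRing B] [Algebra P B]

/-- `Ext(P/(l), P)` for a Koszul-regular `l` -/
theorem nonempty_homEquiv (hs : Function.Surjective (algebraMap P B)) (l : List P)
    (hl : LCI.IsKoszulRegularSeq P l) (hker : RingHom.ker (algebraMap P B) = Ideal.ofList l) :
    (∀ i : ℤ, i ≠ l.length → Subsingleton (Dual.inD P B ⟶ (Dual.inD P P)⟦i⟧)) ∧
      Nonempty ((Dual.inD P B ⟶ (Dual.inD P P)⟦(l.length : ℤ)⟧) ≃ₗ[P] B) := by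
  let S : DRing.Cx P := KoszulTower.S0 (ModuleCat.of P P)
  let eQ : (P ⧸ Ideal.ofList l) ≃ₗ[P] B :=
    (Submodule.quotEquivOfEq (Ideal.ofList l) (LinearMap.ker (Algebra.linearMap P B)) hker.symm).trans
      ((Algebra.linearMap P B).quotKerEquivOfSurjective hs)
  have hac : ∀ m : List P, LCI.IsKoszulRegularSeq P m → ∀ i, i ≠ 0 →
      Subsingleton ((T m S).homology i) := fun m hm i hi => by
    rw [← koszul_eq]
    exact ModuleCat.subsingleton_of_isZero (hm i hi)
  have hT : Nonempty (DRing.toD (T l S) ≅ Dual.inD P B) := by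
    obtain ⟨s⟩ := Devissage.nonempty_single (DRing.toD (T l S)) 0 fun i hi =>
      have := hac l hl i hi
      (DRing.DBasic.hIso _ i).toLinearEquiv.toEquiv.subsingleton
    obtain ⟨π, hπ, hk⟩ := exists_toH0 (ModuleCat.of P P) l
    let eH := ((Submodule.quotEquivOfEq _ _ (hk.trans (Ideal.mul_top _))).symm.trans
      (π.quotKerEquivOfSurjective hπ)).trans (DRing.DBasic.hIso (T l S) 0).toLinearEquiv.symm
    exact ⟨s ≪≫ (shiftFunctor (Dual.D P) (-(0 : ℤ))).mapIso
      ((singleFunctor (ModuleCat.{u} P) 0).mapIso (eH.symm.trans eQ).toModuleIso) ≪≫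
      (shiftFunctorZero' (Dual.D P) (-(0 : ℤ)) (by simp)).app _⟩
  obtain ⟨eT⟩ := hT
  obtain ⟨I, hI, ⟨eI⟩⟩ := Residue.exists_rep (ω := Dual.inD P P) (a := 0) fun j hj =>
    DRing.PC.subsingleton_HD_inD P P j (by omega)
  obtain ⟨c⟩ := nonempty_T_congr l.reverse (Y := I) (Y' := S)
    (eI ≪≫ (singleFunctorIsoCompQ (ModuleCat.{u} P) 0).app (ModuleCat.of P P))
  have hrev := KReg44.isKoszulRegularSeq_perm (List.reverse_perm l).symm hl
  have key : ∀ i j : ℤ, j + l.length = i → Nonempty ((Dual.inD P B ⟶ (Dual.inD P P)⟦i⟧) ≃ₗ[P]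
      (T l.reverse S).homology j) := fun i j hj => by
    obtain ⟨tE⟩ := Cx.nonempty_towerHom l (Cx.unitCx P) I hI i j hj
    exact ⟨(((Hom.congr P eT ((shiftFunctor (Dual.D P) i).mapIso eI)).symm).trans tE).trans
      ((Hom.congr P (Cx.unitIso P) (Iso.refl _)).trans (Cx.homUnitEquivShift _ _)) |>.trans
        ((DRing.DBasic.HF _).mapIso c ≪≫ DRing.DBasic.hIso _ _).toLinearEquiv⟩
  refine ⟨fun i hi => ?_, ?_⟩
  · obtain ⟨k⟩ := key i (i - l.length) (by omega)
    have := hac _ hrev (i - l.length) (by omega)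
    exact k.toEquiv.subsingleton
  · obtain ⟨k⟩ := key l.length 0 (zero_add _)
    obtain ⟨π, hπ, hk⟩ := exists_toH0 (ModuleCat.of P P) l.reverse
    have h1 : LinearMap.ker π = Ideal.ofList l := by
      rw [hk]
      refine (Ideal.mul_top _).trans ?_
      exact congrArg Ideal.span (Set.ext fun x => List.mem_reverse)
    exact ⟨k.trans (((π.quotKerEquivOfSurjective hπ).symm.trans (Submodule.quotEquivOfEq _ _ h1)).trans eQ)⟩

/-- the right adjoint along a Koszul-regular quotient -/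
theorem nonempty_radj (hs : Function.Surjective (algebraMap P B)) (l : List P)
    (hl : LCI.IsKoszulRegularSeq P l) (hker : RingHom.ker (algebraMap P B) = Ideal.ofList l)
    {F : Dual.D P ⥤ Dual.D B} (adj : DRing.restrictD (algebraMap P B) ⊣ F) :
    Nonempty (F.obj (Dual.inD P P) ≅ (Dual.inD B B)⟦-(l.length : ℤ)⟧) := by
  obtain ⟨h1, ⟨h2⟩⟩ := nonempty_homEquiv hs l hl hker
  let X := F.obj (Dual.inD P P)
  let g : (ModuleCat.restrictScalars.{u} (algebraMap P B)).obj (ModuleCat.of B B) ≅ ModuleCat.of P B :=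
    ShriekProj.restrictSelfIso P B
  let eB : (DRing.restrictD (algebraMap P B)).obj (Dual.inD B B) ≅ Dual.inD P B :=
    (DRing.restrictD (algebraMap P B)).mapIso
      ((DerivedCategory.singleFunctorIsoCompQ (ModuleCat.{u} B) 0).app (ModuleCat.of B B)) ≪≫
    (DTen.resFactors (algebraMap P B)).app _ ≪≫ ShriekProj.resUnitIso P B
  have key : ∀ i : ℤ, ∃ e : Dual.HD B X i ≃+ (Dual.inD P B ⟶ (Dual.inD P P)⟦i⟧),
      ∀ (p : P) (x : Dual.HD B X i), e (algebraMap P B p • x) = p • e x := fun i => by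
    obtain ⟨s⟩ := RAdj.nonempty_shiftIso adj (Dual.inD P P) i
    let a := (Cx.homUnitEquivShift X i).symm.trans (Hom.congr B (Iso.refl (Dual.inD B B)) s.symm)
    let b : (Dual.inD B B ⟶ F.obj ((Dual.inD P P)⟦i⟧)) ≃+
        ((DRing.restrictD (algebraMap P B)).obj (Dual.inD B B) ⟶ (Dual.inD P P)⟦i⟧) :=
      { (adj.homEquiv _ _).symm with
        map_add' := fun f f' => by
          change (adj.homEquiv _ _).symm (f + f') = (adj.homEquiv _ _).symm f + (adj.homEquiv _ _).symm f'
          rw [Adjunction.homEquiv_counit, Adjunction.homEquiv_counit, Adjunction.homEquiv_counit,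
            Functor.map_add, Preadditive.add_comp] }
    refine ⟨(a.toAddEquiv.trans b).trans (Hom.congr P eB (Iso.refl _)).toAddEquiv, fun p x => ?_⟩
    have hb : ∀ f, b (algebraMap P B p • f) = p • b f := fun f => by
      change (adj.homEquiv _ _).symm (algebraMap P B p • f) = p • (adj.homEquiv _ _).symm f
      rw [Adjunction.homEquiv_counit, Adjunction.homEquiv_counit, RegEl.restrictD_map_smul,
        Linear.smul_comp]
    change Hom.congr P eB (Iso.refl _) (b (a (algebraMap P B p • x))) = p • Hom.congr P eB (Iso.refl _) (b (a x))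
    rw [map_smul, hb, map_smul]
  obtain ⟨s⟩ := Devissage.nonempty_single X (l.length : ℤ) fun i hi => by
    have := h1 i hi
    obtain ⟨e, -⟩ := key i
    exact e.toEquiv.subsingleton
  obtain ⟨e, he⟩ := key l.length
  let eH : Dual.HD B X (l.length : ℤ) ≃ₗ[B] B :=
    { e.trans h2.toAddEquiv with
      map_smul' := fun b x => by
        obtain ⟨p, rfl⟩ := hs b
        change h2 (e (algebraMap P B p • x)) = algebraMap P B p • h2 (e x)
        rw [he, map_smul, algebraMap_smul] }
  exact ⟨s ≪≫ (shiftFunctor (Dual.D B) (-(l.length : ℤ))).mapIso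
    ((singleFunctor (ModuleCat.{u} B) 0).mapIso eH.toModuleIso)⟩

/-- `φ^!(R)` of an lci map is invertible -/
theorem invertible_of_isLCI {R A : Type u} [CommRing R] [CommRing A] [IsNoetherianRing R] [Algebra R A]
    (hl : LCI.IsLCI R A) (n : ℕ) (ψ : MvPolynomial (Fin n) R →ₐ[R] A) (hψ : Function.Surjective ψ)
    [DRing.HasLBaseChange (algebraMap R (MvPolynomial (Fin n) R))]
    (Rψ : Dual.D (MvPolynomial (Fin n) R) ⥤ Dual.D A) (adj : DRing.restrictD ψ.toRingHom ⊣ Rψ)
    [hL : ∀ f : A, DRing.HasLBaseChange (algebraMap A (Localization.Away f))] (q : PrimeSpectrum A) :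
    ∃ (f : A) (_ : f ∉ q.asIdeal) (m : ℤ), Nonempty
      ((DRing.LBaseChange (algebraMap A (Localization.Away f))).obj (Dual2.shriekVia n Rψ (Dual.inD R R)) ≅
        (Dual.inD (Localization.Away f) (Localization.Away f))⟦m⟧) := by
  obtain ⟨-, k, φ, hφ, hreg⟩ := hl
  let P := MvPolynomial (Fin k) R
  let : Algebra P A := φ.toRingHom.toAlgebra
  obtain ⟨F, ⟨adjF⟩⟩ := RAdj.exists_adj φ.toRingHom
  obtain ⟨i⟩ := Indep.nonempty_shriekVia_iso n ψ hψ Rψ adj k φ hφ adjF (Dual.inD R R)
  obtain ⟨g, hg, l, hl, hmap⟩ := hreg ⟨q.asIdeal.comap φ.toRingHom, inferInstance⟩ fun x hx => by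
    change φ.toRingHom x ∈ q.asIdeal
    rw [RingHom.mem_ker.1 hx]
    exact zero_mem _
  let f := algebraMap P A g
  let P₁ := Localization.Away g
  let B₁ := Localization.Away f
  let : Algebra P₁ B₁ := (Localization.awayMap (algebraMap P A) g).toAlgebra
  have : IsScalarTower P A B₁ := inferInstance
  have : IsScalarTower P P₁ B₁ := IsScalarTower.of_algebraMap_eq fun x =>
    ((IsScalarTower.algebraMap_apply P A B₁ x).trans
      (show algebraMap A B₁ (algebraMap P A x) =
          (IsLocalization.Away.map P₁ B₁ (algebraMap P A) g) (algebraMap P P₁ x) by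
        rw [IsLocalization.Away.map, IsLocalization.map_eq]))
  have hs₁ : Function.Surjective (algebraMap P₁ B₁) := by
    intro y
    obtain ⟨a, ⟨_, j, rfl⟩, rfl⟩ := IsLocalization.exists_mk'_eq (Submonoid.powers f) y
    obtain ⟨x, rfl⟩ := hφ a
    refine ⟨IsLocalization.mk' P₁ x (⟨g ^ j, j, rfl⟩ : Submonoid.powers g), ?_⟩
    change IsLocalization.Away.map P₁ B₁ (algebraMap P A) g _ = _
    rw [IsLocalization.Away.map, IsLocalization.map_mk']
    congr 1
    exact Subtype.ext (map_pow (algebraMap P A) g j)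
  have hker : RingHom.ker (algebraMap P₁ B₁) = (RingHom.ker (algebraMap P A)).map (algebraMap P P₁) := by
    refine IsLocalization.ker_map (S := P₁) (M := Submonoid.powers g) (T := Submonoid.powers f) B₁ (algebraMap P A) ?_
    rw [Submonoid.map_powers]
  have : Module.Flat P P₁ := IsLocalization.flat P₁ (Submonoid.powers g)
  have : Module.Flat A B₁ := IsLocalization.flat B₁ (Submonoid.powers f)
  have hyp : SurjBC.Hyp P A P₁ B₁ := ⟨hφ, hs₁, hker⟩
  obtain ⟨F₁, ⟨adj₁⟩⟩ := RAdj.exists_adj (algebraMap P₁ B₁)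
  obtain ⟨x⟩ := SurjBC.nonempty_iso hyp adjF adj₁ (Dual.inD P P) 0
  obtain ⟨z⟩ := nonempty_radj hs₁ l hl (hker.trans hmap) adj₁
  refine ⟨f, fun h => hg h, -(l.length : ℤ) + (k : ℤ), ?_⟩
  obtain ⟨b⟩ := FlatBC.nonempty_LBaseChange (A := A) (B := B₁) (Dual2.shriekVia n Rψ (Dual.inD R R))
  exact ⟨b ≪≫ (BaseChange.FD A B₁).mapIso (i ≪≫ (shiftFunctor _ _).mapIso
      (F.mapIso (asIso (BaseChange.θ R P)).symm)) ≪≫
    ((BaseChange.FD A B₁).commShiftIso (k : ℤ)).app _ ≪≫
    (shiftFunctor _ _).mapIso (x ≪≫ F₁.mapIso (asIso (BaseChange.θ P P₁)).symm ≪≫ z) ≪≫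
    ((shiftFunctorAdd' (Dual.D B₁) (-(l.length : ℤ)) (k : ℤ) _ rfl).app _).symm⟩

end Groth.Agent.DualCx.KoszulShriek
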