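import Mathlib.CategoryTheory.Triangulated.Pretriangulated
import Mathlib.CategoryTheory.Triangulated.Functor
import Mathlib.CategoryTheory.Linear.LinearFunctor
import Mathlib.CategoryTheory.Shift.Linear
import Mathlib.CategoryTheory.Linear.Basic
import Mathlib.RingTheory.Flat.Basic
import Mathlib.Algebra.Exact.Basic

/-!
# Base change of Hom modules along a semilinear triangulated functor
-/

universe w v u v' u'

open CategoryTheory CategoryTheory.Limits CategoryTheory.Pretriangulated
open scoped TensorProduct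

namespace Groth.Agent.DualCx.LinBaseChange

variable (A B : Type w) [CommRing A] [CommRing B] [Algebra A B]
  {C : Type u} [Category.{v} C] [Preadditive C] [CategoryTheory.Linear A C]
  {C' : Type u'} [Category.{v'} C'] [Preadditive C'] [CategoryTheory.Linear B C']
  (G : C ⥤ C') [G.Additive]

/-- `G` is semilinear along `A → B`. -/
class IsSemilinear : Prop where
  map_smul : ∀ (a : A) {X Y : C} (f : X ⟶ Y), G.map (a • f) = algebraMap A B a • G.map f

variable [IsSemilinear A B G]

/-- The comparison `B ⊗ Hom(X, Y) → Hom(GX, GY)`. -/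
noncomputable def β (X Y : C) : B ⊗[A] (X ⟶ Y) →+ (G.obj X ⟶ G.obj Y) :=
  TensorProduct.liftAddHom
    { toFun := fun b =>
        { toFun := fun f => b • G.map f
          map_zero' := by rw [G.map_zero, smul_zero]
          map_add' := fun f g => by rw [G.map_add, smul_add] }
      map_zero' := by ext f; exact zero_smul B (G.map f)
      map_add' := fun b b' => by ext f; exact add_smul b b' (G.map f) }
    fun a b f => by
      change (a • b) • G.map f = b • G.map (a • f)
      rw [IsSemilinear.map_smul (B := B) (G := G), smul_smul, Algebra.smul_def, mul_comm]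

@[simp]
theorem β_tmul {X Y : C} (b : B) (f : X ⟶ Y) : β A B G X Y (b ⊗ₜ f) = b • G.map f := rfl

/-- injectivity of `β` -/
def Inj (X Y : C) : Prop := Function.Injective (β A B G X Y)

/-- surjectivity of `β` -/
def Surj (X Y : C) : Prop := Function.Surjective (β A B G X Y)

/-- bijectivity of `β` -/
def Bij (X Y : C) : Prop := Function.Bijective (β A B G X Y)

theorem β_pre {X' X Y : C} (g : X' ⟶ X) (t : B ⊗[A] (X ⟶ Y)) :
    β A B G X' Y ((CategoryTheory.Linear.leftComp A Y g).lTensor B t) =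
      G.map g ≫ β A B G X Y t := by
  induction t using TensorProduct.induction_on with
  | zero => simp
  | tmul b f => simp
  | add x y hx hy => simp [hx, hy]

theorem bij_iff_of_iso {X X' Y Y' : C} (e : X ≅ X') (e' : Y ≅ Y') :
    Bij A B G X Y ↔ Bij A B G X' Y' := by
  let L := LinearEquiv.lTensor B (CategoryTheory.Linear.homCongr A e e')
  let R := CategoryTheory.Linear.homCongr B (G.mapIso e) (G.mapIso e')
  have h : (β A B G X' Y') ∘ L = R ∘ (β A B G X Y) := by
    funext t
    induction t using TensorProduct.induction_on with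
    | zero => simp
    | tmul b f => simp [L, R, CategoryTheory.Linear.homCongr_apply]
    | add x y hx hy => simp only [Function.comp_apply, map_add] at hx hy ⊢; rw [hx, hy]
  unfold Bij
  rw [← Function.Bijective.of_comp_iff' R.bijective (β A B G X Y), ← h]
  exact Function.Bijective.of_comp_iff _ L.bijective

theorem inj_of_iso {X X' Y Y' : C} (e : X ≅ X') (e' : Y ≅ Y') (hX : Inj A B G X Y) :
    Inj A B G X' Y' := by
  let L := LinearEquiv.lTensor B (CategoryTheory.Linear.homCongr A e e')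
  let R := CategoryTheory.Linear.homCongr B (G.mapIso e) (G.mapIso e')
  have h : (β A B G X' Y') ∘ L = R ∘ (β A B G X Y) := by
    funext t
    induction t using TensorProduct.induction_on with
    | zero => simp
    | tmul b f => simp [L, R, CategoryTheory.Linear.homCongr_apply]
    | add x y hx hy => simp only [Function.comp_apply, map_add] at hx hy ⊢; rw [hx, hy]
  intro x y hxy
  obtain ⟨x, rfl⟩ := L.surjective x
  obtain ⟨y, rfl⟩ := L.surjective y
  have hx := congrFun h x
  have hy := congrFun h y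
  simp only [Function.comp_apply] at hx hy
  rw [hx, hy] at hxy
  rw [hX (R.injective hxy)]

variable [HasShift C ℤ] [HasShift C' ℤ] [∀ n : ℤ, (shiftFunctor C n).Additive]
  [∀ n : ℤ, (shiftFunctor C' n).Additive] [∀ n : ℤ, (shiftFunctor C n).Linear A]
  [∀ n : ℤ, (shiftFunctor C' n).Linear B] [G.CommShift ℤ]

theorem bij_shift_iff (X Y : C) (n : ℤ) :
    Bij A B G (X⟦n⟧) (Y⟦n⟧) ↔ Bij A B G X Y := by
  let sA : (X ⟶ Y) ≃ₗ[A] (X⟦n⟧ ⟶ Y⟦n⟧) :=
    LinearEquiv.ofBijective ((shiftFunctor C n).mapLinearMap A)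
      ⟨(shiftFunctor C n).map_injective, (shiftFunctor C n).map_surjective⟩
  let sB : (G.obj X ⟶ G.obj Y) ≃ₗ[B] (G.obj X)⟦n⟧ ⟶ (G.obj Y)⟦n⟧ :=
    LinearEquiv.ofBijective ((shiftFunctor C' n).mapLinearMap B)
      ⟨(shiftFunctor C' n).map_injective, (shiftFunctor C' n).map_surjective⟩
  let R := sB.trans (CategoryTheory.Linear.homCongr B ((G.commShiftIso n).app X).symm
    ((G.commShiftIso n).app Y).symm)
  let L := LinearEquiv.lTensor B sA
  have key : ∀ f : X ⟶ Y, G.map (sA f) = R (G.map f) := by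
    intro f
    simp [sA, sB, R, CategoryTheory.Linear.homCongr_apply]
  have h : (β A B G (X⟦n⟧) (Y⟦n⟧)) ∘ L = R ∘ (β A B G X Y) := by
    funext t
    induction t using TensorProduct.induction_on with
    | zero => simp
    | tmul b f => simp only [Function.comp_apply, L, LinearEquiv.lTensor_tmul, β_tmul, key, map_smul]
    | add x y hx hy => simp only [Function.comp_apply, map_add] at hx hy ⊢; rw [hx, hy]
  unfold Bij
  rw [← Function.Bijective.of_comp_iff' R.bijective (β A B G X Y), ← h]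
  exact (Function.Bijective.of_comp_iff _ L.bijective).symm

variable [HasZeroObject C] [Pretriangulated C] [HasZeroObject C'] [Pretriangulated C']
  [G.IsTriangulated] [Module.Flat A B]

/-- four lemma, injectivity -/
theorem inj₂ {T : Triangle C} (hT : T ∈ distTriang C) {Y : C} (h₁ : Inj A B G T.obj₁ Y)
    (h₃ : Inj A B G T.obj₃ Y) (h₄ : Surj A B G (T.obj₁⟦(1 : ℤ)⟧) Y) : Inj A B G T.obj₂ Y := by
  unfold Inj at *
  rw [injective_iff_map_eq_zero] at *
  intro t ht
  have hex : Function.Exact (CategoryTheory.Linear.leftComp A Y T.mor₂)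
      (CategoryTheory.Linear.leftComp A Y T.mor₁) := fun f => by
    constructor
    · intro hf
      obtain ⟨g, hg⟩ := Triangle.yoneda_exact₂ T hT f hf
      exact ⟨g, hg.symm⟩
    · rintro ⟨g, rfl⟩
      exact (comp_distTriang_mor_zero₁₂_assoc T hT g).trans zero_comp
  obtain ⟨s, rfl⟩ := (Module.Flat.lTensor_exact B hex t).mp (h₁ _ (by rw [β_pre, ht, comp_zero]))
  rw [β_pre] at ht
  obtain ⟨u, hu⟩ := Triangle.yoneda_exact₃ (G.mapTriangle.obj T) (G.map_distinguished T hT)
    (β A B G T.obj₃ Y s) ht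
  replace hu : β A B G T.obj₃ Y s =
      G.map T.mor₃ ≫ ((G.commShiftIso (1 : ℤ)).hom.app T.obj₁ ≫ u) :=
    hu.trans (Category.assoc _ _ _)
  obtain ⟨v, hv⟩ := h₄ ((G.commShiftIso (1 : ℤ)).hom.app T.obj₁ ≫ u)
  rw [← hv, ← β_pre, ← sub_eq_zero, ← map_sub] at hu
  rw [sub_eq_zero.mp (h₃ _ hu), ← LinearMap.comp_apply, ← LinearMap.lTensor_comp,
    show (CategoryTheory.Linear.leftComp A Y T.mor₂).comp
      (CategoryTheory.Linear.leftComp A Y T.mor₃) = 0 from LinearMap.ext fun w =>
        (comp_distTriang_mor_zero₂₃_assoc T hT w).trans zero_comp,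
    LinearMap.lTensor_zero, LinearMap.zero_apply]

/-- four lemma, surjectivity -/
theorem surj₂ {T : Triangle C} (hT : T ∈ distTriang C) {Y : C} (h₁ : Surj A B G T.obj₁ Y)
    (h₃ : Surj A B G T.obj₃ Y) (h₀ : Inj A B G T.invRotate.obj₁ Y) : Surj A B G T.obj₂ Y := by
  unfold Surj Inj at *
  intro y
  obtain ⟨x, hx⟩ := h₁ (G.map T.mor₁ ≫ y)
  obtain ⟨v, hv0, hv⟩ : ∃ v : T.invRotate.obj₁ ⟶ T.obj₁, v ≫ T.mor₁ = 0 ∧
      ∀ f : T.obj₁ ⟶ Y, v ≫ f = 0 → ∃ g : T.obj₂ ⟶ Y, f = T.mor₁ ≫ g :=
    ⟨T.invRotate.mor₁, comp_distTriang_mor_zero₁₂ T.invRotate (inv_rot_of_distTriang T hT),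
      fun f hf => Triangle.yoneda_exact₂ T.invRotate (inv_rot_of_distTriang T hT) f hf⟩
  have hex : Function.Exact (CategoryTheory.Linear.leftComp A Y T.mor₁)
      (CategoryTheory.Linear.leftComp A Y v) := fun f => by
    constructor
    · intro hf
      obtain ⟨g, hg⟩ := hv f hf
      exact ⟨g, hg.symm⟩
    · rintro ⟨g, rfl⟩
      exact (reassoc_of% hv0) g |>.trans zero_comp
  have hzero : (CategoryTheory.Linear.leftComp A Y v).lTensor B x = 0 := by
    refine h₀ ?_
    rw [β_pre, map_zero, hx, ← Category.assoc, ← G.map_comp, hv0, G.map_zero, zero_comp]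
  obtain ⟨y₀, hy₁⟩ := (Module.Flat.lTensor_exact B hex x).mp hzero
  obtain ⟨z, hz⟩ := Triangle.yoneda_exact₂ (G.mapTriangle.obj T) (G.map_distinguished T hT)
    (y - β A B G T.obj₂ Y y₀) (by
      change G.map T.mor₁ ≫ (y - β A B G T.obj₂ Y y₀) = 0
      rw [Preadditive.comp_sub, ← β_pre, hy₁, hx, sub_self])
  obtain ⟨z₀, rfl⟩ := h₃ z
  refine ⟨y₀ + (CategoryTheory.Linear.leftComp A Y T.mor₂).lTensor B z₀, ?_⟩
  rw [map_add, β_pre]
  exact (eq_sub_iff_add_eq'.mp hz.symm).symm ▸ rfl

/-- middle term -/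
theorem bij₂ {T : Triangle C} (hT : T ∈ distTriang C) {Y : C} (h₁ : Bij A B G T.obj₁ Y)
    (h₃ : Bij A B G T.obj₃ Y) (h₄ : Bij A B G (T.obj₁⟦(1 : ℤ)⟧) Y)
    (h₀ : Bij A B G T.invRotate.obj₁ Y) : Bij A B G T.obj₂ Y :=
  ⟨inj₂ A B G hT h₁.injective h₃.injective h₄.surjective,
    surj₂ A B G hT h₁.surjective h₃.surjective h₀.injective⟩

end Groth.Agent.DualCx.LinBaseChange
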