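import Groth.Agent.DualCx.TwistHom

/-!
# Two dualizing complexes on a connected spectrum differ by a twist and a shift
-/

universe u

open CategoryTheory CategoryTheory.Limits TensorProduct

attribute [local instance] HasDerivedCategory.standard

namespace Groth.Agent.DualCx.Pairing

open BaseChange (FD)

variable {A : Type u} [CommRing A]

/-- base change of morphisms between dualizing complexes -/
theorem bij_dual {B : Type u} [CommRing B] [Algebra A B] [Module.Flat A B] {ω ω' : Dual.D A}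
    (hω : Dual.IsDualizing A ω) (hω' : Dual.IsDualizing A ω') :
    LinBaseChange.Bij A B (FD A B) ω ω' := by
  have := hω.isNoetherianRing
  obtain ⟨a, b, hab⟩ := Residue.exists_cohomology_bounds hω
  have hge : ω.IsGE a := (DerivedCategory.isGE_iff ω a).mpr fun i hi =>
    (DRing.DBasic.subsingleton_HD_iff_isZero ω i).mp (hab i (Or.inl hi))
  have hle : ω.IsLE b := (DerivedCategory.isLE_iff ω b).mpr fun i hi =>
    (DRing.DBasic.subsingleton_HD_iff_isZero ω i).mp (hab i (Or.inr hi))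
  obtain ⟨a', ha'⟩ := Dimfun.exists_isGE hω'
  exact (LinBaseChange.bij_iff_of_iso A B (FD A B) (Iso.refl ω)
    ((shiftFunctorZero (Dual.D A) ℤ).app ω')).mp
      (FlatBC.bijAt_bounded (B := B) ω' a' ω a b hge hle hω.finite_cohomology 0)

theorem exists_local {ω ω' : Dual.D A} (hω : Dual.IsDualizing A ω) (hω' : Dual.IsDualizing A ω')
    (m : Ideal A) [m.IsMaximal] :
    ∃ (n : ℤ) (u : ω ⟶ ω'⟦n⟧) (v : ω'⟦n⟧ ⟶ ω) (c e : A),
      c ∉ m ∧ e ∉ m ∧ u ≫ v = c • 𝟙 ω ∧ v ≫ u = e • 𝟙 (ω'⟦n⟧) := by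
  have := hω.isNoetherianRing
  let B := Localization.AtPrime m
  have hB := Dimfun.isDualizing_local hω ⟨m, inferInstance⟩
  have hB' := Dimfun.isDualizing_local hω' ⟨m, inferInstance⟩
  obtain ⟨n, ⟨e₁⟩⟩ := Unique.exists_shift hB hB'
  let Y : Dual.D A := ω'⟦-n⟧
  have hY : Dual.IsDualizing A Y := Normalized.isDualizing_shift hω' (-n)
  let θ : (FD A B).obj ω ≅ (FD A B).obj Y :=
    (shiftFunctorCompIsoId (Dual.D B) n (-n) (add_neg_cancel n)).symm.app ((FD A B).obj ω) ≪≫
      (shiftFunctor (Dual.D B) (-n)).mapIso e₁.symm ≪≫ (FlatBC.shiftFD ω' (-n)).symm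
  have key : ∀ {X X' : Dual.D A}, Dual.IsDualizing A X → Dual.IsDualizing A X' →
      ∀ f : (FD A B).obj X ⟶ (FD A B).obj X', ∃ (u : X ⟶ X') (s : A), s ∉ m ∧
        (FD A B).map u = algebraMap A B s • f := by
    intro X X' hX hX' f
    obtain ⟨y, rfl⟩ := (bij_dual (B := B) hX hX').surjective f
    obtain ⟨⟨u, s⟩, hus⟩ :=
      IsLocalizedModule.surj m.primeCompl (TensorProduct.mk A B (X ⟶ X') 1) y
    refine ⟨u, s.1, s.2, ?_⟩
    have h1 : ∀ (a : A) (z : B ⊗[A] (X ⟶ X')),
        LinBaseChange.β A B (FD A B) X X' (a • z) =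
          algebraMap A B a • LinBaseChange.β A B (FD A B) X X' z := by
      intro a z
      induction z using TensorProduct.induction_on with
      | zero => simp
      | tmul b f => rw [TensorProduct.smul_tmul', LinBaseChange.β_tmul, LinBaseChange.β_tmul,
          smul_smul, Algebra.smul_def]
      | add z w hz hw => simp only [smul_add, map_add, hz, hw]
    have h2 := congrArg (LinBaseChange.β A B (FD A B) X X') hus
    rw [Submonoid.smul_def, h1] at h2
    rw [h2, TensorProduct.mk_apply, LinBaseChange.β_tmul, one_smul]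
  obtain ⟨u, s, hs, hu⟩ := key hω hY θ.hom
  obtain ⟨v, t, ht, hv⟩ := key hY hω θ.inv
  obtain ⟨c, hc⟩ := hω.toEnd_bijective.surjective (u ≫ v)
  obtain ⟨e, he⟩ := hY.toEnd_bijective.surjective (v ≫ u)
  have hst : IsUnit (algebraMap A B (s * t)) :=
    IsLocalization.map_units (M := m.primeCompl) B ⟨s * t, m.primeCompl.mul_mem hs ht⟩
  have aux : ∀ {X : Dual.D A}, Dual.IsDualizing B ((FD A B).obj X) → ∀ {a : A},
      (FD A B).map (a • 𝟙 X) = algebraMap A B (s * t) • 𝟙 ((FD A B).obj X) → a ∉ m := by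
    intro X hX a ha
    rw [LinBaseChange.IsSemilinear.map_smul (B := B), CategoryTheory.Functor.map_id] at ha
    rw [← hX.toEnd_bijective.injective ha] at hst
    exact (IsLocalization.AtPrime.isUnit_to_map_iff B m a).mp hst
  refine ⟨-n, u, v, c, e, aux hB ?_, aux (FlatBC.isDualizing_of_iso θ hB) ?_, hc.symm, he.symm⟩
  · rw [show c • 𝟙 ω = u ≫ v from hc, Functor.map_comp, hu, hv, map_mul]
    simp only [Linear.smul_comp, Linear.comp_smul, smul_smul, Iso.hom_inv_id, mul_comm]
  · rw [show e • 𝟙 Y = v ≫ u from he, Functor.map_comp, hu, hv, map_mul]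
    simp only [Linear.smul_comp, Linear.comp_smul, smul_smul, Iso.inv_hom_id, mul_comm]

/-- the span of the round trips -/
noncomputable def J (X Y : Dual.D A) : Ideal A :=
  Submodule.comap (LinearMap.toSpanSingleton A (X ⟶ X) (𝟙 X))
    (Submodule.span A (Set.range fun p : (X ⟶ Y) × (Y ⟶ X) => p.1 ≫ p.2))

theorem mem_J {X Y : Dual.D A} {c : A} (u : X ⟶ Y) (v : Y ⟶ X) (h : u ≫ v = c • 𝟙 X) :
    c ∈ J X Y :=
  Submodule.mem_comap.mpr (Submodule.subset_span ⟨(u, v), h⟩)

theorem J_eq_top {X Y : Dual.D A} (h : J X Y = ⊤) :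
    ∃ (k : ℕ) (u : Fin k → (X ⟶ Y)) (v : Fin k → (Y ⟶ X)), ∑ i, u i ≫ v i = 𝟙 X := by
  have h1 : (1 : A) ∈ J X Y := h ▸ Submodule.mem_top
  obtain ⟨k, a, p, hp⟩ := Submodule.mem_span_set'.mp (Submodule.mem_comap.mp h1)
  choose q hq using fun i => (p i).2
  refine ⟨k, fun i => (q i).1, fun i => a i • (q i).2, ?_⟩
  calc _ = ∑ i, a i • (p i : X ⟶ X) := Finset.sum_congr rfl fun i _ => by
        rw [Linear.comp_smul]; exact congrArg (a i • ·) (hq i)
    _ = 𝟙 X := hp.trans (one_smul A (𝟙 X))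

theorem orthogonal {ω ω' : Dual.D A} (hω : Dual.IsDualizing A ω) (hω' : Dual.IsDualizing A ω')
    (n n' : ℤ) (hn : n ≠ n') {c c' : A} (hc : c ∈ J ω (ω'⟦n⟧)) (hc' : c' ∈ J ω (ω'⟦n'⟧)) :
    c * c' = 0 := by
  refine hω.toEnd_bijective.injective ?_
  change (c * c') • 𝟙 ω = (0 : A) • 𝟙 ω
  rw [zero_smul, mul_comm, mul_smul]
  have h2 : ∀ f ∈ Submodule.span A (Set.range fun p : (ω ⟶ ω'⟦n⟧) × (ω'⟦n⟧ ⟶ ω) => p.1 ≫ p.2),
      ∀ g ∈ Submodule.span A (Set.range fun p : (ω ⟶ ω'⟦n'⟧) × (ω'⟦n'⟧ ⟶ ω) => p.1 ≫ p.2),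
        f ≫ g = 0 := by
    intro f hf g hg
    induction hf using Submodule.span_induction with
    | zero => exact zero_comp
    | add x y _ _ hx hy => rw [Preadditive.add_comp, hx, hy, add_zero]
    | smul a x _ hx => rw [Linear.smul_comp, hx, smul_zero]
    | mem x hx =>
      obtain ⟨⟨u, v⟩, rfl⟩ := hx
      induction hg using Submodule.span_induction with
      | zero => exact comp_zero
      | add x y _ _ hx hy => rw [Preadditive.comp_add, hx, hy, add_zero]
      | smul a x _ hx => rw [Linear.comp_smul, hx, smul_zero]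
      | mem y hy =>
        obtain ⟨⟨u', v'⟩, rfl⟩ := hy
        have : Subsingleton (ω'⟦n⟧ ⟶ ω'⟦n'⟧) := by
          have := (Normalized.isDualizing_shift hω' n).ext_self_subsingleton (n' - n)
            (sub_ne_zero.mpr hn.symm)
          exact @Equiv.subsingleton _ _ (Linear.homCongr A (Iso.refl ((shiftFunctor (Dual.D A) n).obj ω'))
            ((shiftFunctorAdd' (Dual.D A) n (n' - n) n' (by omega)).app ω')).toEquiv this
        change (u ≫ v) ≫ u' ≫ v' = 0
        rw [Category.assoc, ← Category.assoc v u' v', Subsingleton.elim (v ≫ u') 0, zero_comp,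
          comp_zero]
  have := h2 _ (Submodule.mem_comap.mp hc) _ (Submodule.mem_comap.mp hc')
  simp only [LinearMap.toSpanSingleton_apply, Linear.smul_comp, Linear.comp_smul,
    Category.comp_id] at this
  exact this

/-- a shift of `ω'` is a retract of powers of `ω`, and conversely -/
theorem exists_pairing [ConnectedSpace (PrimeSpectrum A)] {ω ω' : Dual.D A}
    (hω : Dual.IsDualizing A ω) (hω' : Dual.IsDualizing A ω') :
    ∃ n : ℤ, J ω (ω'⟦n⟧) = ⊤ ∧ J (ω'⟦n⟧) ω = ⊤ := by
  have htop : ⨆ n : ℤ, J ω (ω'⟦n⟧) = ⊤ := by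
    by_contra h
    obtain ⟨m, hm, hle⟩ := Ideal.exists_le_maximal _ h
    obtain ⟨n, u, v, c, e, hc, -, huv, -⟩ := exists_local hω hω' m
    exact hc (hle (Submodule.mem_iSup_of_mem n (mem_J u v huv)))
  have h1 : (1 : A) ∈ ⨆ n : ℤ, J ω (ω'⟦n⟧) := htop ▸ Submodule.mem_top
  obtain ⟨f, hf, hsum⟩ := (Submodule.mem_iSup_iff_exists_finsupp _ _).mp h1
  obtain ⟨n, hn⟩ : ∃ n, f n = 1 := by
    by_contra hne
    have h0 : ∀ n, f n = 0 := fun n => by
      have hid : IsIdempotentElem (f n) := by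
        have h : f n * (f.sum fun _ x => x) = f n := by rw [hsum, mul_one]
        rw [Finsupp.mul_sum, Finsupp.sum, Finset.sum_eq_single n] at h
        · exact h
        · exact fun b _ hb => orthogonal hω hω' n b hb.symm (hf n) (hf b)
        · intro hb; rw [Finsupp.notMem_support_iff.mp hb, mul_zero]
      have hclo := PrimeSpectrum.isClopen_basicOpen_of_mul_add (f n) (1 - f n)
        (by rw [mul_sub, mul_one, hid.eq, sub_self]) (add_sub_cancel _ _)
      rcases isClopen_iff.mp hclo with h | h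
      · exact IsIdempotentElem.eq_zero_of_isNilpotent hid
          ((PrimeSpectrum.basicOpen_eq_bot_iff _).mp (SetLike.coe_injective h))
      · exfalso
        refine hne ⟨n, (IsIdempotentElem.iff_eq_one_of_isUnit ?_).mp hid⟩
        refine Ideal.span_singleton_eq_top.mp ?_
        by_contra hne'
        obtain ⟨m, hm, hle⟩ := Ideal.exists_le_maximal _ hne'
        have : (⟨m, hm.isPrime⟩ : PrimeSpectrum A) ∈ (PrimeSpectrum.basicOpen (f n) : Set _) :=
          h ▸ Set.mem_univ _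
        exact this (hle (Ideal.mem_span_singleton_self _))
    have : (1 : A) = 0 := by
      rw [← hsum]; exact Finset.sum_eq_zero fun i _ => h0 i
    have := subsingleton_of_zero_eq_one this.symm
    exact not_isEmpty_of_nonempty (PrimeSpectrum A) inferInstance
  have hn1 : J ω (ω'⟦n⟧) = ⊤ := (Ideal.eq_top_iff_one _).mpr (hn ▸ hf n)
  refine ⟨n, hn1, ?_⟩
  by_contra h
  obtain ⟨m, hm, hle⟩ := Ideal.exists_le_maximal _ h
  obtain ⟨n', u, v, c, e, hc, he, huv, hvu⟩ := exists_local hω hω' m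
  obtain rfl : n' = n := by
    by_contra hne
    have h0 := orthogonal hω hω' n' n hne (mem_J u v huv) (hn ▸ hf n : (1 : A) ∈ _)
    rw [mul_one] at h0; exact hc (h0 ▸ m.zero_mem)
  exact he (hle (mem_J v u hvu))

end Groth.Agent.DualCx.Pairing
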