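import Groth.Agent.DualCx.Cx
import Groth.Agent.InjHull.Matlis
import Mathlib.RingTheory.Regular.IsSMulRegular
import Mathlib.RingTheory.Ideal.AssociatedPrime.Finiteness

/-!
# The span of a Koszul tower on a morphism module concentrated in degree zero
-/

universe u

open CategoryTheory CategoryTheory.Limits IsLocalRing

attribute [local instance] HasDerivedCategory.standard

namespace Groth.Agent.DualCx.Span

variable {A : Type u} [CommRing A]

/-- `Hom(W, Y[j])` -/
abbrev G (W : Dual.D A) (Y : DRing.Cx A) (j : ℤ) : Type (u + 1) := W ⟶ (DRing.toD Y)⟦j⟧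

variable {W : Dual.D A} {Y : DRing.Cx A}

/-- to the cone -/
noncomputable def ι (W : Dual.D A) (x : A) (Y : DRing.Cx A) (j : ℤ) :
    G W Y j →ₗ[A] G W (Tower.cn x Y) j :=
  Hom.post₂ A (Cx.cnTri x Y) W j

/-- connecting map -/
noncomputable def dd (W : Dual.D A) (x : A) (Y : DRing.Cx A) (j j' : ℤ) (h : j + 1 = j') :
    G W (Tower.cn x Y) j →ₗ[A] G W Y j' :=
  Hom.dδ A (Cx.cnTri x Y) W j j' h

theorem post₁_eq (x : A) (j : ℤ) (f : G W Y j) :
    Hom.post₁ A (Cx.cnTri x Y) W j f = x • f := by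
  change f ≫ (Cx.cnTri x Y).mor₁⟦j⟧' = x • f
  rw [Cx.cnTri_mor₁]
  erw [Functor.map_smul, CategoryTheory.Functor.map_id, Linear.comp_smul, Category.comp_id]
  rfl

theorem ι_eq_zero_iff (x : A) (j : ℤ) (f : G W Y j) : ι W x Y j f = 0 ↔ ∃ g, x • g = f := by
  refine (Hom.exact_post A W (Cx.cnTri_distinguished x Y) j f).trans (Set.mem_range.trans ?_)
  exact exists_congr fun g => Eq.congr_left (post₁_eq x j g)

theorem dd_eq_zero_iff (x : A) (j j' : ℤ) (h : j + 1 = j') (f : G W (Tower.cn x Y) j) :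
    dd W x Y j j' h f = 0 ↔ ∃ g, ι W x Y j g = f :=
  (Hom.exact_post_dδ A W (Cx.cnTri_distinguished x Y) j j' h f).trans Set.mem_range

theorem smul_eq_zero_iff (x : A) (j j' : ℤ) (h : j + 1 = j') (f : G W Y j') :
    x • f = 0 ↔ ∃ g, dd W x Y j j' h g = f := by
  rw [← post₁_eq]
  exact (Hom.exact_dδ_post A W (Cx.cnTri_distinguished x Y) j j' h f).trans Set.mem_range

theorem subsingleton_cn (x : A) (j : ℤ) (h1 : Subsingleton (G W Y j))
    (h2 : Subsingleton (G W Y (j + 1))) : Subsingleton (G W (Tower.cn x Y) j) := by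
  refine subsingleton_of_forall_eq 0 fun f => ?_
  obtain ⟨g, rfl⟩ := (dd_eq_zero_iff x j (j + 1) rfl f).mp (Subsingleton.elim _ _)
  rw [Subsingleton.elim g 0, map_zero]

theorem exists_top_cn (x : A) {J : Ideal A} (φ : A →ₗ[A] G W Y 0) (hφ : Function.Surjective φ)
    (hker : LinearMap.ker φ = J) (h1 : Subsingleton (G W Y 1)) :
    ∃ φ' : A →ₗ[A] G W (Tower.cn x Y) 0,
      Function.Surjective φ' ∧ LinearMap.ker φ' = Ideal.span {x} ⊔ J := by
  refine ⟨ι W x Y 0 ∘ₗ φ, fun f => ?_, ?_⟩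
  · obtain ⟨g, hg⟩ := (dd_eq_zero_iff x 0 1 rfl f).mp (Subsingleton.elim _ _)
    obtain ⟨a, rfl⟩ := hφ g
    exact ⟨a, hg⟩
  · ext a
    rw [LinearMap.mem_ker, LinearMap.comp_apply, ι_eq_zero_iff]
    constructor
    · rintro ⟨g, hg⟩
      obtain ⟨b, rfl⟩ := hφ g
      have hd : a - x * b ∈ J := by
        rw [← hker, LinearMap.mem_ker, map_sub, ← smul_eq_mul, map_smul, hg, sub_self]
      rw [← sub_add_cancel a (x * b), add_comm]
      exact Submodule.add_mem_sup (Ideal.mul_mem_right _ _ (Ideal.mem_span_singleton_self x)) hd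
    · intro ha
      obtain ⟨v, hv, w, hw, rfl⟩ := Submodule.mem_sup.mp ha
      obtain ⟨b, rfl⟩ := Ideal.mem_span_singleton'.mp hv
      refine ⟨φ b, ?_⟩
      rw [← hker, LinearMap.mem_ker] at hw
      rw [map_add, hw, add_zero, mul_comm b x, ← smul_eq_mul, map_smul]

/-- `Hom(W, Y[j])` is `A` in degree zero. -/
def Pt (W : Dual.D A) (Y : DRing.Cx A) : Prop :=
  (∀ j : ℤ, j ≠ 0 → Subsingleton (G W Y j)) ∧ Nonempty (G W Y 0 ≃ₗ[A] A)

variable [IsLocalRing A] [IsNoetherianRing A]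

variable (A) in
/-- A maximal regular sequence, seen through Koszul towers. -/
theorem exists_regular_stage : ∃ r : List A, (∀ x ∈ r, x ∈ maximalIdeal A) ∧
    (∃ u : A, u ∉ Ideal.ofList r ∧ ∀ a ∈ maximalIdeal A, a * u ∈ Ideal.ofList r) ∧
    ∀ (W : Dual.D A) (Y : DRing.Cx A), Pt W Y →
      (∀ j : ℤ, j ≠ 0 → Subsingleton (G W (Tower.T r Y) j)) ∧
      ∃ φ : A →ₗ[A] G W (Tower.T r Y) 0, Function.Surjective φ ∧
        LinearMap.ker φ = Ideal.ofList r := by
  suffices key : ∀ (J : Ideal A) (r : List A), Ideal.ofList r = J → (∀ x ∈ r, x ∈ maximalIdeal A) →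
      (∀ (W : Dual.D A) (Y : DRing.Cx A), Pt W Y →
        (∀ j : ℤ, j ≠ 0 → Subsingleton (G W (Tower.T r Y) j)) ∧
        ∃ φ : A →ₗ[A] G W (Tower.T r Y) 0, Function.Surjective φ ∧ LinearMap.ker φ = J) →
      ∃ r' : List A, (∀ x ∈ r', x ∈ maximalIdeal A) ∧
        (∃ u : A, u ∉ Ideal.ofList r' ∧ ∀ a ∈ maximalIdeal A, a * u ∈ Ideal.ofList r') ∧
        ∀ (W : Dual.D A) (Y : DRing.Cx A), Pt W Y →
          (∀ j : ℤ, j ≠ 0 → Subsingleton (G W (Tower.T r' Y) j)) ∧
          ∃ φ : A →ₗ[A] G W (Tower.T r' Y) 0, Function.Surjective φ ∧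
            LinearMap.ker φ = Ideal.ofList r' by
    refine key ⊥ [] Ideal.ofList_nil (by simp) fun W Y hY => ⟨hY.1, ?_⟩
    obtain ⟨e⟩ := hY.2
    exact ⟨e.symm.toLinearMap, e.symm.surjective, e.symm.ker⟩
  intro J
  induction J using IsNoetherian.induction with
  | _ J ih =>
  intro r hr hmem hspec
  by_cases hx : ∃ x ∈ maximalIdeal A, ∀ a : A, x * a ∈ J → a ∈ J
  · obtain ⟨x, hxm, hreg⟩ := hx
    have hJ : J ≤ maximalIdeal A := hr ▸ Ideal.span_le.mpr hmem
    have hxJ : x ∉ J := fun h => by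
      have h1 := hreg 1 (by rwa [mul_one])
      exact (maximalIdeal.isMaximal A).ne_top ((Ideal.eq_top_iff_one _).mpr (hJ h1))
    refine ih (Ideal.span {x} ⊔ J) ?_ (x :: r) (by rw [Ideal.ofList_cons, hr]) ?_ ?_
    · refine lt_of_le_of_ne le_sup_right fun h => hxJ ?_
      rw [h]
      exact Ideal.mem_sup_left (Ideal.mem_span_singleton_self x)
    · simp only [List.mem_cons, forall_eq_or_imp]
      exact ⟨hxm, hmem⟩
    · intro W Y hY
      obtain ⟨hvan, φ, hφ, hker⟩ := hspec W Y hY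
      refine ⟨fun j hj => ?_, exists_top_cn x φ hφ hker (hvan 1 one_ne_zero)⟩
      by_cases hj1 : j = -1
      · subst hj1
        refine subsingleton_of_forall_eq 0 fun f => ?_
        have h1 : dd W x (Tower.T r Y) (-1) 0 rfl f = 0 := by
          obtain ⟨a, ha⟩ := hφ (dd W x (Tower.T r Y) (-1) 0 rfl f)
          have hx0 : x • dd W x (Tower.T r Y) (-1) 0 rfl f = 0 :=
            (smul_eq_zero_iff x (-1) 0 rfl _).mpr ⟨f, rfl⟩
          rw [← ha, ← map_smul, ← LinearMap.mem_ker, hker, smul_eq_mul] at hx0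
          rw [← ha, ← LinearMap.mem_ker, hker]
          exact hreg a hx0
        obtain ⟨g, rfl⟩ := (dd_eq_zero_iff x (-1) 0 rfl f).mp h1
        have := hvan (-1) hj
        rw [Subsingleton.elim g 0]
        exact map_zero _
      · exact subsingleton_cn x j (hvan j hj) (hvan (j + 1) (by omega))
  · refine ⟨r, hmem, ?_, hr ▸ hspec⟩
    rw [hr]
    simp only [not_exists, not_and, not_forall] at hx
    -- every element of `m` is a zero divisor on `A/J`, so `m` is associated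
    by_contra hu
    simp only [not_exists, not_and, not_forall] at hu
    have hass : ∀ x ∈ maximalIdeal A, x ∈ ⋃ p ∈ associatedPrimes A (A ⧸ J), (p : Set A) := by
      intro x hxm
      obtain ⟨a, ha, ha'⟩ := hx x hxm
      rw [biUnion_associatedPrimes_eq_zero_divisors A (A ⧸ J)]
      exact ⟨Ideal.Quotient.mk J a, by rwa [ne_eq, Ideal.Quotient.eq_zero_iff_mem],
        by rw [Algebra.smul_def, Ideal.Quotient.algebraMap_eq, ← map_mul,
          Ideal.Quotient.eq_zero_iff_mem]; exact ha⟩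
    have hfin : (associatedPrimes A (A ⧸ J)).Finite := _root_.associatedPrimes.finite A (A ⧸ J)
    obtain ⟨p, hp, hle⟩ : ∃ p ∈ associatedPrimes A (A ⧸ J), maximalIdeal A ≤ p :=
      (Ideal.subset_union_prime_finite hfin ⊥ ⊥ (fun p hp _ _ => hp.isPrime)).mp hass
    obtain rfl : maximalIdeal A = p :=
      (maximalIdeal.isMaximal A).eq_of_le hp.isPrime.ne_top hle
    obtain ⟨-, v, hv⟩ := isAssociatedPrime_iff.mp hp
    obtain ⟨v, rfl⟩ := Ideal.Quotient.mk_surjective v
    have hmv : ∀ a : A, a ∈ maximalIdeal A ↔ a * v ∈ J := fun a => by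
      rw [hv, Submodule.mem_colon_singleton, Submodule.mem_bot, Algebra.smul_def,
        Ideal.Quotient.algebraMap_eq, ← map_mul, Ideal.Quotient.eq_zero_iff_mem]
    have hvJ : v ∉ J := fun h => by
      have := (hmv 1).mpr (by rwa [one_mul])
      exact (maximalIdeal.isMaximal A).ne_top ((Ideal.eq_top_iff_one _).mpr this)
    obtain ⟨a, ha, ha'⟩ := hu v hvJ
    exact ha' ((hmv a).mp ha)

omit [IsNoetherianRing A] in
theorem exists_socle_cn (y : A) (hy : y ∈ maximalIdeal A) (j j' : ℤ) (h : j + 1 = j')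
    (hj : Subsingleton (G W Y j)) {v : G W Y j'} (hv : v ≠ 0)
    (hmv : ∀ a ∈ maximalIdeal A, a • v = 0) :
    ∃ g : G W (Tower.cn y Y) j, g ≠ 0 ∧ ∀ a ∈ maximalIdeal A, a • g = 0 := by
  obtain ⟨g, hg⟩ := (smul_eq_zero_iff y j j' h v).mp (hmv y hy)
  refine ⟨g, fun hg0 => hv (by rw [← hg, hg0, map_zero]), fun a ha => ?_⟩
  have h0 : dd W y Y j j' h (a • g) = 0 := by rw [map_smul, hg, hmv a ha]
  obtain ⟨g', hg'⟩ := (dd_eq_zero_iff y j j' h _).mp h0
  rw [← hg', Subsingleton.elim g' 0, map_zero]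

omit [IsLocalRing A] in
theorem finite_cn (x : A) (h : ∀ j, Module.Finite A (G W Y j)) (j : ℤ) :
    Module.Finite A (G W (Tower.cn x Y) j) := by
  have := h j
  have := h (j + 1)
  have h1 : Module.Finite A (LinearMap.ker (dd W x Y j (j + 1) rfl)) := by
    have : LinearMap.ker (dd W x Y j (j + 1) rfl) = LinearMap.range (ι W x Y j) :=
      Submodule.ext fun f => (dd_eq_zero_iff x j (j + 1) rfl f)
    rw [this]
    infer_instance
  have h2 : Module.Finite A (G W (Tower.cn x Y) j ⧸ LinearMap.ker (dd W x Y j (j + 1) rfl)) :=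
    Module.Finite.equiv (LinearMap.quotKerEquivRange (dd W x Y j (j + 1) rfl)).symm
  exact Module.Finite.of_submodule_quotient (LinearMap.ker (dd W x Y j (j + 1) rfl))

omit [IsLocalRing A] [IsNoetherianRing A] in
theorem sq_kills_cn (x : A) (j : ℤ) (f : G W (Tower.cn x Y) j) : x ^ 2 • f = 0 := by
  have h1 : dd W x Y j (j + 1) rfl (x • f) = 0 := by
    rw [map_smul]
    exact (smul_eq_zero_iff x j (j + 1) rfl _).mpr ⟨f, rfl⟩
  obtain ⟨g, hg⟩ := (dd_eq_zero_iff x j (j + 1) rfl _).mp h1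
  have h2 : ι W x Y j (x • g) = 0 := (ι_eq_zero_iff x j _).mpr ⟨g, rfl⟩
  rw [map_smul, hg, smul_smul, ← pow_two] at h2
  exact h2

omit [IsLocalRing A] [IsNoetherianRing A] in
theorem pow_kills_cn (y x : A) (N : ℕ) (hN : ∀ (j : ℤ) (f : G W Y j), x ^ N • f = 0) (j : ℤ)
    (f : G W (Tower.cn y Y) j) : x ^ (N + N) • f = 0 := by
  have h1 : dd W y Y j (j + 1) rfl (x ^ N • f) = 0 := by rw [map_smul]; exact hN _ _
  obtain ⟨g, hg⟩ := (dd_eq_zero_iff y j (j + 1) rfl _).mp h1
  have h2 : x ^ N • ι W y Y j g = 0 := by rw [← map_smul, hN, map_zero]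
  rw [hg, smul_smul, ← pow_add] at h2
  exact h2

variable (A) in
/-- Adding all generators of the maximal ideal: same span for every `Pt` pair. -/
theorem exists_span : ∃ (r : List A) (w : ℕ), (∀ x ∈ r, x ∈ maximalIdeal A) ∧
    maximalIdeal A ≤ Ideal.ofList r ∧
    ∀ (W : Dual.D A) (Y : DRing.Cx A), Pt W Y →
      (∀ j : ℤ, (0 < j ∨ j < -(w : ℤ)) → Subsingleton (G W (Tower.T r Y) j)) ∧
      (∃ φ : A →ₗ[A] G W (Tower.T r Y) 0, Function.Surjective φ ∧
        LinearMap.ker φ = Ideal.ofList r) ∧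
      Nontrivial (G W (Tower.T r Y) (-(w : ℤ))) := by
  obtain ⟨r₀, hr₀, ⟨u, hu, hmu⟩, hspec⟩ := exists_regular_stage A
  suffices key : ∀ ys : List A, (∀ y ∈ ys, y ∈ maximalIdeal A) →
      ∀ (W : Dual.D A) (Y : DRing.Cx A), Pt W Y →
        (∀ j : ℤ, (0 < j ∨ j < -(ys.length : ℤ)) → Subsingleton (G W (Tower.T (ys ++ r₀) Y) j)) ∧
        (∃ φ : A →ₗ[A] G W (Tower.T (ys ++ r₀) Y) 0, Function.Surjective φ ∧
          LinearMap.ker φ = Ideal.ofList (ys ++ r₀)) ∧
        ∃ v : G W (Tower.T (ys ++ r₀) Y) (-(ys.length : ℤ)),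
          v ≠ 0 ∧ ∀ a ∈ maximalIdeal A, a • v = 0 by
    obtain ⟨s, hs⟩ := IsNoetherian.noetherian (maximalIdeal A)
    have hmem : ∀ y ∈ s.toList, y ∈ maximalIdeal A := fun y hy => by
      rw [← hs]; exact Submodule.subset_span (Finset.mem_toList.mp hy)
    refine ⟨s.toList ++ r₀, s.toList.length, ?_, ?_, fun W Y hY => ?_⟩
    · simp only [List.mem_append]
      rintro x (hx | hx)
      exacts [hmem x hx, hr₀ x hx]
    · rw [Ideal.ofList_append, ← hs]
      exact le_sup_of_le_left (Submodule.span_mono fun y hy => Finset.mem_toList.mpr hy)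
    · obtain ⟨h1, h2, v, hv, -⟩ := key s.toList hmem W Y hY
      exact ⟨h1, h2, ⟨⟨v, 0, hv⟩⟩⟩
  intro ys
  induction ys with
  | nil =>
    intro _ W Y hY
    obtain ⟨hvan, φ, hφ, hker⟩ := hspec W Y hY
    refine ⟨fun j hj => hvan j ?_, ⟨φ, hφ, hker⟩, φ u, ?_, fun a ha => ?_⟩
    · simp only [List.length_nil, Nat.cast_zero, neg_zero] at hj
      omega
    · intro h
      rw [← LinearMap.mem_ker, hker] at h
      exact hu h
    · change a • φ u = 0
      rw [← map_smul, ← LinearMap.mem_ker, hker, smul_eq_mul]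
      exact hmu a ha
  | cons y l ih =>
    intro hys W Y hY
    obtain ⟨hy, hl⟩ := List.forall_mem_cons.mp hys
    obtain ⟨hvan, ⟨φ, hφ, hker⟩, v, hv, hmv⟩ := ih hl W Y hY
    have hlen : -((y :: l).length : ℤ) + 1 = -(l.length : ℤ) := by simp
    refine ⟨fun j hj => subsingleton_cn y j ?_ ?_, ?_, ?_⟩
    · exact hvan j (by simp only [List.length_cons, Nat.cast_succ] at hj; omega)
    · exact hvan (j + 1) (by simp only [List.length_cons, Nat.cast_succ] at hj; omega)
    · obtain ⟨φ', hφ', hker'⟩ := exists_top_cn y φ hφ hker (hvan 1 (Or.inl one_pos))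
      exact ⟨φ', hφ', hker'.trans (by rw [List.cons_append, Ideal.ofList_cons])⟩
    · exact exists_socle_cn y hy _ _ hlen (hvan _ (Or.inr (by simp))) hv hmv

omit [IsLocalRing A] in
theorem finite_T : ∀ (l : List A), (∀ j, Module.Finite A (G W Y j)) →
    ∀ j, Module.Finite A (G W (Tower.T l Y) j)
  | [], h, j => h j
  | x :: l, h, j => finite_cn x (finite_T l h) j

omit [IsLocalRing A] [IsNoetherianRing A] in
theorem exists_pow_kills : ∀ (l : List A), ∀ x ∈ l, ∃ N : ℕ,
    ∀ (j : ℤ) (f : G W (Tower.T l Y) j), x ^ N • f = 0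
  | [], x, hx => absurd hx (List.not_mem_nil)
  | y :: l, x, hx => by
    rcases List.mem_cons.mp hx with rfl | hx
    · exact ⟨2, fun j f => sq_kills_cn x j f⟩
    · obtain ⟨N, hN⟩ := exists_pow_kills l x hx
      exact ⟨N + N, fun j f => pow_kills_cn y x N hN j f⟩

theorem isFiniteLength_of_kills {M : Type (u + 1)} [AddCommGroup M] [Module A M] [Module.Finite A M]
    (r : List A) (hr : maximalIdeal A ≤ Ideal.ofList r)
    (hk : ∀ x ∈ r, ∃ N : ℕ, ∀ f : M, x ^ N • f = 0) : IsFiniteLength A M := by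
  have hrad : maximalIdeal A ≤ (Module.annihilator A M).radical :=
    hr.trans (Ideal.span_le.mpr fun x hx => by
      obtain ⟨N, hN⟩ := hk x hx
      exact ⟨N, Module.mem_annihilator.mpr hN⟩)
  obtain ⟨k, hk'⟩ := Ideal.exists_pow_le_of_le_radical_of_fg hrad (IsNoetherian.noetherian _)
  obtain ⟨n, g, hg⟩ := Module.Finite.exists_fin' A M
  let q : A ⧸ maximalIdeal A ^ k →ₗ[A] Module.End A M :=
    Submodule.liftQ _ (Algebra.linearMap A (Module.End A M)) fun a ha => by
      rw [LinearMap.mem_ker]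
      ext f
      exact Module.mem_annihilator.mp (hk' ha) f
  let φ : (Fin n → A ⧸ maximalIdeal A ^ k) →ₗ[A] M :=
    LinearMap.lsum A (fun _ => A ⧸ maximalIdeal A ^ k) A fun i => q.flip (g (Pi.single i 1))
  have hφ : Function.Surjective φ := fun m => by
    obtain ⟨c, rfl⟩ := hg m
    refine ⟨fun i => Ideal.Quotient.mk _ (c i), ?_⟩
    conv_rhs => rw [pi_eq_sum_univ' c, map_sum]
    simp only [φ, LinearMap.lsum_apply, LinearMap.sum_apply, LinearMap.comp_apply,
      LinearMap.proj_apply, LinearMap.flip_apply]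
    refine Finset.sum_congr rfl fun i _ => ?_
    change algebraMap A (Module.End A M) (c i) (g (Pi.single i 1)) = _
    rw [Module.algebraMap_end_apply, map_smul]
  have : IsArtinian A (A ⧸ maximalIdeal A ^ k) :=
    (isFiniteLength_iff_isNoetherian_isArtinian.mp (InjHull.Matlis.isFiniteLength_quotient_pow k)).2
  exact isFiniteLength_iff_isNoetherian_isArtinian.mpr
    ⟨inferInstance, isArtinian_of_surjective _ φ hφ⟩

end Groth.Agent.DualCx.Span
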