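import Groth.Agent.DualCx.LocalGlobal
import Groth.Agent.DualCx.FlatBC
import Groth.Agent.DualCx.Dimfun
import Groth.Agent.DualCx.Span
import Mathlib.Data.Int.Interval

/-!
# Pointwise finite injective dimension: `Ext(M, R)` is bounded for finite `M`
-/

universe u

open CategoryTheory CategoryTheory.Limits IsLocalRing

attribute [local instance] HasDerivedCategory.standard

namespace Groth.Agent.DualCx.Pointwise

open Devissage (E F pre)
open Dimfun (Z)

variable {A : Type u} [CommRing A] {R : Dual.D A}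

/-- bounded Koszul-type objects -/
theorem exists_koszul [IsNoetherianRing A] (B₀ : ℤ) (hB₀ : ∀ i, B₀ < i → Subsingleton (Dual.HD A R i)) :
    ∀ l : List A,
      (∀ j : ℤ, j < -(l.length : ℤ) ∨ 0 < j →
        Subsingleton (Span.G (Dual.inD A A) (Tower.T l (Cx.unitCx A)) j)) ∧
      (∃ φ : A →ₗ[A] Span.G (Dual.inD A A) (Tower.T l (Cx.unitCx A)) 0,
        Function.Surjective φ ∧ LinearMap.ker φ = Ideal.ofList l) ∧
      ∀ i : ℤ, B₀ + l.length < i →
        Subsingleton (DRing.toD (Tower.T l (Cx.unitCx A)) ⟶ R⟦i⟧)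
  | [] => by
    refine ⟨fun j hj => ?_, ?_, fun i hi => ?_⟩
    · have := Residue.subsingleton_HD_unit (A := A) j (by simp at hj; omega)
      exact @Equiv.subsingleton _ _ (Cx.homUnitEquivShift (DRing.toD (Cx.unitCx A)) j).toEquiv this
    · let e : A ≃ₗ[A] Span.G (Dual.inD A A) (Tower.T ([] : List A) (Cx.unitCx A)) 0 :=
        Residue.unitH0.symm.trans (Cx.homUnitEquivShift (DRing.toD (Cx.unitCx A)) 0).symm
      exact ⟨e.toLinearMap, e.surjective, by rw [LinearEquiv.ker, Ideal.ofList_nil]⟩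
    · have := hB₀ i (by simpa using hi)
      exact ((Hom.congr A (Cx.unitIso A) (Iso.refl _)).trans
        (Cx.homUnitEquivShift R i)).toEquiv.subsingleton
  | x :: l => by
    obtain ⟨hv, ⟨φ, hφ, hk⟩, hb⟩ := exists_koszul B₀ hB₀ l
    refine ⟨fun j hj => ?_, ?_, fun i hi => ?_⟩
    · refine Span.subsingleton_cn x j (hv j ?_) (hv (j + 1) ?_) <;>
        · rcases hj with hj | hj <;> (try simp only [List.length_cons, Nat.cast_add, Nat.cast_one] at hj) <;>
            omega
    · obtain ⟨φ', h1, h2⟩ := Span.exists_top_cn x φ hφ hk (hv 1 (Or.inr one_pos))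
      exact ⟨φ', h1, h2.trans (Ideal.ofList_cons x l).symm⟩
    · simp only [List.length_cons, Nat.cast_add, Nat.cast_one] at hi
      have h1 := hb (i - 1) (by omega)
      have h2 := hb i (by omega)
      refine subsingleton_of_forall_eq 0 fun f => ?_
      obtain ⟨g, rfl⟩ := (Hom.exact_cδ_pre A R
        (Cx.cnTri_distinguished x (Tower.T l (Cx.unitCx A))) (i - 1) i (by omega) f).mp
          (Subsingleton.elim (α := DRing.toD (Tower.T l (Cx.unitCx A)) ⟶ R⟦i⟧) _ _)
      exact (congrArg _ (Subsingleton.elim (α := DRing.toD (Tower.T l (Cx.unitCx A)) ⟶ R⟦i - 1⟧) g 0)).trans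
        (map_zero _)

/-- local vanishing propagates along cohomology -/
theorem Z_F (q : PrimeSpectrum A) (j : ℤ) : ∀ (n : ℕ) (a : ℤ) (X : Dual.D A),
    (∀ i, i < a ∨ a + n < i → Subsingleton (Dual.HD A X i)) →
    (∀ i, a ≤ i → i ≤ a + n → Z q (E (Dual.HD A X i) R (j + i))) → Z q (F X R j)
  | 0, a, X, hX, hE => by
    obtain ⟨e⟩ := Devissage.nonempty_F_single (K := R) X a (fun i hi => hX i (by omega)) j
    exact Dimfun.Z_equiv e.symm (hE a le_rfl (by omega))
  | n + 1, a, X, hX, hE => by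
    obtain ⟨T, hT, rfl, h1, h3, e1, e3⟩ := Devissage.exists_split X (a + n)
    refine Dimfun.Z_mid (Hom.exact_pre A R hT j) ?_ (Z_F q j n a T.obj₁ (fun i hi => ?_) fun i hi hi' => ?_)
    · obtain ⟨e⟩ := Devissage.nonempty_F_single (K := R) T.obj₃ (a + n + 1) (fun i hi => by
        by_cases hi' : i ≤ a + n
        · exact h3 i hi'
        · obtain ⟨e⟩ := e3 i (by omega)
          have := hX i (Or.inr (by push_cast; omega))
          exact e.symm.toEquiv.subsingleton) j
      obtain ⟨e'⟩ := e3 (a + n + 1) (by omega)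
      exact Dimfun.Z_equiv ((Devissage.congrE e' R _).trans e.symm)
        (hE (a + n + 1) (by omega) (by push_cast; omega))
    · rcases hi with hi | hi
      · obtain ⟨e⟩ := e1 i (by omega)
        have := hX i (Or.inl hi)
        exact e.toEquiv.subsingleton
      · exact h1 i hi
    · obtain ⟨e⟩ := e1 i hi'
      exact Dimfun.Z_equiv (Devissage.congrE e.symm R _) (hE i hi (by push_cast; omega))

/-- a bound for all finite modules supported in `V(J)`, given one for the primes there -/
theorem Z_module [IsNoetherianRing A] (p : Ideal A)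
    (hbig : ∀ r : PrimeSpectrum A, p < r.1 → ∃ b : ℤ, ∀ i, b < i → Subsingleton (E (A ⧸ r.1) R i))
    (M : Type u) [AddCommGroup M] [Module A M] [Module.Finite A M]
    (hM : ∀ r : PrimeSpectrum A, Module.annihilator A M ≤ r.1 → p ≤ r.1) :
    ∃ b : ℤ, ∀ (q : PrimeSpectrum A) (i : ℤ), b < i →
      ((∀ r : PrimeSpectrum A, Module.annihilator A M ≤ r.1 → r.1 = p → Z q (E (A ⧸ r.1) R i))) →
        Z q (E M R i) := by
  revert hM
  induction ‹Module.Finite A M› using IsNoetherianRing.induction_on_isQuotientEquivQuotientPrime A with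
  | subsingleton N =>
    intro _
    refine ⟨0, fun q i _ _ => ?_⟩
    have := Devissage.subsingleton_of_subsingleton (A := A) (K := R) (M := N) i
    exact Dimfun.Z_of_subsingleton q _
  | quotient N r e =>
    intro hM
    have hann : Module.annihilator A N ≤ r.1 := by
      rw [LinearEquiv.annihilator_eq e, Ideal.annihilator_quotient]
    by_cases hr : r.1 = p
    · exact ⟨0, fun q i _ h => Dimfun.Z_equiv (Devissage.congrE e.symm R i) (h r hann hr)⟩
    · obtain ⟨b, hb⟩ := hbig r (lt_of_le_of_ne (hM r hann) (Ne.symm hr))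
      refine ⟨b, fun q i hi _ => Dimfun.Z_equiv (Devissage.congrE e.symm R i) ?_⟩
      have := hb i hi
      exact Dimfun.Z_of_subsingleton q _
  | exact N₁ N₂ N₃ f g hf hg hfg h₁ h₃ =>
    intro hM
    obtain ⟨b₁, hb₁⟩ := h₁ fun r hr => hM r ((f.annihilator_le_of_injective hf).trans hr)
    obtain ⟨b₃, hb₃⟩ := h₃ fun r hr => hM r ((g.annihilator_le_of_surjective hg).trans hr)
    refine ⟨max b₁ b₃, fun q i hi h => ?_⟩
    exact Dimfun.Z_mid (Devissage.exact_mid (K := R) hf hg hfg i)
      (hb₃ q i (by omega) fun r hr => h r ((g.annihilator_le_of_surjective hg).trans hr))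
      (hb₁ q i (by omega) fun r hr => h r ((f.annihilator_le_of_injective hf).trans hr))

/-- eventual vanishing at each prime -/
theorem exists_Z [IsNoetherianRing A] [∀ p : PrimeSpectrum A, DRing.HasLBaseChange (algebraMap A (Localization.AtPrime p.asIdeal))]
    (hpw : ∀ p : PrimeSpectrum A, DRing.HasFiniteInjDim (Localization.AtPrime p.asIdeal)
      ((DRing.LBaseChange (algebraMap A (Localization.AtPrime p.asIdeal))).obj R))
    (a : ℤ) [R.IsGE a] (M : Type u) [AddCommGroup M] [Module A M] [Module.Finite A M]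
    (q : PrimeSpectrum A) : ∃ b : ℤ, ∀ i, b < i → Z q (E M R i) := by
  let L := Localization.AtPrime q.asIdeal
  have : Module.Flat A L := IsLocalization.flat L q.asIdeal.primeCompl
  obtain ⟨a', b, hab⟩ := hpw q
  obtain ⟨e⟩ := FlatBC.nonempty_LBaseChange (A := A) (B := L) R
  have hab' : DRing.HasInjAmplitudeIn L a' b ((BaseChange.FD A L).obj R) := by
    obtain ⟨W, h1, h2, ⟨eW⟩⟩ := hab
    exact ⟨W, h1, h2, ⟨eW ≪≫ e⟩⟩
  refine ⟨b, fun i hi => (Dimfun.Z_iff_tensor q _).mpr ?_⟩
  have := LocalGlobal.subsingleton_hom_injRep hab' (Dual.inD L (TensorProduct A L M)) 0 i (by omega)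
  exact (FlatBC.homLEquiv (B := L) R a M i).toEquiv.subsingleton

theorem exists_bound [IsNoetherianRing A]
    [∀ p : PrimeSpectrum A, DRing.HasLBaseChange (algebraMap A (Localization.AtPrime p.asIdeal))]
    (hpw : ∀ p : PrimeSpectrum A, DRing.HasFiniteInjDim (Localization.AtPrime p.asIdeal)
      ((DRing.LBaseChange (algebraMap A (Localization.AtPrime p.asIdeal))).obj R))
    (hf : ∀ i, Module.Finite A (Dual.HD A R i))
    (a : ℤ) [R.IsGE a] (B₀ : ℤ) (hB₀ : ∀ i, B₀ < i → Subsingleton (Dual.HD A R i)) :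
    ∀ p : Ideal A, p.IsPrime → ∃ b : ℤ, ∀ i, b < i → Subsingleton (E (A ⧸ p) R i) := by
  intro p
  induction p using WellFoundedGT.induction with
  | ind p ih =>
  intro hp
  classical
  have hbig : ∀ r : PrimeSpectrum A, p < r.1 → ∃ b : ℤ, ∀ i, b < i → Subsingleton (E (A ⧸ r.1) R i) :=
    fun r hr => ih r.1 hr r.2
  obtain ⟨s, hs⟩ := (IsNoetherian.noetherian p : p.FG)
  let l := s.toList
  have hl : Ideal.ofList l = p := by
    rw [← hs]; simp [Ideal.ofList, l, Finset.mem_toList]
  let X := DRing.toD (Tower.T l (Cx.unitCx A))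
  let k : ℕ := l.length
  obtain ⟨hv, ⟨φ, hφ, hk⟩, hB⟩ := exists_koszul (R := R) B₀ hB₀ l
  let eX : ∀ j, Span.G (Dual.inD A A) (Tower.T l (Cx.unitCx A)) j ≃ₗ[A] Dual.HD A X j :=
    fun j => Cx.homUnitEquivShift X j
  have hfinX : ∀ j, Module.Finite A (Dual.HD A X j) := fun j =>
    have := Span.finite_T (W := Dual.inD A A) l (Residue.finite_unit (A := A)) j
    Module.Finite.equiv (eX j)
  have hvX : ∀ j, j < -(k : ℤ) ∨ 0 < j → Subsingleton (Dual.HD A X j) := fun j hj =>
    have := hv j hj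
    (eX j).symm.toEquiv.subsingleton
  have hsupp : ∀ (j : ℤ) (r : PrimeSpectrum A), Module.annihilator A (Dual.HD A X j) ≤ r.1 → p ≤ r.1 := by
    intro j r hr
    rw [← hl, Ideal.ofList, Ideal.span_le]
    intro x hx
    obtain ⟨N, hN⟩ := Span.exists_pow_kills (W := Dual.inD A A) (Y := Cx.unitCx A) l x hx
    refine r.2.mem_of_pow_mem N (hr (Module.mem_annihilator.mpr fun m => ?_))
    rw [← (eX j).apply_symm_apply m, ← map_smul, hN, map_zero]
  -- bounds for the cohomology modules
  have hjb := fun j => Z_module (R := R) p hbig (Dual.HD A X j) (hsupp j)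
  choose bj hbj using hjb
  -- the lowest degree with `p` in the support
  let P : ℤ → Prop := fun j => Module.annihilator A (Dual.HD A X j) ≤ p
  have hP0 : P 0 := fun c hc => by
    have h1 := Module.mem_annihilator.mp hc (eX 0 (φ 1))
    have h2 : φ c = 0 := (eX 0).injective (by
      rw [map_zero, ← h1, ← map_smul, ← map_smul, smul_eq_mul, mul_one])
    exact hl.le (hk.le (LinearMap.mem_ker.mpr h2))
  obtain ⟨j₀, hj₀, hmin⟩ := Int.exists_least_of_bdd (P := P) ⟨-(k : ℤ), fun j hj => by
    by_contra hlt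
    have := hvX j (Or.inl (by omega))
    exact hp.ne_top (top_le_iff.mp ((Module.annihilator_eq_top_iff.mpr this).ge.trans hj))⟩ ⟨0, hP0⟩
  have hj₀' : -(k : ℤ) ≤ j₀ ∧ j₀ ≤ 0 := by
    refine ⟨?_, hmin 0 hP0⟩
    by_contra hlt
    have := hvX j₀ (Or.inl (by omega))
    exact hp.ne_top (top_le_iff.mp ((Module.annihilator_eq_top_iff.mpr this).ge.trans hj₀))
  -- `A/p` inside the lowest module
  have := hfinX j₀
  obtain ⟨ι, hι⟩ : ∃ ι : A ⧸ p →ₗ[A] Dual.HD A X j₀, Function.Injective ι := by
    have hmin' : p ∈ (Module.annihilator A (Dual.HD A X j₀)).minimalPrimes :=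
      ⟨⟨hp, hj₀⟩, fun r ⟨hr, hr'⟩ _ => hsupp j₀ ⟨r, hr⟩ hr'⟩
    have hass : p ∈ associatedPrimes A (Dual.HD A X j₀) :=
      Module.associatedPrimes.minimalPrimes_annihilator_subset_associatedPrimes A (Dual.HD A X j₀) hmin'
    exact ((isAssociatedPrime_iff_exists_injective_linearMap _ _).mp hass).2
  have hcok : ∀ r : PrimeSpectrum A,
      Module.annihilator A (Dual.HD A X j₀ ⧸ LinearMap.range ι) ≤ r.1 → p ≤ r.1 := fun r hr =>
    hsupp j₀ r ((LinearMap.annihilator_le_of_surjective _ (Submodule.mkQ_surjective _)).trans hr)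
  obtain ⟨bQ, hbQ⟩ := Z_module (R := R) p hbig (Dual.HD A X j₀ ⧸ LinearMap.range ι) hcok
  obtain ⟨N₀, hN₀⟩ := Finset.exists_le ((Finset.Icc (-(k : ℤ)) 0).image bj)
  let N : ℤ := max (max N₀ bQ) (B₀ + k) + k + 1
  refine ⟨N, fun i hi => ?_⟩
  have := Criterion.finite_E (K := R) a hf (A ⧸ p) i
  suffices hZ : ∀ q : PrimeSpectrum A, Z q (E (A ⧸ p) R i) by
    refine subsingleton_of_forall_eq 0 fun e => ?_
    by_contra he
    obtain ⟨m, hm, hle⟩ := Ideal.exists_le_maximal (LinearMap.ker (LinearMap.toSpanSingleton A _ e))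
      fun h => he (by
        have h1 : LinearMap.toSpanSingleton A _ e 1 = 0 := LinearMap.mem_ker.mp (h ▸ trivial)
        rwa [LinearMap.toSpanSingleton_apply, one_smul] at h1)
    obtain ⟨s', hs', hse⟩ := hZ ⟨m, hm.isPrime⟩ e
    exact hs' (hle (by simpa using hse))
  intro q
  obtain ⟨b, hb⟩ := exists_Z hpw a (A ⧸ p) q
  suffices ∀ (n : ℕ) (t : ℤ), N < t → b < t + n → Z q (E (A ⧸ p) R t) from
    this ((b - i).toNat + 1) i hi (by omega)
  intro n
  induction n with
  | zero => intro t _ ht; exact hb t (by simpa using ht)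
  | succ n ihn =>
    intro t ht ht'
    have hup : ∀ t' > t, Z q (E (A ⧸ p) R t') := fun t' h' => ihn t' (by omega) (by omega)
    -- higher modules vanish locally
    have hH : ∀ j, -(k : ℤ) ≤ j → j ≤ 0 → ∀ t' : ℤ, N - k - 1 < t' → (t < t' ∨ ¬ P j) →
        Z q (E (Dual.HD A X j) R t') := fun j h1 h2 t' h3 h4 => by
      have hle := hN₀ _ (Finset.mem_image_of_mem bj (Finset.mem_Icc.mpr ⟨h1, h2⟩))
      refine hbj j q t' (by omega) fun r hr hrp => ?_
      rcases h4 with h4 | h4
      · exact Dimfun.Z_equiv (Devissage.congrE (Submodule.quotEquivOfEq _ _ hrp.symm) R t') (hup t' h4)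
      · exact absurd (le_of_le_of_eq hr hrp : P j) h4
    -- split off the degrees below `j₀`
    obtain ⟨T, hT, hT2, hl1, hr3, e1, e3⟩ := Devissage.exists_split X (j₀ - 1)
    have hX₃ : Z q (F T.obj₃ R (t - j₀)) := by
      refine Dimfun.Z_mid (Hom.exact_cδ_pre A R hT (t - j₀ - 1) (t - j₀) (by omega)) ?_ ?_
      · refine Z_F q _ (j₀ - 1 + k).toNat (-(k : ℤ)) T.obj₁ (fun j hj => ?_) fun j hj hj' => ?_
        · by_cases h : j ≤ j₀ - 1
          · obtain ⟨e⟩ := e1 j h
            have := hvX j (Or.inl (by omega))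
            exact e.toEquiv.subsingleton
          · exact hl1 j (by omega)
        · by_cases h : j ≤ j₀ - 1
          · obtain ⟨e⟩ := e1 j h
            exact Dimfun.Z_equiv (Devissage.congrE e.symm R _)
              (hH j hj (by omega) _ (by omega) (Or.inr fun hPj => by have := hmin j hPj; omega))
          · have := hl1 j (by omega)
            have := Devissage.subsingleton_of_subsingleton (A := A) (K := R) (M := Dual.HD A T.obj₁ j)
              (t - j₀ - 1 + j)
            exact Dimfun.Z_of_subsingleton q _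
      · have := hB (t - j₀) (by omega)
        have : Subsingleton (F T.obj₂ R (t - j₀)) := hT2.symm ▸ this
        exact Dimfun.Z_of_subsingleton q _
    -- split off `j₀`
    obtain ⟨U, hU, hU2, hUl, hUr, f1, f3⟩ := Devissage.exists_split T.obj₃ j₀
    have eT3 : ∀ j, j₀ ≤ j → Nonempty (Dual.HD A X j ≃ₗ[A] Dual.HD A T.obj₃ j) := fun j hj => by
      obtain ⟨e⟩ := e3 j (by omega)
      exact ⟨e⟩
    have hT3v : ∀ j, j < j₀ ∨ 0 < j → Subsingleton (Dual.HD A T.obj₃ j) := fun j hj => by
      by_cases h : j ≤ j₀ - 1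
      · exact hr3 j h
      · obtain ⟨e⟩ := eT3 j (by omega)
        have := hvX j (Or.inr (by omega))
        exact e.symm.toEquiv.subsingleton
    have hU3 : Z q (F U.obj₃ R (t - j₀ + 1)) := by
      refine Z_F q _ (-j₀).toNat j₀ U.obj₃ (fun j hj => ?_) fun j hj hj' => ?_
      · by_cases h : j ≤ j₀
        · exact hUr j h
        · obtain ⟨e⟩ := f3 j (by omega)
          have := hT3v j (by omega)
          exact e.symm.toEquiv.subsingleton
      · by_cases h : j ≤ j₀
        · have := hUr j h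
          have := Devissage.subsingleton_of_subsingleton (A := A) (K := R) (M := Dual.HD A U.obj₃ j)
            (t - j₀ + 1 + j)
          exact Dimfun.Z_of_subsingleton q _
        · obtain ⟨e⟩ := f3 j (by omega)
          obtain ⟨e'⟩ := eT3 j (by omega)
          exact Dimfun.Z_equiv (Devissage.congrE (e'.trans e) R _)
            (hH j (by omega) (by omega) _ (by omega) (Or.inl (by omega)))
    have hU1 : Z q (F U.obj₁ R (t - j₀)) := by
      refine Dimfun.Z_mid (Hom.exact_pre_cδ A R hU (t - j₀) (t - j₀ + 1) rfl) ?_ hU3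
      exact (hU2.symm ▸ hX₃ : Z q (F U.obj₂ R (t - j₀)))
    obtain ⟨eU⟩ := Devissage.nonempty_F_single (K := R) U.obj₁ j₀ (fun j hj => by
      by_cases h : j ≤ j₀
      · obtain ⟨e⟩ := f1 j h
        have := hT3v j (Or.inl (by omega))
        exact e.toEquiv.subsingleton
      · exact hUl j (by omega)) (t - j₀)
    obtain ⟨eH⟩ : Nonempty (Dual.HD A U.obj₁ j₀ ≃ₗ[A] Dual.HD A X j₀) := by
      obtain ⟨e⟩ := f1 j₀ le_rfl
      obtain ⟨e'⟩ := eT3 j₀ le_rfl
      exact ⟨e.trans e'.symm⟩
    have hM₀ : Z q (E (Dual.HD A X j₀) R t) := by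
      have h1 := Dimfun.Z_equiv (eU.trans (Devissage.congrE eH R _)) hU1
      rwa [sub_add_cancel] at h1
    -- `A/p ⊂ H^{j₀}`
    let hS := (Devissage.sc_shortExact hι (Submodule.mkQ_surjective _)
      (LinearMap.exact_map_mkQ_range ι)).singleTriangle_distinguished
    refine Dimfun.Z_mid (Hom.exact_pre_cδ A R hS t (t + 1) rfl) hM₀ ?_
    refine hbQ q (t + 1) (by omega) fun r _ hrp => ?_
    exact Dimfun.Z_equiv (Devissage.congrE (Submodule.quotEquivOfEq _ _ hrp.symm) R _)
      (hup (t + 1) (by omega))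

end Groth.Agent.DualCx.Pointwise
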