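import Groth.Agent.DualCx.Dimfun
import Groth.Agent.DualCx.Biduality
import Groth.Agent.DualCx.Criterion
import Mathlib.RingTheory.Polynomial.Basic
import Mathlib.RingTheory.Jacobson.Ring
import Mathlib.Algebra.MvPolynomial.Equiv

/-!
# The base change of a dualizing complex to a polynomial ring is dualizing
-/

universe u

open CategoryTheory CategoryTheory.Limits Polynomial
open scoped TensorProduct Polynomial

attribute [local instance] HasDerivedCategory.standard

namespace Groth.Agent.DualCx.Polynomial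

open Devissage (E pre)
open Dimfun (Z deg)

variable {A : Type u} [CommRing A]

/-- elementwise vanishing after inverting `A ∖ p` -/
def ZS (p : PrimeSpectrum A) (M : Type*) [AddCommGroup M] [Module A[X] M] : Prop :=
  ∀ e : M, ∃ s : A, s ∉ p.1 ∧ (C s : A[X]) • e = 0

theorem ZS_mid {p : PrimeSpectrum A} {M N P : Type*} [AddCommGroup M] [Module A[X] M] [AddCommGroup N]
    [Module A[X] N] [AddCommGroup P] [Module A[X] P] {f : M →ₗ[A[X]] N} {g : N →ₗ[A[X]] P}
    (h : Function.Exact f g) (hM : ZS p M) (hP : ZS p P) : ZS p N := fun e => by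
  obtain ⟨s, hs, he⟩ := hP (g e)
  obtain ⟨x, hx⟩ := (h ((C s : A[X]) • e)).mp (by rw [map_smul, he])
  obtain ⟨t, ht, htx⟩ := hM x
  exact ⟨t * s, fun hm => (p.2.mem_or_mem hm).elim ht hs,
    by rw [C_mul, mul_smul, ← hx, ← map_smul, htx, map_zero]⟩

theorem ZS_equiv {p : PrimeSpectrum A} {M N : Type*} [AddCommGroup M] [Module A[X] M] [AddCommGroup N]
    [Module A[X] N] (e : M ≃ₗ[A[X]] N) (h : ZS p M) : ZS p N := fun x => by
  obtain ⟨s, hs, hx⟩ := h (e.symm x)
  exact ⟨s, hs, e.symm.injective (by rw [map_smul, hx, map_zero])⟩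

/-- `Z p M` gives `ZS p (A[X] ⊗ M)` -/
theorem ZS_tensor {p : PrimeSpectrum A} {M : Type*} [AddCommGroup M] [Module A M] (h : Z p M) :
    ZS p (A[X] ⊗[A] M) := fun t => by
  induction t using TensorProduct.induction_on with
  | zero => exact ⟨1, fun h1 => p.2.ne_top ((Ideal.eq_top_iff_one _).mpr h1), smul_zero _⟩
  | tmul b m =>
    obtain ⟨s, hs, hm⟩ := h m
    refine ⟨s, hs, ?_⟩
    rw [← Polynomial.algebraMap_eq, algebraMap_smul, ← TensorProduct.tmul_smul, hm,
      TensorProduct.tmul_zero]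
  | add y z hy hz =>
    obtain ⟨s, hs, hsy⟩ := hy
    obtain ⟨t, ht, htz⟩ := hz
    refine ⟨s * t, fun hm => (p.2.mem_or_mem hm).elim hs ht, ?_⟩
    rw [smul_add, C_mul, mul_comm, mul_smul, hsy, smul_zero, mul_comm, mul_smul, htz, smul_zero,
      add_zero]

/-- pseudo-division -/
theorem exists_pow_mul_mem {D : Type u} [CommRing D] [IsDomain D] (J : Ideal D[X]) (g : D[X])
    (hg : g ∈ J) (hg0 : g ≠ 0) (hmin : ∀ f ∈ J, f ≠ 0 → g.natDegree ≤ f.natDegree) :
    ∀ f ∈ J, ∃ k : ℕ, C (g.leadingCoeff ^ k) * f ∈ Ideal.span {g} := by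
  suffices ∀ (n : ℕ) (f : D[X]), f ∈ J → (∀ j, n ≤ j → f.coeff j = 0) →
      ∃ k : ℕ, C (g.leadingCoeff ^ k) * f ∈ Ideal.span {g} from
    fun f hf => this (f.natDegree + 1) f hf fun j hj => coeff_eq_zero_of_natDegree_lt (by omega)
  intro n
  induction n with
  | zero =>
    intro f _ h0
    exact ⟨0, by rw [show f = 0 from Polynomial.ext fun j => by simp [h0 j]]; simp⟩
  | succ n ih =>
    intro f hf h0
    by_cases hn : n < g.natDegree
    · have : f = 0 := by
        by_contra hne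
        have h1 := hmin f hf hne
        have h2 : f.natDegree ≤ n := natDegree_le_iff_coeff_eq_zero.mpr fun j hj => h0 j hj
        omega
      exact ⟨0, by simp [this]⟩
    obtain ⟨k, hk⟩ := ih (C g.leadingCoeff * f - C (f.coeff n) * (X ^ (n - g.natDegree) * g))
      (J.sub_mem (J.mul_mem_left _ hf) (J.mul_mem_left _ (J.mul_mem_left _ hg))) fun j hj => by
        rw [coeff_sub, coeff_C_mul, coeff_C_mul, coeff_X_pow_mul', if_pos (by omega)]
        rcases eq_or_lt_of_le hj with rfl | hlt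
        · rw [show n - (n - g.natDegree) = g.natDegree by omega, coeff_natDegree]
          ring
        · rw [h0 j hlt, mul_zero, coeff_eq_zero_of_natDegree_lt
            (show g.natDegree < j - (n - g.natDegree) by omega), mul_zero, sub_zero]
    refine ⟨k + 1, ?_⟩
    have : C (g.leadingCoeff ^ (k + 1)) * f = C (g.leadingCoeff ^ k) *
        (C g.leadingCoeff * f - C (f.coeff n) * (X ^ (n - g.natDegree) * g)) +
        (C (g.leadingCoeff ^ k) * C (f.coeff n) * X ^ (n - g.natDegree)) * g := by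
      rw [pow_succ, C_mul]; ring
    rw [this]
    exact Ideal.add_mem _ hk (Ideal.mul_mem_left _ _ (Ideal.mem_span_singleton_self g))

variable [IsNoetherianRing A] {ω : Dual.D A} (hω : Dual.IsDualizing A ω)

include hω

/-- a generator at `p` -/
theorem exists_gen (p : PrimeSpectrum A) : ∃ x : E (A ⧸ p.1) ω (deg hω p),
    (∀ e, ∃ s a : A, s ∉ p.1 ∧ s • e = a • x) ∧
      ∀ a : A, (∃ s : A, s ∉ p.1 ∧ s • (a • x) = 0) → a ∈ p.1 := by
  obtain ⟨n, hv, ⟨eκ⟩⟩ := Residue.residue_single (Dimfun.isDualizing_local hω p)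
  obtain rfl : n = deg hω p := by
    by_contra hne
    obtain ⟨e⟩ := Dimfun.nonempty_residue hω p (deg hω p)
    have := hv _ (Ne.symm hne)
    exact Dimfun.not_Z_deg hω p ((Dimfun.Z_iff_tensor p _).mpr e.toEquiv.subsingleton)
  obtain ⟨e⟩ := Dimfun.nonempty_residue hω p (deg hω p)
  let ψ := e.trans eκ
  obtain ⟨x, hx⟩ : ∃ x : E (A ⧸ p.1) ω (deg hω p), (1 : Dimfun.B p) ⊗ₜ[A] x ≠ 0 := by
    by_contra! hall
    refine Dimfun.not_Z_deg hω p fun x => ?_
    obtain ⟨t, ht⟩ := (IsLocalizedModule.eq_zero_iff p.1.primeCompl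
      (TensorProduct.mk A (Dimfun.B p) (E (A ⧸ p.1) ω (deg hω p)) 1)).mp (hall x)
    exact ⟨t.1, t.2, ht⟩
  refine ⟨x, fun y => ?_, fun a ha => ?_⟩
  · obtain ⟨c, hc⟩ := IsLocalRing.residue_surjective (ψ (1 ⊗ₜ y) / ψ (1 ⊗ₜ x))
    have hne : ψ (1 ⊗ₜ x) ≠ 0 := fun h => hx (ψ.injective (h.trans (map_zero ψ).symm))
    have h1 : ψ (c • ((1 : Dimfun.B p) ⊗ₜ[A] x)) = ψ (1 ⊗ₜ y) := by
      rw [map_smul, Algebra.smul_def, IsLocalRing.ResidueField.algebraMap_eq, hc, div_mul_cancel₀ _ hne]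
    obtain ⟨⟨a, s⟩, hs⟩ := IsLocalization.surj p.1.primeCompl c
    have h2 : (1 : Dimfun.B p) ⊗ₜ[A] ((s : A) • y - a • x) = 0 := by
      rw [TensorProduct.tmul_sub, TensorProduct.tmul_smul, TensorProduct.tmul_smul, ← ψ.injective h1,
        ← algebraMap_smul (Dimfun.B p) (s : A), ← algebraMap_smul (Dimfun.B p) a, smul_smul, ← hs,
        mul_comm, sub_self]
    obtain ⟨t, ht⟩ := (IsLocalizedModule.eq_zero_iff p.1.primeCompl
      (TensorProduct.mk A (Dimfun.B p) (E (A ⧸ p.1) ω (deg hω p)) 1)).mp h2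
    refine ⟨(t : A) * s, (t : A) * a, fun h => (p.2.mem_or_mem h).elim t.2 s.2, ?_⟩
    rw [Submonoid.smul_def, smul_sub, sub_eq_zero] at ht
    rw [mul_smul, mul_smul, ht]
  · obtain ⟨s, hs, hsa⟩ := ha
    by_contra hap
    refine hx ((IsLocalizedModule.eq_zero_iff p.1.primeCompl
      (TensorProduct.mk A (Dimfun.B p) (E (A ⧸ p.1) ω (deg hω p)) 1)).mpr
        ⟨⟨s * a, fun h => (p.2.mem_or_mem h).elim hs hap⟩, ?_⟩)
    rw [Submonoid.smul_def, mul_smul, hsa]

/-- the residue fields of maximal ideals of the polynomial ring -/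
theorem residue (m : Ideal A[X]) [m.IsMaximal] (p : PrimeSpectrum A) (hp : m.comap C = p.1) :
    (∀ i, i ≠ deg hω p + 1 → Subsingleton (E (A[X] ⧸ m) ((BaseChange.FD A A[X]).obj ω) i)) ∧
      Nonempty (E (A[X] ⧸ m) ((BaseChange.FD A A[X]).obj ω) (deg hω p + 1) ≃ₗ[A[X]] (A[X] ⧸ m)) := by
  classical
  set d := deg hω p
  set K := (BaseChange.FD A A[X]).obj ω with hK
  obtain ⟨a₀, ha₀⟩ := Dimfun.exists_isGE hω
  have : p.1.IsPrime := p.2
  let q : Ideal A[X] := p.1.map C
  -- reduction modulo `p`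
  let φ : A[X] →+* (A ⧸ p.1)[X] := mapRingHom (Ideal.Quotient.mk p.1)
  have hφ : Function.Surjective φ := map_surjective _ Ideal.Quotient.mk_surjective
  have hker : ∀ f, f ∈ q ↔ φ f = 0 := fun f => by
    rw [Ideal.mem_map_C_iff, Polynomial.ext_iff]
    refine forall_congr' fun n => ?_
    rw [coe_mapRingHom, coeff_map, coeff_zero, Ideal.Quotient.eq_zero_iff_mem]
  have hqm : q ≤ m := Ideal.map_le_iff_le_comap.mpr hp.ge
  -- a generator `g`
  let J : Ideal (A ⧸ p.1)[X] := m.map φ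
  have hJC : ∀ a : A ⧸ p.1, C a ∈ J → a = 0 := fun a ha => by
    obtain ⟨a, rfl⟩ := Ideal.Quotient.mk_surjective a
    obtain ⟨f, hf, hfa⟩ := (Ideal.mem_map_iff_of_surjective φ hφ).mp ha
    have : C a ∈ m := by
      have h1 : C a - f ∈ q := (hker _).mpr (by
        rw [map_sub, hfa, sub_eq_zero, coe_mapRingHom, map_C])
      simpa using m.add_mem (hqm h1) hf
    exact Ideal.Quotient.eq_zero_iff_mem.mpr (hp.le this)
  have hJne : ∃ f, f ∈ J ∧ f ≠ 0 := by
    by_contra! hall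
    have hmq : m ≤ q := fun f hf => (hker f).mpr (hall _ (Ideal.mem_map_of_mem φ hf))
    have hqp : ¬ q.IsMaximal := fun hmax => Polynomial.not_isField (A ⧸ p.1)
      ((Ideal.Quotient.maximal_ideal_iff_isField_quotient _).mp hmax |> fun h =>
        (RingEquiv.toMulEquiv (Ideal.polynomialQuotientEquivQuotientPolynomial p.1)).isField h)
    exact hqp (le_antisymm hmq hqm ▸ ‹m.IsMaximal›)
  obtain ⟨n₀, ⟨g', hg'J, hg'0, rfl⟩, hmin⟩ := Nat.findX (p := fun n => ∃ f, f ∈ J ∧ f ≠ 0 ∧ f.natDegree = n)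
    (hJne.elim fun f h => ⟨_, f, h.1, h.2, rfl⟩)
  have hmin' : ∀ f ∈ J, f ≠ 0 → g'.natDegree ≤ f.natDegree := fun f hf h0 => by
    by_contra hlt
    exact hmin _ (not_le.mp hlt) ⟨f, hf, h0, rfl⟩
  have hgdeg : g'.natDegree ≠ 0 := fun h0 => hg'0 (by
    rw [eq_C_of_natDegree_eq_zero h0] at hg'J ⊢
    rw [hJC _ hg'J, map_zero])
  obtain ⟨g, hgm, rfl⟩ := (Ideal.mem_map_iff_of_surjective φ hφ).mp hg'J
  obtain ⟨c, hc⟩ := Ideal.Quotient.mk_surjective (φ g).leadingCoeff
  have hcp : c ∉ p.1 := fun h => hg'0 (leadingCoeff_eq_zero.mp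
    (hc ▸ Ideal.Quotient.eq_zero_iff_mem.mpr h))
  have hprime : ∀ f h : A[X], f * h ∈ q → f ∉ q → h ∈ q := fun f h hfh hf => by
    rw [hker, map_mul] at hfh
    rw [hker] at hf ⊢
    exact (mul_eq_zero.mp hfh).resolve_left hf
  have hgq : g ∉ q := fun h => hg'0 ((hker g).mp h)
  -- `Ext` of `A[X]/pA[X]`
  obtain ⟨eq⟩ := FlatBC.nonempty_quotient (B := A[X]) p.1
  let eP : ∀ i, A[X] ⊗[A] E (A ⧸ p.1) ω i ≃ₗ[A[X]] E (A[X] ⧸ q) K i := fun i =>
    (FlatBC.homLEquiv ω a₀ (A ⧸ p.1) i).trans (Devissage.congrE eq K i)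
  have hP : ∀ i, i ≠ d → ZS p (E (A[X] ⧸ q) K i) := fun i hi =>
    ZS_equiv (eP i) (ZS_tensor (Dimfun.Z_of_ne hω p i hi))
  obtain ⟨x, hgen, hfree⟩ := exists_gen hω p
  let y : E (A[X] ⧸ q) K d := eP d (1 ⊗ₜ x)
  have hy : ∀ e : E (A[X] ⧸ q) K d, ∃ (s : A) (b : A[X]), s ∉ p.1 ∧ (C s : A[X]) • e = b • y := by
    intro e
    obtain ⟨t, rfl⟩ := (eP d).surjective e
    induction t using TensorProduct.induction_on with
    | zero => exact ⟨1, 0, fun h => p.2.ne_top ((Ideal.eq_top_iff_one _).mpr h), by simp⟩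
    | tmul b e =>
      obtain ⟨s, a, hs, hse⟩ := hgen e
      refine ⟨s, b * C a, hs, ?_⟩
      rw [← map_smul, ← Polynomial.algebraMap_eq, algebraMap_smul, ← TensorProduct.tmul_smul, hse,
        TensorProduct.tmul_smul, TensorProduct.smul_tmul']
      simp only [y]
      rw [← map_smul, TensorProduct.smul_tmul', smul_eq_mul, mul_one, Algebra.smul_def,
        Polynomial.algebraMap_eq, mul_comm]
    | add e e' he he' =>
      obtain ⟨s, b, hs, h1⟩ := he
      obtain ⟨s', b', hs', h2⟩ := he'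
      refine ⟨s * s', C s' * b + C s * b', fun h => (p.2.mem_or_mem h).elim hs hs', ?_⟩
      rw [map_add, smul_add, add_smul, mul_smul, mul_smul, ← h1, ← h2, smul_smul, smul_smul, C_mul,
        mul_comm (C s') (C s)]
  have hyq : ∀ b : A[X], (∃ s : A, s ∉ p.1 ∧ (C s : A[X]) • b • y = 0) → b ∈ q := by
    rintro b ⟨s, hs, hsb⟩
    have h1 : (C s * b) ⊗ₜ[A] x = 0 := (eP d).injective (by
      rw [map_zero, ← hsb, smul_smul, ← map_smul, TensorProduct.smul_tmul', smul_eq_mul, mul_one])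
    rw [Ideal.mem_map_C_iff]
    intro n
    refine hfree _ ⟨s, hs, ?_⟩
    have h2 := congrArg (fun t => TensorProduct.lid A (E (A ⧸ p.1) ω d)
      ((Polynomial.lcoeff A n).rTensor (E (A ⧸ p.1) ω d) t)) h1
    simp only [LinearMap.rTensor_tmul, map_zero, TensorProduct.lid_tmul, lcoeff_apply, coeff_C_mul] at h2
    rwa [mul_smul] at h2
  -- the quotient by `g`
  let l : A[X] ⧸ q →ₗ[A[X]] A[X] ⧸ q := g • LinearMap.id
  have hl : Function.Injective l := by
    intro y z hyz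
    obtain ⟨y, rfl⟩ := Submodule.Quotient.mk_surjective _ y
    obtain ⟨z, rfl⟩ := Submodule.Quotient.mk_surjective _ z
    replace hyz : Submodule.Quotient.mk (p := q) (g • y) = Submodule.Quotient.mk (g • z) := hyz
    rw [Submodule.Quotient.eq, ← smul_sub, smul_eq_mul] at hyz
    rw [Submodule.Quotient.eq]
    exact hprime g _ hyz hgq
  let N := (A[X] ⧸ q) ⧸ LinearMap.range l
  have hpre : ∀ i (e : E (A[X] ⧸ q) K i), pre l K i e = g • e := fun i e => by
    rw [Devissage.pre_smul, Devissage.pre_id]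
  let hS := (Devissage.sc_shortExact hl (Submodule.mkQ_surjective _)
    (LinearMap.exact_map_mkQ_range l)).singleTriangle_distinguished
  have hmid := fun i => Devissage.exact_mid (K := K) hl (Submodule.mkQ_surjective _)
    (LinearMap.exact_map_mkQ_range l) i
  have hqkill : ∀ i, ∀ b ∈ q, ∀ e : E (A[X] ⧸ q) K i, b • e = 0 := fun i b hb e =>
    Dimfun.smul_E_eq_zero q i hb e
  let dlt := fun i j (h : i + 1 = j) => Hom.cδ A[X]
    (Devissage.sc_shortExact hl (Submodule.mkQ_surjective _) (LinearMap.exact_map_mkQ_range l)).singleTriangle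
    K i j h
  have hN : ∀ i, i ≠ d + 1 → ZS p (E N K i) := by
    intro i hi
    by_cases hid : i = d
    · subst hid
      intro e
      obtain ⟨s, b, hs, hsb⟩ := hy (pre (Submodule.mkQ _) K d e)
      have h0 : g • pre (Submodule.mkQ (LinearMap.range l)) K d e = 0 := by
        rw [← hpre]
        exact (hmid d _).mpr ⟨e, rfl⟩
      have h1 : g * b ∈ q := hyq _ ⟨1, fun h => p.2.ne_top ((Ideal.eq_top_iff_one _).mpr h), by
        rw [mul_smul, ← hsb, smul_comm g, h0, smul_zero, smul_zero]⟩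
      have h2 : pre (Submodule.mkQ (LinearMap.range l)) K d ((C s : A[X]) • e) = 0 := by
        rw [map_smul, hsb, hqkill d b (hprime g b h1 hgq)]
      obtain ⟨w, hw⟩ := (Hom.exact_cδ_pre A[X] K hS (d - 1) d (by omega) _).mp h2
      obtain ⟨t, ht, htw⟩ := hP (d - 1) (by omega) w
      refine ⟨t * s, fun h => (p.2.mem_or_mem h).elim ht hs, ?_⟩
      rw [C_mul, mul_smul, ← hw]
      exact (map_smul (dlt (d - 1) d (by omega)) _ _).symm.trans
        ((congrArg _ htw).trans (map_zero _))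
    · exact ZS_mid (Hom.exact_cδ_pre A[X] K hS (i - 1) i (by omega)) (hP (i - 1) (by omega))
        (hP i hid)
  let η : E N K (d + 1) := dlt d (d + 1) rfl y
  have hη : ∀ e : E N K (d + 1), ∃ (s : A) (b : A[X]), s ∉ p.1 ∧ (C s : A[X]) • e = b • η := by
    intro e
    obtain ⟨s, hs, hse⟩ := hP (d + 1) (by omega) (pre (Submodule.mkQ (LinearMap.range l)) K (d + 1) e)
    obtain ⟨f, hf⟩ := (Hom.exact_cδ_pre A[X] K hS d (d + 1) rfl ((C s : A[X]) • e)).mp
      ((map_smul (pre (Submodule.mkQ (LinearMap.range l)) K (d + 1)) _ _).trans hse)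
    obtain ⟨t, b, ht, htb⟩ := hy f
    refine ⟨t * s, b, fun h => (p.2.mem_or_mem h).elim ht hs, ?_⟩
    rw [C_mul, mul_smul, ← hf]
    exact (map_smul (dlt d (d + 1) rfl) _ _).symm.trans ((congrArg _ htb).trans (map_smul _ _ _))
  have hη0 : ∀ s : A, s ∉ p.1 → (C s : A[X]) • η ≠ 0 := by
    intro s hs h0
    obtain ⟨f, hf⟩ := (Hom.exact_pre_cδ A[X] K hS d (d + 1) rfl ((C s : A[X]) • y)).mp
      ((map_smul (dlt d (d + 1) rfl) _ _).trans h0)
    obtain ⟨t, b, ht, htb⟩ := hy f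
    have h1 : C (t * s) - g * b ∈ q := hyq _ ⟨1, fun h => p.2.ne_top ((Ideal.eq_top_iff_one _).mpr h), by
      rw [sub_smul, mul_smul g b, ← htb, C_mul, mul_smul, ← hf, smul_comm g (C t),
        show Hom.pre₁ A[X] _ K d f = pre l K d f from rfl, hpre, sub_self, smul_zero]⟩
    rw [hker, map_sub, sub_eq_zero, show φ (C (t * s)) = C (Ideal.Quotient.mk p.1 (t * s)) from map_C _,
      map_mul φ] at h1
    have hts : Ideal.Quotient.mk p.1 (t * s) ≠ 0 := fun h =>
      (p.2.mem_or_mem (Ideal.Quotient.eq_zero_iff_mem.mp h)).elim ht hs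
    have hb0 : φ b ≠ 0 := fun h => hts (by
      rw [h, mul_zero] at h1
      exact C_eq_zero.mp h1)
    have := congrArg natDegree h1
    rw [natDegree_C, natDegree_mul hg'0 hb0] at this
    omega
  -- compare with the residue field
  let π : N →ₗ[A[X]] A[X] ⧸ m := Submodule.liftQ _ (Submodule.mapQ q m LinearMap.id hqm) (by
    rintro _ ⟨z, rfl⟩
    obtain ⟨z, rfl⟩ := Submodule.Quotient.mk_surjective _ z
    rw [LinearMap.mem_ker]
    exact (Submodule.Quotient.mk_eq_zero m).mpr (m.mul_mem_right z hgm))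
  have hπ : Function.Surjective π := fun z => by
    obtain ⟨z, rfl⟩ := Submodule.Quotient.mk_surjective _ z
    exact ⟨Submodule.Quotient.mk (Submodule.Quotient.mk z), rfl⟩
  have hKer : ∀ e : LinearMap.ker π, ∃ s : A, s ∉ p.1 ∧ (C s : A[X]) • e = 0 := by
    rintro ⟨e, he⟩
    obtain ⟨e, rfl⟩ := Submodule.Quotient.mk_surjective _ e
    obtain ⟨f, rfl⟩ := Submodule.Quotient.mk_surjective _ e
    have hfm : f ∈ m := (Submodule.Quotient.mk_eq_zero m).mp he
    obtain ⟨k, hk⟩ := exists_pow_mul_mem J (φ g) hg'J hg'0 hmin' (φ f) (Ideal.mem_map_of_mem φ hfm)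
    obtain ⟨h', hh'⟩ := Ideal.mem_span_singleton'.mp hk
    obtain ⟨h, rfl⟩ := hφ h'
    refine ⟨c ^ k, fun hm => hcp (p.2.mem_of_pow_mem k hm), Subtype.ext ?_⟩
    change Submodule.Quotient.mk (p := LinearMap.range l) (Submodule.Quotient.mk (p := q) (C (c ^ k) • f)) = 0
    rw [Submodule.Quotient.mk_eq_zero]
    refine ⟨Submodule.Quotient.mk h, ?_⟩
    change Submodule.Quotient.mk (p := q) (g • h) = _
    rw [Submodule.Quotient.eq, hker, smul_eq_mul, smul_eq_mul, map_sub, map_mul, map_mul, mul_comm (φ g),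
      hh', sub_eq_zero, coe_mapRingHom, map_C, RingHom.map_pow (Ideal.Quotient.mk p.1) c k, hc]
    rfl
  obtain ⟨s₀, hs₀, hs₀'⟩ : ∃ s : A, s ∉ p.1 ∧ ∀ e : LinearMap.ker π, (C s : A[X]) • e = 0 := by
    have : Module.Finite A[X] (LinearMap.ker π) := Module.Finite.of_fg (IsNoetherian.noetherian _)
    obtain ⟨t, ht⟩ := Module.Finite.fg_top (R := A[X]) (M := LinearMap.ker π)
    choose s hs hse using hKer
    refine ⟨∏ e ∈ t, s e, fun h => ?_, fun e => ?_⟩
    · obtain ⟨e, -, he⟩ := Ideal.IsPrime.prod_mem_iff.mp h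
      exact hs e he
    · suffices (C (∏ e ∈ t, s e) : A[X]) • (LinearMap.id : LinearMap.ker π →ₗ[A[X]] _) = 0 from
        LinearMap.congr_fun this e
      refine LinearMap.ext_on ht fun z hz => ?_
      rw [LinearMap.smul_apply, LinearMap.id_apply, LinearMap.zero_apply, map_prod,
        ← Finset.prod_erase_mul _ _ hz, mul_smul, hse, smul_zero]
  have hEker : ∀ i, ∀ e : E (LinearMap.ker π) K i, (C s₀ : A[X]) • e = 0 := fun i e => by
    rw [← Devissage.pre_id i e, ← Devissage.pre_smul,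
      show (C s₀ : A[X]) • (LinearMap.id : LinearMap.ker π →ₗ[A[X]] _) = (0 : A[X]) • LinearMap.id from
        LinearMap.ext fun z => by rw [LinearMap.smul_apply, LinearMap.smul_apply, zero_smul]; exact hs₀' z,
      Devissage.pre_smul, zero_smul]
  have hx : Function.Exact (LinearMap.ker π).subtype π := LinearMap.exact_subtype_ker_map π
  let hS' := (Devissage.sc_shortExact (Submodule.injective_subtype _) hπ hx).singleTriangle_distinguished
  have hinvert : ∀ i (e : E (A[X] ⧸ m) K i) (s : A), s ∉ p.1 → (C s : A[X]) • e = 0 → e = 0 := by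
    intro i e s hs hse
    obtain ⟨r, z, hz, hrz⟩ := (‹m.IsMaximal›).exists_inv
      (show (C s : A[X]) ∉ m from fun h => hs (hp.le h))
    rw [← one_smul A[X] e, ← hrz, add_smul, mul_smul, hse, smul_zero, zero_add,
      Dimfun.smul_E_eq_zero m i hz e]
  have hπinj : ∀ i (e : E (A[X] ⧸ m) K i) (s : A), s ∉ p.1 → (C s : A[X]) • pre π K i e = 0 → e = 0 := by
    intro i e s hs hse
    obtain ⟨w, hw⟩ := (Hom.exact_cδ_pre A[X] K hS' (i - 1) i (by omega) ((C s : A[X]) • e)).mp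
      ((map_smul (pre π K i) _ _).trans hse)
    refine hinvert i e (s₀ * s) (fun h => (p.2.mem_or_mem h).elim hs₀ hs) ?_
    rw [C_mul, mul_smul, ← hw]
    exact (map_smul (Hom.cδ A[X] _ K (i - 1) i (by omega)) _ _).symm.trans
      ((congrArg _ (hEker _ w)).trans (map_zero _))
  refine ⟨fun i hi => subsingleton_of_forall_eq 0 fun e => ?_, ?_⟩
  · obtain ⟨s, hs, hse⟩ := hN i hi (pre π K i e)
    exact hπinj i e s hs hse
  · obtain ⟨w, hw⟩ := (Devissage.exact_mid (K := K) (Submodule.injective_subtype _) hπ hx (d + 1)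
      ((C s₀ : A[X]) • η)).mp ((map_smul (pre (LinearMap.ker π).subtype K (d + 1)) _ _).trans (hEker _ _))
    have hw0 : w ≠ 0 := fun h => hη0 s₀ hs₀ (by rw [← hw, h, map_zero])
    let ψ : A[X] ⧸ m →ₗ[A[X]] E (A[X] ⧸ m) K (d + 1) :=
      Submodule.liftQ m (LinearMap.toSpanSingleton A[X] _ w) fun b hb =>
        Dimfun.smul_E_eq_zero m (d + 1) hb w
    have hs : IsSimpleModule A[X] (A[X] ⧸ m) :=
      isSimpleModule_iff_quot_maximal.mpr ⟨m, inferInstance, ⟨LinearEquiv.refl _ _⟩⟩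
    refine ⟨(LinearEquiv.ofBijective ψ ⟨?_, ?_⟩).symm⟩
    · refine (LinearMap.injective_or_eq_zero ψ).resolve_right fun h0 => hw0 ?_
      have := LinearMap.congr_fun h0 (Submodule.Quotient.mk 1)
      rw [Submodule.liftQ_apply, LinearMap.toSpanSingleton_apply, one_smul] at this
      exact this
    · intro e
      obtain ⟨s, b, hs', hsb⟩ := hη (pre π K (d + 1) e)
      have h1 : (C (s₀ * s) : A[X]) • e - b • w = 0 := hπinj (d + 1) _ 1
        (fun h => p.2.ne_top ((Ideal.eq_top_iff_one _).mpr h)) (by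
          rw [map_sub, map_smul, map_smul, hw, C_mul, mul_smul, hsb, smul_comm b, sub_self, smul_zero])
      obtain ⟨r, z, hz, hrz⟩ := (‹m.IsMaximal›).exists_inv
        (show (C (s₀ * s) : A[X]) ∉ m from fun h => (p.2.mem_or_mem (hp.le h)).elim hs₀ hs')
      refine ⟨Submodule.Quotient.mk (r * b), ?_⟩
      rw [Submodule.liftQ_apply, LinearMap.toSpanSingleton_apply, mul_smul, ← sub_eq_zero.mp h1,
        smul_smul, eq_sub_of_add_eq hrz, sub_smul, one_smul,
        Dimfun.smul_E_eq_zero m (d + 1) hz e, sub_zero]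

theorem isDualizing : Dual.IsDualizing A[X] ((BaseChange.FD A A[X]).obj ω) := by
  obtain ⟨a, ha⟩ := Dimfun.exists_isGE hω
  obtain ⟨a', b, hb⟩ := Dimfun.deg_bounds hω
  have : ((BaseChange.FD A A[X]).obj ω).IsGE a := FlatBC.isGE_FD ω a
  refine Biduality.isDualizing _ a (fun i => ?_) (b + 1) fun m hm => ?_
  · have := hω.finite_cohomology i
    exact Module.Finite.equiv (BaseChange.HDEquiv A A[X] ω i)
  · let p : PrimeSpectrum A := ⟨m.comap C, Ideal.IsPrime.comap C⟩
    have := hb p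
    exact ⟨deg hω p + 1, by omega, residue hω m p rfl⟩

end Groth.Agent.DualCx.Polynomial
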