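import Groth.Agent.DualCx.ProjUniv
import Groth.Agent.DTenLib.EvalCx
import Groth.Agent.DRing.LTensor
import Groth.Agent.KFlat.BaseChange

/-!
# Projection formula for the right adjoint of restriction along a perfect ring map
-/

universe u

open CategoryTheory CategoryTheory.Limits MonoidalCategory DerivedCategory

attribute [local instance] HasDerivedCategory.standard

namespace Groth.Agent.DualCx.ProjForm

open Groth.Agent.DRing Groth.Agent.DTenLib
open KFlat (totι totι_totMapX)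

variable {P B : Type u} [CommRing P] [CommRing B] (φ : P →+* B)

theorem ι_projCxIso_inv (L : DRing.Cx B) (K : DRing.Cx P) (p q n : ℤ) (h : p + q = n) :
    Tensor.ιT ((DTen.resCx φ).obj L) K p q n h ≫ (KFlat.BaseChange.projCxIso φ L K).inv.f n =
      (KFlat.BaseChange.projIso φ (L.X p) (K.X q)).inv ≫
        (ModuleCat.restrictScalars.{u} φ).map (Tensor.ιT L ((DTen.extCx φ).obj K) p q n h) := by
  simp only [KFlat.BaseChange.projCxIso, Iso.trans_inv, Functor.mapIso_inv, Iso.symm_inv]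
  erw [HomologicalComplex.comp_f, HomologicalComplex.comp_f, Category.assoc]
  have h1 : Tensor.ιT ((DTen.resCx φ).obj L) K p q n h ≫
      (((KFlat.BaseChange.resCx φ).obj L) ◁ ((Functor.mapHomologicalComplexIdIso (ModuleCat.{u} P)
        (ComplexShape.up ℤ)).app K).inv).f n = Tensor.ιT ((DTen.resCx φ).obj L) K p q n h := by
    have hA : ((Functor.mapHomologicalComplexIdIso (ModuleCat.{u} P) (ComplexShape.up ℤ)).app K).inv = 𝟙 K :=
      HomologicalComplex.hom_ext _ _ fun i => rfl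
    rw [hA]
    exact (Tensor.ιT_whiskerLeft (L := (DTen.resCx φ).obj L) (𝟙 K) p q n h).trans
      (by rw [HomologicalComplex.id_f, MonoidalCategory.whiskerLeft_id, Category.id_comp])
  erw [reassoc_of% h1]
  have h2 : ∀ (Z : ModuleCat.{u} P) (g : _ ⟶ Z),
      Tensor.ιT ((DTen.resCx φ).obj L) K p q n h ≫
      (KFlat.totMapIso (KFlat.BaseChange.bcBi φ) (curriedTensor (ModuleCat P)) (ModuleCat.restrictScalars φ)
        (𝟭 (ModuleCat P)) (ModuleCat.restrictScalars φ) (KFlat.BaseChange.projIso φ)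
        (fun f b => KFlat.BaseChange.projIso_left φ f b)
        (fun a _ _ g => KFlat.BaseChange.projIso_right φ a g) L K).inv.f n ≫ g =
      (KFlat.BaseChange.projIso φ (L.X p) (K.X q)).inv ≫
        (ModuleCat.restrictScalars.{u} φ).map (totι (KFlat.BaseChange.bcBi φ) L K p q n h) ≫ g := fun Z g => by
    simp only [KFlat.totMapIso, KFlat.totMapX]
    erw [KFlat.totι_desc_assoc]
    exact Category.assoc _ _ _
  erw [h2]
  congr 1
  erw [← Functor.map_comp]
  congr 1
  erw [Iso.trans_hom, Iso.trans_hom, HomologicalComplex.comp_f, HomologicalComplex.comp_f, Iso.symm_hom]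
  have hA : (((Functor.mapHomologicalComplexIdIso (ModuleCat.{u} B) (ComplexShape.up ℤ)).app
      (HomologicalComplex.mapBifunctor L K (KFlat.BaseChange.bcBi φ) (ComplexShape.up ℤ))).inv).f n = 𝟙 _ := rfl
  erw [hA, Category.id_comp]
  have h3 := totι_totMapX (KFlat.BaseChange.bcBi φ) (curriedTensor (ModuleCat.{u} B)) (𝟭 (ModuleCat.{u} B))
    (ModuleCat.extendScalars.{u, u, u} φ) (𝟭 (ModuleCat.{u} B)) (fun _ _ => Iso.refl _) L K p q n h
  erw [reassoc_of% h3]
  simp only [KFlat.summandIso, Iso.refl_hom]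
  erw [Category.id_comp]
  have hB : ((Functor.mapHomologicalComplexIdIso (ModuleCat.{u} B) (ComplexShape.up ℤ)).app L).hom = 𝟙 L :=
    HomologicalComplex.hom_ext _ _ fun i => rfl
  erw [MonoidalCategory.whiskerRightIso_hom, hB]
  exact (Tensor.ιT_whiskerRight (𝟙 L) ((DTen.extCx φ).obj K) p q n h).trans
    (by rw [HomologicalComplex.id_f, MonoidalCategory.id_whiskerRight, Category.id_comp])

/-- `p⁻¹` on pure tensors -/
theorem projCxIso_inv_tm (L : DRing.Cx B) (K : DRing.Cx P) {p q n : ℤ} (h : p + q = n) (x : L.X p) (y : K.X q) :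
    ((KFlat.BaseChange.projCxIso φ L K).inv.f n).hom (tm ((DTen.resCx φ).obj L) K h x y) =
      tm L ((DTen.extCx φ).obj K) h x ((((DTen.unitCx φ).app K).f q).hom y) :=
  congrArg (fun f => f.hom ((show ((DTen.resCx φ).obj L).X p from x) ⊗ₜ[P] y))
    (ι_projCxIso_inv φ L K p q n h)

variable {E : DRing.Cx P} (ι : E ⟶ (DTen.resCx φ).obj (𝟙_ (DRing.Cx B)))

/-- `v ⊗ e ↦ e • v` -/
noncomputable abbrev actR (X : DRing.Cx B) : (DTen.resCx φ).obj X ⊗ E ⟶ (DTen.resCx φ).obj X :=
  (DTen.braidCx _ E).hom ≫ act' φ ι X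

theorem actR_tm {X : DRing.Cx B} {n : ℤ} (v : ((DTen.resCx φ).obj X).X n) (e : E.X 0) :
    ((actR φ ι X).f n).hom (tm ((DTen.resCx φ).obj X) E (add_zero n) v e) =
      (coord₀ (R' := B) ((ι.f 0).hom e) • (show X.X n from v) : X.X n) := by
  change ((act' φ ι X).f n).hom (((DTen.braidCx _ E).hom.f n).hom _) = _
  refine (congrArg ((act' φ ι X).f n).hom (braidCx_tm (add_zero n) v e)).trans ?_
  rw [mul_zero, Int.negOnePow_zero, one_smul]
  exact act'_tm φ ι e v

theorem actR_tm_ne {X : DRing.Cx B} {n r s : ℤ} (h : n + r = s) (hr : r ≠ 0) (v : ((DTen.resCx φ).obj X).X n) (e : E.X r) :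
    ((actR φ ι X).f s).hom (tm ((DTen.resCx φ).obj X) E h v e) = 0 := by
  change ((act' φ ι X).f s).hom (((DTen.braidCx _ E).hom.f s).hom _) = _
  refine (congrArg ((act' φ ι X).f s).hom (braidCx_tm h v e)).trans ?_
  rw [Units.smul_def, map_zsmul]
  exact (congrArg _ (act'_tm_ne φ ι _ hr e v)).trans (smul_zero _)

/-- the projection isomorphism in the orientation `Q ⊗ res W` -/
noncomputable def pIso (W : DRing.Cx B) (Q : DRing.Cx P) :
    (DTen.resCx φ).obj (W ⊗ (DTen.extCx φ).obj Q) ≅ Q ⊗ (DTen.resCx φ).obj W :=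
  KFlat.BaseChange.projCxIso φ W Q ≪≫ DTen.braidCx _ _

theorem actR_pIso (W : DRing.Cx B) (Q : DRing.Cx P) :
    (KFlat.BaseChange.projCxIso φ W Q).inv ▷ E ≫ actR φ ι (W ⊗ (DTen.extCx φ).obj Q) ≫ (pIso φ W Q).hom =
      (DTen.braidCx _ Q).hom ▷ E ≫ (α_ Q _ E).hom ≫ Q ◁ actR φ ι W := by
  refine HomologicalComplex.hom_ext _ _ fun n => hom_ext_tm fun k r hkr z e => ?_
  let t := tmR ((DTen.resCx φ).obj W ⊗ Q) E hkr e
  refine congrArg (fun g => g.hom z) (show ModuleCat.ofHom
    ((((KFlat.BaseChange.projCxIso φ W Q).inv ▷ E ≫ actR φ ι (W ⊗ (DTen.extCx φ).obj Q) ≫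
      (pIso φ W Q).hom).f n).hom.comp t) =
    ModuleCat.ofHom ((((DTen.braidCx _ Q).hom ▷ E ≫ (α_ Q _ E).hom ≫ Q ◁ actR φ ι W).f n).hom.comp t) from
      hom_ext_tm fun a b hab x y => ?_)
  change ((pIso φ W Q).hom.f n).hom (((actR φ ι (W ⊗ (DTen.extCx φ).obj Q)).f n).hom
      ((((KFlat.BaseChange.projCxIso φ W Q).inv ▷ E).f n).hom (tm _ E hkr (tm _ Q hab x y) e))) =
    (((Q ◁ actR φ ι W).f n).hom (((α_ Q _ E).hom.f n).hom
      ((((DTen.braidCx _ Q).hom ▷ E).f n).hom (tm _ E hkr (tm _ Q hab x y) e))))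
  rw [whiskerRight_tm, whiskerRight_tm, braidCx_tm, Units.smul_def,
    ← Int.cast_smul_eq_zsmul P, tm_smul_left, map_smul, map_smul,
    assoc_tm (show b + a = k by omega) hkr (rfl : a + r = a + r), whiskerLeft_tm]
  by_cases hr : r = 0
  · subst hr
    obtain rfl : k = n := by omega
    have h1 : ∀ (m : ℤ) (hm : a + 0 = m) (h' : b + m = k),
        tm Q ((DTen.resCx φ).obj W) h' y
          (((actR φ ι W).f m).hom (tm ((DTen.resCx φ).obj W) E hm x e)) =
        tm Q ((DTen.resCx φ).obj W) (show b + a = k by omega) y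
          (show W.X a from coord₀ (R' := B) ((ι.f 0).hom e) • (show W.X a from x)) := fun m hm h' => by
      obtain rfl : m = a := by omega
      exact congrArg (tm Q ((DTen.resCx φ).obj W) h' y) (actR_tm φ ι x e)
    rw [h1]
    refine (congrArg ((pIso φ W Q).hom.f k).hom ((actR_tm φ ι _ e).trans
      ((congrArg (fun v : (W ⊗ (DTen.extCx φ).obj Q).X k => coord₀ (R' := B) ((ι.f 0).hom e) • v)
        (projCxIso_inv_tm φ W Q hab x y)).trans
        ((tm_smul_left hab _ _ _).symm.trans (projCxIso_inv_tm φ W Q hab _ y).symm)))).trans ?_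
    change ((DTen.braidCx _ _).hom.f k).hom (((KFlat.BaseChange.projCxIso φ W Q).hom.f k).hom
      (((KFlat.BaseChange.projCxIso φ W Q).inv.f k).hom _)) = _
    rw [← LinearMap.comp_apply (g := ((KFlat.BaseChange.projCxIso φ W Q).inv.f k).hom), ← ModuleCat.hom_comp,
      ← HomologicalComplex.comp_f, Iso.inv_hom_id, HomologicalComplex.id_f, ModuleCat.hom_id, LinearMap.id_apply]
    refine (braidCx_tm hab _ y).trans ?_
    rw [Units.smul_def, Int.cast_smul_eq_zsmul]
  · refine (congrArg ((pIso φ W Q).hom.f n).hom (actR_tm_ne φ ι hkr hr _ e)).trans ((map_zero _).trans ?_)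
    refine (?_ : (0 : (Q ⊗ (DTen.resCx φ).obj W).X n) = _)
    rw [show ((actR φ ι W).f (a + r)).hom (tm ((DTen.resCx φ).obj W) E rfl x e) = 0 from
      actR_tm_ne φ ι rfl hr x e, tm_zero_right, smul_zero]

section Main

open ProjUniv (ν c)

variable {P B : Type u} [CommRing P] [CommRing B] [Algebra P B]
  {E : DRing.Cx P} (ι : E ⟶ (DTen.resCx (algebraMap P B)).obj (𝟙_ (DRing.Cx B)))

theorem ν_pIso {W : DRing.Cx B} {L : DRing.Cx P} (Q : DRing.Cx P)
    (ε : (DTen.resCx (algebraMap P B)).obj W ⟶ L) :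
    ν ι ((pIso (algebraMap P B) W Q).hom ≫ Q ◁ ε) =
      (pIso (algebraMap P B) W Q).hom ≫ Q ◁ ν ι ε ≫ etaTen Q E L := by
  refine (homEquivCx _ E _).symm.injective ?_
  change uncurry (ν ι _) = uncurry (_ ≫ _ ≫ _)
  rw [HomCx.uncurry_comp, HomCx.uncurry_comp, etaTen, uncurry_curry, ν, uncurry_curry,
    MonoidalCategory.associator_naturality_middle_assoc, ← whiskerLeft_comp]
  rw [show ν ι ε ▷ E ≫ ev E L = uncurry (ν ι ε) from rfl, ν, uncurry_curry]
  have h := actR_pIso (algebraMap P B) ι W Q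
  rw [← cancel_epi ((KFlat.BaseChange.projCxIso (algebraMap P B) W Q).inv ▷ E)]
  have h2 : (KFlat.BaseChange.projCxIso (algebraMap P B) W Q).inv ▷ E ≫ (pIso (algebraMap P B) W Q).hom ▷ E =
      (DTen.braidCx _ Q).hom ▷ E := by
    rw [← comp_whiskerRight, pIso, Iso.trans_hom, Iso.inv_hom_id_assoc]
  rw [reassoc_of% h2]
  simp only [actR, whiskerLeft_comp, Category.assoc] at h ⊢
  erw [reassoc_of% h]

variable {R : Dual.D P ⥤ Dual.D B} (adj : DRing.restrictD (algebraMap P B) ⊣ R)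
  [E.IsKProjective] [QuasiIso ι] (D : DualData E)

include adj in
/-- the counit on complexes gives a quasi-isomorphism `ν` -/
theorem exists_counit {W : DRing.Cx B} {L : DRing.Cx P} [L.IsKInjective]
    (eW : DRing.toD W ≅ R.obj (DRing.toD L)) :
    ∃ ε : (DTen.resCx (algebraMap P B)).obj W ⟶ L, QuasiIso (ν ι ε) := by
  obtain ⟨ε, hε⟩ := InjAmp.exists_Q_map_eq_inj ((DTen.resFactors (algebraMap P B)).inv.app W ≫
    (DRing.restrictD (algebraMap P B)).map eW.hom ≫ adj.counit.app (DRing.toD L))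
  refine ⟨ε, ProjUniv.quasiIso_of_bijective ι ε fun i => ?_⟩
  refine (congrArg Function.Bijective (funext fun g => ?_)).mp
    ((adj.homEquiv _ (DRing.toD L)).symm.bijective.comp eW.homToEquiv.bijective)
  simp only [Function.comp_apply, Iso.homToEquiv_apply, Adjunction.homEquiv_counit, c, hε]
  rw [Iso.hom_inv_id_app_assoc, Functor.map_comp, Category.assoc]

include adj D in
/-- the projection formula -/
theorem nonempty_tensor {W : DRing.Cx B} {L : DRing.Cx P} (ε : (DTen.resCx (algebraMap P B)).obj W ⟶ L)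
    (hν : QuasiIso (ν ι ε)) {Q : DRing.Cx P} (hQ : DRing.IsKFlat P Q) :
    Nonempty (R.obj (DRing.toD (Q ⊗ L)) ≅ DRing.toD (W ⊗ (DTen.extCx (algebraMap P B)).obj Q)) := by
  refine ProjUniv.nonempty_iso_of_quasiIso ι ((pIso (algebraMap P B) W Q).hom ≫ Q ◁ ε) ?_ adj
  rw [ν_pIso]
  have := isIso_etaTen_right (P := Q) (Y := L) D
  have := KFlat.quasiIso_whiskerLeft hQ (ν ι ε)
  infer_instance

end Main

end Groth.Agent.DualCx.ProjForm
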