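import Groth.Agent.DualCx.RegEl
import Groth.Agent.DTenLib.Act
import Groth.Agent.DRing.HomCx
import Groth.Agent.DRing.InjAmp

/-!
# Universality criterion on complexes for the right adjoint of restriction

For a K-projective resolution `E` of `B` over `P`, a chain map `ε : res V ⟶ L` makes `V` the right
adjoint of restriction at `L` iff the adjoint map `res V ⟶ Hom•(E, L)` is a quasi-isomorphism.
-/

universe u

open CategoryTheory CategoryTheory.Limits MonoidalCategory DerivedCategory

attribute [local instance] HasDerivedCategory.standard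

namespace Groth.Agent.DualCx.ProjUniv

open Groth.Agent.DRing Groth.Agent.DTenLib
open DBasic (exists_Q_map_eq Q_map_eq_iff)

variable {P B : Type u} [CommRing P] [CommRing B] [Algebra P B]
  {E : DRing.Cx P} (ι : E ⟶ (DTen.resCx (algebraMap P B)).obj (𝟙_ (DRing.Cx B)))
  {V : DRing.Cx B} {L : DRing.Cx P} (ε : (DTen.resCx (algebraMap P B)).obj V ⟶ L)

/-- the pairing adjoint to `ε` -/
noncomputable def ν : (DTen.resCx (algebraMap P B)).obj V ⟶ DRing.homCx E L :=
  curry ((DTen.braidCx _ E).hom ≫ act' (algebraMap P B) ι V ≫ ε)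

variable (P) in
/-- `P` in degree `i` -/
noncomputable abbrev Z (i : ℤ) : DRing.Cx P := RegEl.U P i

/-- `P[-i] ⊗ E ⟶ res (B[-i])` -/
noncomputable def ρ (i : ℤ) :
    Z P i ⊗ E ⟶ (DTen.resCx (algebraMap P B)).obj ((DTen.extCx (algebraMap P B)).obj (Z P i)) :=
  (DTen.braidCx _ E).hom ≫ act (algebraMap P B) ι (Z P i)

theorem quasiIso_ρ [QuasiIso ι] (i : ℤ) : QuasiIso (ρ ι i) := by
  have := quasiIso_act (algebraMap P B) ι (Z P i) (isKFlat_kproj _)
  unfold ρ
  infer_instance

theorem ρ_comp {i : ℤ} (f : (DTen.extCx (algebraMap P B)).obj (Z P i) ⟶ V) :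
    ρ ι i ≫ (DTen.resCx (algebraMap P B)).map f ≫ ε =
      uncurry (adjunct (algebraMap P B) f ≫ ν ι ε) := by
  rw [HomCx.uncurry_comp, ν, uncurry_curry, ρ, act, Category.assoc, Category.assoc,
    reassoc_of% (act'_natural (algebraMap P B) ι f), ← whiskerLeft_comp_assoc]
  have h := DTen.braidCx_naturality (adjunct (algebraMap P B) f) (𝟙 E)
  rw [MonoidalCategory.tensorHom_id, MonoidalCategory.id_tensorHom] at h
  rw [reassoc_of% h]
  rfl

theorem Q_uncurry_eq_iff [E.IsKProjective] {W : DRing.Cx P} [W.IsKProjective]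
    (w w' : W ⟶ DRing.homCx E L) :
    DerivedCategory.Q.map (uncurry w) = DerivedCategory.Q.map (uncurry w') ↔
      DerivedCategory.Q.map w = DerivedCategory.Q.map w' := by
  have : CochainComplex.IsKProjective (W ⊗ E : DRing.Cx P) := isKProjective_tensor
  rw [Q_map_eq_iff, Q_map_eq_iff]
  refine ⟨fun ⟨h⟩ => ⟨?_⟩, fun ⟨h⟩ => ⟨HomCx.uncurryHomotopy h⟩⟩
  have h2 := curryHomotopy h
  rwa [curry_uncurry, curry_uncurry] at h2

/-- `ε` in the derived category -/
noncomputable def c : (DRing.restrictD (algebraMap P B)).obj (DRing.toD V) ⟶ DRing.toD L :=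
  (DTen.resFactors (algebraMap P B)).hom.app V ≫ DerivedCategory.Q.map ε

/-- test map -/
noncomputable def Φ (i : ℤ) (g : DRing.toD ((DTen.extCx (algebraMap P B)).obj (Z P i)) ⟶ DRing.toD V) :
    DRing.toD (Z P i ⊗ E) ⟶ DRing.toD L :=
  DerivedCategory.Q.map (ρ ι i) ≫ (DTen.resFactors (algebraMap P B)).inv.app _ ≫
    (DRing.restrictD (algebraMap P B)).map g ≫ c ε

theorem Φ_map {i : ℤ} (f : (DTen.extCx (algebraMap P B)).obj (Z P i) ⟶ V) :
    Φ ι ε i (DerivedCategory.Q.map f) =
      DerivedCategory.Q.map (uncurry (adjunct (algebraMap P B) f ≫ ν ι ε)) := by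
  have h := (DTen.resFactors (algebraMap P B)).inv.naturality f
  dsimp at h
  rw [← ρ_comp, Φ, c, ← reassoc_of% h, Iso.inv_hom_id_app_assoc, ← Functor.map_comp,
    ← Functor.map_comp]

theorem Φ_bijective_iff [E.IsKProjective] (i : ℤ) :
    Function.Bijective (Φ ι ε i) ↔ Function.Bijective
      fun x : DRing.toD (Z P i) ⟶ DRing.toD ((DTen.resCx (algebraMap P B)).obj V) =>
        x ≫ DerivedCategory.Q.map (ν ι ε) := by
  have hK : CochainComplex.IsKProjective ((DTen.extCx (algebraMap P B)).obj (Z P i)) :=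
    isKProjective_extCx (algebraMap P B) (Z P i)
  have hT : CochainComplex.IsKProjective (Z P i ⊗ E : DRing.Cx P) := isKProjective_tensor
  constructor
  · intro h
    refine ⟨fun x x' hx => ?_, fun y => ?_⟩
    · obtain ⟨a, rfl⟩ := exists_Q_map_eq x
      obtain ⟨a', rfl⟩ := exists_Q_map_eq x'
      dsimp only at hx
      rw [← Functor.map_comp, ← Functor.map_comp, ← Q_uncurry_eq_iff,
        ← adjunct_coadjunct (algebraMap P B) a, ← adjunct_coadjunct (algebraMap P B) a', ← Φ_map,
        ← Φ_map] at hx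
      obtain ⟨s⟩ := (Q_map_eq_iff _ _).1 (h.1 hx)
      rw [← adjunct_coadjunct (algebraMap P B) a, ← adjunct_coadjunct (algebraMap P B) a', Q_map_eq_iff]
      exact ⟨((ModuleCat.restrictScalars.{u} (algebraMap P B)).mapHomotopy s).compLeft _⟩
    · obtain ⟨w, rfl⟩ := exists_Q_map_eq y
      obtain ⟨g, hg⟩ := h.2 (DerivedCategory.Q.map (uncurry w))
      obtain ⟨f, rfl⟩ := exists_Q_map_eq g
      rw [Φ_map, Q_uncurry_eq_iff] at hg
      exact ⟨DerivedCategory.Q.map (adjunct (algebraMap P B) f), by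
        dsimp only; rw [← Functor.map_comp, hg]⟩
  · intro h
    refine ⟨fun g g' hg => ?_, fun y => ?_⟩
    · obtain ⟨f, rfl⟩ := exists_Q_map_eq g
      obtain ⟨f', rfl⟩ := exists_Q_map_eq g'
      rw [Φ_map, Φ_map, Q_uncurry_eq_iff, Functor.map_comp, Functor.map_comp] at hg
      obtain ⟨s⟩ := (Q_map_eq_iff _ _).1 (h.1 hg)
      exact (Q_map_eq_iff _ _).2 ⟨coadjunctHomotopy _ s⟩
    · obtain ⟨w, rfl⟩ := exists_Q_map_eq y
      obtain ⟨x, hx⟩ := h.2 (DerivedCategory.Q.map (curry w))
      obtain ⟨a, rfl⟩ := exists_Q_map_eq x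
      dsimp only at hx
      rw [← Functor.map_comp, ← Q_uncurry_eq_iff, uncurry_curry,
        ← adjunct_coadjunct (algebraMap P B) a, ← Φ_map] at hx
      exact ⟨_, hx⟩

variable (P B) in
/-- the test objects -/
theorem nonempty_testIso (i : ℤ) :
    Nonempty ((Dual.inD B B)⟦-i⟧ ≅ DRing.toD ((DTen.extCx (algebraMap P B)).obj (Z P i))) :=
  ⟨(RegEl.UIso B i).symm ≪≫ DerivedCategory.Q.mapIso
    (((HomologicalComplex.single (ModuleCat.{u} B) (ComplexShape.up ℤ) i).mapIso
        ((BaseChange.extEquiv P B (ModuleCat.of P P)).symm.trans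
          (TensorProduct.AlgebraTensorModule.rid P B B)).toModuleIso.symm) ≪≫
      ((HomologicalComplex.singleMapHomologicalComplex (ModuleCat.extendScalars.{u, u, u} (algebraMap P B))
        (ComplexShape.up ℤ) i).app (ModuleCat.of P P)).symm)⟩

variable [E.IsKProjective] [QuasiIso ι]

/-- a quasi-isomorphism `ν` gives universality -/
theorem nonempty_iso_of_quasiIso (hν : QuasiIso (ν ι ε)) {R : Dual.D P ⥤ Dual.D B}
    (adj : DRing.restrictD (algebraMap P B) ⊣ R) : Nonempty (R.obj (DRing.toD L) ≅ DRing.toD V) := by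
  let η : DRing.toD V ⟶ R.obj (DRing.toD L) := adj.homEquiv _ _ (c ε)
  have : IsIso η := RegEl.isIso_of_bijective η fun i => by
    obtain ⟨eT⟩ := nonempty_testIso P B i
    have hΦ : Function.Bijective (Φ ι ε i) := (Φ_bijective_iff ι ε i).2
      ((asIso (DerivedCategory.Q.map (ν ι ε))).homToEquiv).bijective
    have hρ := quasiIso_ρ ι i
    let r : DRing.toD (Z P i ⊗ E) ≅
        (DRing.restrictD (algebraMap P B)).obj (DRing.toD ((DTen.extCx (algebraMap P B)).obj (Z P i))) :=
      asIso (DerivedCategory.Q.map (ρ ι i)) ≪≫ ((DTen.resFactors (algebraMap P B)).app _).symm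
    have h1 : Function.Bijective fun g : DRing.toD ((DTen.extCx (algebraMap P B)).obj (Z P i)) ⟶
        DRing.toD V => (DRing.restrictD (algebraMap P B)).map g ≫ c ε := by
      refine (congrArg Function.Bijective (funext fun g => ?_)).mp (r.homFromEquiv.bijective.comp hΦ)
      simp [r, Φ, Iso.homFromEquiv]
    refine (congrArg Function.Bijective (funext fun g => ?_)).mp
      (eT.symm.homFromEquiv.bijective.comp
        ((adj.homEquiv _ _).bijective.comp (h1.comp eT.homFromEquiv.bijective)))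
    simp only [Function.comp_apply, η, Iso.homFromEquiv_apply, Iso.symm_inv]
    rw [Adjunction.homEquiv_naturality_left, Category.assoc, Iso.hom_inv_id_assoc]
  exact ⟨(asIso η).symm⟩

/-- universality gives a quasi-isomorphism `ν` -/
theorem quasiIso_of_bijective
    (h : ∀ i, Function.Bijective fun g : DRing.toD ((DTen.extCx (algebraMap P B)).obj (Z P i)) ⟶
        DRing.toD V => (DRing.restrictD (algebraMap P B)).map g ≫ c ε) : QuasiIso (ν ι ε) := by
  refine (DerivedCategory.isIso_Q_map_iff_quasiIso (C := ModuleCat.{u} P) _).1 ?_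
  refine RegEl.isIso_of_bijective (DerivedCategory.Q.map (ν ι ε)) fun i => ?_
  have hρ := quasiIso_ρ ι i
  have hΦ : Function.Bijective (Φ ι ε i) :=
    (((DTen.resFactors (algebraMap P B)).app _ ≪≫ (asIso (DerivedCategory.Q.map (ρ ι i))).symm)
      |>.homFromEquiv).bijective.comp (h i) |> fun hb => by
        refine (congrArg Function.Bijective (funext fun g => ?_)).mp hb
        simp [Φ, Iso.homFromEquiv]
  have hb := (Φ_bijective_iff ι ε i).1 hΦ
  let u := RegEl.UIso P i
  refine (congrArg Function.Bijective (funext fun g => ?_)).mp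
    (u.homFromEquiv.bijective.comp (hb.comp u.symm.homFromEquiv.bijective))
  change u.inv ≫ ((u.hom ≫ g) ≫ DerivedCategory.Q.map (ν ι ε)) = _
  rw [Category.assoc, Iso.inv_hom_id_assoc]

end Groth.Agent.DualCx.ProjUniv
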