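import Groth.Agent.DualCx.ShriekExists
import Groth.Agent.DHA.KInjectiveResolution
import Groth.Agent.DRing.RelPC
import Mathlib.CategoryTheory.Adjunction.PartialAdjoint
import Mathlib.CategoryTheory.Adjunction.Unique

/-!
# Restriction of scalars on derived categories has a right adjoint
-/

universe u

open CategoryTheory CategoryTheory.Limits

attribute [local instance] HasDerivedCategory.standard

namespace Groth.Agent.DualCx.RAdj

open Shriek (coextC counitC counitD)

variable {A B : Type u} [CommRing A] [CommRing B] [Algebra A B]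

theorem counit_bijective' (I : DRing.Cx A) [I.IsKInjective] (X : Dual.D B) :
    Function.Bijective fun g : X ⟶ DRing.toD (coextC (B := B) I) =>
      (DRing.restrictD (algebraMap A B)).map g ≫ counitD I := by
  let F := ModuleCat.restrictScalars.{u} (algebraMap A B)
  let G := ModuleCat.coextendScalars.{u, u, u} (algebraMap A B)
  let adj : F ⊣ G := ModuleCat.restrictCoextendScalarsAdj (algebraMap A B)
  have : G.Additive := adj.right_adjoint_additive
  let J : DRing.Cx B := (G.mapHomologicalComplex (ComplexShape.up ℤ)).obj I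
  have hJK : J.IsKInjective := by
    rw [CochainComplex.isKInjective_iff_rightOrthogonal]
    intro K f hK
    obtain ⟨K, rfl⟩ := HomotopyCategory.quotient_obj_surjective K
    rw [HomotopyCategory.quotient_obj_mem_subcategoryAcyclic_iff_acyclic] at hK
    let adjK := DRing.DerivedAdj.mapHomotopyCategoryAdj adj
    refine (adjK.homEquiv _ ((HomotopyCategory.quotient _ _).obj I)).symm.injective ?_
    have hFK : ((F.mapHomologicalComplex (ComplexShape.up ℤ)).obj K).Acyclic :=
      fun i => (hK i).map F
    have h0 := CochainComplex.IsKInjective.rightOrthogonal I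
      (X := (F.mapHomotopyCategory (ComplexShape.up ℤ)).obj ((HomotopyCategory.quotient _ _).obj K))
    exact (h0 _ ((HomotopyCategory.quotient_obj_mem_subcategoryAcyclic_iff_acyclic _).mpr hFK)).trans
      (h0 _ ((HomotopyCategory.quotient_obj_mem_subcategoryAcyclic_iff_acyclic _).mpr hFK)).symm
  let adjK := DRing.DerivedAdj.mapHomotopyCategoryAdj adj
  let qI := (HomotopyCategory.quotient (ModuleCat.{u} A) (ComplexShape.up ℤ)).obj I
  let ρ := F.mapDerivedCategoryFactorsh
  let ω' : Dual.D B := DerivedCategory.Qh.obj ((G.mapHomotopyCategory (ComplexShape.up ℤ)).obj qI)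
  let eω : DerivedCategory.Qh.obj qI ≅ DRing.toD I := (DerivedCategory.quotientCompQhIso _).app I
  let c : (DRing.restrictD (algebraMap A B)).obj ω' ⟶ DRing.toD I :=
    ρ.hom.app _ ≫ DerivedCategory.Qh.map (adjK.counit.app qI) ≫ eω.hom
  let eJ : ω' ≅ DRing.toD J := (DerivedCategory.quotientCompQhIso _).app J
  have hcJ : c = (DRing.restrictD (algebraMap A B)).map eJ.hom ≫ counitD I := by
    have h2 : DerivedCategory.Qh.map (adjK.counit.app qI) ≫ eω.hom =
        (DerivedCategory.quotientCompQhIso _).hom.app _ ≫ DerivedCategory.Q.map (counitC (B := B) I) :=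
      (DerivedCategory.quotientCompQhIso (ModuleCat.{u} A)).hom.naturality (counitC (B := B) I)
    simp only [c, h2, counitD]
    have h3 := F.mapDerivedCategoryFactorsh_hom_app J
    erw [reassoc_of% h3]
    have h4 : (F.mapHomotopyCategoryFactors (ComplexShape.up ℤ)).inv.app J = 𝟙 _ := rfl
    simp only [h4]
    erw [CategoryTheory.Functor.map_id, Category.id_comp]
    erw [CategoryTheory.Functor.map_id, Category.id_comp, Category.id_comp, Category.id_comp]
    exact (Category.id_comp _).symm
  have key0 : ∀ X' : HomotopyCategory (ModuleCat.{u} B) (ComplexShape.up ℤ),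
      Function.Bijective fun g : DerivedCategory.Qh.obj X' ⟶ ω' =>
        (DRing.restrictD (algebraMap A B)).map g ≫ c := fun X' => by
    refine (Function.Bijective.of_comp_iff _
      (CochainComplex.IsKInjective.Qh_map_bijective X' J)).mp ?_
    let e1 := (adjK.homEquiv X' qI).symm
    let e2 : (((F.mapHomotopyCategory (ComplexShape.up ℤ)).obj X') ⟶ qI) → _ := fun g =>
      ρ.hom.app X' ≫ DerivedCategory.Qh.map g ≫ eω.hom
    have h2 : Function.Bijective e2 :=
      (Iso.homFromEquiv (ρ.app X').symm).bijective.comp ((eω.homToEquiv).bijective.comp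
        (CochainComplex.IsKInjective.Qh_map_bijective _ I))
    refine (congrArg Function.Bijective (funext fun g => ?_)).mpr (h2.comp e1.bijective)
    change (DRing.restrictD (algebraMap A B)).map (DerivedCategory.Qh.map g) ≫ c =
      ρ.hom.app X' ≫ DerivedCategory.Qh.map ((adjK.homEquiv X' qI).symm g) ≫ eω.hom
    erw [Adjunction.homEquiv_counit, Functor.map_comp, Category.assoc]
    exact ρ.hom.naturality_assoc g _
  have : DerivedCategory.Qh.EssSurj (C := HomotopyCategory (ModuleCat.{u} B) (ComplexShape.up ℤ)) :=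
    Localization.essSurj _ (HomotopyCategory.quasiIso (ModuleCat.{u} B) (ComplexShape.up ℤ))
  let eX : DerivedCategory.Qh.obj (DerivedCategory.Qh.objPreimage X) ≅ X :=
    DerivedCategory.Qh.objObjPreimageIso X
  have h : (fun g : X ⟶ DRing.toD J => (DRing.restrictD (algebraMap A B)).map g ≫ counitD I) =
      (fun h => (DRing.restrictD (algebraMap A B)).map eX.inv ≫ h) ∘
        (fun g => (DRing.restrictD (algebraMap A B)).map g ≫ c) ∘ fun g => eX.hom ≫ g ≫ eJ.inv := by
    funext g
    simp only [Function.comp_apply, hcJ]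
    rw [← Functor.map_comp_assoc, eX.inv_hom_id_assoc, ← Functor.map_comp_assoc, Category.assoc,
      eJ.inv_hom_id, Category.comp_id]
  change Function.Bijective fun g : X ⟶ DRing.toD J => (DRing.restrictD (algebraMap A B)).map g ≫ counitD I
  rw [h]
  refine Function.Bijective.comp ?_ ((key0 _).comp ⟨fun g g' h => ?_,
    fun g => ⟨eX.inv ≫ g ≫ eJ.hom, by simp⟩⟩)
  · exact ⟨fun g g' h => (cancel_epi _).mp h,
      fun g => ⟨(DRing.restrictD (algebraMap A B)).map eX.hom ≫ g, by
        simp only; rw [← Functor.map_comp_assoc, eX.inv_hom_id, CategoryTheory.Functor.map_id, Category.id_comp]⟩⟩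
  · exact (cancel_mono eJ.inv).mp ((cancel_epi eX.hom).mp h)

theorem isLeftAdjoint_algebraMap : (DRing.restrictD (algebraMap A B)).IsLeftAdjoint := by
  refine Functor.isLeftAdjoint_of_rightAdjointObjIsDefined_eq_top (funext fun Y => eq_true ?_)
  obtain ⟨L, ⟨e⟩⟩ : ∃ L : DRing.Cx A, Nonempty (DRing.toD L ≅ Y) :=
    ⟨_, ⟨DerivedCategory.Q.objObjPreimageIso Y⟩⟩
  obtain ⟨I, f, hI, hf, -, -⟩ := DHA.KInj.exists_resolution (ModuleCat.{u} A) L
  let eI : DRing.toD I ≅ Y := (asIso (DerivedCategory.Q.map f)).symm ≪≫ e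
  rw [Functor.rightAdjointObjIsDefined_iff]
  exact Functor.RepresentableBy.isRepresentable
    { homEquiv := fun {X} => (Equiv.ofBijective _ (counit_bijective' I X)).trans eI.homToEquiv
      homEquiv_comp := fun {X X'} h g => by
        change ((DRing.restrictD (algebraMap A B)).map (h ≫ g) ≫ counitD I) ≫ eI.hom = _
        rw [Functor.map_comp]
        simp only [Category.assoc, Equiv.trans_apply, Equiv.ofBijective_apply, Iso.homToEquiv_apply]
        exact congrArg (_ ≫ ·) (Category.assoc _ _ _).symm }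

theorem isLeftAdjoint {A B : Type u} [CommRing A] [CommRing B] (φ : A →+* B) :
    (DRing.restrictD φ).IsLeftAdjoint :=
  letI := φ.toAlgebra
  isLeftAdjoint_algebraMap

/-- a right adjoint -/
theorem exists_adj {A B : Type u} [CommRing A] [CommRing B] (φ : A →+* B) :
    ∃ R : Dual.D A ⥤ Dual.D B, Nonempty (DRing.restrictD φ ⊣ R) :=
  have := isLeftAdjoint φ
  ⟨_, ⟨Adjunction.ofIsLeftAdjoint _⟩⟩

section

variable {C₁ C₂ C₃ : Type*} [Category* C₁] [Category* C₂] [Category* C₃] [Abelian C₁] [Abelian C₂]
  [Abelian C₃] [HasDerivedCategory C₁] [HasDerivedCategory C₂] [HasDerivedCategory C₃]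

/-- isomorphic exact functors give isomorphic derived functors -/
theorem nonempty_mapIso {F G : C₁ ⥤ C₂} [F.Additive] [PreservesFiniteLimits F] [PreservesFiniteColimits F]
    [G.Additive] [PreservesFiniteLimits G] [PreservesFiniteColimits G] (e : F ≅ G) :
    Nonempty (F.mapDerivedCategory ≅ G.mapDerivedCategory) :=
  ⟨Localization.liftNatIso DerivedCategory.Q (HomologicalComplex.quasiIso C₁ (ComplexShape.up ℤ))
    (F.mapHomologicalComplex _ ⋙ DerivedCategory.Q) (G.mapHomologicalComplex _ ⋙ DerivedCategory.Q) _ _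
    (Functor.isoWhiskerRight (NatIso.mapHomologicalComplex e _) _)⟩

/-- derived functors of composites of exact functors -/
theorem nonempty_mapComp (F : C₁ ⥤ C₂) (G : C₂ ⥤ C₃) (H : C₁ ⥤ C₃) (e : H ≅ F ⋙ G)
    [F.Additive] [PreservesFiniteLimits F] [PreservesFiniteColimits F]
    [G.Additive] [PreservesFiniteLimits G] [PreservesFiniteColimits G]
    [H.Additive] [PreservesFiniteLimits H] [PreservesFiniteColimits H] :
    Nonempty (H.mapDerivedCategory ≅ F.mapDerivedCategory ⋙ G.mapDerivedCategory) := by
  have : Localization.Lifting DerivedCategory.Q (HomologicalComplex.quasiIso C₁ (ComplexShape.up ℤ))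
      (H.mapHomologicalComplex _ ⋙ DerivedCategory.Q) (F.mapDerivedCategory ⋙ G.mapDerivedCategory) :=
    ⟨(Functor.associator _ _ _).symm ≪≫ Functor.isoWhiskerRight F.mapDerivedCategoryFactors _ ≪≫
      Functor.associator _ _ _ ≪≫ Functor.isoWhiskerLeft _ G.mapDerivedCategoryFactors ≪≫
      (Functor.associator _ _ _).symm ≪≫ Functor.isoWhiskerRight
        (show F.mapHomologicalComplex (ComplexShape.up ℤ) ⋙ G.mapHomologicalComplex _ ≅
          H.mapHomologicalComplex _ from
          NatIso.ofComponents (fun K => HomologicalComplex.Hom.isoOfComponents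
            (fun i => e.symm.app (K.X i)) fun i j _ => (e.inv.naturality (K.d i j)).symm)
            fun f => HomologicalComplex.hom_ext _ _ fun i => e.inv.naturality (f.f i)) _⟩
  exact ⟨Localization.liftNatIso DerivedCategory.Q (HomologicalComplex.quasiIso C₁ (ComplexShape.up ℤ))
    (H.mapHomologicalComplex _ ⋙ DerivedCategory.Q) (H.mapHomologicalComplex _ ⋙ DerivedCategory.Q) _ _
    (Iso.refl _)⟩

end

/-- restriction along a composite -/
theorem nonempty_restrictComp {A B C : Type u} [CommRing A] [CommRing B] [CommRing C] (φ : A →+* B)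
    (ψ : B →+* C) (χ : A →+* C) (h : ψ.comp φ = χ) :
    Nonempty (DRing.restrictD χ ≅ DRing.restrictD ψ ⋙ DRing.restrictD φ) := by
  subst h
  exact nonempty_mapComp _ _ _ (ModuleCat.restrictScalarsComp.{u} φ ψ)

/-- restriction along the identity -/
theorem nonempty_restrictId (A : Type u) [CommRing A] :
    Nonempty (DRing.restrictD (RingHom.id A) ≅ 𝟭 (Dual.D A)) := by
  have : Localization.Lifting DerivedCategory.Q
      (HomologicalComplex.quasiIso (ModuleCat.{u} A) (ComplexShape.up ℤ))
      (DerivedCategory.Q (C := ModuleCat.{u} A)) (𝟭 (Dual.D A)) := ⟨Functor.rightUnitor _⟩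
  exact ⟨Localization.liftNatIso DerivedCategory.Q
    (HomologicalComplex.quasiIso (ModuleCat.{u} A) (ComplexShape.up ℤ))
    ((ModuleCat.restrictScalars.{u} (RingHom.id A)).mapHomologicalComplex _ ⋙ DerivedCategory.Q)
    DerivedCategory.Q _ _
    (Functor.isoWhiskerRight (NatIso.mapHomologicalComplex (ModuleCat.restrictScalarsId.{u} A) _ ≪≫
      Functor.mapHomologicalComplexIdIso _ _) _ ≪≫ Functor.leftUnitor _)⟩

/-- right adjoints of restriction along a composite -/
theorem nonempty_comp {A B C : Type u} [CommRing A] [CommRing B] [CommRing C] (φ : A →+* B)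
    (ψ : B →+* C) (χ : A →+* C) (h : ψ.comp φ = χ) {Rφ : Dual.D A ⥤ Dual.D B}
    {Rψ : Dual.D B ⥤ Dual.D C} {Rχ : Dual.D A ⥤ Dual.D C} (aφ : DRing.restrictD φ ⊣ Rφ)
    (aψ : DRing.restrictD ψ ⊣ Rψ) (aχ : DRing.restrictD χ ⊣ Rχ) (K : Dual.D A) :
    Nonempty (Rχ.obj K ≅ Rψ.obj (Rφ.obj K)) := by
  obtain ⟨e⟩ := nonempty_restrictComp φ ψ χ h
  exact ⟨(Adjunction.rightAdjointUniq aχ ((aψ.comp aφ).ofNatIsoLeft e.symm)).app K⟩

/-- right adjoints of restriction commute with shifts -/
theorem nonempty_shiftIso {A B : Type u} [CommRing A] [CommRing B] {φ : A →+* B}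
    {R : Dual.D A ⥤ Dual.D B} (adj : DRing.restrictD φ ⊣ R) (K : Dual.D A) (n : ℤ) :
    Nonempty (R.obj (K⟦n⟧) ≅ (R.obj K)⟦n⟧) :=
  ⟨(Adjunction.rightAdjointUniq (adj.comp (Shriek.shAdj (A := A) n))
    (((Shriek.shAdj (A := B) n).comp adj).ofNatIsoLeft
      ((DRing.restrictD φ).commShiftIso (-n)))).app K⟩

end Groth.Agent.DualCx.RAdj
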