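import Groth.Agent.DualCx.RAdj
import Groth.Agent.DualCx.FlatBC

/-!
# Upper shriek along a relative regular element

`C` and `B'` are flat `B`-algebras, `C → B'` is surjective with kernel generated by a regular `t`.
For every `L` in `D(B)` the right adjoint of restriction along `C → B'` sends `(L ⊗ C)[1]` to `L ⊗ B'`.
-/

universe u v w

open CategoryTheory CategoryTheory.Limits CategoryTheory.Pretriangulated
open scoped TensorProduct

attribute [local instance] HasDerivedCategory.standard

namespace Groth.Agent.DualCx.RegEl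

open Groth.Agent.DRing.DBasic
open BaseChange (ext extC FD extEquiv)

section Restrict

variable {C B' : Type u} [CommRing C] [CommRing B'] [Algebra C B']

/-- restriction is semilinear -/
theorem restrictD_map_smul (c : C) {X Y : Dual.D B'} (f : X ⟶ Y) :
    (DRing.restrictD (algebraMap C B')).map (algebraMap C B' c • f) =
      c • (DRing.restrictD (algebraMap C B')).map f := by
  have hid : (DRing.restrictD (algebraMap C B')).map (algebraMap C B' c • 𝟙 X) = c • 𝟙 _ := by
    obtain ⟨L, ⟨e⟩⟩ : ∃ L : DRing.Cx B', Nonempty (DRing.toD L ≅ X) :=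
      ⟨_, ⟨DerivedCategory.Q.objObjPreimageIso X⟩⟩
    have h2 : ((ModuleCat.restrictScalars.{u} (algebraMap C B')).mapHomologicalComplex
          (ComplexShape.up ℤ)).map (algebraMap C B' c • 𝟙 L) =
        c • 𝟙 (((ModuleCat.restrictScalars.{u} (algebraMap C B')).mapHomologicalComplex
          (ComplexShape.up ℤ)).obj L) := by
      ext i x
      rfl
    have h0 : (DRing.restrictD (algebraMap C B')).map (DerivedCategory.Q.map (algebraMap C B' c • 𝟙 L)) =
        c • 𝟙 ((DRing.restrictD (algebraMap C B')).obj (DRing.toD L)) := by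
      rw [← cancel_mono ((ModuleCat.restrictScalars.{u} (algebraMap C B')).mapDerivedCategoryFactors.hom.app L),
        Functor.mapDerivedCategoryFactors_hom_naturality, h2, Functor.map_smul,
        CategoryTheory.Functor.map_id, Linear.smul_comp, Category.id_comp, Linear.comp_smul]
      exact congrArg (c • ·) (Category.comp_id _)
    have h1 : algebraMap C B' c • 𝟙 X =
        e.inv ≫ DerivedCategory.Q.map (algebraMap C B' c • 𝟙 L) ≫ e.hom := by
      simp [Functor.map_smul]
    rw [h1, Functor.map_comp, Functor.map_comp, h0, Linear.smul_comp, Category.id_comp,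
      Linear.comp_smul, ← Functor.map_comp, e.inv_hom_id, CategoryTheory.Functor.map_id]
  have h : algebraMap C B' c • f = (algebraMap C B' c • 𝟙 X) ≫ f := by simp
  rw [h, Functor.map_comp]
  exact (congrArg (· ≫ (DRing.restrictD (algebraMap C B')).map f) hid).trans (by simp)

end Restrict

/-- detecting isomorphisms by `Hom(A[0][-i], -)` -/
theorem isIso_of_bijective {A : Type u} [CommRing A] {X Y : Dual.D A} (f : X ⟶ Y)
    (h : ∀ i : ℤ, Function.Bijective fun g : (Dual.inD A A)⟦-i⟧ ⟶ X => g ≫ f) : IsIso f := by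
  rw [isIso_iff_HF]
  intro i
  have hs : Function.Bijective fun g : Dual.inD A A ⟶ X⟦i⟧ => g ≫ f⟦i⟧' := by
    let eX := ((Shriek.shAdj (A := A) i).homEquiv (Dual.inD A A) X)
    let eY := ((Shriek.shAdj (A := A) i).homEquiv (Dual.inD A A) Y)
    refine (congrArg Function.Bijective (funext fun g => ?_)).mp
      (eY.bijective.comp ((h i).comp eX.symm.bijective))
    simp only [Function.comp_apply]
    rw [Adjunction.homEquiv_naturality_right, Equiv.apply_symm_apply]
  have h0 : Function.Bijective ((HF 0).map (f⟦i⟧')).hom := by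
    have hc : ((HF 0).map (f⟦i⟧')).hom ∘ Cx.evalA (X⟦i⟧) =
        Cx.evalA (Y⟦i⟧) ∘ fun g : Dual.inD A A ⟶ X⟦i⟧ => g ≫ f⟦i⟧' := funext fun g => by
      simp only [Function.comp_apply, Cx.evalA_apply, Functor.map_comp]
      rfl
    refine (Function.Bijective.of_comp_iff _ (Cx.evalA_bijective _)).mp ?_
    rw [hc]
    exact (Cx.evalA_bijective _).comp hs
  have : IsIso ((HF 0).map (f⟦i⟧')) := (ConcreteCategory.isIso_iff_bijective _).mpr h0
  exact (NatIso.isIso_map_iff
    ((DerivedCategory.homologyFunctor (ModuleCat.{u} A) 0).shiftIso i 0 i (add_zero i)) f).mp this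

variable {B C B' : Type u} [CommRing B] [CommRing C] [CommRing B'] [Algebra B C] [Algebra B B']
  [Algebra C B'] [IsScalarTower B C B']

variable (B C B') in
/-- the data: the kernel of the surjection `C → B'` is generated by the regular element `t` -/
structure Hyp (t : C) : Prop where
  surj : Function.Surjective (algebraMap C B')
  ker : RingHom.ker (algebraMap C B') = Ideal.span {t}
  reg : ∀ c : C, t * c = 0 → c = 0

variable {t : C} (h : Hyp C B' t)

section Modules

variable (B) in
/-- `C → B'` as a `B`-linear map -/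
noncomputable abbrev π : C →ₗ[B] B' := (IsScalarTower.toAlgHom B C B').toLinearMap

include h in
theorem exact_base : Function.Exact (LinearMap.mulLeft B t) (π B (C := C) (B' := B')) := fun c => by
  change algebraMap C B' c = 0 ↔ _
  rw [← RingHom.mem_ker, h.ker, Ideal.mem_span_singleton']
  exact ⟨fun ⟨d, hd⟩ => ⟨d, (mul_comm t d).trans hd⟩, fun ⟨d, hd⟩ => ⟨d, (mul_comm d t).trans hd⟩⟩

variable (M : Type v) [AddCommGroup M] [Module B M]

include h in
theorem exact_rTensor : Function.Exact ((LinearMap.mulLeft B t).rTensor M)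
    ((π B (C := C) (B' := B')).rTensor M) :=
  rTensor_exact M (exact_base h) h.surj

include h in
theorem injective_rTensor_aux [Module.Flat B B'] (F : Type w) [AddCommGroup F] [Module B F]
    [Module.Flat B F] (p : F →ₗ[B] M) (hp : Function.Surjective p) :
    Function.Injective ((LinearMap.mulLeft B t).rTensor M) := by
  rw [injective_iff_map_eq_zero]
  intro x hx
  have hex : Function.Exact (LinearMap.ker p).subtype p := LinearMap.exact_subtype_ker_map p
  obtain ⟨y, rfl⟩ := LinearMap.lTensor_surjective C hp x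
  have h1 : p.lTensor C ((LinearMap.mulLeft B t).rTensor F y) = 0 := by
    rw [← hx, ← LinearMap.comp_apply, ← LinearMap.comp_apply, LinearMap.lTensor_comp_rTensor,
      LinearMap.rTensor_comp_lTensor]
  obtain ⟨k, hk⟩ := (lTensor_exact C hex hp _).mp h1
  have h2 : (π B (C := C) (B' := B')).rTensor (LinearMap.ker p) k = 0 := by
    refine Module.Flat.lTensor_preserves_injective_linearMap (M := B') (LinearMap.ker p).subtype
      (LinearMap.ker p).injective_subtype ?_
    rw [map_zero, ← LinearMap.comp_apply, LinearMap.lTensor_comp_rTensor,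
      ← LinearMap.rTensor_comp_lTensor, LinearMap.comp_apply, hk]
    exact (exact_rTensor h _).apply_apply_eq_zero y
  obtain ⟨k', rfl⟩ := (exact_rTensor h (LinearMap.ker p) k).mp h2
  have h3 : y = (LinearMap.ker p).subtype.lTensor C k' := by
    refine Module.Flat.rTensor_preserves_injective_linearMap (M := F) (LinearMap.mulLeft B t)
      (fun a b hab => sub_eq_zero.mp (h.reg _ ?_)) ?_
    · rw [mul_sub]
      exact sub_eq_zero.mpr hab
    · rw [← hk, ← LinearMap.comp_apply, ← LinearMap.comp_apply, LinearMap.lTensor_comp_rTensor,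
        LinearMap.rTensor_comp_lTensor]
  rw [h3, ← LinearMap.comp_apply, ← LinearMap.lTensor_comp, hex.linearMap_comp_eq_zero,
    LinearMap.lTensor_zero, LinearMap.zero_apply]

include h in
theorem injective_rTensor [Module.Flat B B'] :
    Function.Injective ((LinearMap.mulLeft B t).rTensor M) :=
  injective_rTensor_aux h M (M →₀ B) (Finsupp.linearCombination B id)
    (Finsupp.linearCombination_id_surjective B M)

omit [Algebra B B'] [Algebra C B'] [IsScalarTower B C B'] in
theorem rTensor_mulLeft_eq (x : C ⊗[B] M) : (LinearMap.mulLeft B t).rTensor M x = t • x := by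
  induction x using TensorProduct.induction_on with
  | zero => simp
  | tmul c m => rfl
  | add x y hx hy => simp [hx, hy]

/-- the natural map `C ⊗ M → B' ⊗ M` -/
noncomputable def piT : C ⊗[B] M →ₗ[C] B' ⊗[B] M :=
  { (π B (C := C) (B' := B')).rTensor M with
    map_smul' := fun c x => by
      induction x using TensorProduct.induction_on with
      | zero => simp
      | tmul a m =>
        change (algebraMap C B' (c * a)) ⊗ₜ[B] m = c • (algebraMap C B' a ⊗ₜ[B] m)
        rw [map_mul, TensorProduct.smul_tmul', Algebra.smul_def]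
      | add x y hx hy =>
        simp only [smul_add, map_add, AddHom.toFun_eq_coe, LinearMap.coe_toAddHom,
          RingHom.id_apply] at hx hy ⊢
        rw [hx, hy] }

end Modules

variable [Module.Flat B C] [Module.Flat B B']

variable (B C B') in
/-- `M ↦ res (B' ⊗ M)` -/
noncomputable abbrev F3 : ModuleCat.{u} B ⥤ ModuleCat.{u} C :=
  ext B B' ⋙ ModuleCat.restrictScalars.{u} (algebraMap C B')

variable (B C B') in
/-- `B' ⊗ M` seen over `C` -/
noncomputable def extEquiv3 (M : ModuleCat.{u} B) : B' ⊗[B] M ≃ₗ[C] (F3 B C B').obj M :=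
  letI : Module C ((F3 B C B').obj M) := ((F3 B C B').obj M).isModule
  { (extEquiv B B' M).toAddEquiv with
    map_smul' := fun c x => by
      change extEquiv B B' M (c • x) = algebraMap C B' c • extEquiv B B' M x
      rw [← map_smul, algebraMap_smul] }

variable (B C B') in
/-- the natural projection -/
noncomputable def qNat : ext B C ⟶ F3 B C B' where
  app M := (extEquiv B C M).toModuleIso.inv ≫ ModuleCat.ofHom (piT M) ≫
    (extEquiv3 B C B' M).toModuleIso.hom
  naturality M N g := by
    refine ModuleCat.hom_ext (LinearMap.ext fun x => ?_)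
    obtain ⟨y, rfl⟩ := (extEquiv B C M).surjective x
    change extEquiv B B' N ((π B).rTensor N ((extEquiv B C N).symm (((ext B C).map g).hom (extEquiv B C M y)))) =
      ((ext B B').map g).hom (extEquiv B B' M ((π B).rTensor M ((extEquiv B C M).symm (extEquiv B C M y))))
    rw [BaseChange.ext_map_extEquiv, LinearEquiv.symm_apply_apply, LinearEquiv.symm_apply_apply]
    rw [BaseChange.ext_map_extEquiv, ← LinearMap.comp_apply, LinearMap.rTensor_comp_lTensor,
      ← LinearMap.lTensor_comp_rTensor, LinearMap.comp_apply]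

omit [Module.Flat B C] [Module.Flat B B'] in
include h in
theorem t_qNat (M : ModuleCat.{u} B) : (t • 𝟙 ((ext B C).obj M)) ≫ (qNat B C B').app M = 0 := by
  refine ModuleCat.hom_ext (LinearMap.ext fun x => ?_)
  obtain ⟨y, rfl⟩ := (extEquiv B C M).surjective x
  change extEquiv B B' M ((π B).rTensor M ((extEquiv B C M).symm (t • extEquiv B C M y))) = 0
  rw [map_smul, LinearEquiv.symm_apply_apply, ← rTensor_mulLeft_eq,
    (exact_rTensor h M).apply_apply_eq_zero, map_zero]

/-- the termwise sequence -/
noncomputable abbrev scM (M : ModuleCat.{u} B) : ShortComplex (ModuleCat.{u} C) :=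
  ShortComplex.mk (t • 𝟙 ((ext B C).obj M)) ((qNat B C B').app M) (t_qNat h M)

theorem scM_shortExact (M : ModuleCat.{u} B) : (scM h M).ShortExact := by
  refine ShortComplex.ShortExact.mk' ?_ ?_ ?_
  · refine (ShortComplex.ShortExact.moduleCat_exact_iff_function_exact _).mpr fun x => ?_
    obtain ⟨y, rfl⟩ := (extEquiv B C M).surjective x
    change extEquiv B B' M ((π B).rTensor M ((extEquiv B C M).symm (extEquiv B C M y))) = 0 ↔ _
    rw [LinearEquiv.symm_apply_apply, LinearEquiv.map_eq_zero_iff, (exact_rTensor h M) y]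
    constructor
    · rintro ⟨z, rfl⟩
      exact ⟨extEquiv B C M z, by rw [rTensor_mulLeft_eq, map_smul]; rfl⟩
    · rintro ⟨z, hz⟩
      obtain ⟨z, rfl⟩ := (extEquiv B C M).surjective z
      refine ⟨z, (extEquiv B C M).injective ?_⟩
      rw [rTensor_mulLeft_eq, map_smul]
      exact hz
  · refine (ModuleCat.mono_iff_injective _).mpr fun a b hab => ?_
    obtain ⟨a, rfl⟩ := (extEquiv B C M).surjective a
    obtain ⟨b, rfl⟩ := (extEquiv B C M).surjective b
    change t • extEquiv B C M a = t • extEquiv B C M b at hab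
    rw [← map_smul, ← map_smul] at hab
    refine congrArg _ (injective_rTensor h M ?_)
    rw [rTensor_mulLeft_eq, rTensor_mulLeft_eq]
    exact (extEquiv B C M).injective hab
  · refine (ModuleCat.epi_iff_surjective _).mpr fun x => ?_
    obtain ⟨y, rfl⟩ := (extEquiv3 B C B' M).surjective x
    obtain ⟨z, rfl⟩ := LinearMap.rTensor_surjective M (g := π B (C := C) (B' := B')) h.surj y
    exact ⟨extEquiv B C M z, by
      change extEquiv B B' M ((π B).rTensor M ((extEquiv B C M).symm (extEquiv B C M z))) = _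
      rw [LinearEquiv.symm_apply_apply]
      rfl⟩

variable (B C B') in
/-- restriction to `C` of a complex -/
noncomputable abbrev res3 : DRing.Cx B' ⥤ DRing.Cx C :=
  (ModuleCat.restrictScalars.{u} (algebraMap C B')).mapHomologicalComplex (ComplexShape.up ℤ)

/-- the projection on complexes -/
noncomputable def qC (L : DRing.Cx B) : (extC B C).obj L ⟶ (res3 C B').obj ((extC B B').obj L) where
  f i := (qNat B C B').app (L.X i)
  comm' i j _ := ((qNat B C B').naturality (L.d i j)).symm

/-- the sequence of complexes -/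
noncomputable abbrev scC (L : DRing.Cx B) : ShortComplex (DRing.Cx C) :=
  ShortComplex.mk (t • 𝟙 ((extC B C).obj L)) (qC (C := C) (B' := B') L)
    (HomologicalComplex.hom_ext _ _ fun i => t_qNat h (L.X i))

theorem scC_shortExact (L : DRing.Cx B) : (scC h L).ShortExact :=
  HomologicalComplex.shortExact_of_degreewise_shortExact _ fun i => scM_shortExact h (L.X i)

/-- functoriality of the sequence -/
noncomputable def scMap {L L' : DRing.Cx B} (g : L ⟶ L') : scC h L ⟶ scC h L' where
  τ₁ := (extC B C).map g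
  τ₂ := (extC B C).map g
  τ₃ := (res3 C B').map ((extC B B').map g)
  comm₁₂ := by simp
  comm₂₃ := HomologicalComplex.hom_ext _ _ fun i => (qNat B C B').naturality (g.f i)

variable (B) in
/-- `res ∘ FD'` -/
noncomputable abbrev G : Dual.D B ⥤ Dual.D C :=
  FD B B' ⋙ DRing.restrictD (algebraMap C B')

/-- `res (FD' L)` on complexes -/
noncomputable def θ3 (L : DRing.Cx B) :
    (G B (C := C) (B' := B')).obj (DRing.toD L) ≅ DRing.toD ((res3 C B').obj ((extC B B').obj L)) :=
  (DRing.restrictD (algebraMap C B')).mapIso ((ext B B').mapDerivedCategoryFactors.app L) ≪≫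
    (ModuleCat.restrictScalars.{u} (algebraMap C B')).mapDerivedCategoryFactors.app _

/-- `FD L` on complexes -/
noncomputable def θ1 (L : DRing.Cx B) :
    (FD B C).obj (DRing.toD L) ≅ DRing.toD ((extC B C).obj L) :=
  (ext B C).mapDerivedCategoryFactors.app L

/-- the boundary `res (FD' L) → (FD L)[1]` -/
noncomputable def d (L : DRing.Cx B) :
    (G B (C := C) (B' := B')).obj (DRing.toD L) ⟶ ((FD B C).obj (DRing.toD L))⟦(1 : ℤ)⟧ :=
  (θ3 L).hom ≫ DerivedCategory.triangleOfSESδ (scC_shortExact h L) ≫ (θ1 L).inv⟦(1 : ℤ)⟧'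

theorem d_natural {L L' : DRing.Cx B} (g : L ⟶ L') :
    (G B (C := C) (B' := B')).map (DerivedCategory.Q.map g) ≫ d h L' =
      d h L ≫ ((FD B C).map (DerivedCategory.Q.map g))⟦(1 : ℤ)⟧' := by
  have h1 : (FD B C).map (DerivedCategory.Q.map g) =
      (θ1 L).hom ≫ DerivedCategory.Q.map ((extC B C).map g) ≫ (θ1 L').inv := by
    rw [← Category.assoc, Iso.eq_comp_inv]
    exact (ext B C).mapDerivedCategoryFactors_hom_naturality g
  have h3 : (G B (C := C) (B' := B')).map (DerivedCategory.Q.map g) ≫ (θ3 L').hom =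
      (θ3 L).hom ≫ DerivedCategory.Q.map ((res3 C B').map ((extC B B').map g)) := by
    simp only [θ3, Iso.trans_hom, Functor.mapIso_hom, Iso.app_hom, Functor.comp_map, Category.assoc]
    rw [← Functor.map_comp_assoc, Functor.mapDerivedCategoryFactors_hom_naturality, Functor.map_comp,
      Category.assoc, Functor.mapDerivedCategoryFactors_hom_naturality]
  have hn := DerivedCategory.triangleOfSESδ_naturality (scC_shortExact h L) (scC_shortExact h L')
    (scMap h g)
  simp only [d]
  simp only [Functor.comp_map]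
  rw [reassoc_of% h3, h1]
  simp only [Functor.map_comp, Category.assoc]
  rw [← Functor.map_comp_assoc _ (θ1 L).inv, Iso.inv_hom_id, CategoryTheory.Functor.map_id,
    Category.id_comp]
  simp only [scMap] at hn
  rw [← reassoc_of% hn]

/-- the sequence gives a triangle -/
theorem exact_d (L : DRing.Cx B) {Y : Dual.D C} (x : (G B (C := C) (B' := B')).obj (DRing.toD L) ⟶ Y) :
    DerivedCategory.Q.map (qC (C := C) (B' := B') L) ≫ (θ3 L).inv ≫ x = 0 ↔
      ∃ e : ((FD B C).obj (DRing.toD L))⟦(1 : ℤ)⟧ ⟶ Y, x = d h L ≫ e := by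
  have hT := DerivedCategory.triangleOfSES_distinguished (scC_shortExact h L)
  constructor
  · intro hx
    obtain ⟨e, he⟩ : ∃ e : (DRing.toD ((extC B C).obj L))⟦(1 : ℤ)⟧ ⟶ Y, (θ3 L).inv ≫ x =
        DerivedCategory.triangleOfSESδ (scC_shortExact h L) ≫ e :=
      Triangle.yoneda_exact₃ _ hT ((θ3 L).inv ≫ x) hx
    refine ⟨(θ1 L).hom⟦(1 : ℤ)⟧' ≫ e, ?_⟩
    rw [← cancel_epi (θ3 L).inv, d]
    simp only [Category.assoc, Iso.inv_hom_id_assoc]
    rw [← Functor.map_comp_assoc, Iso.inv_hom_id, CategoryTheory.Functor.map_id, Category.id_comp]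
    exact he
  · rintro ⟨e, rfl⟩
    rw [d]
    simp only [Category.assoc, Iso.inv_hom_id_assoc]
    exact (reassoc_of% (comp_distTriang_mor_zero₂₃ _ hT)) _ |>.trans zero_comp

theorem d_comp_eq_zero (L : DRing.Cx B) {Y : Dual.D C}
    (e : ((FD B C).obj (DRing.toD L))⟦(1 : ℤ)⟧ ⟶ Y) (he : d h L ≫ e = 0) :
    ∃ e' : ((FD B C).obj (DRing.toD L))⟦(1 : ℤ)⟧ ⟶ Y, e = t • e' := by
  have hT := rot_of_distTriang _ (DerivedCategory.triangleOfSES_distinguished (scC_shortExact h L))
  have he' : DerivedCategory.triangleOfSESδ (scC_shortExact h L) ≫ (θ1 L).inv⟦(1 : ℤ)⟧' ≫ e = 0 := by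
    rw [← cancel_epi (θ3 L).hom, comp_zero, ← he, d]
    simp
  obtain ⟨e', h'⟩ : ∃ e' : (DRing.toD ((extC B C).obj L))⟦(1 : ℤ)⟧ ⟶ Y,
      (θ1 L).inv⟦(1 : ℤ)⟧' ≫ e =
        (-((DerivedCategory.Q.map (t • 𝟙 ((extC B C).obj L)))⟦(1 : ℤ)⟧')) ≫ e' :=
    Triangle.yoneda_exact₃ _ hT ((θ1 L).inv⟦(1 : ℤ)⟧' ≫ e) he'
  refine ⟨(θ1 L).hom⟦(1 : ℤ)⟧' ≫ (-e'), ?_⟩
  rw [← cancel_epi ((θ1 L).inv⟦(1 : ℤ)⟧')]
  rw [h']
  simp [Functor.map_smul, ← Functor.map_comp_assoc]

section Main

open LinBaseChange (β Bij)

omit [Algebra B B'] [Algebra C B'] [IsScalarTower B C B'] [Module.Flat B B'] in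
theorem β_smul (X Y : Dual.D B) (c : C) (z : C ⊗[B] (X ⟶ Y)) :
    β B C (FD B C) X Y (c • z) = c • β B C (FD B C) X Y z := by
  induction z using TensorProduct.induction_on with
  | zero => simp
  | tmul a f => rw [TensorProduct.smul_tmul', LinBaseChange.β_tmul, LinBaseChange.β_tmul, smul_smul,
      smul_eq_mul]
  | add x y hx hy => simp only [smul_add, map_add, hx, hy]

variable (B) in
/-- `B` in degree `i` -/
noncomputable abbrev U (i : ℤ) : DRing.Cx B :=
  (HomologicalComplex.single (ModuleCat.{u} B) (ComplexShape.up ℤ) i).obj (ModuleCat.of B B)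

instance isKProjective_U (i : ℤ) : (U B i).IsKProjective := by
  refine isKProjective_of_projective _ i
    (fun j hj => HomologicalComplex.isZero_single_obj_X _ _ _ j (by omega)) fun j => ?_
  by_cases h : j = i
  · subst h
    exact Module.Projective.of_equiv (HomologicalComplex.singleObjXSelf (ComplexShape.up ℤ) j
      (ModuleCat.of B B)).toLinearEquiv.symm
  · have := ModuleCat.subsingleton_of_isZero
      (HomologicalComplex.isZero_single_obj_X (ComplexShape.up ℤ) i (ModuleCat.of B B) j h)
    infer_instance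

variable (B) in
/-- `B` in degree `i` is a shift of `B[0]` -/
noncomputable def UIso (i : ℤ) : DRing.toD (U B i) ≅ (Dual.inD B B)⟦-i⟧ :=
  ((DerivedCategory.singleFunctorIsoCompQ (ModuleCat.{u} B) i).app (ModuleCat.of B B)).symm ≪≫
    (((DerivedCategory.singleFunctors (ModuleCat.{u} B)).shiftIso (-i) i 0 (by omega)).app
      (ModuleCat.of B B)).symm

omit [Algebra C B'] [Algebra B B'] [IsScalarTower B C B'] [Module.Flat B B'] in
theorem bij_U (i : ℤ) (Y : Dual.D B) : Bij B C (FD B C) (DRing.toD (U B i)) Y := by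
  refine (LinBaseChange.bij_iff_of_iso B C (FD B C) (UIso B i).symm
    ((shiftFunctorCompIsoId (Dual.D B) i (-i) (add_neg_cancel i)).app Y)).mp ?_
  exact (LinBaseChange.bij_shift_iff B C (FD B C) (Dual.inD B B) (Y⟦i⟧) (-i)).mpr
    (BaseChange.bij_unit (Y⟦i⟧))

variable (B) in
/-- the test objects -/
noncomputable def testIso (i : ℤ) :
    (Dual.inD B' B')⟦-i⟧ ≅ (FD B B').obj (DRing.toD (U B i)) :=
  (shiftFunctor (Dual.D B') (-i)).mapIso (asIso (BaseChange.θ B B')) ≪≫
    (((FD B B').commShiftIso (-i)).app (Dual.inD B B)).symm ≪≫ (FD B B').mapIso (UIso B i).symm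

omit [Module.Flat B C] in
include h in
theorem algebraMap_t : algebraMap C B' t = 0 := by
  rw [← RingHom.mem_ker, h.ker]
  exact Ideal.mem_span_singleton_self t

/-- composition with the boundary -/
theorem compare {L : DRing.Cx B} (i : ℤ) (z : C ⊗[B] (DRing.toD (U B i) ⟶ DRing.toD L)) :
    (DRing.restrictD (algebraMap C B')).map
        (β B B' (FD B B') _ _ ((π B (C := C) (B' := B')).rTensor _ z)) ≫ d h L =
      d h (U B i) ≫ (β B C (FD B C) _ _ z)⟦(1 : ℤ)⟧' := by
  induction z using TensorProduct.induction_on with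
  | zero => rw [map_zero, map_zero, map_zero, Functor.map_zero, Functor.map_zero, zero_comp, comp_zero]
  | tmul c f =>
    obtain ⟨g, rfl⟩ := exists_Q_map_eq f
    rw [LinearMap.rTensor_tmul, LinBaseChange.β_tmul, LinBaseChange.β_tmul]
    change (DRing.restrictD (algebraMap C B')).map
      (algebraMap C B' c • (FD B B').map (DerivedCategory.Q.map g)) ≫ d h L = _
    rw [restrictD_map_smul, Linear.smul_comp, Functor.map_smul, Linear.comp_smul, ← d_natural h g]
    rfl
  | add x y hx hy => simp only [map_add, Functor.map_add, Preadditive.add_comp, hx, hy,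
      Preadditive.comp_add]

/-- the universal property on the generators -/
theorem bijective_U (L : DRing.Cx B) (i : ℤ) :
    Function.Bijective fun g : (FD B B').obj (DRing.toD (U B i)) ⟶ (FD B B').obj (DRing.toD L) =>
      (DRing.restrictD (algebraMap C B')).map g ≫ d h L := by
  have hπ := LinearMap.rTensor_surjective (DRing.toD (U B i) ⟶ DRing.toD L)
    (g := π B (C := C) (B' := B')) h.surj
  have hex := exact_rTensor (B := B) h (DRing.toD (U B i) ⟶ DRing.toD L)
  constructor
  · rw [show (fun g : (FD B B').obj (DRing.toD (U B i)) ⟶ (FD B B').obj (DRing.toD L) =>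
        (DRing.restrictD (algebraMap C B')).map g ≫ d h L) =
        ⇑(AddMonoidHom.mk' (fun g : (FD B B').obj (DRing.toD (U B i)) ⟶ (FD B B').obj (DRing.toD L) =>
          (DRing.restrictD (algebraMap C B')).map g ≫ d h L) fun a b => by
            rw [Functor.map_add, Preadditive.add_comp]) from rfl, injective_iff_map_eq_zero]
    intro g hg
    obtain ⟨z', rfl⟩ := (bij_U (C := B') i (DRing.toD L)).surjective g
    obtain ⟨z, rfl⟩ := hπ z'
    replace hg : d h (U B i) ≫ (β B C (FD B C) _ _ z)⟦(1 : ℤ)⟧' = 0 := (compare h i z).symm.trans hg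
    obtain ⟨e', he'⟩ := d_comp_eq_zero h (U B i) _ hg
    obtain ⟨e₀, rfl⟩ := (shiftFunctor (Dual.D C) (1 : ℤ)).map_surjective e'
    rw [← Functor.map_smul] at he'
    obtain ⟨z₂, rfl⟩ := (bij_U (C := C) i (DRing.toD L)).surjective e₀
    rw [← β_smul] at he'
    have hz := (bij_U (C := C) i (DRing.toD L)).injective ((shiftFunctor (Dual.D C) (1 : ℤ)).map_injective he')
    rw [hz, ← rTensor_mulLeft_eq, hex.apply_apply_eq_zero, map_zero]
  · intro x
    have hx : DerivedCategory.Q.map (qC (C := C) (B' := B') (U B i)) ≫ (θ3 (U B i)).inv ≫ x = 0 := by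
      have h0 : t • x = 0 := by
        have h1 : t • 𝟙 ((DRing.restrictD (algebraMap C B')).obj ((FD B B').obj (DRing.toD (U B i)))) = 0 := by
          rw [← CategoryTheory.Functor.map_id (DRing.restrictD (algebraMap C B')),
            ← restrictD_map_smul, algebraMap_t h, zero_smul, Functor.map_zero]
        rw [← Category.id_comp x, ← Linear.smul_comp]
        exact (congrArg (· ≫ x) h1).trans zero_comp
      let y := DerivedCategory.Q.map (qC (C := C) (B' := B') (U B i)) ≫ (θ3 (U B i)).inv ≫ x
      have hy : t • y = 0 := by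
        simp only [y]
        rw [← Linear.comp_smul, ← Linear.comp_smul, h0, comp_zero, comp_zero]
      let ec := CategoryTheory.Linear.homCongr C (θ1 (C := C) (U B i)).symm
        (((FD B C).commShiftIso (1 : ℤ)).app (DRing.toD L)).symm
      obtain ⟨z, hz⟩ := (bij_U (C := C) i ((DRing.toD L)⟦(1 : ℤ)⟧)).surjective (ec y)
      have hz0 : t • z = 0 := (bij_U (C := C) i _).injective (by
        rw [β_smul, hz, ← map_smul, hy, map_zero, map_zero])
      rw [← rTensor_mulLeft_eq] at hz0
      rw [(injective_rTensor (C := C) (B' := B') h _) (hz0.trans (map_zero _).symm), map_zero] at hz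
      exact ec.map_eq_zero_iff.mp hz.symm
    obtain ⟨e, rfl⟩ := (exact_d h (U B i) x).mp hx
    obtain ⟨e₀, rfl⟩ := (shiftFunctor (Dual.D C) (1 : ℤ)).map_surjective e
    obtain ⟨z, rfl⟩ := (bij_U (C := C) i (DRing.toD L)).surjective e₀
    exact ⟨_, compare h i z⟩

include h in
/-- the upper shriek of `C → B'` -/
theorem nonempty_iso (R : Dual.D C ⥤ Dual.D B') (adj : DRing.restrictD (algebraMap C B') ⊣ R)
    (K : Dual.D B) : Nonempty (R.obj (((FD B C).obj K)⟦(1 : ℤ)⟧) ≅ (FD B B').obj K) := by
  obtain ⟨L, ⟨e⟩⟩ : ∃ L : DRing.Cx B, Nonempty (DRing.toD L ≅ K) :=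
    ⟨_, ⟨DerivedCategory.Q.objObjPreimageIso K⟩⟩
  let η : (FD B B').obj (DRing.toD L) ⟶ R.obj (((FD B C).obj (DRing.toD L))⟦(1 : ℤ)⟧) :=
    adj.homEquiv _ _ (d h L)
  have : IsIso η := isIso_of_bijective η fun i => by
    let eT := testIso (B' := B') B i
    refine (congrArg Function.Bijective (funext fun g => ?_)).mp
      (eT.symm.homFromEquiv.bijective.comp
        ((adj.homEquiv _ _).bijective.comp ((bijective_U h L i).comp eT.homFromEquiv.bijective)))
    simp only [Function.comp_apply, η, Iso.homFromEquiv_apply, Iso.symm_inv]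
    rw [Adjunction.homEquiv_naturality_left, Category.assoc, Iso.hom_inv_id_assoc]
  exact ⟨R.mapIso ((shiftFunctor (Dual.D C) (1 : ℤ)).mapIso ((FD B C).mapIso e.symm)) ≪≫
    (asIso η).symm ≪≫ (FD B B').mapIso e⟩

end Main

end Groth.Agent.DualCx.RegEl
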