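import Groth.Agent.DualCx.RegEl
import Groth.Agent.DualCx.Comp
import Mathlib.Algebra.MvPolynomial.Equiv
import Mathlib.RingTheory.Polynomial.Ideal
import Mathlib.Algebra.Category.ModuleCat.Adjunctions

/-!
# Upper shriek along a section of an affine space
-/

universe u

open CategoryTheory CategoryTheory.Limits

attribute [local instance] HasDerivedCategory.standard

namespace Groth.Agent.DualCx.Sec

open BaseChange (FD ext)

/-- base change along a bijection is restriction along the inverse -/
theorem nonempty_FD_iso_restrict {B C : Type u} [CommRing B] [CommRing C] [Algebra B C]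
    [Module.Flat B C] (hι : Function.Bijective (algebraMap B C)) (s : C →+* B)
    (hs : ∀ b, s (algebraMap B C b) = b) (K : Dual.D B) :
    Nonempty ((FD B C).obj K ≅ (DRing.restrictD s).obj K) := by
  let e : B ≃+* C := RingEquiv.ofBijective (algebraMap B C) hι
  have hse : e.symm.toRingHom = s := by
    refine RingHom.ext fun c => ?_
    obtain ⟨b, rfl⟩ := e.surjective c
    exact (e.symm_apply_apply b).trans (hs b).symm
  subst hse
  let adj : ModuleCat.restrictScalars.{u} e.symm.toRingHom ⊣ ModuleCat.restrictScalars.{u} (algebraMap B C) :=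
    (ModuleCat.restrictScalarsEquivalenceOfRingEquiv.{u} e).symm.toAdjunction
  obtain ⟨i⟩ := RAdj.nonempty_mapIso
    (Adjunction.leftAdjointUniq (ModuleCat.extendRestrictScalarsAdj.{u} (algebraMap B C)) adj)
  exact ⟨i.app K⟩

/-- base change along the identity -/
theorem nonempty_FD_self {B : Type u} [CommRing B] (K : Dual.D B) :
    Nonempty ((FD B B).obj K ≅ K) := by
  obtain ⟨i⟩ := nonempty_FD_iso_restrict (B := B) (C := B) Function.bijective_id (RingHom.id B)
    (fun _ => rfl) K
  obtain ⟨j⟩ := RAdj.nonempty_restrictId B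
  exact ⟨i ≪≫ j.app K⟩

/-- a bijective section -/
theorem nonempty_iso_bijective {B C : Type u} [CommRing B] [CommRing C] [Algebra B C]
    [Module.Flat B C] (hι : Function.Bijective (algebraMap B C)) (s : C →+* B)
    (hs : ∀ b, s (algebraMap B C b) = b) {R : Dual.D C ⥤ Dual.D B} (adj : DRing.restrictD s ⊣ R)
    (L : Dual.D B) : Nonempty (R.obj ((FD B C).obj L) ≅ L) := by
  have hs' : ∀ c, algebraMap B C (s c) = c := fun c => by
    obtain ⟨b, rfl⟩ := hι.surjective c
    rw [hs]
  obtain ⟨e0⟩ := RAdj.nonempty_restrictId B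
  obtain ⟨e1⟩ := RAdj.nonempty_restrictComp (algebraMap B C) s (RingHom.id B) (RingHom.ext hs)
  obtain ⟨f0⟩ := RAdj.nonempty_restrictId C
  obtain ⟨f1⟩ := RAdj.nonempty_restrictComp s (algebraMap B C) (RingHom.id C) (RingHom.ext hs')
  let E : Dual.D B ≌ Dual.D C := CategoryTheory.Equivalence.mk (DRing.restrictD s)
    (DRing.restrictD (algebraMap B C)) (e0.symm ≪≫ e1) (f1.symm ≪≫ f0)
  obtain ⟨i⟩ := nonempty_FD_iso_restrict hι s hs L
  exact ⟨(Adjunction.rightAdjointUniq adj E.toAdjunction).app _ ≪≫
    (DRing.restrictD (algebraMap B C)).mapIso i ≪≫ (e0.symm ≪≫ e1).symm.app L⟩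

theorem flat_of_equiv {B C : Type u} [CommRing B] [CommRing C] [Algebra B C] {m : ℕ}
    (e : C ≃ₐ[B] MvPolynomial (Fin m) B) : Module.Flat B C :=
  Module.Flat.of_linearEquiv e.toLinearEquiv

/-- sections of affine spaces -/
theorem nonempty_iso : ∀ (m : ℕ) (B C : Type u) [CommRing B] [CommRing C] [Algebra B C]
    [Module.Flat B C] (_ : C ≃ₐ[B] MvPolynomial (Fin m) B) (s : C →ₐ[B] B)
    (R : Dual.D C ⥤ Dual.D B) (_ : DRing.restrictD s.toRingHom ⊣ R) (L : Dual.D B),
    Nonempty (R.obj (((FD B C).obj L)⟦(m : ℤ)⟧) ≅ L) := by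
  intro m
  induction m with
  | zero =>
    intro B C _ _ _ _ e s R adj L
    have hι : Function.Bijective (algebraMap B C) := by
      let e0 := e.trans (MvPolynomial.isEmptyAlgEquiv B (Fin 0))
      have : (algebraMap B C : B → C) = e0.symm := funext fun b => (e0.symm.commutes b).symm
      rw [this]
      exact e0.symm.bijective
    obtain ⟨i⟩ := nonempty_iso_bijective hι s.toRingHom s.commutes adj L
    exact ⟨R.mapIso ((shiftFunctorZero' (Dual.D C) ((0 : ℕ) : ℤ) rfl).app _) ≪≫ i⟩
  | succ m ih =>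
    intro B C _ _ _ _ e s R adj L
    let ι : MvPolynomial (Fin m) B →ₐ[B] C :=
      e.symm.toAlgHom.comp (MvPolynomial.rename Fin.succ)
    let D := MvPolynomial (Fin m) B
    letI : Algebra D C := ι.toRingHom.toAlgebra
    have : IsScalarTower B D C := IsScalarTower.of_algebraMap_eq fun b => (ι.commutes b).symm
    let g₀ : C ≃ₐ[B] Polynomial D := e.trans (MvPolynomial.finSuccEquiv B m)
    have hg : (g₀.toAlgHom.comp ι) = IsScalarTower.toAlgHom B D (Polynomial D) := by
      refine MvPolynomial.algHom_ext fun i => ?_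
      change MvPolynomial.finSuccEquiv B m (e (e.symm (MvPolynomial.rename Fin.succ (MvPolynomial.X i)))) = _
      rw [e.apply_symm_apply, MvPolynomial.rename_X, MvPolynomial.finSuccEquiv_X_succ]
      rfl
    let g : C ≃ₐ[D] Polynomial D :=
      AlgEquiv.ofRingEquiv (f := g₀.toRingEquiv) fun d => AlgHom.congr_fun hg d
    have : Module.Flat D C := Module.Flat.of_linearEquiv g.toLinearEquiv
    let a : D := MvPolynomial.C (s (e.symm (MvPolynomial.X 0)))
    let s₂ : C →+* D := (Polynomial.evalRingHom a).comp g.toRingEquiv.toRingHom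
    letI : Algebra C D := s₂.toAlgebra
    have : IsScalarTower D C D := IsScalarTower.of_algebraMap_eq fun d => by
      change d = Polynomial.eval a (g (algebraMap D C d))
      rw [g.commutes]
      simp
    let t : C := g.symm (Polynomial.X - Polynomial.C a)
    have hyp : RegEl.Hyp C D t := by
      refine ⟨fun d => ⟨g.symm (Polynomial.C d), ?_⟩, ?_, fun c hc => ?_⟩
      · change Polynomial.eval a (g (g.symm (Polynomial.C d))) = d
        simp
      · ext c
        rw [RingHom.mem_ker, Ideal.mem_span_singleton']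
        change Polynomial.eval a (g c) = 0 ↔ _
        rw [← Polynomial.coe_evalRingHom, ← RingHom.mem_ker, Polynomial.ker_evalRingHom,
          Ideal.mem_span_singleton']
        constructor
        · rintro ⟨q, hq⟩
          exact ⟨g.symm q, by rw [← map_mul, hq, g.symm_apply_apply]⟩
        · rintro ⟨q, hq⟩
          exact ⟨g q, by rw [← hq, map_mul, g.apply_symm_apply]⟩
      · have := congrArg g hc
        rw [map_mul, g.apply_symm_apply, map_zero] at this
        exact (map_eq_zero_iff g g.injective).mp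
          ((Polynomial.monic_X_sub_C a).mul_right_eq_zero_iff.mp this)
    let s₁ : D →ₐ[B] B := s.comp ι
    have hcomp : s₁.toRingHom.comp s₂ = s.toRingHom := by
      have hA : (s₁.comp ((Polynomial.aeval a).restrictScalars B)).comp g₀.toAlgHom = s := by
        refine AlgHom.ext fun c => ?_
        obtain ⟨p, rfl⟩ := e.symm.surjective c
        refine AlgHom.congr_fun (MvPolynomial.algHom_ext fun i => ?_ :
          ((s₁.comp ((Polynomial.aeval a).restrictScalars B)).comp g₀.toAlgHom).comp e.symm.toAlgHom =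
            s.comp e.symm.toAlgHom) p
        cases i using Fin.cases with
        | zero =>
          change s₁ (Polynomial.aeval a (MvPolynomial.finSuccEquiv B m (e (e.symm (MvPolynomial.X 0))))) = _
          rw [e.apply_symm_apply, MvPolynomial.finSuccEquiv_X_zero, Polynomial.aeval_X]
          exact s₁.commutes _
        | succ i =>
          change s₁ (Polynomial.aeval a (MvPolynomial.finSuccEquiv B m
            (e (e.symm (MvPolynomial.X i.succ))))) = _
          rw [e.apply_symm_apply, MvPolynomial.finSuccEquiv_X_succ, Polynomial.aeval_C]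
          change s (e.symm (MvPolynomial.rename Fin.succ (MvPolynomial.X i))) = _
          rw [MvPolynomial.rename_X]
          rfl
      exact congrArg AlgHom.toRingHom hA
    obtain ⟨R₂, ⟨adj₂⟩⟩ := RAdj.exists_adj s₂
    obtain ⟨R₁, ⟨adj₁⟩⟩ := RAdj.exists_adj s₁.toRingHom
    obtain ⟨c⟩ := RAdj.nonempty_comp s₂ s₁.toRingHom s.toRingHom hcomp adj₂ adj₁ adj
      (((FD B C).obj L)⟦((m + 1 : ℕ) : ℤ)⟧)
    obtain ⟨f⟩ := Comp.nonempty_iso B D C L
    obtain ⟨r⟩ := RegEl.nonempty_iso hyp R₂ adj₂ ((FD B D).obj L)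
    obtain ⟨q⟩ := nonempty_FD_self ((FD B D).obj L)
    obtain ⟨σ⟩ := RAdj.nonempty_shiftIso adj₂ (((FD D C).obj ((FD B D).obj L))⟦(1 : ℤ)⟧) (m : ℤ)
    obtain ⟨j⟩ := ih B D AlgEquiv.refl s₁ R₁ adj₁ L
    exact ⟨c ≪≫ R₁.mapIso (R₂.mapIso ((shiftFunctor _ _).mapIso f ≪≫
      (shiftFunctorAdd' (Dual.D C) (1 : ℤ) (m : ℤ) _ (by push_cast; omega)).app _) ≪≫ σ ≪≫
      (shiftFunctor _ _).mapIso (r ≪≫ q)) ≪≫ j⟩

end Groth.Agent.DualCx.Sec
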