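import Groth.Agent.DualCx.Extended
import Groth.Agent.DualCx.Criterion
import Groth.Agent.DualCx.Biduality
import Groth.Agent.DualCx.Dimfun
import Mathlib.CategoryTheory.Adjunction.Additive
import Mathlib.RingTheory.Ideal.Quotient.Operations
import Mathlib.RingTheory.IntegralClosure.IsIntegralClosure.Basic

/-!
# Upper shriek of a dualizing complex along a finite ring map
-/

universe u

open CategoryTheory CategoryTheory.Limits IsLocalRing

attribute [local instance] HasDerivedCategory.standard

namespace Groth.Agent.DualCx.Shriek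

open Devissage (E pre)

variable {A B : Type u} [CommRing A] [CommRing B] [Algebra A B]

/-- `ω'` corepresents `Hom_A(res -, ω)` on modules -/
structure Rep (ω : Dual.D A) (ω' : Dual.D B) where
  e : ∀ (M : Type u) [AddCommGroup M] [Module A M] [Module B M] [IsScalarTower A B M] (i : ℤ),
    E M ω' i ≃+ E M ω i
  natural : ∀ (M N : Type u) [AddCommGroup M] [Module A M] [Module B M] [IsScalarTower A B M]
    [AddCommGroup N] [Module A N] [Module B N] [IsScalarTower A B N] (f : M →ₗ[B] N) (i : ℤ)
    (x : E N ω' i), e M i (pre f ω' i x) = pre (f.restrictScalars A) ω i (e N i x)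

variable {ω : Dual.D A} {ω' : Dual.D B} (S : Rep ω ω')

include S

theorem map_smul (M : Type u) [AddCommGroup M] [Module A M] [Module B M] [IsScalarTower A B M]
    (i : ℤ) (a : A) (x : E M ω' i) : S.e M i (algebraMap A B a • x) = a • S.e M i x := by
  have h := S.natural M M (algebraMap A B a • LinearMap.id) i x
  rw [Devissage.pre_smul, Devissage.pre_id] at h
  rw [h, show (algebraMap A B a • (LinearMap.id : M →ₗ[B] M)).restrictScalars A =
    a • LinearMap.id from LinearMap.ext fun m => algebraMap_smul B a m, Devissage.pre_smul,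
    Devissage.pre_id]

theorem isGE (a : ℤ) [ω.IsGE a] : ω'.IsGE a :=
  (DerivedCategory.isGE_iff ω' a).mpr fun i hi => by
    have := Amplitude.subsingleton_of_lt (K := ω) a B i hi
    have : Subsingleton (E B ω' i) := (S.e B i).toEquiv.subsingleton
    exact (DRing.DBasic.subsingleton_HD_iff_isZero ω' i).mp
      (Cx.homUnitEquivShift ω' i).symm.toEquiv.subsingleton

variable [IsNoetherianRing A] [Module.Finite A B]

theorem finite_E (a : ℤ) [ω.IsGE a] (hf : ∀ i, Module.Finite A (Dual.HD A ω i)) (M : Type u)
    [AddCommGroup M] [Module A M] [Module B M] [IsScalarTower A B M] [Module.Finite A M] (i : ℤ) :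
    Module.Finite B (E M ω' i) := by
  classical
  have := Criterion.finite_E a hf M i
  obtain ⟨s, hs⟩ := (Module.Finite.fg_top : (⊤ : Submodule A (E M ω i)).FG)
  refine ⟨⟨s.image (S.e M i).symm, top_le_iff.mp fun x _ => ?_⟩⟩
  suffices ∀ y ∈ Submodule.span A (s : Set (E M ω i)),
      (S.e M i).symm y ∈ Submodule.span B ((s.image (S.e M i).symm : Finset _) : Set (E M ω' i)) by
    simpa using this (S.e M i x) (hs ▸ trivial)
  intro y hy
  induction hy using Submodule.span_induction with
  | mem y hy => exact Submodule.subset_span (Finset.mem_image_of_mem _ hy)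
  | zero => rw [map_zero]; exact Submodule.zero_mem _
  | add y z _ _ hy hz => rw [map_add]; exact Submodule.add_mem _ hy hz
  | smul r y _ hy =>
    have h := map_smul S M i r ((S.e M i).symm y)
    rw [(S.e M i).apply_symm_apply] at h
    rw [← h, (S.e M i).symm_apply_apply]
    exact Submodule.smul_mem _ _ hy

theorem finite_HD (a : ℤ) [ω.IsGE a] (hf : ∀ i, Module.Finite A (Dual.HD A ω i)) (i : ℤ) :
    Module.Finite B (Dual.HD B ω' i) :=
  have := finite_E S a hf B i
  Module.Finite.equiv (Cx.homUnitEquivShift ω' i)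

omit S [IsNoetherianRing A] [Module.Finite A B] in
/-- `E` of a finite power -/
noncomputable def piEquiv (M : Type u) [AddCommGroup M] [Module A M] (r : ℕ) (i : ℤ) :
    E (Fin r → M) ω i ≃ₗ[A] (Fin r → E M ω i) where
  toFun x k := pre (LinearMap.single A (fun _ => M) k) ω i x
  map_add' x y := funext fun k => map_add _ _ _
  map_smul' c x := funext fun k => LinearMap.map_smul _ _ _
  invFun y := ∑ k, pre (LinearMap.proj k : (Fin r → M) →ₗ[A] M) ω i (y k)
  left_inv x := by
    classical
    have hid : (LinearMap.id : (Fin r → M) →ₗ[A] (Fin r → M)) =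
        ∑ k, (LinearMap.single A (fun _ => M) k).comp (LinearMap.proj k) := by
      ext j m k
      simp [Pi.single_apply]
    conv_rhs => rw [← Devissage.pre_id i x, hid, Normal.pre_sum]
    exact Finset.sum_congr rfl fun k _ => (Devissage.pre_comp _ _ i x).symm
  right_inv y := by
    classical
    funext k
    simp only [map_sum]
    rw [Finset.sum_eq_single k]
    · rw [← Devissage.pre_comp, LinearMap.proj_comp_single_same, Devissage.pre_id]
    · intro j _ hj
      rw [← Devissage.pre_comp, LinearMap.proj_comp_single_ne A (fun _ => M) j k hj,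
        ← zero_smul A (0 : M →ₗ[A] M), Devissage.pre_smul, zero_smul]
    · exact fun h => absurd (Finset.mem_univ k) h

/-- residue modules of `ω'` -/
theorem residue (hω : Dual.IsDualizing A ω) (n : Ideal B) [n.IsMaximal] :
    ∀ d : ℤ, (∀ i, i ≠ d → Subsingleton (E (A ⧸ n.comap (algebraMap A B)) ω i)) →
    Nonempty (E (A ⧸ n.comap (algebraMap A B)) ω d ≃ₗ[A] (A ⧸ n.comap (algebraMap A B))) →
    (∀ i, i ≠ d → Subsingleton (E (B ⧸ n) ω' i)) ∧ Nonempty (E (B ⧸ n) ω' d ≃ₗ[B] (B ⧸ n)) := by
  intro d hv ⟨ed⟩
  let m : Ideal A := n.comap (algebraMap A B)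
  have : m.IsMaximal := Ideal.isMaximal_comap_of_isIntegral_of_isMaximal n
  letI : Field (A ⧸ m) := Ideal.Quotient.field m
  letI : Algebra (A ⧸ m) (B ⧸ n) := Ideal.Quotient.algebraQuotientOfLEComap le_rfl
  have : IsScalarTower A (A ⧸ m) (B ⧸ n) := IsScalarTower.of_algebraMap_eq fun a => rfl
  have : Module.Finite A (B ⧸ n) := inferInstance
  have : Module.Finite (A ⧸ m) (B ⧸ n) := Module.Finite.of_restrictScalars_finite A _ _
  let r := Module.finrank (A ⧸ m) (B ⧸ n)
  let eB : (B ⧸ n) ≃ₗ[A] (Fin r → A ⧸ m) :=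
    (Module.finBasis (A ⧸ m) (B ⧸ n)).equivFun.restrictScalars A
  let eE : ∀ i, E (B ⧸ n) ω i ≃ₗ[A] (Fin r → E (A ⧸ m) ω i) := fun i =>
    (Devissage.congrE eB ω i).trans (piEquiv _ r i)
  refine ⟨fun i hi => ?_, ?_⟩
  · have := hv i hi
    exact ((S.e (B ⧸ n) i).toEquiv.trans (eE i).toEquiv).subsingleton
  · let eT : E (B ⧸ n) ω d ≃ₗ[A] (B ⧸ n) :=
      ((eE d).trans (LinearEquiv.piCongrRight fun _ => ed)).trans eB.symm
    let y : E (B ⧸ n) ω' d := (S.e (B ⧸ n) d).symm (eT.symm (Submodule.Quotient.mk 1))
    have hy : y ≠ 0 := fun h => by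
      have h1 : eT.symm (Submodule.Quotient.mk 1) = 0 :=
        (S.e (B ⧸ n) d).symm.injective (h.trans (_root_.map_zero _).symm)
      have h2 : (Submodule.Quotient.mk 1 : B ⧸ n) = 0 :=
        eT.symm.injective (h1.trans (_root_.map_zero _).symm)
      exact (‹n.IsMaximal›).ne_top ((Ideal.eq_top_iff_one _).mpr
        ((Submodule.Quotient.mk_eq_zero n).mp h2))
    let ψ : (B ⧸ n) →ₗ[B] E (B ⧸ n) ω' d :=
      Submodule.liftQ n (LinearMap.toSpanSingleton B _ y) fun b hb => Dimfun.smul_E_eq_zero n d hb y
    have hs : IsSimpleModule B (B ⧸ n) :=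
      isSimpleModule_iff_quot_maximal.mpr ⟨n, inferInstance, ⟨LinearEquiv.refl _ _⟩⟩
    have hinj : Function.Injective ψ := (LinearMap.injective_or_eq_zero ψ).resolve_right fun h0 => hy (by
      have := LinearMap.congr_fun h0 (Submodule.Quotient.mk 1)
      rwa [Submodule.liftQ_apply, LinearMap.toSpanSingleton_apply, one_smul] at this)
    let χ : (B ⧸ n) →ₗ[A] (B ⧸ n) :=
      { toFun := fun x => eT (S.e (B ⧸ n) d (ψ x))
        map_add' := fun x z => by rw [map_add, map_add, map_add]
        map_smul' := fun a x => by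
          rw [← algebraMap_smul B a x, LinearMap.map_smul, map_smul S, eT.map_smul]
          rfl }
    have : IsArtinian (A ⧸ m) (B ⧸ n) := inferInstance
    have : IsArtinian A (B ⧸ n) :=
      isArtinian_of_surjective_algebraMap (R := A ⧸ m) Ideal.Quotient.mk_surjective
    have hsurj := IsArtinian.surjective_of_injective_endomorphism χ
      fun x z h => hinj ((S.e _ d).injective (eT.injective h))
    refine ⟨(LinearEquiv.ofBijective ψ ⟨hinj, fun w => ?_⟩).symm⟩
    obtain ⟨x, hx⟩ := hsurj (eT (S.e (B ⧸ n) d w))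
    exact ⟨x, (S.e _ d).injective (eT.injective hx)⟩

theorem isDualizing [IsNoetherianRing B] (hω : Dual.IsDualizing A ω) : Dual.IsDualizing B ω' := by
  obtain ⟨a, ha⟩ := Dimfun.exists_isGE hω
  obtain ⟨a', b, hb⟩ := hω.finite_injective_dimension
  have : ω'.IsGE a := isGE S a
  refine Biduality.isDualizing ω' a (finite_HD S a hω.finite_cohomology) b fun n hn => ?_
  have : (n.comap (algebraMap A B)).IsMaximal := Ideal.isMaximal_comap_of_isIntegral_of_isMaximal n
  obtain ⟨d, hv, he⟩ := Extended.residue_single_maximal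
    (B := Localization.AtPrime (n.comap (algebraMap A B))) hω (n.comap (algebraMap A B))
  refine ⟨d, ?_, residue S hω n d hv he⟩
  by_contra h
  have := hb (A ⧸ n.comap (algebraMap A B)) d (Or.inr (by omega))
  obtain ⟨e⟩ := he
  exact not_subsingleton (A ⧸ n.comap (algebraMap A B)) e.symm.toEquiv.subsingleton

theorem isNormalized [IsLocalRing A] [IsLocalRing B] [IsLocalHom (algebraMap A B)]
    (hω : Dual.IsDualizing A ω) (hn : Dual.IsNormalized A ω) : Dual.IsNormalized B ω' := by
  obtain ⟨e⟩ := Normal.nonempty_residue hω hn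
  have hm : (maximalIdeal B).comap (algebraMap A B) = maximalIdeal A := maximalIdeal_comap _
  refine (residue S hω (maximalIdeal B) 0 (fun i hi => ?_) ?_).1
  · rw [hm]; exact hn i hi
  · rw [hm]; exact ⟨e⟩

end Groth.Agent.DualCx.Shriek

namespace Groth.Agent.DualCx.Shriek

open Devissage (E pre)

variable {A B : Type u} [CommRing A] [CommRing B] [Algebra A B]

/-- restriction of a module -/
noncomputable def resIso (M : Type u) [AddCommGroup M] [Module A M] [Module B M]
    [IsScalarTower A B M] :
    (ModuleCat.restrictScalars (algebraMap A B)).obj (ModuleCat.of B M) ≅ ModuleCat.of A M :=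
  letI : Module A ((ModuleCat.restrictScalars (algebraMap A B)).obj (ModuleCat.of B M)) :=
    ((ModuleCat.restrictScalars (algebraMap A B)).obj (ModuleCat.of B M)).isModule
  LinearEquiv.toModuleIso
    (show ((ModuleCat.restrictScalars (algebraMap A B)).obj (ModuleCat.of B M)) ≃ₗ[A] M from
      { AddEquiv.refl M with map_smul' := fun a m => algebraMap_smul B a (show M from m) })

/-- restriction of `M[0][-i]` -/
noncomputable def resShiftIso (M : Type u) [AddCommGroup M] [Module A M] [Module B M]
    [IsScalarTower A B M] (i : ℤ) :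
    (DRing.restrictD (algebraMap A B)).obj ((Dual.inD B M)⟦-i⟧) ≅ (Dual.inD A M)⟦-i⟧ :=
  ((DRing.restrictD (algebraMap A B)).commShiftIso (-i)).app (Dual.inD B M) ≪≫
    (shiftFunctor (Dual.D A) (-i)).mapIso
      (((ModuleCat.restrictScalars (algebraMap A B)).mapDerivedCategorySingleFunctor 0).app
          (ModuleCat.of B M) ≪≫
        (DerivedCategory.singleFunctor (ModuleCat.{u} A) 0).mapIso (resIso M))

/-- shifts are adjoint -/
noncomputable def shAdj (i : ℤ) : shiftFunctor (Dual.D A) (-i) ⊣ shiftFunctor (Dual.D A) i :=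
  (shiftEquiv' (Dual.D A) (-i) i (neg_add_cancel i)).toAdjunction

/-- right adjoints of restriction give such objects -/
noncomputable def ofAdj (R : Dual.D A ⥤ Dual.D B) (adj : DRing.restrictD (algebraMap A B) ⊣ R)
    (ω : Dual.D A) : Rep ω (R.obj ω) where
  e M _ _ _ _ i :=
    (((shAdj (A := B) i).homAddEquiv _ _).symm.trans
      ((adj.homAddEquiv _ _).symm.trans
        ((Hom.congr A (resShiftIso M i) (Iso.refl ω)).toAddEquiv.trans
          ((shAdj i).homAddEquiv _ _))))
  natural M N _ _ _ _ _ _ _ _ f i x := by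
    have hres : (DRing.restrictD (algebraMap A B)).map
        (((DerivedCategory.singleFunctor (ModuleCat.{u} B) 0).map (ModuleCat.ofHom f))⟦-i⟧') ≫
          (resShiftIso N i).hom =
        (resShiftIso M i).hom ≫ ((DerivedCategory.singleFunctor (ModuleCat.{u} A) 0).map
          (ModuleCat.ofHom (f.restrictScalars A)))⟦-i⟧' := by
      have hr : (ModuleCat.restrictScalars (algebraMap A B)).map (ModuleCat.ofHom f) ≫ (resIso N).hom =
          (resIso M).hom ≫ ModuleCat.ofHom (f.restrictScalars A) := rfl
      have h0 := ((ModuleCat.restrictScalars (algebraMap A B)).mapDerivedCategorySingleFunctor 0).hom.naturality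
        (ModuleCat.ofHom f)
      have h1 := ((DRing.restrictD (algebraMap A B)).commShiftIso (-i)).hom.naturality
        ((DerivedCategory.singleFunctor (ModuleCat.{u} B) 0).map (ModuleCat.ofHom f))
      simp only [resShiftIso, Iso.trans_hom, Iso.app_hom, Functor.mapIso_hom, Category.assoc]
      erw [reassoc_of% h1]
      rw [← Functor.map_comp]
      congr 1
      erw [← Functor.map_comp]
      congr 1
      erw [reassoc_of% h0]
      rw [Category.assoc]
      congr 1
      rw [← Functor.map_comp, ← Functor.map_comp, hr]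
    have hc : ∀ {X X' : Dual.D A} (e : X ≅ X') (g : X ⟶ ω),
        (Hom.congr A e (Iso.refl ω)).toAddEquiv g = e.inv ≫ g := fun e g => by
      simp [Hom.congr, CategoryTheory.Linear.homCongr_apply]
    simp only [AddEquiv.trans_apply, Adjunction.homAddEquiv_apply, Adjunction.homAddEquiv_symm_apply]
    erw [hc, hc]
    change (shAdj i).homEquiv _ _ (_ ≫ (adj.homEquiv _ _).symm (((shAdj i).homEquiv _ _).symm
        ((DerivedCategory.singleFunctor (ModuleCat.{u} B) 0).map (ModuleCat.ofHom f) ≫ x))) =
      (DerivedCategory.singleFunctor (ModuleCat.{u} A) 0).map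
        (ModuleCat.ofHom (f.restrictScalars A)) ≫ _
    rw [Adjunction.homEquiv_naturality_left_symm, Adjunction.homEquiv_naturality_left_symm,
      ← Adjunction.homEquiv_naturality_left]
    congr 1
    rw [Iso.inv_comp_eq, ← Category.assoc, ← Category.assoc]
    congr 1
    exact (Iso.eq_comp_inv _).mpr hres

end Groth.Agent.DualCx.Shriek
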