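import Groth.Agent.DualCx.ShriekProj
import Groth.Agent.DRing.RelPCLoc
import Groth.Agent.DTenLib.BC

/-!
# Base change of the right adjoint of restriction along a perfect map in a tor independent square
-/

universe u

open CategoryTheory CategoryTheory.Limits MonoidalCategory DerivedCategory

attribute [local instance] HasDerivedCategory.standard

namespace Groth.Agent.DualCx.ShriekBC

open Groth.Agent.DRing Groth.Agent.DTenLib
open scoped TensorProduct

section Rel

variable (R : Type u) {P : Type u} [CommRing R] [CommRing P] [Algebra R P]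

/-- `res Y` is K-flat over `R` -/
def Rel (Y : DRing.Cx P) : Prop :=
  DRing.IsKFlat R ((DTen.resCx (algebraMap R P)).obj Y)

variable {R}

theorem rel_iff (Y : DRing.Cx P) : Rel R Y ↔ ∀ N : DRing.Cx R, (∀ i, IsZero (N.homology i)) →
    ∀ i, IsZero ((Y ⊗ (DTen.extCx (algebraMap R P)).obj N).homology i) := by
  have : (ModuleCat.restrictScalars.{u} (algebraMap R P)).PreservesHomology :=
    Functor.preservesHomologyOfExact _
  let e (N : DRing.Cx R) (i : ℤ) := (((Y ⊗ (DTen.extCx (algebraMap R P)).obj N).sc i).mapHomologyIso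
      (ModuleCat.restrictScalars.{u} (algebraMap R P))).symm ≪≫
    (HomologicalComplex.homologyFunctor _ _ i).mapIso (KFlat.BaseChange.projCxIso (algebraMap R P) Y N ≪≫
      DTen.braidCx _ N)
  exact ⟨fun h N hN i => KFlat.BaseChange.isZero_of_restrictScalars _ ((h N hN i).of_iso (e N i)),
    fun h N hN i => ((ModuleCat.restrictScalars.{u} (algebraMap R P)).map_isZero (h N hN i)).of_iso
      (e N i).symm⟩

/-- base change along a flat map preserves acyclic complexes -/
theorem isZero_homology_ext [Module.Flat R P] {N : DRing.Cx R} (hN : ∀ i, IsZero (N.homology i)) (i : ℤ) :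
    IsZero (((DTen.extCx (algebraMap R P)).obj N).homology i) :=
  ((BaseChange.ext R P).map_isZero (hN i)).of_iso ((N.sc i).mapHomologyIso (BaseChange.ext R P))

theorem rel_of_kflat [Module.Flat R P] {Y : DRing.Cx P} (h : DRing.IsKFlat P Y) : Rel R Y :=
  (rel_iff Y).2 fun N hN i => (h _ (isZero_homology_ext hN) i).of_iso
    ((HomologicalComplex.homologyFunctor _ _ i).mapIso (DTen.braidCx _ _))

theorem rel_homCx {E Y : DRing.Cx P} [E.IsKProjective] (D : DualData E) (h : Rel R Y) :
    Rel R (DRing.homCx E Y) := by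
  refine (rel_iff _).2 fun N hN i => ?_
  let Z := (DTen.extCx (algebraMap R P)).obj N
  have hac : (Z ⊗ Y).Acyclic := fun j => (HomologicalComplex.exactAt_iff_isZero_homology _ j).2
    (((rel_iff Y).1 h N hN j).of_iso
      ((HomologicalComplex.homologyFunctor _ _ j).mapIso (DTen.braidCx _ _)))
  have := isIso_etaTen_right (P := Z) (Y := Y) D
  exact ((HomologicalComplex.exactAt_iff_isZero_homology _ i).1 (acyclic_homCx (P := E) hac i)).of_iso
    ((HomologicalComplex.homologyFunctor _ _ i).mapIso (DTen.braidCx _ Z ≪≫ asIso (etaTen Z E Y)))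

theorem rel_biprod {X Y : DRing.Cx P} (hX : Rel R X) (hY : Rel R Y) : Rel R (X ⊞ Y) :=
  have := preservesBinaryBiproducts_of_preservesBiproducts (DTen.resCx (algebraMap R P))
  KFlat.IsKFlat.of_iso ((DTen.resCx (algebraMap R P)).mapBiprod X Y).symm (KFlat.IsKFlat.biprod hX hY)

theorem rel_cone {X Y : DRing.Cx P} (f : X ⟶ Y) (hX : Rel R X) (hY : Rel R Y) :
    Rel R (CochainComplex.mappingCone f) :=
  KFlat.IsKFlat.of_iso (CochainComplex.mappingCone.mapHomologicalComplexIso f _).symm
    ((KFlat.mappingCone_two_of_three ((DTen.resCx (algebraMap R P)).map f)).1 hX hY)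

/-- a map in `D` becomes a chain map into a complex with K-flat restriction quasi-isomorphic to the target -/
theorem exists_roof [Module.Flat R P] {M T : DRing.Cx P} (hM : Rel R M) (hT : Rel R T)
    (c : DRing.toD M ⟶ DRing.toD T) :
    ∃ (Y : DRing.Cx P) (ε : M ⟶ Y) (j : T ⟶ Y), Rel R Y ∧ QuasiIso j ∧
      DerivedCategory.Q.map ε = c ≫ DerivedCategory.Q.map j := by
  obtain ⟨X, hX, -, ⟨a⟩⟩ := DBasic.exists_kproj_iso (DRing.toD M)
  obtain ⟨s, hs⟩ := DBasic.exists_Q_map_eq a.hom
  obtain ⟨e, he⟩ := DBasic.exists_Q_map_eq (a.hom ≫ c)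
  let f : X ⟶ M ⊞ T := biprod.lift s (-e)
  let g : M ⊞ T ⟶ CochainComplex.mappingCone f := CochainComplex.mappingCone.inr f
  have hd := mappingCone_triangle_distinguished f
  have h0 : DerivedCategory.Q.map (f ≫ g) = 0 := by
    rw [Functor.map_comp]
    exact Pretriangulated.comp_distTriang_mor_zero₁₂ _ hd
  have hfg : DerivedCategory.Q.map (biprod.inl ≫ g) = c ≫ DerivedCategory.Q.map (biprod.inr ≫ g) := by
    rw [← cancel_epi a.hom, ← reassoc_of% he, ← hs, ← Functor.map_comp, ← Functor.map_comp,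
      ← sub_eq_zero, ← Functor.map_sub, ← h0]
    congr 1
    simp only [f, biprod.lift_eq, Preadditive.add_comp, Category.assoc, Preadditive.neg_comp]
    abel
  have hsplit : ∀ {Z : Dual.D P} (x : Z ⟶ DRing.toD M) (t : Z ⟶ DRing.toD T),
      (x ≫ DerivedCategory.Q.map biprod.inl + t ≫ DerivedCategory.Q.map biprod.inr) ≫
        DerivedCategory.Q.map g = (x ≫ c + t) ≫ DerivedCategory.Q.map (biprod.inr ≫ g) := fun x t => by
    rw [Preadditive.add_comp, Preadditive.add_comp, Category.assoc, Category.assoc, Category.assoc,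
      ← Functor.map_comp, ← Functor.map_comp, hfg]
  let p₁ : DRing.toD (M ⊞ T) ⟶ DRing.toD M := DerivedCategory.Q.map biprod.fst
  let p₂ : DRing.toD (M ⊞ T) ⟶ DRing.toD T := DerivedCategory.Q.map biprod.snd
  let f' : DRing.toD X ⟶ DRing.toD (M ⊞ T) := DerivedCategory.Q.map f
  let g' : DRing.toD (M ⊞ T) ⟶ DRing.toD (CochainComplex.mappingCone f) := DerivedCategory.Q.map g
  have hfst : f' ≫ p₁ = a.hom := by
    refine (DerivedCategory.Q.map_comp f biprod.fst).symm.trans ?_
    rw [← hs]; simp [f]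
  have hsnd : f' ≫ p₂ = -(a.hom ≫ c) := by
    refine (DerivedCategory.Q.map_comp f biprod.snd).symm.trans ?_
    rw [← he, ← Functor.map_neg]; simp [f]
  have : IsIso (DerivedCategory.Q.map (biprod.inr ≫ g)) := by
    obtain ⟨r, hr⟩ : ∃ r : DRing.toD (CochainComplex.mappingCone f) ⟶ DRing.toD T,
        g' ≫ r = p₁ ≫ c + p₂ := by
      obtain ⟨r, hr⟩ := Pretriangulated.Triangle.yoneda_exact₂ _ hd (p₁ ≫ c + p₂)
        (show f' ≫ (p₁ ≫ c + p₂) = 0 by
          rw [Preadditive.comp_add, reassoc_of% hfst, hsnd, add_neg_cancel])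
      exact ⟨r, hr.symm⟩
    refine ⟨r, ?_, ?_⟩
    · rw [Functor.map_comp]
      refine (Category.assoc _ _ _).trans ((congrArg (DerivedCategory.Q.map biprod.inr ≫ ·) hr).trans ?_)
      simp only [p₁, p₂, Preadditive.comp_add, ← Functor.map_comp_assoc, ← Functor.map_comp]
      simp
    · have hepi : Epi g' := by
        refine (Pretriangulated.Triangle.epi₂ _ hd ?_)
        have : Mono f' := by
          have : Mono (f' ≫ p₁) := by rw [hfst]; infer_instance
          exact mono_of_mono f' p₁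
        exact (Pretriangulated.Triangle.mor₃_eq_zero_iff_mono₁ _ hd).2 this
      rw [← cancel_epi g', reassoc_of% hr, ← hsplit, Category.comp_id]
      simp only [p₁, p₂, g', ← Functor.map_comp, ← Functor.map_add, biprod.total, Category.id_comp]
  exact ⟨_, biprod.inl ≫ g, biprod.inr ≫ g, rel_cone f (rel_of_kflat (isKFlat_kproj X)) (rel_biprod hM hT),
    (DerivedCategory.isIso_Q_map_iff_quasiIso (C := ModuleCat.{u} P) _).1 this, hfg⟩

end Rel

theorem ν_apply {P B : Type u} [CommRing P] [CommRing B] [Algebra P B] {E : DRing.Cx P}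
    (ι : E ⟶ (DTen.resCx (algebraMap P B)).obj (𝟙_ (DRing.Cx B))) {V : DRing.Cx B} {L : DRing.Cx P}
    (ε : (DTen.resCx (algebraMap P B)).obj V ⟶ L) {n : ℤ}
    (z : ((DTen.resCx (algebraMap P B)).obj V).X n) (p q : ℤ) (h : p + n = q) (e : E.X p) :
    (cv (((ProjUniv.ν ι ε).f n).hom z) p q h).hom e =
      (ε.f q).hom (((ProjForm.actR (algebraMap P B) ι V).f q).hom
        (tm ((DTen.resCx (algebraMap P B)).obj V) E (show n + p = q by omega) z e)) :=
  (uncurry_tm (ProjUniv.ν ι ε) (show n + p = q by omega) z e).symm.trans (by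
    rw [ProjUniv.ν, uncurry_curry]
    rfl)

section Square

variable {P A P₁ A' : Type u} [CommRing P] [CommRing A] [CommRing P₁] [CommRing A'] [Algebra P A]
  [Algebra P P₁] [Algebra A A'] [Algebra P₁ A'] [Algebra P A'] [IsScalarTower P A A']
  [IsScalarTower P P₁ A'] [Algebra.IsPushout P P₁ A A']

variable (P A P₁ A') in
theorem sq_comm (x : P) :
    algebraMap P₁ A' (algebraMap P P₁ x) = algebraMap A A' (algebraMap P A x) := by
  rw [← IsScalarTower.algebraMap_apply, ← IsScalarTower.algebraMap_apply]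

variable (P A P₁ A') in
/-- restriction commutes with base change -/
noncomputable def σ :
    (ModuleCat.restrictScalars.{u} (algebraMap P A) ⋙ ModuleCat.extendScalars.{u, u, u} (algebraMap P P₁)) ≅
      ModuleCat.extendScalars.{u, u, u} (algebraMap A A') ⋙ ModuleCat.restrictScalars.{u} (algebraMap P₁ A') :=
  RelPC.sqIso (algebraMap P A) (algebraMap P P₁) (algebraMap A A') (algebraMap P₁ A') (sq_comm P A P₁ A')
    fun M => RelPC.bijective_sqHom _ _ _ _ (sq_comm P A P₁ A') inferInstance inferInstance inferInstance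
      inferInstance (Algebra.algebra_ext _ _ fun _ => rfl) (Algebra.algebra_ext _ _ fun _ => rfl)
      (Algebra.algebra_ext _ _ fun _ => rfl) (Algebra.algebra_ext _ _ fun _ => rfl) M

/-- `σ` on complexes -/
noncomputable def σC (X : DRing.Cx A) :
    (DTen.extCx (algebraMap P P₁)).obj ((DTen.resCx (algebraMap P A)).obj X) ≅
      (DTen.resCx (algebraMap P₁ A')).obj ((DTen.extCx (algebraMap A A')).obj X) :=
  HomologicalComplex.Hom.isoOfComponents (fun n => (σ P A P₁ A').app (X.X n))
    fun i j _ => ((σ P A P₁ A').hom.naturality (X.d i j)).symm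

theorem σC_natural {X Y : DRing.Cx A} (f : X ⟶ Y) :
    (DTen.extCx (algebraMap P P₁)).map ((DTen.resCx (algebraMap P A)).map f) ≫
        (σC (P₁ := P₁) (A' := A') Y).hom =
      (σC X).hom ≫ (DTen.resCx (algebraMap P₁ A')).map ((DTen.extCx (algebraMap A A')).map f) :=
  HomologicalComplex.hom_ext _ _ fun n => (σ P A P₁ A').hom.naturality (f.f n)

theorem σC_unit (X : DRing.Cx A) (n : ℤ) (w : X.X n) :
    ((σC (P₁ := P₁) (A' := A') X).hom.f n).hom
        ((((DTen.unitCx (algebraMap P P₁)).app ((DTen.resCx (algebraMap P A)).obj X)).f n).hom w) =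
      (show ((DTen.extCx (algebraMap A A')).obj X).X n from
        (((DTen.unitCx (algebraMap A A')).app X).f n).hom w) := by
  refine (RelPC.sqHom_tmul (algebraMap P A) (algebraMap P P₁) (algebraMap A A') (algebraMap P₁ A')
    (sq_comm P A P₁ A') (X.X n) 1 w).trans ?_
  simp only [map_one]
  let := (algebraMap A A').toAlgebra
  simp only [DTen.unitCx, ModuleCat.extendRestrictScalarsAdj]
  rfl

/-- `extα (A[0]) ≅ A'[0]` -/
noncomputable def unitExt : (DTen.extCx (algebraMap A A')).obj (𝟙_ (DRing.Cx A)) ≅ 𝟙_ (DRing.Cx A') :=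
  (HomologicalComplex.singleMapHomologicalComplex (ModuleCat.extendScalars.{u, u, u} (algebraMap A A'))
      (ComplexShape.up ℤ) 0).app (ModuleCat.of A A) ≪≫
    (HomologicalComplex.single (ModuleCat.{u} A') (ComplexShape.up ℤ) 0).mapIso
      ((BaseChange.extEquiv A A' (ModuleCat.of A A)).symm.trans
        (TensorProduct.AlgebraTensorModule.rid A A' A')).toModuleIso

omit [Algebra P A] [Algebra P P₁] [Algebra P₁ A'] [Algebra P A'] [IsScalarTower P A A']
  [IsScalarTower P P₁ A'] [Algebra.IsPushout P P₁ A A'] in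
theorem coord_unitExt (v : (𝟙_ (DRing.Cx A)).X 0) :
    coord₀ (R' := A') (((unitExt (A := A) (A' := A')).hom.f 0).hom
      ((((DTen.unitCx (algebraMap A A')).app (𝟙_ (DRing.Cx A))).f 0).hom v)) =
      algebraMap A A' (coord₀ v) := by
  rw [unitExt]
  simp only [Iso.trans_hom, HomologicalComplex.comp_f, Iso.app_hom, Functor.mapIso_hom]
  erw [HomologicalComplex.singleMapHomologicalComplex_hom_app_self, HomologicalComplex.single_map_f_self]
  erw [Category.assoc, Iso.inv_hom_id_assoc]
  change coord₀ (R' := A') ((HomologicalComplex.singleObjXSelf (V := ModuleCat.{u} A') (ComplexShape.up ℤ) 0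
      (𝟙_ (ModuleCat.{u} A'))).inv.hom (((BaseChange.extEquiv A A' (ModuleCat.of A A)).symm.trans
        (TensorProduct.AlgebraTensorModule.rid A A' A'))
      (((ModuleCat.extendScalars.{u, u, u} (algebraMap A A')).map
        (HomologicalComplex.singleObjXSelf (ComplexShape.up ℤ) 0 (ModuleCat.of A A)).hom).hom _))) = _
  rw [coord₀, ← LinearMap.comp_apply, ← ModuleCat.hom_comp, Iso.inv_hom_id]
  change TensorProduct.AlgebraTensorModule.rid A A' A' ((1 : A') ⊗ₜ[A] coord₀ (R' := A) v) = _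
  rw [TensorProduct.AlgebraTensorModule.rid_tmul, Algebra.smul_def, mul_one]

variable {E : DRing.Cx P} (ι : E ⟶ (DTen.resCx (algebraMap P A)).obj (𝟙_ (DRing.Cx A)))

variable (P₁ A') in
/-- the base changed resolution -/
noncomputable def ι₁ : (DTen.extCx (algebraMap P P₁)).obj E ⟶
    (DTen.resCx (algebraMap P₁ A')).obj (𝟙_ (DRing.Cx A')) :=
  (DTen.extCx (algebraMap P P₁)).map ι ≫ (σC (𝟙_ (DRing.Cx A))).hom ≫
    (DTen.resCx (algebraMap P₁ A')).map (unitExt (A := A)).hom

theorem coord_ι₁ (e : E.X 0) :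
    coord₀ (R' := A') (((ι₁ P₁ A' ι).f 0).hom ((((DTen.unitCx (algebraMap P P₁)).app E).f 0).hom e)) =
      algebraMap A A' (coord₀ (R' := A) ((ι.f 0).hom e)) := by
  have h := congrArg (fun g => (g.f 0).hom e) ((DTen.unitCx (algebraMap P P₁)).naturality ι)
  rw [← coord_unitExt, ι₁]
  change coord₀ (R' := A') (((unitExt (A := A) (A' := A')).hom.f 0).hom
    (((σC (P₁ := P₁) (A' := A') (𝟙_ (DRing.Cx A))).hom.f 0).hom _)) = _
  erw [← h]
  exact congrArg (fun z => coord₀ (R' := A') (((unitExt (A := A) (A' := A')).hom.f 0).hom z))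
    (σC_unit (P := P) (P₁ := P₁) (A' := A') (𝟙_ (DRing.Cx A)) 0 _)

variable {W : DRing.Cx A} {Y : DRing.Cx P} (ε : (DTen.resCx (algebraMap P A)).obj W ⟶ Y)

variable (P₁ A') in
/-- the base changed counit -/
noncomputable def ε₁ : (DTen.resCx (algebraMap P₁ A')).obj ((DTen.extCx (algebraMap A A')).obj W) ⟶
    (DTen.extCx (algebraMap P P₁)).obj Y :=
  (σC W).inv ≫ (DTen.extCx (algebraMap P P₁)).map ε

theorem ν_bc : (σC (P := P) (P₁ := P₁) (A' := A') W).hom ≫ ProjUniv.ν (ι₁ P₁ A' ι) (ε₁ P₁ A' ε) =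
    (DTen.extCx (algebraMap P P₁)).map (ProjUniv.ν ι ε) ≫ kappa (algebraMap P P₁) E Y := by
  refine HomologicalComplex.hom_ext _ _ fun n => ext_hom_eq _ fun w => cv_ext fun p q hpq =>
    ext_hom_eq _ fun e => ?_
  have hn := congrArg (fun g => (g.f n).hom w) ((DTen.unitCx (algebraMap P P₁)).naturality (ProjUniv.ν ι ε))
  change (cv (((ProjUniv.ν (ι₁ P₁ A' ι) (ε₁ P₁ A' ε)).f n).hom (((σC (P := P) (P₁ := P₁) (A' := A') W).hom.f n).hom
      ((((DTen.unitCx (algebraMap P P₁)).app _).f n).hom w))) p q hpq).hom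
        ((((DTen.unitCx (algebraMap P P₁)).app E).f p).hom e) =
    (cv (((kappa (algebraMap P P₁) E Y).f n).hom
      ((((DTen.extCx (algebraMap P P₁)).map (ProjUniv.ν ι ε)).f n).hom
      ((((DTen.unitCx (algebraMap P P₁)).app _).f n).hom w))) p q hpq).hom
        ((((DTen.unitCx (algebraMap P P₁)).app E).f p).hom e)
  erw [← hn]
  refine Eq.trans ?_ (cv_kappa (algebraMap P P₁) (((ProjUniv.ν ι ε).f n).hom w) p q hpq e).symm
  rw [ν_apply, ν_apply]
  by_cases hp : p = 0
  · subst hp
    obtain rfl : q = n := by omega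
    erw [ProjForm.actR_tm, ProjForm.actR_tm]
    erw [coord_ι₁]
    let c := coord₀ (R' := A) ((ι.f 0).hom e)
    have h1 : (algebraMap A A' c) • (show ((DTen.extCx (algebraMap A A')).obj W).X q from
        ((σC (P := P) (P₁ := P₁) (A' := A') W).hom.f q).hom ((((DTen.unitCx (algebraMap P P₁)).app
          ((DTen.resCx (algebraMap P A)).obj W)).f q).hom w)) =
        (show ((DTen.extCx (algebraMap A A')).obj W).X q from ((σC (P := P) (P₁ := P₁) (A' := A') W).hom.f q).hom
          ((((DTen.unitCx (algebraMap P P₁)).app ((DTen.resCx (algebraMap P A)).obj W)).f q).hom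
            (c • (show W.X q from w) : W.X q))) := by
      erw [σC_unit, σC_unit]
      exact ((((DTen.unitCx (algebraMap A A')).app W).f q).hom.map_smul c (show W.X q from w)).symm
    erw [h1]
    have h2 := congrArg (fun g => (g.f q).hom (c • (show W.X q from w) : W.X q))
      ((DTen.unitCx (algebraMap P P₁)).naturality ε)
    refine Eq.trans ?_ h2.symm
    change (((DTen.extCx (algebraMap P P₁)).map ε).f q).hom (((σC (P := P) (P₁ := P₁) (A' := A') W).inv.f q).hom (((σC (P := P) (P₁ := P₁) (A' := A') W).hom.f q).hom _)) = _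
    rw [← LinearMap.comp_apply (g := ((σC (P := P) (P₁ := P₁) (A' := A') W).hom.f q).hom), ← ModuleCat.hom_comp,
      ← HomologicalComplex.comp_f, Iso.hom_inv_id]
    rfl
  · erw [ProjForm.actR_tm_ne _ _ _ hp, ProjForm.actR_tm_ne _ _ _ hp]
    exact (map_zero _).trans ((congrArg _ (map_zero _)).trans (map_zero _)).symm

end Square

section Main

variable {R R' P A P₁ A' : Type u} [CommRing R] [CommRing R'] [CommRing P] [CommRing A] [CommRing P₁]
  [CommRing A'] [Algebra R R'] [Algebra R P] [Algebra R A] [Algebra R P₁] [Algebra R' P₁] [Algebra P P₁]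
  [Algebra P A] [Algebra A A'] [Algebra P₁ A'] [Algebra P A'] [IsScalarTower R P A]
  [IsScalarTower R P P₁] [IsScalarTower R R' P₁] [IsScalarTower P A A'] [IsScalarTower P P₁ A']
  [Algebra.IsPushout R R' P P₁] [Algebra.IsPushout P P₁ A A'] [Module.Flat R P] [Module.Flat R A]

omit [Algebra R R'] [Algebra R P₁] [Algebra R' P₁] [Algebra P P₁] [Algebra A A'] [Algebra P₁ A']
  [Algebra P A'] [IsScalarTower R P P₁] [IsScalarTower R R' P₁] [IsScalarTower P A A']
  [IsScalarTower P P₁ A'] [Algebra.IsPushout R R' P P₁] [Algebra.IsPushout P P₁ A A'] [Module.Flat R P] in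
theorem rel_res {X : DRing.Cx A} (h : DRing.IsKFlat A X) : Rel R ((DTen.resCx (algebraMap P A)).obj X) :=
  KFlat.IsKFlat.of_iso ((NatIso.mapHomologicalComplex
    (eqToIso (by rw [← IsScalarTower.algebraMap_eq R P A]) ≪≫
      ModuleCat.restrictScalarsComp.{u} (algebraMap R P) (algebraMap P A)) (ComplexShape.up ℤ)).app X)
    (rel_of_kflat (R := R) h)

omit [Algebra R A] [Algebra P A] [Algebra A A'] [Algebra P₁ A'] [Algebra P A'] [IsScalarTower R P A]
  [IsScalarTower P A A'] [IsScalarTower P P₁ A'] [Algebra.IsPushout P P₁ A A'] [Module.Flat R P]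
  [Module.Flat R A] in
theorem quasiIso_ext (R' : Type u) [CommRing R'] [Algebra R R'] [Algebra R' P₁] [IsScalarTower R R' P₁]
    [Algebra.IsPushout R R' P P₁] {X Y : DRing.Cx P} (f : X ⟶ Y) [QuasiIso f] (hX : Rel R X)
    (hY : Rel R Y) : QuasiIso ((DTen.extCx (algebraMap P P₁)).map f) := by
  have h1 : QuasiIso ((DTen.extCx (algebraMap R R')).map ((DTen.resCx (algebraMap R P)).map f)) :=
    SingleTensor.quasiIso_extendScalars (algebraMap R R') _ hX hY
  have h2 : QuasiIso ((σC (P := R) (A := P) (P₁ := R') (A' := P₁) X).hom ≫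
      (DTen.resCx (algebraMap R' P₁)).map ((DTen.extCx (algebraMap P P₁)).map f)) := by
    rw [← σC_natural]
    infer_instance
  have := quasiIso_of_comp_left (σC (P := R) (A := P) (P₁ := R') (A' := P₁) X).hom
    ((DTen.resCx (algebraMap R' P₁)).map ((DTen.extCx (algebraMap P P₁)).map f))
  have : (ModuleCat.restrictScalars.{u} (algebraMap R' P₁)).PreservesHomology :=
    Functor.preservesHomologyOfExact _
  exact ⟨fun i => (HomologicalComplex.quasiIsoAt_map_iff_of_preservesHomology _ (ModuleCat.restrictScalars.{u} (algebraMap R' P₁)) i).1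
    inferInstance⟩

variable (R R') in
include R R' in
/-- base change of the right adjoint of restriction at the unit -/
theorem nonempty_ext_iso (h : DRing.IsPerfectModule P A) {F : Dual.D P ⥤ Dual.D A}
    (adj : DRing.restrictD (algebraMap P A) ⊣ F) {F₁ : Dual.D P₁ ⥤ Dual.D A'}
    (adj₁ : DRing.restrictD (algebraMap P₁ A') ⊣ F₁) {W₀ : DRing.Cx A} [W₀.IsKProjective]
    (eW : DRing.toD W₀ ≅ F.obj (Dual.inD P P)) :
    Nonempty (DRing.toD ((DTen.extCx (algebraMap A A')).obj W₀) ≅ F₁.obj (Dual.inD P₁ P₁)) := by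
  obtain ⟨E, ι, hE, hι, ⟨D⟩⟩ := ShriekProj.exists_dualRes h
  let eU (Q : Type u) [CommRing Q] : DRing.toD (𝟙_ (DRing.Cx Q)) ≅ Dual.inD Q Q :=
    ((DerivedCategory.singleFunctorIsoCompQ (ModuleCat.{u} Q) 0).app (𝟙_ (ModuleCat.{u} Q))).symm
  let eW' : DRing.toD W₀ ≅ F.obj (DRing.toD (𝟙_ (DRing.Cx P))) := eW ≪≫ F.mapIso (eU P).symm
  have hW : Rel R ((DTen.resCx (algebraMap P A)).obj W₀) := rel_res (isKFlat_kproj W₀)
  have hT : Rel R (𝟙_ (DRing.Cx P)) := rel_of_kflat (isKFlat_kproj (ProjUniv.Z _ 0))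
  obtain ⟨Y, ε, j, hY, hj, hε⟩ := exists_roof hW hT
    ((DTen.resFactors (algebraMap P A)).inv.app W₀ ≫ (DRing.restrictD (algebraMap P A)).map eW'.hom ≫
      adj.counit.app (DRing.toD (𝟙_ (DRing.Cx P))))
  let eY : DRing.toD (𝟙_ (DRing.Cx P)) ≅ DRing.toD Y := asIso (DerivedCategory.Q.map j)
  have hν : QuasiIso (ProjUniv.ν ι ε) := ProjUniv.quasiIso_of_bijective ι ε fun i => by
    refine (congrArg Function.Bijective (funext fun g => ?_)).mp
      ((adj.homEquiv _ (DRing.toD Y)).symm.bijective.comp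
        (eW' ≪≫ F.mapIso eY).homToEquiv.bijective)
    simp only [Function.comp_apply, Iso.homToEquiv_apply, Adjunction.homEquiv_counit, ProjUniv.c, hε]
    rw [Category.assoc, Iso.hom_inv_id_app_assoc, Iso.trans_hom, Functor.mapIso_hom, Functor.map_comp,
      Functor.map_comp, Category.assoc, Category.assoc]
    congr 1
    rw [Category.assoc]
    congr 1
    exact adj.counit.naturality eY.hom
  have := quasiIso_ext (P₁ := P₁) R' ι (rel_of_kflat (R := R) (isKFlat_kproj E))
    (rel_res (isKFlat_kproj (ProjUniv.Z _ 0)))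
  have : QuasiIso (ι₁ P₁ A' ι) := by unfold ι₁; infer_instance
  have := isKProjective_extCx (algebraMap P P₁) E
  have := quasiIso_ext (P₁ := P₁) R' (ProjUniv.ν ι ε) hW (rel_homCx D hY)
  have := isIso_kappa (algebraMap P P₁) D Y
  have hν₁ : QuasiIso (ProjUniv.ν (ι₁ P₁ A' ι) (ε₁ P₁ A' ε)) := by
    have : QuasiIso ((σC (P := P) (P₁ := P₁) (A' := A') W₀).hom ≫
        ProjUniv.ν (ι₁ P₁ A' ι) (ε₁ P₁ A' ε)) := by
      rw [ν_bc]; infer_instance
    exact quasiIso_of_comp_left (σC (P := P) (P₁ := P₁) (A' := A') W₀).hom _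
  obtain ⟨e⟩ := ProjUniv.nonempty_iso_of_quasiIso (ι₁ P₁ A' ι) (ε₁ P₁ A' ε) hν₁ adj₁
  have := quasiIso_ext (P₁ := P₁) R' j hT hY
  exact ⟨e.symm ≪≫ F₁.mapIso ((asIso (DerivedCategory.Q.map ((DTen.extCx (algebraMap P P₁)).map j))).symm ≪≫
    DerivedCategory.Q.mapIso (unitExt (A := P) (A' := P₁)) ≪≫ eU P₁)⟩

end Main

end Groth.Agent.DualCx.ShriekBC
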