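import Groth.Agent.DualCx.ShriekBC
import Groth.Agent.DualCx.ShriekFlatBC
import Mathlib.Algebra.Category.ModuleCat.Monoidal.Adjunction

/-!
# Base change of the upper shriek of a flat finite type algebra
-/

universe u

open CategoryTheory CategoryTheory.Limits MonoidalCategory DerivedCategory
open scoped TensorProduct

attribute [local instance] HasDerivedCategory.standard MvPolynomial.algebraMvPolynomial

namespace Groth.Agent.DualCx.ShriekBCMain

open Groth.Agent.DRing Groth.Agent.DTenLib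

/-- base change of complexes is monoidal -/
noncomputable def extTensorIso {A B : Type u} [CommRing A] [CommRing B] (φ : A →+* B) (L K : DRing.Cx A) :
    (DTen.extCx φ).obj (L ⊗ K) ≅ (DTen.extCx φ).obj L ⊗ (DTen.extCx φ).obj K :=
  KFlat.totMapIso (curriedTensor (ModuleCat.{u} A)) (curriedTensor (ModuleCat.{u} B))
    (ModuleCat.extendScalars.{u, u, u} φ) (ModuleCat.extendScalars.{u, u, u} φ)
    (ModuleCat.extendScalars.{u, u, u} φ)
    (fun a b => (Functor.Monoidal.μIso (ModuleCat.extendScalars.{u, u, u} φ) a b).symm)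
    (fun f b => (Functor.OplaxMonoidal.δ_natural_left (ModuleCat.extendScalars.{u, u, u} φ) f b).symm)
    (fun a _ _ g => (Functor.OplaxMonoidal.δ_natural_right (ModuleCat.extendScalars.{u, u, u} φ) a g).symm)
    L K

/-- composition of base change of complexes -/
noncomputable def extCompIso {A B C : Type u} [CommRing A] [CommRing B] [CommRing C] [Algebra A B]
    [Algebra B C] [Algebra A C] [IsScalarTower A B C] (X : DRing.Cx A) :
    (DTen.extCx (algebraMap B C)).obj ((DTen.extCx (algebraMap A B)).obj X) ≅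
      (DTen.extCx (algebraMap A C)).obj X :=
  (NatIso.mapHomologicalComplex
    ((ModuleCat.extendScalarsComp.{u} (algebraMap A B) (algebraMap B C)).symm ≪≫
      eqToIso (by rw [← IsScalarTower.algebraMap_eq])) (ComplexShape.up ℤ)).app X

variable {R R' A : Type u} [CommRing R] [CommRing R'] [CommRing A] [IsNoetherianRing R]
  [IsNoetherianRing R'] [Algebra R R'] [Algebra R A] [Module.Flat R A]

/-- base change of the upper shriek -/
theorem nonempty_iso (n : ℕ) (ψ : MvPolynomial (Fin n) R →ₐ[R] A)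
    (hψ : Function.Surjective ψ) [DRing.HasLBaseChange (algebraMap R (MvPolynomial (Fin n) R))]
    (Rψ : Dual.D (MvPolynomial (Fin n) R) ⥤ Dual.D A) (adj : DRing.restrictD ψ.toRingHom ⊣ Rψ)
    (m : ℕ) (ψ' : MvPolynomial (Fin m) R' →ₐ[R'] (R' ⊗[R] A)) (hψ' : Function.Surjective ψ')
    [DRing.HasLBaseChange (algebraMap R' (MvPolynomial (Fin m) R'))]
    (Rψ' : Dual.D (MvPolynomial (Fin m) R') ⥤ Dual.D (R' ⊗[R] A))
    (adj' : DRing.restrictD ψ'.toRingHom ⊣ Rψ')
    [hb : DRing.HasLBaseChange (Algebra.TensorProduct.includeRight : A →ₐ[R] R' ⊗[R] A).toRingHom]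
    [DRing.HasLBaseChange (algebraMap R R')] (K : Dual.D R) :
    Nonempty ((DRing.LBaseChange (Algebra.TensorProduct.includeRight : A →ₐ[R] R' ⊗[R] A).toRingHom).obj
      (Dual2.shriekVia n Rψ K) ≅ Dual2.shriekVia m Rψ' ((DRing.LBaseChange (algebraMap R R')).obj K)) := by
  let P := MvPolynomial (Fin n) R
  let P₁ := MvPolynomial (Fin n) R'
  let A' := R' ⊗[R] A
  let : Algebra A A' := Algebra.TensorProduct.rightAlgebra
  let : Algebra P A := ψ.toRingHom.toAlgebra
  let : Algebra P₁ A' := (ShriekFlatBC.presentation (R' := R') ψ).toRingHom.toAlgebra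
  let : Algebra P A' := ((algebraMap A A').comp (algebraMap P A)).toAlgebra
  have : IsScalarTower R P A := IsScalarTower.of_algebraMap_eq fun x => (ψ.commutes x).symm
  have : IsScalarTower R' P₁ A' :=
    IsScalarTower.of_algebraMap_eq fun x => ((ShriekFlatBC.presentation (R' := R') ψ).commutes x).symm
  have : IsScalarTower P A A' := IsScalarTower.of_algebraMap_eq fun _ => rfl
  have : IsScalarTower P P₁ A' := IsScalarTower.of_algebraMap_eq fun p =>
    (ShriekFlatBC.presentation_map ψ p).symm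
  have : IsScalarTower R A A' := IsScalarTower.of_algebraMap_eq fun r =>
    ((Algebra.TensorProduct.includeRight : A →ₐ[R] A').commutes r).symm
  have : IsScalarTower R P₁ A' := IsScalarTower.of_algebraMap_eq fun r => by
    rw [IsScalarTower.algebraMap_apply R R' A', IsScalarTower.algebraMap_apply R' P₁ A',
      ← IsScalarTower.algebraMap_apply R R' P₁]
  have : Algebra.IsPushout R R' A A' := TensorProduct.isPushout
  have : Algebra.IsPushout R A R' A' := Algebra.IsPushout.symm inferInstance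
  have : Algebra.IsPushout R P R' P₁ := inferInstance
  have hRR : Algebra.IsPushout R R' P P₁ := Algebra.IsPushout.symm inferInstance
  have : Algebra.IsPushout P A P₁ A' :=
    (Algebra.IsPushout.comp_iff (R := R) (S := P) (R' := R') (S' := P₁) (T := A) (T' := A')).1 inferInstance
  have : Algebra.IsPushout P P₁ A A' := Algebra.IsPushout.symm inferInstance
  have : Module.Flat R' A' := Module.Flat.baseChange R R' A
  have hp := ShriekProj.isPerfectModule_presentation (A := A) n hψ
  have hp₁ := ShriekProj.isPerfectModule_presentation (A := A') n (ShriekFlatBC.presentation_surjective ψ hψ)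
  obtain ⟨F₁, ⟨adj₁⟩⟩ := RAdj.exists_adj (ShriekFlatBC.presentation (R' := R') ψ).toRingHom
  have := LTensor.hasLBaseChange (algebraMap R' P₁)
  obtain ⟨i⟩ := Indep.nonempty_shriekVia_iso m ψ' hψ' Rψ' adj' n (ShriekFlatBC.presentation ψ)
    (ShriekFlatBC.presentation_surjective ψ hψ) adj₁ ((DRing.LBaseChange (algebraMap R R')).obj K)
  obtain ⟨f₁⟩ := FlatBC.nonempty_LBaseChange (A := R') (B := P₁) ((DRing.LBaseChange (algebraMap R R')).obj K)
  obtain ⟨Kc, hKc, -, ⟨eK⟩⟩ := DBasic.exists_kproj_iso K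
  have hKc' := isKProjective_extCx (algebraMap R R') Kc
  let Q : DRing.Cx P := (DTen.extCx (algebraMap R P)).obj Kc
  have hQ : Q.IsKProjective := isKProjective_extCx _ Kc
  let T : DRing.Cx A := (DTen.extCx (algebraMap P A)).obj Q
  have hT : T.IsKProjective := isKProjective_extCx _ Q
  let Q₁ : DRing.Cx P₁ := (DTen.extCx (algebraMap R' P₁)).obj ((DTen.extCx (algebraMap R R')).obj Kc)
  have hQ₁ : DRing.IsKFlat P₁ Q₁ :=
    KFlat.BaseChange.isKFlat_extCx _ (KFlat.BaseChange.isKFlat_extCx _ (isKFlat_kproj Kc))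
  obtain ⟨W₀, hW₀, -, ⟨eW⟩⟩ := DBasic.exists_kproj_iso (Rψ.obj (Dual.inD P P))
  obtain ⟨e₁⟩ := ShriekBC.nonempty_ext_iso R R' (P₁ := P₁) (A' := A') hp adj adj₁ eW
  obtain ⟨r⟩ := ShriekProj.nonempty_radj_iso hp adj eW (isKFlat_kproj Q)
  obtain ⟨r₁⟩ := ShriekProj.nonempty_radj_iso hp₁ adj₁ e₁ hQ₁
  have hWT : CochainComplex.IsKProjective (W₀ ⊗ T : DRing.Cx A) := isKProjective_tensor
  let eX : DRing.toD ((W₀ ⊗ T)⟦(n : ℤ)⟧) ≅ Dual2.shriekVia n Rψ K :=
    (DerivedCategory.Q.commShiftIso (n : ℤ)).app _ ≪≫ (shiftFunctor (Dual.D A) (n : ℤ)).mapIso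
      (r.symm ≪≫ Rψ.mapIso ((LTensor.LBaseChangeIso (algebraMap R P) (isKFlat_kproj Kc)).symm ≪≫
        (DRing.LBaseChange (algebraMap R P)).mapIso eK))
  let eT : (DTen.extCx (algebraMap A A')).obj T ≅ (DTen.extCx (algebraMap P₁ A')).obj Q₁ :=
    (DTen.extCx (algebraMap A A')).mapIso (extCompIso (A := R) (B := P) (C := A) Kc) ≪≫
      extCompIso (A := R) (B := A) (C := A') Kc ≪≫
      (extCompIso (A := R) (B := R') (C := A') Kc).symm ≪≫
      (extCompIso (A := R') (B := P₁) (C := A') _).symm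
  haveI : DRing.HasLBaseChange (algebraMap A A') := hb
  exact ⟨(DRing.LBaseChange (algebraMap A A')).mapIso eX.symm ≪≫
    LTensor.LBaseChangeIso (algebraMap A A') (isKFlat_kproj ((W₀ ⊗ T)⟦(n : ℤ)⟧)) ≪≫
    DerivedCategory.Q.mapIso ((((ModuleCat.extendScalars.{u, u, u} (algebraMap A A')).mapHomologicalComplex
      (ComplexShape.up ℤ)).commShiftIso (n : ℤ)).app (W₀ ⊗ T)) ≪≫
    (DerivedCategory.Q.commShiftIso (n : ℤ)).app _ ≪≫
    (shiftFunctor _ _).mapIso (DerivedCategory.Q.mapIso
      (extTensorIso (algebraMap A A') W₀ T ≪≫ MonoidalCategory.whiskerLeftIso _ eT) ≪≫ r₁.symm ≪≫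
      F₁.mapIso ((LTensor.LBaseChangeIso (algebraMap R' P₁) (isKFlat_kproj _)).symm ≪≫
        (DRing.LBaseChange (algebraMap R' P₁)).mapIso ((LTensor.LBaseChangeIso (algebraMap R R')
          (isKFlat_kproj Kc)).symm ≪≫ (DRing.LBaseChange (algebraMap R R')).mapIso eK) ≪≫ f₁)) ≪≫
    i.symm⟩

end Groth.Agent.DualCx.ShriekBCMain
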