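import Groth.Agent.DualCx.SurjBC
import Groth.Agent.DualCx.Indep
import Mathlib.RingTheory.TensorProduct.MvPolynomial
import Mathlib.RingTheory.Polynomial.Basic

/-!
# Upper shriek of a composite
-/

universe u

open CategoryTheory CategoryTheory.Limits

attribute [local instance] HasDerivedCategory.standard MvPolynomial.algebraMvPolynomial

namespace Groth.Agent.DualCx.ShriekComp

open BaseChange (FD)

/-- transport of a presentation along an isomorphism of polynomial rings -/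
theorem nonempty_transport {R A P Q : Type u} [CommRing R] [CommRing A] [CommRing P] [CommRing Q]
    [Algebra R A] [Algebra R P] [Algebra R Q] [Module.Flat R P] [Module.Flat R Q] (u : Q ≃ₐ[R] P)
    (θ : P →ₐ[R] A) (hθ : Function.Surjective θ)
    {RP : Dual.D P ⥤ Dual.D A} (adj : DRing.restrictD θ.toRingHom ⊣ RP)
    {RQ : Dual.D Q ⥤ Dual.D A} (adjQ : DRing.restrictD (θ.comp u.toAlgHom).toRingHom ⊣ RQ)
    (K : Dual.D R) :
    Nonempty (RQ.obj ((FD R Q).obj K) ≅ RP.obj ((FD R P).obj K)) := by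
  let := u.toAlgHom.toRingHom.toAlgebra
  have : IsScalarTower R Q P := IsScalarTower.of_algebraMap_eq fun r => (u.toAlgHom.commutes r).symm
  let u' : Q ≃ₐ[Q] P := AlgEquiv.ofRingEquiv (f := u.toRingEquiv) fun _ => rfl
  obtain ⟨i⟩ := Indep.nonempty_step 0 (u'.symm.trans (MvPolynomial.isEmptyAlgEquiv Q (Fin 0)).symm)
    (θ.comp u.toAlgHom) (hθ.comp u.surjective) θ (fun _ => rfl) adjQ adj K
  exact ⟨i.symm ≪≫ (shiftFunctorZero' (Dual.D A) ((0 : ℕ) : ℤ) rfl).app _⟩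

variable {A B C : Type u} [CommRing A] [CommRing B] [CommRing C] [IsNoetherianRing A]
  [Algebra A B] [Algebra B C] [Algebra A C] [IsScalarTower A B C]

/-- composites -/
theorem nonempty_iso (n : ℕ) (ψ : MvPolynomial (Fin n) A →ₐ[A] B) (hψ : Function.Surjective ψ)
    [DRing.HasLBaseChange (algebraMap A (MvPolynomial (Fin n) A))]
    (Rψ : Dual.D (MvPolynomial (Fin n) A) ⥤ Dual.D B) (adj : DRing.restrictD ψ.toRingHom ⊣ Rψ)
    (m : ℕ) (χ : MvPolynomial (Fin m) B →ₐ[B] C) (hχ : Function.Surjective χ)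
    [DRing.HasLBaseChange (algebraMap B (MvPolynomial (Fin m) B))]
    (Rχ : Dual.D (MvPolynomial (Fin m) B) ⥤ Dual.D C) (adjχ : DRing.restrictD χ.toRingHom ⊣ Rχ)
    (k : ℕ) (θ : MvPolynomial (Fin k) A →ₐ[A] C) (hθ : Function.Surjective θ)
    [DRing.HasLBaseChange (algebraMap A (MvPolynomial (Fin k) A))]
    (Rθ : Dual.D (MvPolynomial (Fin k) A) ⥤ Dual.D C) (adjθ : DRing.restrictD θ.toRingHom ⊣ Rθ)
    (K : Dual.D A) (c : ℤ) [K.IsGE c] :
    Nonempty (Dual2.shriekVia k Rθ K ≅ Dual2.shriekVia m Rχ (Dual2.shriekVia n Rψ K)) := by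
  let P := MvPolynomial (Fin n) A
  let : Algebra P B := ψ.toRingHom.toAlgebra
  have : IsScalarTower A P B := IsScalarTower.of_algebraMap_eq fun a => (ψ.commutes a).symm
  let P₁ := MvPolynomial (Fin m) P
  let B₁ := MvPolynomial (Fin m) B
  have : IsScalarTower P B B₁ := inferInstance
  have hyp : SurjBC.Hyp P B P₁ B₁ := by
    refine ⟨hψ, ?_, ?_⟩
    · exact MvPolynomial.map_surjective _ hψ
    · exact MvPolynomial.ker_map _
  let θ₀ : P₁ →ₐ[A] C :=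
    { χ.toRingHom.comp (algebraMap P₁ B₁) with
      commutes' := fun a => by
        change χ (MvPolynomial.map (algebraMap P B) (MvPolynomial.C (MvPolynomial.C a))) = _
        rw [MvPolynomial.map_C]
        change χ (algebraMap B _ (ψ (algebraMap A P a))) = _
        rw [χ.commutes, ψ.commutes, ← IsScalarTower.algebraMap_apply] }
  have hθ₀ : Function.Surjective θ₀ := hχ.comp hyp.surj₁
  let u : MvPolynomial (Fin (m + n)) A ≃ₐ[A] P₁ :=
    (MvPolynomial.renameEquiv A finSumFinEquiv.symm).trans (MvPolynomial.sumAlgEquiv A (Fin m) (Fin n))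
  obtain ⟨R₁, ⟨adj₁⟩⟩ := RAdj.exists_adj (algebraMap P₁ B₁)
  obtain ⟨R₀, ⟨adj₀⟩⟩ := RAdj.exists_adj θ₀.toRingHom
  obtain ⟨Ru, ⟨adju⟩⟩ := RAdj.exists_adj (θ₀.comp u.toAlgHom).toRingHom
  obtain ⟨a₀⟩ := Indep.nonempty_shriekVia_iso k θ hθ Rθ adjθ (m + n) (θ₀.comp u.toAlgHom)
    (hθ₀.comp u.surjective) adju K
  obtain ⟨tr⟩ := nonempty_transport u θ₀ hθ₀ adj₀ adju K
  obtain ⟨b₁⟩ := FlatBC.nonempty_LBaseChange (A := A) (B := P) K
  obtain ⟨b₂⟩ := FlatBC.nonempty_LBaseChange (A := B) (B := B₁) (Dual2.shriekVia n Rψ K)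
  have := FlatBC.isGE_FD (B := P) K c
  obtain ⟨x⟩ := SurjBC.nonempty_iso hyp adj adj₁ ((FD A P).obj K) c
  obtain ⟨σ⟩ := RAdj.nonempty_shiftIso adjχ ((FD B B₁).obj (Rψ.obj ((FD A P).obj K))) (n : ℤ)
  obtain ⟨f⟩ := Comp.nonempty_iso A P P₁ K
  obtain ⟨cc⟩ := RAdj.nonempty_comp (algebraMap P₁ B₁) χ.toRingHom θ₀.toRingHom rfl adj₁ adjχ adj₀
    ((FD A P₁).obj K)
  exact ⟨a₀ ≪≫ (shiftFunctor _ _).mapIso (tr ≪≫ cc ≪≫ Rχ.mapIso (R₁.mapIso f ≪≫ x.symm)) ≪≫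
    (shiftFunctorAdd' (Dual.D C) (n : ℤ) (m : ℤ) _ (by push_cast; omega)).app _ ≪≫
    (shiftFunctor _ (m : ℤ)).mapIso (σ.symm ≪≫ Rχ.mapIso
      ((((FD B B₁).commShiftIso (n : ℤ)).app _).symm ≪≫
        (FD B B₁).mapIso ((shiftFunctor _ _).mapIso (Rψ.mapIso b₁.symm)) ≪≫ b₂.symm))⟩

end Groth.Agent.DualCx.ShriekComp
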