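import Groth.Agent.DualCx.Shriek
import Groth.Agent.DualCx.Smooth
import Groth.Agent.DualCx.Normalized
import Groth.Prelude.Def_DualSh

/-!
# `φ^!` through a presentation
-/

universe u

open CategoryTheory CategoryTheory.Limits

attribute [local instance] HasDerivedCategory.standard

namespace Groth.Agent.DualCx.ShriekVia

variable {R A : Type u} [CommRing R] [CommRing A] [IsNoetherianRing R] [IsNoetherianRing A] [Algebra R A]
  (n : ℕ) (ψ : MvPolynomial (Fin n) R →ₐ[R] A) (hψ : Function.Surjective ψ)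
  [DRing.HasLBaseChange (algebraMap R (MvPolynomial (Fin n) R))]
  (Rψ : Dual.D (MvPolynomial (Fin n) R) ⥤ Dual.D A) (adj : DRing.restrictD ψ.toRingHom ⊣ Rψ)

include hψ adj

omit [IsNoetherianRing R] in
theorem isDualizing {ω : Dual.D R} (hω : Dual.IsDualizing R ω) :
    Dual.IsDualizing A (Dual2.shriekVia n Rψ ω) := by
  have := hω.isNoetherianRing
  obtain ⟨e⟩ := FlatBC.nonempty_LBaseChange (A := R) (B := MvPolynomial (Fin n) R) ω
  have hP := FlatBC.isDualizing_of_iso e.symm (Smooth.isDualizing_mvPolynomial hω n)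
  letI : Algebra (MvPolynomial (Fin n) R) A := ψ.toRingHom.toAlgebra
  have : Module.Finite (MvPolynomial (Fin n) R) A :=
    Module.Finite.of_surjective (Algebra.linearMap (MvPolynomial (Fin n) R) A) hψ
  exact Normalized.isDualizing_shift (Shriek.isDualizing (Shriek.ofAdj Rψ adj _) hP) _

omit [IsNoetherianRing A] in
theorem bounded_below (K : Dual.D R) (a : ℤ) [K.IsGE a] :
    (Dual2.shriekVia n Rψ K).IsGE (a - n) := by
  letI : Algebra (MvPolynomial (Fin n) R) A := ψ.toRingHom.toAlgebra
  obtain ⟨e⟩ := FlatBC.nonempty_LBaseChange (A := R) (B := MvPolynomial (Fin n) R) K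
  have := FlatBC.isGE_FD (B := MvPolynomial (Fin n) R) K a
  have : ((DRing.LBaseChange (algebraMap R (MvPolynomial (Fin n) R))).obj K).IsGE a :=
    DerivedCategory.TStructure.t.isGE_of_iso e.symm a
  have := Shriek.isGE (Shriek.ofAdj Rψ adj ((DRing.LBaseChange (algebraMap R (MvPolynomial (Fin n) R))).obj K)) a
  exact DerivedCategory.TStructure.t.isGE_shift _ a n (a - n) (by omega)

omit [IsNoetherianRing A] in
theorem finite_HD (K : Dual.D R) (a : ℤ) [K.IsGE a] (hf : ∀ i, Module.Finite R (Dual.HD R K i)) (i : ℤ) :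
    Module.Finite A (Dual.HD A (Dual2.shriekVia n Rψ K) i) := by
  letI : Algebra (MvPolynomial (Fin n) R) A := ψ.toRingHom.toAlgebra
  have : Module.Finite (MvPolynomial (Fin n) R) A :=
    Module.Finite.of_surjective (Algebra.linearMap (MvPolynomial (Fin n) R) A) hψ
  obtain ⟨e⟩ := FlatBC.nonempty_LBaseChange (A := R) (B := MvPolynomial (Fin n) R) K
  have := FlatBC.isGE_FD (B := MvPolynomial (Fin n) R) K a
  have : ((DRing.LBaseChange (algebraMap R (MvPolynomial (Fin n) R))).obj K).IsGE a :=
    DerivedCategory.TStructure.t.isGE_of_iso e.symm a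
  have hf' : ∀ j, Module.Finite (MvPolynomial (Fin n) R)
      (Dual.HD _ ((DRing.LBaseChange (algebraMap R (MvPolynomial (Fin n) R))).obj K) j) := fun j => by
    have := hf j
    have := BaseChange.finite_HD R (MvPolynomial (Fin n) R) K j
    exact Module.Finite.equiv ((DRing.DBasic.HF j).mapIso e.symm).toLinearEquiv
  have := Shriek.finite_HD (Shriek.ofAdj Rψ adj _) a hf' (n + i)
  exact Module.Finite.equiv (DRing.DBasic.HFShiftIso _ (n : ℤ) i (n + i) rfl).symm.toLinearEquiv

end Groth.Agent.DualCx.ShriekVia
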