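import Groth.Agent.DualCx.ShriekBCMain
import Groth.Agent.DualCx.Gorenstein
import Groth.Agent.DualCx.Dc
import Groth.Agent.DualCx.RegEl
import Groth.Agent.DualCx.ShriekVia
import Groth.Agent.DRing.DualPerfect
import Groth.Agent.DRing.PCRestrict
import Groth.Agent.DRing.RelPC

/-!
# `φ^!(R)` for flat `φ`: duality with a perfect resolution
-/

universe u

open CategoryTheory CategoryTheory.Limits DerivedCategory
open scoped TensorProduct

attribute [local instance] HasDerivedCategory.standard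

namespace Groth.Agent.DualCx.ShriekFlatSelf

open Groth.Agent.DRing Groth.Agent.DTenLib

/-- an algebra with a single cyclic endomorphism module -/
theorem bijective_smul_id {A : Type u} [CommRing A] (K : Dual.D A) (e : (K ⟶ K) ≃ₗ[A] A) :
    Function.Bijective fun a : A => a • 𝟙 K := by
  let g := e.symm 1
  have hg : ∀ f : K ⟶ K, f = e f • g := fun f => e.injective (by simp [g])
  have h1 : (e (𝟙 K) * e (g ≫ g)) • g = g := by
    calc (e (𝟙 K) * e (g ≫ g)) • g = e (𝟙 K) • (g ≫ g) := by rw [mul_smul, ← hg]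
      _ = (e (𝟙 K) • g) ≫ g := by rw [Linear.smul_comp]
      _ = g := by rw [← hg, Category.id_comp]
  have h2 : e (𝟙 K) * e (g ≫ g) = 1 := by simpa [g] using congrArg e h1
  have hu : IsUnit (e (𝟙 K)) := IsUnit.of_mul_eq_one _ h2
  refine ⟨fun a b hab => ?_, fun f => ?_⟩
  · have := congrArg e hab
    simp only [map_smul, smul_eq_mul] at this
    exact hu.mul_left_inj.1 this
  · obtain ⟨v, hv⟩ := hu
    exact ⟨e f * (↑v⁻¹ : A), e.injective (by simp [← hv, mul_assoc])⟩

/-- shifting the scalar endomorphisms -/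
theorem bijective_smul_id_shift {A : Type u} [CommRing A] (K : Dual.D A) (n : ℤ)
    (h : Function.Bijective fun a : A => a • 𝟙 K) :
    Function.Bijective fun a : A => a • 𝟙 (K⟦n⟧) := by
  refine (congrArg Function.Bijective (funext fun a => ?_)).mp
    (((Functor.FullyFaithful.ofFullyFaithful (shiftFunctor (Dual.D A) n)).homEquiv (X := K) (Y := K)).bijective.comp h)
  change (a • 𝟙 K)⟦n⟧' = _
  rw [Functor.map_smul, CategoryTheory.Functor.map_id]

variable {P A : Type u} [CommRing P] [CommRing A] [Algebra P A] {F : Dual.D P ⥤ Dual.D A}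
  (adj : DRing.restrictD (algebraMap P A) ⊣ F)

include adj in
/-- the dual of a resolution represents `RHom_P(A, P)` over `P` -/
theorem exists_dual (h : DRing.IsPerfectModule P A) :
    ∃ (E : DRing.Cx P) (a b : ℤ), DRing.VanishesOutside E a b ∧ DRing.TermwiseFiniteProjective E ∧
      Nonempty (DRing.toD E ≅ Dual.inD P A) ∧
      Nonempty ((DRing.restrictD (algebraMap P A)).obj (F.obj (Dual.inD P P)) ≅
        DRing.toD (DualPerfect.dual E)) := by
  obtain ⟨E, a, b, hb, hf, ⟨e⟩⟩ := h
  have hE := DBasic.isKProjective_of_projective E b (fun i hi => hb i (Or.inr hi)) fun i => (hf i).2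
  obtain ⟨ι, hι⟩ := DBasic.exists_Q_map_eq (e ≪≫ (ShriekProj.resUnitIso P A).symm).hom
  have : QuasiIso ι := (DerivedCategory.isIso_Q_map_iff_quasiIso (C := ModuleCat.{u} P) ι).1
    (by rw [hι]; infer_instance)
  obtain ⟨I, j, hI, hj, -, -⟩ := DHA.KInj.exists_resolution (ModuleCat.{u} P) (ExactPairingCx.I1 P)
  let eI : DRing.toD I ≅ Dual.inD P P := (asIso (DerivedCategory.Q.map j)).symm ≪≫
    ((DerivedCategory.singleFunctorIsoCompQ (ModuleCat.{u} P) 0).app (ModuleCat.of P P)).symm
  obtain ⟨W₀, hW₀, -, ⟨eW⟩⟩ := DBasic.exists_kproj_iso (F.obj (Dual.inD P P))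
  obtain ⟨ε, hν⟩ := ProjForm.exists_counit ι adj (eW ≪≫ F.mapIso eI.symm)
  have := HomCx.quasiIso_homCxMap (P := E) j
  exact ⟨E, a, b, hb, hf, ⟨e⟩, ⟨(DRing.restrictD (algebraMap P A)).mapIso eW.symm ≪≫
    (DTen.resFactors (algebraMap P A)).app W₀ ≪≫ asIso (DerivedCategory.Q.map (ProjUniv.ν ι ε)) ≪≫
    (asIso (DerivedCategory.Q.map (DRing.homCxMap E j))).symm⟩⟩

include adj in
/-- self-homs of `RHom_P(A, P)` -/
theorem nonempty_homEquiv (h : DRing.IsPerfectModule P A) (i : ℤ) :
    Nonempty (((DRing.restrictD (algebraMap P A)).obj (F.obj (Dual.inD P P)) ⟶ (Dual.inD P P)⟦i⟧) ≃ₗ[P]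
      Dual.HD P (Dual.inD P A) i) := by
  obtain ⟨E, a, b, hb, hf, ⟨e⟩, ⟨t⟩⟩ := exists_dual adj h
  let G := DualPerfect.dual E
  have hG : G.IsKProjective := DBasic.isKProjective_of_projective G (-a)
    (fun i hi => DualPerfect.vanishesOutside_dual hb i (Or.inr hi))
    fun i => (DualPerfect.finiteProjective_dual hf i).2
  obtain ⟨I, j, hI, hj, -, -⟩ := DHA.KInj.exists_resolution (ModuleCat.{u} P) (ExactPairingCx.I1 P)
  let eI : DRing.toD I ≅ Dual.inD P P := (asIso (DerivedCategory.Q.map j)).symm ≪≫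
    ((DerivedCategory.singleFunctorIsoCompQ (ModuleCat.{u} P) 0).app (ModuleCat.of P P)).symm
  obtain ⟨d⟩ := DualPerfect.nonempty_bidual_iso hb hf
  have := HomCx.quasiIso_homCxMap (P := G) j
  exact ⟨(Hom.congr P t ((shiftFunctor (Dual.D P) i).mapIso eI.symm)).trans ((Dc.hEquiv I G i).trans
    (((DBasic.HF i).mapIso (((asIso (DerivedCategory.Q.map (DRing.homCxMap G j))).symm ≪≫
        DerivedCategory.Q.mapIso d ≪≫ e : DRing.toD (Dc.D I G) ≅ Dual.inD P A))).toLinearEquiv |> fun q =>
      ((DerivedCategory.homologyFunctorFactors (ModuleCat.{u} P) i).app (Dc.D I G)).symm.toLinearEquiv.trans q))⟩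

/-- `H^0` of `A[0]` -/
theorem nonempty_HD_zero (P A : Type u) [CommRing P] [AddCommGroup A] [Module P A] :
    Nonempty (Dual.HD P (Dual.inD P A) 0 ≃ₗ[P] A) :=
  ⟨((DRing.DBasic.HF 0).mapIso ((DerivedCategory.singleFunctorIsoCompQ (ModuleCat.{u} P) 0).app _) ≪≫
    (DerivedCategory.homologyFunctorFactors (ModuleCat.{u} P) 0).app _ ≪≫
    HomologicalComplex.singleObjHomologySelfIso (ComplexShape.up ℤ) 0 (ModuleCat.of P A)).toLinearEquiv⟩

theorem subsingleton_HD (P A : Type u) [CommRing P] [AddCommGroup A] [Module P A] (i : ℤ) (hi : i ≠ 0) :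
    Subsingleton (Dual.HD P (Dual.inD P A) i) :=
  ModuleCat.subsingleton_of_isZero ((HomologicalComplex.isZero_single_obj_homology
    (ComplexShape.up ℤ) 0 (ModuleCat.of P A) i hi).of_iso
    ((DRing.DBasic.HF i).mapIso ((DerivedCategory.singleFunctorIsoCompQ (ModuleCat.{u} P) 0).app _) ≪≫
    (DerivedCategory.homologyFunctorFactors (ModuleCat.{u} P) i).app _))

include adj in
/-- `RHom_P(A, P)` has only scalar endomorphisms -/
theorem toEnd (hs : Function.Surjective (algebraMap P A)) (h : DRing.IsPerfectModule P A) :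
    (Function.Bijective fun a : A => a • 𝟙 (F.obj (Dual.inD P P))) ∧
      ∀ i : ℤ, i ≠ 0 → Subsingleton (F.obj (Dual.inD P P) ⟶ (F.obj (Dual.inD P P))⟦i⟧) := by
  let X := F.obj (Dual.inD P P)
  refine ⟨?_, fun i hi => ?_⟩
  · obtain ⟨q⟩ := nonempty_homEquiv adj h 0
    obtain ⟨z⟩ := nonempty_HD_zero P A
    let q' : ((DRing.restrictD (algebraMap P A)).obj X ⟶ Dual.inD P P) ≃ₗ[P] A :=
      (Hom.congr P (Iso.refl _) ((shiftFunctorZero (Dual.D P) ℤ).app _).symm).trans (q.trans z)
    let e0 : (X ⟶ X) ≃ A := (adj.homEquiv X (Dual.inD P P)).symm.trans q'.toEquiv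
    have hsym : ∀ f : X ⟶ X, (adj.homEquiv X (Dual.inD P P)).symm f =
        (DRing.restrictD (algebraMap P A)).map f ≫ adj.counit.app _ :=
      fun f => Adjunction.homEquiv_counit _ _ _ _
    refine bijective_smul_id X
      { e0 with
        map_add' := fun f g => by
          change q' _ = q' _ + q' _
          rw [← map_add, hsym, hsym, hsym, Functor.map_add, Preadditive.add_comp]
        map_smul' := fun a f => by
          obtain ⟨p, rfl⟩ := hs a
          change q' _ = algebraMap P A p • q' _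
          rw [hsym, hsym, RegEl.restrictD_map_smul, Linear.smul_comp, map_smul, Algebra.smul_def]
          rfl }
  · obtain ⟨q⟩ := nonempty_homEquiv adj h i
    obtain ⟨s⟩ := RAdj.nonempty_shiftIso adj (Dual.inD P P) i
    have := subsingleton_HD P A i hi
    have : Subsingleton ((DRing.restrictD (algebraMap P A)).obj X ⟶ (Dual.inD P P)⟦i⟧) :=
      q.toEquiv.subsingleton
    exact ((s.symm.homToEquiv).trans (adj.homEquiv X _).symm).subsingleton

end Groth.Agent.DualCx.ShriekFlatSelf
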