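import Groth.Agent.DualCx.Biduality
import Groth.Agent.DualCx.Normalized

/-!
# Uniqueness of dualizing complexes over a local ring
-/

universe u

open CategoryTheory CategoryTheory.Limits IsLocalRing CochainComplex.HomComplex

attribute [local instance] HasDerivedCategory.standard

namespace Groth.Agent.DualCx.Unique

open Devissage (E pre)
open Biduality (Hm)
open Amplitude (sgl)

variable {A : Type u} [CommRing A] [IsLocalRing A] [IsNoetherianRing A]
  {I I' : DRing.Cx A}

/-- the composed duality functor `Hom•(Hom•(M, I'), I)` -/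
noncomputable abbrev K (I I' : DRing.Cx A) (M : Type u) [AddCommGroup M] [Module A M] : DRing.Cx A :=
  Dc.D I (Dc.D I' (sgl (ModuleCat.of A M)))

/-- functoriality -/
noncomputable def Kmap (I I' : DRing.Cx A) {M N : Type u} [AddCommGroup M] [Module A M]
    [AddCommGroup N] [Module A N] (f : M →ₗ[A] N) : K I I' M ⟶ K I I' N :=
  Dc.map I (Dc.map I' ((CochainComplex.singleFunctor (ModuleCat.{u} A) 0).map (ModuleCat.ofHom f)))

omit [IsLocalRing A] [IsNoetherianRing A] in
theorem Kmap_comp {M N P : Type u} [AddCommGroup M] [Module A M] [AddCommGroup N] [Module A N]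
    [AddCommGroup P] [Module A P] (f : M →ₗ[A] N) (g : N →ₗ[A] P) :
    Kmap I I' (g.comp f) = Kmap I I' f ≫ Kmap I I' g := by
  rw [Kmap, Kmap, Kmap, ← Dc.map_comp, ← Dc.map_comp, ← Functor.map_comp]
  rfl

omit [IsLocalRing A] [IsNoetherianRing A] in
theorem Kmap_id (M : Type u) [AddCommGroup M] [Module A M] :
    Kmap I I' (LinearMap.id : M →ₗ[A] M) = 𝟙 _ := by
  rw [Kmap, show ModuleCat.ofHom (LinearMap.id : M →ₗ[A] M) = 𝟙 _ from rfl,
    CategoryTheory.Functor.map_id, Dc.map_id, Dc.map_id]

omit [IsLocalRing A] [IsNoetherianRing A] in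
theorem Kmap_smul_id (M : Type u) [AddCommGroup M] [Module A M] (a : A) :
    Kmap I I' (a • (LinearMap.id : M →ₗ[A] M)) = a • 𝟙 _ := by
  rw [Kmap, show ModuleCat.ofHom (a • (LinearMap.id : M →ₗ[A] M)) = a • 𝟙 _ from rfl,
    Functor.map_smul, CategoryTheory.Functor.map_id, Dc.map_smul, Dc.map_smul, Dc.map_id, Dc.map_id]

omit [IsLocalRing A] [IsNoetherianRing A] in
theorem subsingleton_congr {M N : Type u} [AddCommGroup M] [Module A M] [AddCommGroup N]
    [Module A N] (e : M ≃ₗ[A] N) (i : ℤ) (h : Subsingleton ((K I I' N).homology i)) :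
    Subsingleton ((K I I' M).homology i) := by
  refine subsingleton_of_forall_eq 0 fun x => ?_
  have h1 := Biduality.Hm_comp (Kmap I I' e.toLinearMap) (Kmap I I' e.symm.toLinearMap) i x
  rw [← Kmap_comp, show e.symm.toLinearMap.comp e.toLinearMap = LinearMap.id from
    LinearMap.ext fun y => e.symm_apply_apply y, Kmap_id,
    Subsingleton.elim (Hm (Kmap I I' e.toLinearMap) i x) 0, map_zero] at h1
  simpa [Hm] using h1

variable [I.IsKInjective] [I'.IsKInjective]
  (hI : ∀ q, Injective (I.X q)) (hI' : ∀ q, Injective (I'.X q))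

section Exact

variable {M₁ M₂ M₃ : Type u} [AddCommGroup M₁] [Module A M₁] [AddCommGroup M₂] [Module A M₂]
  [AddCommGroup M₃] [Module A M₃] {f : M₁ →ₗ[A] M₂} {g : M₂ →ₗ[A] M₃}
  (hf : Function.Injective f) (hg : Function.Surjective g) (hfg : Function.Exact f g)

include hI hI' hf hg hfg

omit [IsLocalRing A] [I.IsKInjective] [I'.IsKInjective] in
theorem exact₂ (i : ℤ) : Function.Exact (Hm (Kmap I I' f) i) (Hm (Kmap I I' g) i) :=
  Biduality.ex₂ (Dc.shortExact I (Dc.shortExact I' (Biduality.srcS_shortExact hf hg hfg) hI') hI) i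

omit [IsLocalRing A] [I.IsKInjective] [I'.IsKInjective] in
theorem surjective_of_subsingleton (i : ℤ) (h : Subsingleton ((K I I' M₁).homology (i + 1))) :
    Function.Surjective (Hm (Kmap I I' g) i) := fun x =>
  (Biduality.ex₃ (Dc.shortExact I (Dc.shortExact I' (Biduality.srcS_shortExact hf hg hfg) hI') hI)
    i (i + 1) rfl x).mp (Subsingleton.elim (α := (K I I' M₁).homology (i + 1)) _ _)

end Exact

variable (hω : Dual.IsDualizing A (DRing.toD I)) (hn : Dual.IsNormalized A (DRing.toD I))
  (hω' : Dual.IsDualizing A (DRing.toD I')) (hn' : Dual.IsNormalized A (DRing.toD I'))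

include hω hω'

theorem finite_K (M : Type u) [AddCommGroup M] [Module A M] [Module.Finite A M] (i : ℤ) :
    Module.Finite A ((K I I' M).homology i) := by
  obtain ⟨a, ha⟩ := Dimfun.exists_isGE hω
  obtain ⟨c, d, hcd⟩ := hω'.finite_injective_dimension
  let X := DRing.toD (Dc.D I' (sgl (ModuleCat.of A M)))
  have hv : ∀ j, (j < c ∨ d < j) → Subsingleton (Dual.HD A X j) := fun j hj =>
    have := hcd M j hj
    (Biduality.hDSgl M j).symm.toEquiv.subsingleton
  have hge : X.IsGE c := (DerivedCategory.isGE_iff X c).mpr fun j hj =>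
    (DRing.DBasic.subsingleton_HD_iff_isZero X j).mp (hv j (Or.inl hj))
  have hle : X.IsLE d := (DerivedCategory.isLE_iff X d).mpr fun j hj =>
    (DRing.DBasic.subsingleton_HD_iff_isZero X j).mp (hv j (Or.inr hj))
  have hX : ∀ j, Module.Finite A (Dual.HD A X j) := fun j =>
    have := Normal.finite_E hω' M j
    Module.Finite.equiv (Biduality.hDSgl M j)
  have := Biduality.finite_hom_bounded a hω.finite_cohomology X c d hge hle hX i
  exact Module.Finite.equiv (Dc.hEquiv I _ i)

include hn hn'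

omit hω hn in
theorem nonempty_K_residue (i : ℤ) :
    Nonempty ((K I I' (ResidueField A)).homology i ≃ₗ[A] E (ResidueField A) (DRing.toD I) i) := by
  let X := DRing.toD (Dc.D I' (sgl (ModuleCat.of A (ResidueField A))))
  have hX : ∀ j, j ≠ 0 → Subsingleton (Dual.HD A X j) := fun j hj =>
    have := hn' j hj
    (Biduality.hDSgl (ResidueField A) j).symm.toEquiv.subsingleton
  obtain ⟨e⟩ := Devissage.nonempty_F_single (K := DRing.toD I) X 0 hX i
  obtain ⟨e0⟩ := Normal.nonempty_residue hω' hn'
  have e1 := (Biduality.hDSgl (I := I') (ResidueField A) 0).symm.trans e0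
  rw [add_zero] at e
  exact ⟨(Dc.hEquiv I _ i).symm.trans (e.trans (Devissage.congrE e1 _ i))⟩

include hI hI'

theorem subsingleton_K : ∀ (M : Type u) [AddCommGroup M] [Module A M] [Module.Finite A M] (i : ℤ),
    i ≠ 0 → Subsingleton ((K I I' M).homology i) := by
  have from_primes : ∀ (N : Type u) [AddCommGroup N] [Module A N] [Module.Finite A N] (i : ℤ),
      (∀ r : PrimeSpectrum A, Module.annihilator A N ≤ r.1 →
        Subsingleton ((K I I' (A ⧸ r.1)).homology i)) → Subsingleton ((K I I' N).homology i) := by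
    intro N _ _ _ i
    induction ‹Module.Finite A N› using IsNoetherianRing.induction_on_isQuotientEquivQuotientPrime A with
    | subsingleton N =>
      intro _
      refine subsingleton_of_forall_eq 0 fun x => ?_
      have h1 : Kmap I I' (0 • (LinearMap.id : N →ₗ[A] N) : N →ₗ[A] N) = 𝟙 _ := by
        rw [← Kmap_id]
        congr 1
        exact LinearMap.ext fun y => Subsingleton.elim _ _
      rw [show (0 • (LinearMap.id : N →ₗ[A] N)) = (0 : A) • LinearMap.id by simp, Kmap_smul_id] at h1
      have := congrArg (fun φ => Hm φ i x) h1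
      simpa [Hm] using this.symm
    | quotient N q e =>
      intro h
      exact subsingleton_congr e i (h q (by rw [LinearEquiv.annihilator_eq e, Ideal.annihilator_quotient]))
    | exact N₁ N₂ N₃ f g hf hg hfg h₁ h₃ =>
      intro h
      have s1 := h₁ fun r hr => h r ((f.annihilator_le_of_injective hf).trans hr)
      have s3 := h₃ fun r hr => h r ((g.annihilator_le_of_surjective hg).trans hr)
      refine subsingleton_of_forall_eq 0 fun x => ?_
      obtain ⟨y, rfl⟩ := (exact₂ hI hI' hf hg hfg i x).mp (Subsingleton.elim _ _)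
      rw [Subsingleton.elim y 0, map_zero]
  have prime : ∀ (q : PrimeSpectrum A) (i : ℤ), i ≠ 0 →
      Subsingleton ((K I I' (A ⧸ q.1)).homology i) := by
    intro q
    obtain ⟨q, hq⟩ := q
    induction q using WellFoundedGT.induction with
    | ind q ih =>
    intro i hi
    by_cases hmax : q = maximalIdeal A
    · subst hmax
      obtain ⟨e⟩ := nonempty_K_residue (I := I) hω' hn' i
      have := hn i hi
      exact e.toEquiv.subsingleton
    obtain ⟨x, hxm, hxq⟩ := SetLike.exists_of_lt
      (lt_of_le_of_ne (le_maximalIdeal hq.ne_top) hmax)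
    let l : A ⧸ q →ₗ[A] A ⧸ q := x • LinearMap.id
    have hl : Function.Injective l := by
      intro y z hyz
      obtain ⟨y, rfl⟩ := Ideal.Quotient.mk_surjective y
      obtain ⟨z, rfl⟩ := Ideal.Quotient.mk_surjective z
      replace hyz : x • Ideal.Quotient.mk q y = x • Ideal.Quotient.mk q z := hyz
      simp only [Algebra.smul_def, Ideal.Quotient.algebraMap_eq, ← map_mul] at hyz
      rw [Ideal.Quotient.eq, ← mul_sub] at hyz
      rw [Ideal.Quotient.eq]
      exact (hq.mem_or_mem hyz).resolve_left hxq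
    have hQ : Subsingleton ((K I I' ((A ⧸ q) ⧸ LinearMap.range l)).homology i) :=
      from_primes _ i fun r hr => by
        have h2 : q ≤ r.1 := le_trans ((le_of_eq (Ideal.annihilator_quotient (I := q)).symm).trans
          (LinearMap.annihilator_le_of_surjective (Submodule.mkQ _) (Submodule.mkQ_surjective _))) hr
        refine ih r.1 (lt_of_le_of_ne h2 fun e => hxq (e ▸ hr (Module.mem_annihilator.mpr fun y => ?_)))
          r.2 i hi
        obtain ⟨y, rfl⟩ := Submodule.Quotient.mk_surjective _ y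
        rw [← Submodule.Quotient.mk_smul, Submodule.Quotient.mk_eq_zero]
        exact ⟨y, rfl⟩
    have := finite_K hω hω' (A ⧸ q) i
    have hsurj : ∀ e : (K I I' (A ⧸ q)).homology i, ∃ e', x • e' = e := fun e => by
      obtain ⟨e', he'⟩ := (exact₂ hI hI' hl (Submodule.mkQ_surjective _)
        (LinearMap.exact_map_mkQ_range l) i e).mp (Subsingleton.elim _ _)
      rw [Kmap_smul_id, Biduality.Hm_smul_id] at he'
      exact ⟨e', he'⟩
    have h2 := Submodule.eq_bot_of_le_smul_of_le_jacobson_bot (Ideal.span {x})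
      (⊤ : Submodule A ((K I I' (A ⧸ q)).homology i)) Module.Finite.fg_top
      (fun e _ => by
        obtain ⟨e', rfl⟩ := hsurj e
        exact Submodule.smul_mem_smul (Ideal.mem_span_singleton_self _) trivial)
      (by rwa [IsLocalRing.jacobson_eq_maximalIdeal _ bot_ne_top, Ideal.span_le,
        Set.singleton_subset_iff, SetLike.mem_coe])
    exact (Submodule.subsingleton_iff A).mp (subsingleton_of_bot_eq_top h2.symm)
  intro M _ _ _ i hi
  exact from_primes M i fun r _ => prime r i hi

/-- a morphism of normalized dualizing complexes which is nonzero on the residue field -/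
theorem exists_hom : ∃ (φ : DRing.toD I' ⟶ DRing.toD I)
    (f : Dual.inD A (ResidueField A) ⟶ DRing.toD I'), f ≫ φ ≠ 0 := by
  let π := (maximalIdeal A).mkQ
  have : Module.Finite A (maximalIdeal A) := Module.Finite.of_fg (IsNoetherian.noetherian _)
  have hs : Function.Surjective (Hm (Kmap I I' π) 0) :=
    surjective_of_subsingleton hI hI' (Submodule.injective_subtype _) (Submodule.mkQ_surjective _)
      (LinearMap.exact_subtype_mkQ _) 0 (subsingleton_K hI hI' hω hn hω' hn' _ 1 (by norm_num))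
  obtain ⟨e⟩ := nonempty_K_residue (I := I) hω' hn' 0
  obtain ⟨e0⟩ := Normal.nonempty_residue hω hn
  have : Nontrivial ((K I I' (ResidueField A)).homology 0) := (e.trans e0).toEquiv.nontrivial
  obtain ⟨y, hy⟩ := exists_ne (0 : (K I I' (ResidueField A)).homology 0)
  obtain ⟨h, hh⟩ := hs y
  obtain ⟨φ, rfl⟩ := (Dc.hEquiv I _ 0).surjective h
  have hne : DerivedCategory.Q.map
      (Dc.map I' ((CochainComplex.singleFunctor (ModuleCat.{u} A) 0).map (ModuleCat.ofHom π))) ≫
        φ ≠ 0 := fun h0 => hy (by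
      rw [← hh]
      change (HomologicalComplex.homologyMap (Dc.map I (Dc.map I' _)) 0).hom _ = 0
      rw [Dc.hEquiv_natural]
      erw [h0, map_zero])
  let X := DRing.toD (Dc.D I' (sgl (ModuleCat.of A (ResidueField A))))
  have hX : ∀ j, j ≠ 0 → Subsingleton (Dual.HD A X j) := fun j hj =>
    have := hn' j hj
    (Biduality.hDSgl (ResidueField A) j).symm.toEquiv.subsingleton
  obtain ⟨eX⟩ := Devissage.nonempty_single X 0 hX
  obtain ⟨e0'⟩ := Normal.nonempty_residue hω' hn'
  let eκ : X ≅ Dual.inD A (ResidueField A) := eX ≪≫ (shiftFunctorZero' _ (-0 : ℤ) neg_zero).app _ ≪≫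
    (DerivedCategory.singleFunctor (ModuleCat.{u} A) 0).mapIso
      ((Biduality.hDSgl (I := I') (ResidueField A) 0).symm.trans e0').toModuleIso
  let eA : DRing.toD (Dc.D I' (sgl (ModuleCat.of A A))) ≅ DRing.toD I' :=
    DerivedCategory.Q.mapIso (Biduality.unitDualIso I')
  let m := DerivedCategory.Q.map
    (Dc.map I' ((CochainComplex.singleFunctor (ModuleCat.{u} A) 0).map (ModuleCat.ofHom π)))
  refine ⟨eA.inv ≫ φ ≫ (shiftFunctorZero (Dual.D A) ℤ).hom.app _, eκ.inv ≫ m ≫ eA.hom, ?_⟩
  intro h0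
  apply hne
  change m ≫ φ = 0
  refine (cancel_mono ((shiftFunctorZero (Dual.D A) ℤ).hom.app (DRing.toD I))).mp
    ((cancel_epi eκ.inv).mp ?_)
  refine Eq.trans ?_ (comp_zero.symm.trans (congrArg (eκ.inv ≫ ·) zero_comp.symm))
  rw [← h0]
  simp
  rfl

end Groth.Agent.DualCx.Unique

namespace Groth.Agent.DualCx.Unique

open Devissage (E)

variable {A : Type u} [CommRing A] [IsLocalRing A] [IsNoetherianRing A]

/-- normalized dualizing complexes are isomorphic -/
theorem nonempty_iso {ω ω' : Dual.D A} (hω : Dual.IsDualizing A ω) (hn : Dual.IsNormalized A ω)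
    (hω' : Dual.IsDualizing A ω') (hn' : Dual.IsNormalized A ω') : Nonempty (ω' ≅ ω) := by
  obtain ⟨a₀, ha₀⟩ := Dimfun.exists_isGE hω
  obtain ⟨a₁, ha₁⟩ := Dimfun.exists_isGE hω'
  obtain ⟨I, hI, ⟨eI⟩⟩ := Residue.exists_rep (ω := ω) (a := a₀) fun j hj =>
    (DRing.DBasic.subsingleton_HD_iff_isZero ω j).mpr (DerivedCategory.isZero_of_isGE ω a₀ j hj)
  obtain ⟨I', hI', ⟨eI'⟩⟩ := Residue.exists_rep (ω := ω') (a := a₁) fun j hj =>
    (DRing.DBasic.subsingleton_HD_iff_isZero ω' j).mpr (DerivedCategory.isZero_of_isGE ω' a₁ j hj)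
  have := hI.isKInjective
  have := hI'.isKInjective
  have nI : Dual.IsNormalized A (DRing.toD I) := fun i hi => by
    have := hn i hi
    exact (Hom.congr A (Iso.refl _) ((shiftFunctor (Dual.D A) i).mapIso eI)).toEquiv.subsingleton
  have nI' : Dual.IsNormalized A (DRing.toD I') := fun i hi => by
    have := hn' i hi
    exact (Hom.congr A (Iso.refl _) ((shiftFunctor (Dual.D A) i).mapIso eI')).toEquiv.subsingleton
  obtain ⟨φ₀, f₀, hne₀⟩ := exists_hom (I := I) (I' := I') hI.1 hI'.1
    (FlatBC.isDualizing_of_iso eI.symm hω) nI (FlatBC.isDualizing_of_iso eI'.symm hω') nI'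
  let φ : ω' ⟶ ω := eI'.inv ≫ φ₀ ≫ eI.hom
  let f : Dual.inD A (ResidueField A) ⟶ ω' := f₀ ≫ eI'.hom
  have hne : f ≫ φ ≠ 0 := fun h => hne₀ (by
    rw [← cancel_mono eI.hom]
    simpa [f, φ] using h)
  obtain ⟨C, g, δ, hT⟩ := Pretriangulated.distinguished_cocone_triangle φ
  let T := Pretriangulated.Triangle.mk φ g δ
  -- the residue field sees an isomorphism
  have hbij : ∀ j, Function.Bijective (Hom.post₁ A T (Dual.inD A (ResidueField A)) j) := fun j => by
    by_cases hj : j = 0
    · subst hj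
      obtain ⟨e⟩ := Normal.nonempty_residue hω hn
      obtain ⟨e'⟩ := Normal.nonempty_residue hω' hn'
      have : IsSimpleModule A (ResidueField A) :=
        isSimpleModule_iff_quot_maximal.mpr ⟨maximalIdeal A, inferInstance, ⟨LinearEquiv.refl _ _⟩⟩
      have : IsSimpleModule A (Dual.inD A (ResidueField A) ⟶ T.obj₁⟦(0 : ℤ)⟧) :=
        IsSimpleModule.congr e'
      have : IsSimpleModule A (Dual.inD A (ResidueField A) ⟶ T.obj₂⟦(0 : ℤ)⟧) :=
        IsSimpleModule.congr e
      refine (LinearMap.bijective_or_eq_zero _).resolve_right fun h0 => hne ?_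
      have h1 : (f ≫ (shiftFunctorZero (Dual.D A) ℤ).inv.app ω') ≫ φ⟦(0 : ℤ)⟧' = 0 :=
        LinearMap.congr_fun h0 (f ≫ (shiftFunctorZero (Dual.D A) ℤ).inv.app ω')
      rw [Category.assoc, ← NatTrans.naturality, ← Category.assoc] at h1
      exact (cancel_mono ((shiftFunctorZero (Dual.D A) ℤ).inv.app ω)).mp (by simpa using h1)
    · have : Subsingleton (Dual.inD A (ResidueField A) ⟶ T.obj₁⟦j⟧) := hn' j hj
      have : Subsingleton (Dual.inD A (ResidueField A) ⟶ T.obj₂⟦j⟧) := hn j hj
      exact ⟨fun x y _ => Subsingleton.elim _ _, fun y => ⟨0, Subsingleton.elim _ _⟩⟩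
  have hC : ∀ j, Subsingleton (E (ResidueField A) C j) := fun j => by
    refine subsingleton_of_forall_eq 0 fun (x : Dual.inD A (ResidueField A) ⟶ T.obj₃⟦j⟧) => ?_
    obtain ⟨y, rfl⟩ := (Hom.exact_post_dδ A _ hT j (j + 1) rfl x).mp
      ((hbij (j + 1)).1 (((Hom.exact_dδ_post A _ hT j (j + 1) rfl _).mpr ⟨x, rfl⟩).trans (map_zero _).symm))
    obtain ⟨z, rfl⟩ := (hbij j).2 y
    exact (Hom.exact_post A _ hT j _).mpr ⟨z, rfl⟩
  -- the cone is bounded below with finite cohomology
  have hHD : ∀ j, Module.Finite A (E A C j) ∧ (j < min a₀ (a₁ - 1) → Subsingleton (E A C j)) := fun j => by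
    have h2 : Function.Exact (Hom.post₂ A T (Dual.inD A A) j) (Hom.dδ A T (Dual.inD A A) j (j + 1) rfl) :=
      Hom.exact_post_dδ A _ hT j (j + 1) rfl
    have fin : ∀ (K : Dual.D A), Dual.IsDualizing A K → ∀ j, Module.Finite A (Dual.inD A A ⟶ K⟦j⟧) :=
      fun K hK j => Normal.finite_E hK A j
    have : IsNoetherian A (Dual.inD A A ⟶ T.obj₁⟦j + 1⟧) :=
      have : Module.Finite A (Dual.inD A A ⟶ T.obj₁⟦j + 1⟧) := fin ω' hω' (j + 1)
      inferInstance
    refine ⟨?_, fun hj => ?_⟩
    · let dd := Hom.dδ A T (Dual.inD A A) j (j + 1) rfl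
      have : Module.Finite A (LinearMap.range dd) :=
        Module.Finite.of_fg (IsNoetherian.noetherian _)
      have : Module.Finite A (Dual.inD A A ⟶ T.obj₂⟦j⟧) := fin ω hω j
      change Module.Finite A (Dual.inD A A ⟶ T.obj₃⟦j⟧)
      exact Module.Finite.of_exact (f := Hom.post₂ A T (Dual.inD A A) j) (g := dd.rangeRestrict) (fun x => by
        rw [← h2 x]; exact Subtype.ext_iff) dd.surjective_rangeRestrict
    · refine subsingleton_of_forall_eq 0 fun (x : Dual.inD A A ⟶ T.obj₃⟦j⟧) => ?_
      have s2 : Subsingleton (Dual.inD A A ⟶ T.obj₂⟦j⟧) :=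
        have := (DRing.DBasic.subsingleton_HD_iff_isZero ω j).mpr
          (DerivedCategory.isZero_of_isGE ω a₀ j (by omega))
        (Cx.homUnitEquivShift ω j).toEquiv.subsingleton
      have s1 : Subsingleton (Dual.inD A A ⟶ T.obj₁⟦j + 1⟧) :=
        have := (DRing.DBasic.subsingleton_HD_iff_isZero ω' (j + 1)).mpr
          (DerivedCategory.isZero_of_isGE ω' a₁ (j + 1) (by omega))
        (Cx.homUnitEquivShift ω' (j + 1)).toEquiv.subsingleton
      obtain ⟨y, rfl⟩ := (h2 x).mp (Subsingleton.elim _ _)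
      exact (congrArg _ (Subsingleton.elim y 0)).trans (map_zero _)
  have : C.IsGE (min a₀ (a₁ - 1)) := (DerivedCategory.isGE_iff C _).mpr fun j hj =>
    (DRing.DBasic.subsingleton_HD_iff_isZero C j).mp
      (have := (hHD j).2 hj; (Cx.homUnitEquivShift C j).symm.toEquiv.subsingleton)
  have hfC : ∀ j, Module.Finite A (Dual.HD A C j) := fun j =>
    have := (hHD j).1
    Module.Finite.equiv (Cx.homUnitEquivShift C j)
  have hall : ∀ j, Subsingleton (Dual.HD A C j) := fun j => by
    have := Criterion.exists_amplitude (min a₀ (a₁ - 1)) hfC (j - 1) (fun i _ m hm => by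
      obtain rfl := IsLocalRing.eq_maximalIdeal hm
      exact hC i) A j (Or.inr (by omega))
    exact (Cx.homUnitEquivShift C j).symm.toEquiv.subsingleton
  obtain ⟨eC⟩ := Devissage.nonempty_single C 0 fun i _ => hall i
  have hzero : IsZero C := by
    refine IsZero.of_iso (Functor.map_isZero _ ?_) eC
    exact Functor.map_isZero _ ((have := hall 0; ModuleCat.isZero_of_subsingleton _))
  have : IsIso φ := (Pretriangulated.Triangle.isZero₃_iff_isIso₁ T hT).mp hzero
  exact ⟨asIso φ⟩

/-- dualizing complexes differ by a shift -/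
theorem exists_shift {ω ω' : Dual.D A} (hω : Dual.IsDualizing A ω) (hω' : Dual.IsDualizing A ω') :
    ∃ n : ℤ, Nonempty (ω' ≅ ω⟦n⟧) := by
  obtain ⟨a, ha⟩ := Normalized.exists_isNormalized hω
  obtain ⟨b, hb⟩ := Normalized.exists_isNormalized hω'
  obtain ⟨e⟩ := nonempty_iso (Normalized.isDualizing_shift hω a) ha
    (Normalized.isDualizing_shift hω' b) hb
  exact ⟨a + -b, ⟨(shiftEquiv (Dual.D A) b).unitIso.app ω' ≪≫
    (shiftFunctor (Dual.D A) (-b)).mapIso e ≪≫
    ((shiftFunctorAdd' (Dual.D A) a (-b) (a + -b) rfl).app ω).symm⟩⟩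

end Groth.Agent.DualCx.Unique
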