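import Groth.Agent.DualCx.ShriekFlatProps
import Groth.Agent.DualCx.Unique
import Groth.Agent.DualCx.Normalized
import Groth.Agent.DRing.FibreAmp
import Groth.Agent.DRing.DerivedNakayama
import Groth.Agent.Gor.Ring
import Groth.Agent.S7100
import Mathlib.RingTheory.Localization.Free

/-!
# Invertibility of `φ^!(R)` and Gorenstein fibres
-/

universe u v

open CategoryTheory CategoryTheory.Limits DerivedCategory
open scoped TensorProduct

attribute [local instance] HasDerivedCategory.standard

namespace Groth.Agent.DualCx.ShriekGor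

open Groth.Agent.DRing

/-- derived base change is transitive -/
theorem nonempty_comp {A B C : Type u} [CommRing A] [CommRing B] [CommRing C] (f : A →+* B) (g : B →+* C)
    (h : A →+* C) (hh : g.comp f = h) [DRing.HasLBaseChange f] [DRing.HasLBaseChange g]
    [DRing.HasLBaseChange h] (K : Dual.D A) :
    Nonempty ((DRing.LBaseChange g).obj ((DRing.LBaseChange f).obj K) ≅ (DRing.LBaseChange h).obj K) := by
  obtain ⟨P, hP, -, ⟨e⟩⟩ := DBasic.exists_kproj_iso K
  have hk := KFlat.isKFlat_of_isKProjective P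
  have := DerComplete.isKProjective_extCx f P
  subst hh
  exact ⟨(DRing.LBaseChange g).mapIso ((Perfect.baseChangeIsoOfRep f hk e).symm) ≪≫
    LTensor.LBaseChangeIso g (KFlat.isKFlat_of_isKProjective ((LTensor.extCx f).obj P)) ≪≫
    DerivedCategory.Q.mapIso ((NatIso.mapHomologicalComplex (ModuleCat.extendScalarsComp.{u} f g).symm
      (ComplexShape.up ℤ)).app P) ≪≫ Perfect.baseChangeIsoOfRep (g.comp f) hk e⟩

/-- derived base change and shifts -/
theorem nonempty_shift {A B : Type u} [CommRing A] [CommRing B] (f : A →+* B)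
    [DRing.HasLBaseChange f] (K : Dual.D A) (m : ℤ) :
    Nonempty ((DRing.LBaseChange f).obj (K⟦m⟧) ≅ ((DRing.LBaseChange f).obj K)⟦m⟧) := by
  obtain ⟨P, hP, -, ⟨e⟩⟩ := DBasic.exists_kproj_iso K
  have : (P⟦m⟧).IsKProjective := inferInstance
  exact ⟨(Perfect.baseChangeIsoOfRep f (KFlat.isKFlat_of_isKProjective (P⟦m⟧))
      ((DerivedCategory.Q.commShiftIso m).app P ≪≫ (shiftFunctor (Dual.D A) m).mapIso e)).symm ≪≫
    DerivedCategory.Q.mapIso
      ((((ModuleCat.extendScalars.{u, u, u} f).mapHomologicalComplex (ComplexShape.up ℤ)).commShiftIso m).app P) ≪≫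
    (DerivedCategory.Q.commShiftIso m).app _ ≪≫
    (shiftFunctor (Dual.D B) m).mapIso (Perfect.baseChangeIsoOfRep f (KFlat.isKFlat_of_isKProjective P) e)⟩

/-- the base change of `A[m]` -/
theorem nonempty_inD {A B : Type u} [CommRing A] [CommRing B] (f : A →+* B)
    [DRing.HasLBaseChange f] (m : ℤ) :
    Nonempty ((DRing.LBaseChange f).obj ((Dual.inD A A)⟦m⟧) ≅ (Dual.inD B B)⟦m⟧) := by
  obtain ⟨s⟩ := nonempty_shift f (Dual.inD A A) m
  algebraize [f]
  obtain ⟨e⟩ := ShriekProj.nonempty_LBaseChange_inD (R := A) (P := B)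
  exact ⟨s ≪≫ (shiftFunctor (Dual.D B) m).mapIso e⟩

/-- the base change of a flat module -/
theorem nonempty_flat {A B : Type u} [CommRing A] [CommRing B] [Algebra A B] [DRing.HasLBaseChange (algebraMap A B)]
    (M : Type u) [AddCommGroup M] [Module A M] [Module.Flat A M] :
    Nonempty ((DRing.LBaseChange (algebraMap A B)).obj (Dual.inD A M) ≅ Dual.inD B (B ⊗[A] M)) := by
  let S := (HomologicalComplex.single (ModuleCat.{u} A) (ComplexShape.up ℤ) 0).obj (ModuleCat.of A M)
  have hS : KFlat.IsKFlat S := KFlat.isKFlat_of_boundedAbove_flat S 0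
    (fun i hi => HomologicalComplex.isZero_single_obj_X _ _ _ _ (by omega)) fun i => by
      by_cases h : i = 0
      · subst h
        exact Module.Flat.of_linearEquiv
          (HomologicalComplex.singleObjXSelf (ComplexShape.up ℤ) 0 (ModuleCat.of A M)).toLinearEquiv
      · have := ModuleCat.subsingleton_of_isZero
          (HomologicalComplex.isZero_single_obj_X (ComplexShape.up ℤ) 0 (ModuleCat.of A M) i h)
        infer_instance
  exact ⟨(Perfect.baseChangeIsoOfRep (algebraMap A B) hS
      ((singleFunctorIsoCompQ (ModuleCat.{u} A) 0).app (ModuleCat.of A M)).symm).symm ≪≫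
    DerivedCategory.Q.mapIso ((HomologicalComplex.singleMapHomologicalComplex
      (ModuleCat.extendScalars.{u, u, u} (algebraMap A B)) (ComplexShape.up ℤ) 0).app (ModuleCat.of A M)) ≪≫
    ((singleFunctorIsoCompQ (ModuleCat.{u} B) 0).app _).symm ≪≫
    (DerivedCategory.singleFunctor (ModuleCat.{u} B) 0).mapIso
      (BaseChange.extEquiv A B (ModuleCat.of A M)).toModuleIso.symm⟩

/-- a killed module dies when the scalar becomes a unit -/
theorem subsingleton_tensor {A B : Type u} [CommRing A] [CommRing B] [Algebra A B] (N : Type*) [AddCommGroup N]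
    [Module A N] (s : A) (hs : IsUnit (algebraMap A B s)) (h : ∀ x : N, s • x = 0) :
    Subsingleton (B ⊗[A] N) := by
  refine subsingleton_of_forall_eq 0 fun z => ?_
  induction z using TensorProduct.induction_on with
  | zero => rfl
  | tmul c x =>
    obtain ⟨v, hv⟩ := hs
    rw [show c = s • (c * ↑v⁻¹) by rw [Algebra.smul_def, ← hv, mul_comm c, ← mul_assoc, Units.mul_inv, one_mul],
      TensorProduct.smul_tmul, h x, TensorProduct.tmul_zero]
  | add x y hx hy => rw [hx, hy, add_zero]

/-- a uniform killer -/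
theorem exists_smul_eq_zero {A : Type u} [CommRing A] (S : Submonoid A) (N : Type v) [AddCommGroup N]
    [Module A N] [Module.Finite A N] (h : ∀ x : N, ∃ t ∈ S, t • x = 0) : ∃ s ∈ S, ∀ x : N, s • x = 0 := by
  classical
  choose t htS ht using h
  obtain ⟨G, hG⟩ := (Module.Finite.fg_top : (⊤ : Submodule A N).FG)
  refine ⟨∏ x ∈ G, t x, Submonoid.prod_mem S fun x _ => htS x, fun x => ?_⟩
  have : (⊤ : Submodule A N) ≤ LinearMap.ker ((∏ x ∈ G, t x) • (LinearMap.id : N →ₗ[A] N)) := by
    rw [← hG, Submodule.span_le]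
    intro y hy
    change (∏ x ∈ G, t x) • y = 0
    rw [← Finset.prod_erase_mul _ _ (Finset.mem_coe.1 hy), mul_smul, ht y, smul_zero]
  exact this (Submodule.mem_top (x := x))

/-- vanishing at a prime spreads -/
theorem exists_smul_of_subsingleton {A : Type u} [CommRing A] (S : Submonoid A) (B : Type u) [CommRing B]
    [Algebra A B] [IsLocalization S B] (N : Type v) [AddCommGroup N] [Module A N] [Module.Finite A N]
    (h : Subsingleton (B ⊗[A] N)) : ∃ s ∈ S, ∀ x : N, s • x = 0 := by
  let f := TensorProduct.mk A B N 1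
  have : IsLocalizedModule S f := (isLocalizedModule_iff_isBaseChange S B f).2 (TensorProduct.isBaseChange A N B)
  refine exists_smul_eq_zero S N fun x => ?_
  obtain ⟨t, ht⟩ := (IsLocalizedModule.eq_zero_iff S f).1 (Subsingleton.elim (f x) 0)
  exact ⟨t, t.2, ht⟩

/-- a module free of rank one at a prime is free of rank one near it -/
theorem exists_equiv_away {A : Type u} [CommRing A] [IsNoetherianRing A] (S : Submonoid A) (B : Type u) [CommRing B]
    [Algebra A B] [IsLocalization S B] (N : Type v) [AddCommGroup N] [Module A N] [Module.Finite A N]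
    (e : B ⊗[A] N ≃ₗ[B] B) :
    ∃ s ∈ S, ∀ (C : Type u) [CommRing C] [Algebra A C] [Module.Flat A C], IsUnit (algebraMap A C s) →
      Nonempty (C ⊗[A] N ≃ₗ[C] C) := by
  let f : N →ₗ[A] B := (e.restrictScalars A).toLinearMap ∘ₗ TensorProduct.mk A B N 1
  have : IsLocalizedModule S f := by
    have : IsLocalizedModule S (TensorProduct.mk A B N 1) :=
      (isLocalizedModule_iff_isBaseChange S B _).2 (TensorProduct.isBaseChange A N B)
    exact IsLocalizedModule.of_linearEquiv S (TensorProduct.mk A B N 1) (e.restrictScalars A)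
  obtain ⟨⟨x, s₀⟩, hx⟩ := IsLocalizedModule.surj S f 1
  change (s₀ : A) • (1 : B) = f x at hx
  rw [Algebra.smul_def, mul_one] at hx
  let g : A →ₗ[A] N := LinearMap.toSpanSingleton A N x
  obtain ⟨s₁, hs₁, hk⟩ := exists_smul_eq_zero S (LinearMap.ker g) fun a => by
    have h0 : algebraMap A B a.1 * algebraMap A B s₀ = 0 := by
      rw [hx, ← Algebra.smul_def, ← map_smul]
      exact (congrArg f a.2).trans (map_zero f)
    rw [(IsLocalization.map_units B s₀).mul_left_eq_zero] at h0
    obtain ⟨t, ht⟩ := (IsLocalization.map_eq_zero_iff S B a.1).1 h0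
    exact ⟨t, t.2, Subtype.ext ht⟩
  obtain ⟨s₂, hs₂, hc⟩ := exists_smul_eq_zero S (N ⧸ LinearMap.range g) fun y => by
    obtain ⟨y, rfl⟩ := Submodule.Quotient.mk_surjective _ y
    obtain ⟨⟨a, t⟩, hy⟩ := IsLocalization.surj S (f y)
    have h1 : f (((t : A) * (s₀ : A)) • y) = f (a • x) := by
      rw [map_smul, map_smul, Algebra.smul_def, Algebra.smul_def, map_mul, ← hx]
      linear_combination (algebraMap A B (s₀ : A)) * hy
    obtain ⟨v, hv⟩ := (IsLocalizedModule.eq_iff_exists S f).1 h1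
    refine ⟨(v : A) * ((t : A) * (s₀ : A)), S.mul_mem v.2 (S.mul_mem t.2 s₀.2), ?_⟩
    rw [← Submodule.Quotient.mk_smul, Submodule.Quotient.mk_eq_zero, mul_smul]
    exact ⟨(v : A) • a, by
      change ((v : A) • a) • x = _
      rw [smul_assoc]
      exact hv.symm⟩
  refine ⟨s₁ * s₂, S.mul_mem hs₁ hs₂, fun C _ _ _ hu => ?_⟩
  rw [map_mul, IsUnit.mul_iff] at hu
  have := subsingleton_tensor (B := C) (LinearMap.ker g) s₁ hu.1 hk
  have := subsingleton_tensor (B := C) (N ⧸ LinearMap.range g) s₂ hu.2 hc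
  have hinj : Function.Injective (g.lTensor C) := by
    rw [injective_iff_map_eq_zero]
    intro z hz
    obtain ⟨w, rfl⟩ := (Module.Flat.lTensor_exact C (LinearMap.exact_subtype_ker_map g) z).1 hz
    rw [Subsingleton.elim w 0, map_zero]
  have hsurj : Function.Surjective (g.lTensor C) := fun z =>
    (lTensor_exact C (LinearMap.exact_map_mkQ_range g) (Submodule.mkQ_surjective _) z).1 (Subsingleton.elim _ _)
  let l : C →ₗ[C] C ⊗[A] N := (g.baseChange C) ∘ₗ (TensorProduct.AlgebraTensorModule.rid A C C).symm.toLinearMap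
  have hl : Function.Bijective l :=
    Function.Bijective.comp (g := g.baseChange C) ⟨hinj, hsurj⟩
      (TensorProduct.AlgebraTensorModule.rid A C C).symm.bijective
  exact ⟨(LinearEquiv.ofBijective l hl).symm⟩

variable {R A : Type u} [CommRing R] [CommRing A] [IsNoetherianRing R] [IsNoetherianRing A]
  [Algebra R A] [Module.Flat R A] (n : ℕ)
  (ψ : MvPolynomial (Fin n) R →ₐ[R] A) (hψ : Function.Surjective ψ)
  [DRing.HasLBaseChange (algebraMap R (MvPolynomial (Fin n) R))]
  (Rψ : Dual.D (MvPolynomial (Fin n) R) ⥤ Dual.D A) (adj : DRing.restrictD ψ.toRingHom ⊣ Rψ)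

include hψ adj

theorem pc' : DRing.IsPseudoCoherent' A (Dual2.shriekVia n Rψ (Dual.inD R R)) := by
  let P := MvPolynomial (Fin n) R
  let : Algebra P A := ψ.toRingHom.toAlgebra
  have : IsScalarTower R P A := IsScalarTower.of_algebraMap_eq fun x => (ψ.commutes x).symm
  have : Algebra.FiniteType R A := Algebra.FiniteType.of_surjective ψ hψ
  have : Algebra.FinitePresentation R A := Algebra.FinitePresentation.of_finiteType.1 inferInstance
  obtain ⟨G, a, b, hb, hf, ⟨e⟩⟩ := ShriekFlatProps.exists_rep n ψ hψ Rψ adj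
  exact ((S7100.result R P A hψ _).1).2 ((Perfect.perfect_iff _).1 ⟨G, a, b, hb, hf, ⟨e.symm⟩⟩).1

omit hψ adj in
/-- fibres -/
theorem exists_deg (hGor : ∀ p : PrimeSpectrum R, LocCoh.IsGorensteinRing (A ⊗[R] p.asIdeal.ResidueField))
    (hψ : Function.Surjective ψ) (adj : DRing.restrictD ψ.toRingHom ⊣ Rψ) (q : PrimeSpectrum A)
    [DRing.HasLBaseChange (algebraMap A q.asIdeal.ResidueField)] :
    ∃ m : ℤ, Nonempty ((DRing.LBaseChange (algebraMap A q.asIdeal.ResidueField)).obj
      (Dual2.shriekVia n Rψ (Dual.inD R R)) ≅ (Dual.inD q.asIdeal.ResidueField q.asIdeal.ResidueField)⟦m⟧) := by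
  let ω := Dual2.shriekVia n Rψ (Dual.inD R R)
  let p : PrimeSpectrum R := PrimeSpectrum.comap (algebraMap R A) q
  let k := p.asIdeal.ResidueField
  let B := k ⊗[R] A
  let φ : A →+* B := (Algebra.TensorProduct.includeRight : A →ₐ[R] B).toRingHom
  let f1 : k →ₐ[R] q.asIdeal.ResidueField :=
    Ideal.ResidueField.mapₐ p.asIdeal q.asIdeal (Algebra.ofId R A) rfl
  let f2 : A →ₐ[R] q.asIdeal.ResidueField := IsScalarTower.toAlgHom R A q.asIdeal.ResidueField
  let g : B →+* q.asIdeal.ResidueField :=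
    (Algebra.TensorProduct.lift f1 f2 fun _ _ => Commute.all _ _).toRingHom
  have hg : g.comp φ = algebraMap A q.asIdeal.ResidueField := RingHom.ext fun x => by
    change Algebra.TensorProduct.lift f1 f2 (fun _ _ => Commute.all _ _) ((1 : k) ⊗ₜ[R] x) = _
    rw [Algebra.TensorProduct.lift_tmul, map_one, one_mul]
    rfl
  have hG : LocCoh.IsGorensteinRing B :=
    Gor.Ring.isGorensteinRing_of_ringEquiv (Algebra.TensorProduct.comm R A k).toRingEquiv (hGor p)
  have : (RingHom.ker g).IsPrime := RingHom.ker_isPrime g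
  let Q : PrimeSpectrum B := ⟨RingHom.ker g, this⟩
  have : Q.asIdeal.IsPrime := Q.2
  let C := Localization.AtPrime Q.asIdeal
  let g' : C →+* q.asIdeal.ResidueField := IsLocalization.lift (M := Q.asIdeal.primeCompl) (g := g)
    fun y => (isUnit_iff_ne_zero).2 y.2
  have hg' : g'.comp (algebraMap B C) = g := IsLocalization.lift_comp _
  have : IsNoetherianRing B := inferInstance
  have : LocCoh.IsGorensteinLocalRing C := hG.isGorensteinLocalRing_localization Q.asIdeal
  have := LTensor.hasLBaseChange φ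
  have := LTensor.hasLBaseChange (algebraMap B C)
  have := LTensor.hasLBaseChange g'
  have := LTensor.hasLBaseChange g
  let W := (DRing.LBaseChange φ).obj ω
  have hW : Dual.IsDualizing B W := ShriekFlatProps.isDualizing_fibre n ψ hψ Rψ adj k
  obtain ⟨eC⟩ := FlatBC.nonempty_LBaseChange (A := B) (B := C) W
  have hWC : Dual.IsDualizing C ((DRing.LBaseChange (algebraMap B C)).obj W) :=
    FlatBC.isDualizing_of_iso eC.symm (Dimfun.isDualizing_local hW Q)
  obtain ⟨m, ⟨em⟩⟩ := Unique.exists_shift Gorenstein.isDualizing_of_isGorensteinLocalRing hWC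
  obtain ⟨c1⟩ := nonempty_comp (algebraMap B C) g' g hg' W
  obtain ⟨c2⟩ := nonempty_comp φ g _ hg ω
  obtain ⟨c3⟩ := nonempty_inD g' m
  exact ⟨m, ⟨c2.symm ≪≫ c1.symm ≪≫ (DRing.LBaseChange g').mapIso em ≪≫ c3⟩⟩

omit hψ adj in
/-- a complex with a rank one free cohomology -/
theorem nonempty_local {L : Type u} [CommRing L] [IsLocalRing L] [IsNoetherianRing L]
    [DRing.HasLBaseChange (IsLocalRing.residue L)] (K : Dual.D L) (hK : DRing.IsPseudoCoherent' L K) (m : ℤ)
    (hfin : ∀ i, Module.Finite L (Dual.HD L K i))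
    (e : (DRing.LBaseChange (IsLocalRing.residue L)).obj K ≅
      (Dual.inD (IsLocalRing.ResidueField L) (IsLocalRing.ResidueField L))⟦m⟧) :
    (∀ i : ℤ, i ≠ -m → Subsingleton (Dual.HD L K i)) ∧ Nonempty (Dual.HD L K (-m) ≃ₗ[L] L) := by
  let k := IsLocalRing.ResidueField L
  have := fun I : Ideal L => LTensor.hasLBaseChange (Ideal.Quotient.mk I)
  obtain ⟨-, hamp⟩ := FibreAmp.perfect_of_fibres K hK (-m) (-m) fun I hI i hi => by
    obtain rfl := IsLocalRing.eq_maximalIdeal hI
    change Subsingleton (Dual.HD k ((DRing.LBaseChange (IsLocalRing.residue L)).obj K) i)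
    rw [DBasic.subsingleton_HD_congr e, DBasic.subsingleton_HD_shift _ m i (m + i) rfl]
    exact PC.subsingleton_HD_inD k k (m + i) (by omega)
  have hvan : ∀ i, i ≠ -m → Subsingleton (Dual.HD L K i) := fun i hi =>
    TorAmp.torAmp_boundedHD hamp i (by omega)
  refine ⟨hvan, ?_⟩
  let H := Dual.HD L K (-m)
  have : Module.Finite L H := hfin (-m)
  obtain ⟨s⟩ := Devissage.nonempty_single K (-m) hvan
  let t : Dual.inD L H ≅ K⟦-m⟧ :=
    ((shiftFunctorCompIsoId (Dual.D L) (- -m) (-m) (neg_add_cancel _)).app _).symm ≪≫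
      (shiftFunctor (Dual.D L) (-m)).mapIso s.symm
  have : Module.Flat L H := Perfect.flat_of_torAmp
    (TorAmp.torAmp_of_iso t.symm (TorAmp.torAmp_shift hamp (-m) (zero_add _) (zero_add _)))
  have : Module.Free L H := Module.free_of_flat_of_isLocalRing
  have := LTensor.hasLBaseChange (algebraMap L k)
  obtain ⟨f1⟩ := nonempty_flat (A := L) (B := k) H
  obtain ⟨f2⟩ := nonempty_shift (IsLocalRing.residue L) K (-m)
  let ek : Dual.inD k (k ⊗[L] H) ≅ Dual.inD k k :=
    f1.symm ≪≫ (DRing.LBaseChange (IsLocalRing.residue L)).mapIso t ≪≫ f2 ≪≫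
      (shiftFunctor (Dual.D k) (-m)).mapIso e ≪≫ (shiftFunctorCompIsoId (Dual.D k) m (-m) (add_neg_cancel m)).app _
  let ev : (k ⊗[L] H) ≃ₗ[k] k :=
    (((DerivedCategory.singleFunctor (ModuleCat.{u} k) 0).preimageIso ek)).toLinearEquiv
  have hr : Module.finrank L H = 1 := by
    rw [← Module.finrank_baseChange (R := k), ev.finrank_eq, Module.finrank_self]
  exact ⟨(Module.finBasisOfFinrankEq L H hr).equivFun.trans (LinearEquiv.funUnique (Fin 1) L L)⟩

theorem isInvertible_of_gorenstein
    (hGor : ∀ p : PrimeSpectrum R, LocCoh.IsGorensteinRing (A ⊗[R] p.asIdeal.ResidueField))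
    [hL : ∀ f : A, DRing.HasLBaseChange (algebraMap A (Localization.Away f))] (q : PrimeSpectrum A) :
    ∃ (f : A) (_ : f ∉ q.asIdeal) (m : ℤ), Nonempty ((DRing.LBaseChange (algebraMap A (Localization.Away f))).obj
      (Dual2.shriekVia n Rψ (Dual.inD R R)) ≅ (Dual.inD (Localization.Away f) (Localization.Away f))⟦m⟧) := by
  classical
  let ω := Dual2.shriekVia n Rψ (Dual.inD R R)
  let L := Localization.AtPrime q.asIdeal
  let S := q.asIdeal.primeCompl
  have := LTensor.hasLBaseChange (algebraMap A q.asIdeal.ResidueField)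
  have := LTensor.hasLBaseChange (algebraMap A L)
  have := LTensor.hasLBaseChange (IsLocalRing.residue L)
  have hfinω : ∀ i, Module.Finite A (Dual.HD A ω i) := fun i =>
    ShriekVia.finite_HD n ψ hψ Rψ adj (Dual.inD R R) 0 Gorenstein.finite_HD_inD i
  obtain ⟨m, ⟨em⟩⟩ := exists_deg n ψ Rψ hGor hψ adj q
  obtain ⟨c⟩ := nonempty_comp (algebraMap A L) (IsLocalRing.residue L) (algebraMap A q.asIdeal.ResidueField)
    (IsScalarTower.algebraMap_eq A L q.asIdeal.ResidueField).symm ω
  have : Module.Flat A L := IsLocalization.flat L S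
  obtain ⟨eL⟩ := FlatBC.nonempty_LBaseChange (A := A) (B := L) ω
  let hd : ∀ i, Dual.HD L ((DRing.LBaseChange (algebraMap A L)).obj ω) i ≃ₗ[L] L ⊗[A] Dual.HD A ω i := fun i =>
    ((DBasic.HF i).mapIso eL).toLinearEquiv.trans (BaseChange.HDEquiv A L ω i).symm
  obtain ⟨hv, ⟨e1⟩⟩ := nonempty_local ((DRing.LBaseChange (algebraMap A L)).obj ω)
    (Perfect.pc'_baseChange (algebraMap A L) (pc' n ψ hψ Rψ adj)) m
    (fun i => have := hfinω i; Module.Finite.equiv (hd i).symm) (c ≪≫ em)
  have := hfinω (-m)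
  obtain ⟨s, hs, hs'⟩ := exists_equiv_away S L (Dual.HD A ω (-m)) ((hd (-m)).symm.trans e1)
  obtain ⟨a, b, hab⟩ := ShriekFlatProps.bounded n ψ hψ Rψ adj
  have hkill : ∀ i : ℤ, ∃ t ∈ S, i ≠ -m → ∀ x : Dual.HD A ω i, t • x = 0 := fun i => by
    by_cases hi : i = -m
    · exact ⟨1, S.one_mem, fun h => absurd hi h⟩
    · have := hfinω i
      have := hv i hi
      obtain ⟨t, ht, h⟩ := exists_smul_of_subsingleton S L (Dual.HD A ω i) ((hd i).symm.toEquiv.subsingleton)
      exact ⟨t, ht, fun _ => h⟩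
  choose t htS ht using hkill
  let f := s * ∏ i ∈ Finset.Icc a b, t i
  have hf : f ∈ S := S.mul_mem hs (Submonoid.prod_mem S fun i _ => htS i)
  let C := Localization.Away f
  have hu : IsUnit (algebraMap A C f) := IsLocalization.Away.algebraMap_isUnit f
  rw [map_mul, IsUnit.mul_iff, map_prod] at hu
  have : Module.Flat A C := IsLocalization.flat C (Submonoid.powers f)
  obtain ⟨eC⟩ := FlatBC.nonempty_LBaseChange (A := A) (B := C) ω
  let hd' : ∀ i, Dual.HD C ((DRing.LBaseChange (algebraMap A C)).obj ω) i ≃ₗ[C] C ⊗[A] Dual.HD A ω i := fun i =>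
    ((DBasic.HF i).mapIso eC).toLinearEquiv.trans (BaseChange.HDEquiv A C ω i).symm
  have hvC : ∀ i, i ≠ -m → Subsingleton (Dual.HD C ((DRing.LBaseChange (algebraMap A C)).obj ω) i) := fun i hi => by
    by_cases h : i ∈ Finset.Icc a b
    · have := subsingleton_tensor (B := C) (Dual.HD A ω i) (t i) (IsUnit.prod_iff.1 hu.2 i h) (ht i hi)
      exact (hd' i).toEquiv.subsingleton
    · rw [Finset.mem_Icc] at h
      have : Subsingleton (Dual.HD A ω i) := hab i (by omega)
      exact (hd' i).toEquiv.subsingleton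
  obtain ⟨eC1⟩ := hs' C hu.1
  obtain ⟨sC⟩ := Devissage.nonempty_single _ (-m) hvC
  exact ⟨f, hf, m, ⟨sC ≪≫ (shiftFunctor (Dual.D C) (- -m)).mapIso
    ((DerivedCategory.singleFunctor (ModuleCat.{u} C) 0).mapIso ((hd' (-m)).trans eC1).toModuleIso) ≪≫
    eqToIso (by rw [neg_neg])⟩⟩

omit hψ adj in
theorem gorenstein_of_isInvertible (hψ : Function.Surjective ψ) (adj : DRing.restrictD ψ.toRingHom ⊣ Rψ)
    [hL : ∀ f : A, DRing.HasLBaseChange (algebraMap A (Localization.Away f))]
    (h : ∀ q : PrimeSpectrum A, ∃ (f : A) (_ : f ∉ q.asIdeal) (m : ℤ), Nonempty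
      ((DRing.LBaseChange (algebraMap A (Localization.Away f))).obj (Dual2.shriekVia n Rψ (Dual.inD R R)) ≅
        (Dual.inD (Localization.Away f) (Localization.Away f))⟦m⟧)) (p : PrimeSpectrum R) :
    LocCoh.IsGorensteinRing (A ⊗[R] p.asIdeal.ResidueField) := by
  let k := p.asIdeal.ResidueField
  let B := k ⊗[R] A
  let φ : A →+* B := (Algebra.TensorProduct.includeRight : A →ₐ[R] B).toRingHom
  have hs := ShriekFlatBC.presentation_surjective (R' := k) ψ hψ
  have : IsNoetherianRing B := isNoetherianRing_of_surjective _ _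
    (ShriekFlatBC.presentation (R' := k) ψ).toRingHom hs
  refine Gor.Ring.isGorensteinRing_of_ringEquiv (Algebra.TensorProduct.comm R k A).toRingEquiv
    { isGorensteinLocalRing_localization := fun Q _ => ?_ }
  let C := Localization.AtPrime Q
  let q : PrimeSpectrum A := ⟨Q.comap φ, inferInstance⟩
  obtain ⟨f, hf, m, ⟨ef⟩⟩ := h q
  have hfu : IsUnit (((algebraMap B C).comp φ) f) := IsLocalization.map_units C (⟨φ f, hf⟩ : Q.primeCompl)
  let g : Localization.Away f →+* C := IsLocalization.Away.lift (g := (algebraMap B C).comp φ) f hfu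
  have hg : g.comp (algebraMap A (Localization.Away f)) = (algebraMap B C).comp φ := IsLocalization.Away.lift_comp f hfu
  have := LTensor.hasLBaseChange φ
  have := LTensor.hasLBaseChange (algebraMap B C)
  have := LTensor.hasLBaseChange g
  have := LTensor.hasLBaseChange ((algebraMap B C).comp φ)
  let ω := Dual2.shriekVia n Rψ (Dual.inD R R)
  have hW := ShriekFlatProps.isDualizing_fibre n ψ hψ Rψ adj k
  obtain ⟨eC⟩ := FlatBC.nonempty_LBaseChange (A := B) (B := C) ((DRing.LBaseChange φ).obj ω)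
  obtain ⟨c1⟩ := nonempty_comp φ (algebraMap B C) _ rfl ω
  obtain ⟨c2⟩ := nonempty_comp (algebraMap A (Localization.Away f)) g _ hg ω
  obtain ⟨c3⟩ := nonempty_inD g m
  have hWC : Dual.IsDualizing C ((Dual.inD C C)⟦m⟧) :=
    FlatBC.isDualizing_of_iso (eC.symm ≪≫ c1 ≪≫ c2.symm ≪≫ (DRing.LBaseChange g).mapIso ef ≪≫ c3)
      (Dimfun.isDualizing_local hW ⟨Q, inferInstance⟩)
  exact Gorenstein.isGorensteinLocalRing_of_isDualizing (FlatBC.isDualizing_of_iso
    ((shiftFunctorCompIsoId (Dual.D C) m (-m) (add_neg_cancel m)).app _)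
    (Normalized.isDualizing_shift hWC (-m)))

end Groth.Agent.DualCx.ShriekGor
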