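import Groth.Agent.DualCx.ShriekVia
import Groth.Agent.VarDim.Algebra
import Mathlib.RingTheory.Polynomial.Quotient

/-!
# Normalization of `φ^!` at closed points over the closed point
-/

universe u

open CategoryTheory CategoryTheory.Limits IsLocalRing
open scoped TensorProduct

attribute [local instance] HasDerivedCategory.standard

namespace Groth.Agent.DualCx.ShriekNormal

open Devissage (E pre)
open Dimfun (Z deg B)

section Series

variable {A : Type u} [CommRing A] [IsNoetherianRing A] {ω : Dual.D A} (hω : Dual.IsDualizing A ω)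

include hω

/-- saturated chains have length the difference of degrees -/
theorem exists_ltSeries : ∀ (k : ℕ) (q m : PrimeSpectrum A), q ≤ m → (deg hω m - deg hω q).toNat = k →
    ∃ l : LTSeries (PrimeSpectrum A), l.head = q ∧ l.last = m ∧ deg hω m = deg hω q + l.length := by
  intro k
  induction k with
  | zero =>
    intro q m hqm hk
    rcases eq_or_lt_of_le hqm with rfl | hlt
    · exact ⟨RelSeries.singleton _ q, rfl, rfl, by simp⟩
    · have := Dimfun.deg_lt hω hlt
      omega
  | succ k ih =>
    intro q m hqm hk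
    have hlt : q < m := lt_of_le_of_ne hqm fun h => by rw [h] at hk; omega
    obtain ⟨d, ⟨r, ⟨hqr, hrm⟩, rfl⟩, hmin⟩ := Int.exists_least_of_bdd
      (P := fun d => ∃ r, (q < r ∧ r ≤ m) ∧ deg hω r = d)
      ⟨deg hω q, fun d ⟨r, hr, h⟩ => h ▸ (Dimfun.deg_lt hω hr.1).le⟩ ⟨_, m, ⟨hlt, le_rfl⟩, rfl⟩
    have hcov : q ⋖ r := ⟨hqr, fun s hqs hsr => absurd (Dimfun.deg_lt hω hsr)
      (not_lt.mpr (hmin _ ⟨s, ⟨hqs, hsr.le.trans hrm⟩, rfl⟩))⟩
    have := Dimfun.deg_covBy hω hcov
    obtain ⟨l, hl, hl', hd⟩ := ih r m hrm (by omega)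
    refine ⟨l.cons q (show q < l.head from hl ▸ hqr), RelSeries.head_cons _ _ _, ?_, ?_⟩
    · rw [RelSeries.last_cons, hl']
    · rw [RelSeries.cons_length]
      push_cast
      omega

/-- degrees grow along chains -/
theorem deg_head_add_length_le (l : LTSeries (PrimeSpectrum A)) :
    deg hω l.head + l.length ≤ deg hω l.last := by
  have key : ∀ k : ℕ, (hk : k ≤ l.length) → deg hω l.head + k ≤ deg hω (l ⟨k, by omega⟩) := by
    intro k
    induction k with
    | zero => intro hk; simp [RelSeries.head]
    | succ k ih =>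
      intro hk
      have := Dimfun.deg_lt hω (l.step ⟨k, by omega⟩)
      have h2 := ih (by omega)
      simp only [Fin.castSucc_mk, Fin.succ_mk] at this
      push_cast
      omega
  exact key l.length le_rfl

/-- degrees at `m` and `q ≤ m` differ by the height of `m` in the quotient by `q` -/
theorem deg_eq_add_height (q : PrimeSpectrum A) (m : PrimeSpectrum (A ⧸ q.1)) (n : ℕ)
    (hn : Order.height m = n) :
    deg hω (PrimeSpectrum.comap (Ideal.Quotient.mk q.1) m) = deg hω q + n := by
  let e := q.1.primeSpectrumQuotientOrderIsoZeroLocus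
  let f : PrimeSpectrum (A ⧸ q.1) → PrimeSpectrum A := fun x => (e x).1
  have hf : ∀ x, f x = PrimeSpectrum.comap (Ideal.Quotient.mk q.1) x := fun x => rfl
  have hfs : StrictMono f := fun x y h => e.strictMono h
  have hq : ∀ x, q ≤ f x := fun x => (e x).2
  rw [← hf]
  obtain ⟨l, hl, hlen⟩ := Order.exists_series_of_le_height m hn.ge
  have h1 := deg_head_add_length_le hω (l.map f hfs)
  rw [LTSeries.head_map, LTSeries.last_map, hl, LTSeries.map_length, hlen] at h1
  have h2 : deg hω q ≤ deg hω (f l.head) := by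
    rcases eq_or_lt_of_le (hq l.head) with h | h
    · rw [← h]
    · exact (Dimfun.deg_lt hω h).le
  obtain ⟨L, hL, hL', hLlen⟩ := exists_ltSeries hω _ q (f m) (hq m) rfl
  have hmem : ∀ i, L i ∈ PrimeSpectrum.zeroLocus (R := A) q.1 := fun i => by
    have h : L.head ≤ L i := LTSeries.monotone L (Fin.zero_le i)
    rw [hL] at h
    exact h
  let L' : LTSeries (PrimeSpectrum (A ⧸ q.1)) :=
    { length := L.length
      toFun := fun i => e.symm ⟨L i, hmem i⟩
      step := fun i => e.symm.strictMono (show L i.castSucc < L i.succ from L.step i) }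
  have h3 : (L'.length : ℕ∞) ≤ n := hn ▸ Order.length_le_height (x := m) (le_of_eq (by
    change e.symm ⟨L.last, _⟩ = m
    rw [OrderIso.symm_apply_eq]
    exact Subtype.ext hL'))
  have h4 : L.length ≤ n := by exact_mod_cast h3
  omega

end Series

section Poly

variable {R : Type u} [CommRing R] [IsNoetherianRing R] [IsLocalRing R] {ω : Dual.D R}
  (hω : Dual.IsDualizing R ω) (hn : Dual.IsNormalized R ω) (n : ℕ)

include hω hn

/-- the degree at a closed point of affine space over the closed point -/
theorem deg_closed (m : Ideal (MvPolynomial (Fin n) R)) [m.IsMaximal]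
    (hm : m.comap MvPolynomial.C = maximalIdeal R) :
    deg (Smooth.isDualizing_mvPolynomial hω n) ⟨m, inferInstance⟩ = n := by
  let P := MvPolynomial (Fin n) R
  letI : Field (R ⧸ maximalIdeal R) := Ideal.Quotient.field _
  let e := (MvPolynomial.quotientEquivQuotientMvPolynomial (σ := Fin n) (maximalIdeal R)).toRingEquiv
  let q₀ : Ideal P := (maximalIdeal R).map MvPolynomial.C
  have hq₀ : q₀.IsPrime := (Ideal.Quotient.isDomain_iff_prime q₀).1 e.symm.toMulEquiv.isDomain
  let q : PrimeSpectrum P := ⟨q₀, hq₀⟩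
  have hqm : q₀ ≤ m := Ideal.map_le_iff_le_comap.2 hm.ge
  have hq : deg (Smooth.isDualizing_mvPolynomial hω n) q = 0 := by
    by_contra hne
    refine Dimfun.not_Z_deg (Smooth.isDualizing_mvPolynomial hω n) q
      (@Dimfun.Z_of_subsingleton P _ q _ _ _ ?_)
    obtain ⟨a, ha⟩ := Dimfun.exists_isGE hω
    obtain ⟨eq⟩ := FlatBC.nonempty_quotient (A := R) (B := P) (maximalIdeal R)
    exact FlatBC.subsingleton_of_base ω a (R ⧸ maximalIdeal R) _ eq _ (hn _ hne)
  let M : Ideal (P ⧸ q₀) := m.map (Ideal.Quotient.mk q₀)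
  have hMc : M.comap (Ideal.Quotient.mk q₀) = m := by
    rw [Ideal.comap_map_of_surjective _ Ideal.Quotient.mk_surjective, sup_eq_left]
    exact le_trans (Ideal.mk_ker (I := q₀)).le hqm
  have hM : M.IsMaximal := (Ideal.map_eq_top_or_isMaximal_of_surjective _ Ideal.Quotient.mk_surjective
    inferInstance).resolve_left fun h => (Ideal.IsMaximal.ne_top ‹m.IsMaximal›) (by
      rw [← hMc, show M = ⊤ from h, Ideal.comap_top])
  have hh : Order.height (⟨M, hM.isPrime⟩ : PrimeSpectrum (P ⧸ q₀)) = n := by
    have : (M.comap e.toRingHom).IsMaximal := Ideal.comap_isMaximal_of_surjective _ e.surjective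
    rw [← PrimeSpectrum.height_eq_orderHeight]
    show M.height = n
    rw [← Ideal.map_comap_of_surjective e.toRingHom e.surjective M]
    exact (e.height_map _).trans (VarDim.height_eq_of_isMaximal_mvPolynomial _ n _ this)
  have h := deg_eq_add_height (Smooth.isDualizing_mvPolynomial hω n) q ⟨M, hM.isPrime⟩ n hh
  rw [hq, zero_add] at h
  rw [← h]
  congr 1
  exact PrimeSpectrum.ext hMc.symm

end Poly

end Groth.Agent.DualCx.ShriekNormal
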