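import Groth.Agent.DualCx.ProjForm
import Groth.Agent.DualCx.RAdj
import Groth.Agent.FlatMor.PC.Cancel
import Groth.Prelude.Def_DualSh

/-!
# `φ^!(K) ≅ (K ⊗ A) ⊗ φ^!(R)` for flat `φ`
-/

universe u

open CategoryTheory CategoryTheory.Limits MonoidalCategory DerivedCategory

attribute [local instance] HasDerivedCategory.standard

namespace Groth.Agent.DualCx.ShriekProj

open Groth.Agent.DRing Groth.Agent.DTenLib

section Res

variable (P B : Type u) [CommRing P] [CommRing B] [Algebra P B]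

/-- `B` over `P` -/
noncomputable def restrictSelfIso :
    (ModuleCat.restrictScalars.{u} (algebraMap P B)).obj (𝟙_ (ModuleCat.{u} B)) ≅ ModuleCat.of P B :=
  letI : Module P ((ModuleCat.restrictScalars.{u} (algebraMap P B)).obj (𝟙_ (ModuleCat.{u} B))) :=
    ((ModuleCat.restrictScalars.{u} (algebraMap P B)).obj (𝟙_ (ModuleCat.{u} B))).isModule
  let e : ((ModuleCat.restrictScalars.{u} (algebraMap P B)).obj (𝟙_ (ModuleCat.{u} B))) ≃ₗ[P] B :=
    { (AddEquiv.refl B) with map_smul' := fun a x => (Algebra.smul_def a (show B from x)).symm }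
  e.toModuleIso

/-- `B[0]` over `P` -/
noncomputable def resUnitIso :
    DRing.toD ((DTen.resCx (algebraMap P B)).obj (𝟙_ (DRing.Cx B))) ≅ Dual.inD P B :=
  DerivedCategory.Q.mapIso
    ((HomologicalComplex.singleMapHomologicalComplex (ModuleCat.restrictScalars.{u} (algebraMap P B))
      (ComplexShape.up ℤ) 0).app (𝟙_ (ModuleCat.{u} B))) ≪≫
  ((DerivedCategory.singleFunctorIsoCompQ (ModuleCat.{u} P) 0).app _).symm ≪≫
  (DerivedCategory.singleFunctor (ModuleCat.{u} P) 0).mapIso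
    (restrictSelfIso P B)

variable {P B} in
/-- resolution with dual bases -/
theorem exists_dualRes (h : DRing.IsPerfectModule P B) :
    ∃ (E : DRing.Cx P) (ι : E ⟶ (DTen.resCx (algebraMap P B)).obj (𝟙_ (DRing.Cx B))),
      E.IsKProjective ∧ QuasiIso ι ∧ Nonempty (DualData E) := by
  obtain ⟨E, x, y, hb, hf, ⟨e⟩⟩ := h
  have hE := DBasic.isKProjective_of_projective E y (fun i hi => hb i (Or.inr hi)) fun i => (hf i).2
  obtain ⟨ι, hι⟩ := DBasic.exists_Q_map_eq (e ≪≫ (resUnitIso P B).symm).hom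
  exact ⟨E, ι, hE, (DerivedCategory.isIso_Q_map_iff_quasiIso (C := ModuleCat.{u} P) ι).1 (by rw [hι]; infer_instance),
    nonempty_dualData hb hf⟩

end Res

/-- a flat algebra of finite type over a Noetherian ring is perfect over a polynomial ring -/
theorem isPerfectModule_presentation {R A : Type u} [CommRing R] [CommRing A] [IsNoetherianRing R]
    [Algebra R A] [Module.Flat R A] (n : ℕ) [Algebra (MvPolynomial (Fin n) R) A]
    [IsScalarTower R (MvPolynomial (Fin n) R) A]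
    (hs : Function.Surjective (algebraMap (MvPolynomial (Fin n) R) A)) :
    DRing.IsPerfectModule (MvPolynomial (Fin n) R) A := by
  have : Algebra.FiniteType R A := Algebra.FiniteType.of_surjective
    (IsScalarTower.toAlgHom R (MvPolynomial (Fin n) R) A) hs
  have : Algebra.FinitePresentation R A := Algebra.FinitePresentation.of_finiteType.1 inferInstance
  have : Module.Finite (MvPolynomial (Fin n) R) A :=
    Module.Finite.of_surjective (Algebra.linearMap _ _) hs
  have : Algebra.Smooth R (MvPolynomial (Fin n) R) := ⟨inferInstance, inferInstance⟩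
  exact FlatMor.PC.perfectModule_of_perfectHom
    (FlatMor.PC.perfectHom_of_comp_smooth (A := R) FlatMor.PC.perfectHom_of_flat_fp)

variable {P B : Type u} [CommRing P] [CommRing B] [Algebra P B]

/-- `R(Q) ≅ W₀ ⊗ ext Q` with `W₀` representing `R(P[0])` -/
theorem nonempty_radj_iso (h : DRing.IsPerfectModule P B) {R : Dual.D P ⥤ Dual.D B}
    (adj : DRing.restrictD (algebraMap P B) ⊣ R) {W₀ : DRing.Cx B}
    (eW : DRing.toD W₀ ≅ R.obj (Dual.inD P P)) {Q : DRing.Cx P} (hQ : DRing.IsKFlat P Q) :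
    Nonempty (R.obj (DRing.toD Q) ≅ DRing.toD (W₀ ⊗ (DTen.extCx (algebraMap P B)).obj Q)) := by
  obtain ⟨E, ι, hE, hι, ⟨D⟩⟩ := exists_dualRes h
  obtain ⟨I, j, hI, hj, -, -⟩ := DHA.KInj.exists_resolution (ModuleCat.{u} P) (𝟙_ (DRing.Cx P))
  let eI : DRing.toD I ≅ Dual.inD P P := (asIso (DerivedCategory.Q.map j)).symm ≪≫
    ((DerivedCategory.singleFunctorIsoCompQ (ModuleCat.{u} P) 0).app (𝟙_ (ModuleCat.{u} P))).symm
  obtain ⟨ε, hν⟩ := ProjForm.exists_counit ι adj (eW ≪≫ R.mapIso eI.symm)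
  obtain ⟨e⟩ := ProjForm.nonempty_tensor ι adj D ε hν hQ
  have := KFlat.quasiIso_whiskerLeft hQ j
  exact ⟨R.mapIso ((DerivedCategory.Q.mapIso (ρ_ Q)).symm ≪≫ asIso (DerivedCategory.Q.map (Q ◁ j))) ≪≫ e⟩

/-- `inD P P` is the base change of `inD R R` -/
theorem nonempty_LBaseChange_inD {R P : Type u} [CommRing R] [CommRing P] [Algebra R P]
    [DRing.HasLBaseChange (algebraMap R P)] :
    Nonempty ((DRing.LBaseChange (algebraMap R P)).obj (Dual.inD R R) ≅ Dual.inD P P) := by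
  obtain ⟨e⟩ := ProjUniv.nonempty_testIso R P 0
  exact ⟨(DRing.LBaseChange (algebraMap R P)).mapIso (((RegEl.UIso R 0) ≪≫
      (shiftFunctorZero' (Dual.D R) (-0 : ℤ) neg_zero).app _).symm) ≪≫
    LTensor.LBaseChangeIso (algebraMap R P) (isKFlat_kproj (ProjUniv.Z R 0)) ≪≫ e.symm ≪≫
    (shiftFunctorZero' (Dual.D P) (-0 : ℤ) neg_zero).app _⟩

/-- the formula -/
theorem nonempty_shriekVia_tensor {R A : Type u} [CommRing R] [CommRing A] [IsNoetherianRing R]
    [Algebra R A] [Module.Flat R A] (n : ℕ) (ψ : MvPolynomial (Fin n) R →ₐ[R] A)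
    (hψ : Function.Surjective ψ) [DRing.HasLBaseChange (algebraMap R (MvPolynomial (Fin n) R))]
    (Rψ : Dual.D (MvPolynomial (Fin n) R) ⥤ Dual.D A) (adj : DRing.restrictD ψ.toRingHom ⊣ Rψ)
    (W : DRing.Cx A) (hW : Nonempty (DRing.toD W ≅ Dual2.shriekVia n Rψ (Dual.inD R R)))
    [DRing.HasLBaseChange (algebraMap R A)] [DRing.HasLTensorCx A W] (K : Dual.D R) :
    Nonempty (Dual2.shriekVia n Rψ K ≅
      (DRing.LTensorCx A W).obj ((DRing.LBaseChange (algebraMap R A)).obj K)) := by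
  let P := MvPolynomial (Fin n) R
  let : Algebra P A := ψ.toRingHom.toAlgebra
  have : IsScalarTower R P A := IsScalarTower.of_algebraMap_eq fun x => (ψ.commutes x).symm
  obtain ⟨Kc, hKc, -, ⟨eK⟩⟩ := DBasic.exists_kproj_iso K
  obtain ⟨W₀, hW₀, -, ⟨eW⟩⟩ := DBasic.exists_kproj_iso (Rψ.obj (Dual.inD P P))
  let Q : DRing.Cx P := (DTen.extCx (algebraMap R P)).obj Kc
  have hQ : DRing.IsKFlat P Q := KFlat.BaseChange.isKFlat_extCx _ (isKFlat_kproj Kc)
  obtain ⟨e1⟩ := nonempty_radj_iso (isPerfectModule_presentation n hψ) adj eW hQ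
  -- the right hand side
  let T : DRing.Cx A := (DTen.extCx (algebraMap P A)).obj Q
  have hT : DRing.IsKFlat A T := KFlat.BaseChange.isKFlat_extCx _ hQ
  let eT : DRing.toD T ≅ (DRing.LBaseChange (algebraMap R A)).obj K :=
    DerivedCategory.Q.mapIso ((NatIso.mapHomologicalComplex
      ((ModuleCat.extendScalarsComp.{u} (algebraMap R P) (algebraMap P A)).symm ≪≫
        eqToIso (by rw [← IsScalarTower.algebraMap_eq])) (ComplexShape.up ℤ)).app Kc) ≪≫
      (LTensor.LBaseChangeIso (algebraMap R A) (isKFlat_kproj Kc)).symm ≪≫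
        (DRing.LBaseChange (algebraMap R A)).mapIso eK
  obtain ⟨eS⟩ := hW
  obtain ⟨eU⟩ := nonempty_LBaseChange_inD (R := R) (P := P)
  have hWn : CochainComplex.IsKProjective (W₀⟦(n : ℤ)⟧) := inferInstance
  let eW' : DRing.toD (W₀⟦(n : ℤ)⟧) ≅ DRing.toD W :=
    (DerivedCategory.Q.commShiftIso (n : ℤ)).app W₀ ≪≫
      (shiftFunctor (Dual.D A) (n : ℤ)).mapIso (eW ≪≫ Rψ.mapIso eU.symm) ≪≫ eS.symm
  obtain ⟨w, hw⟩ := DBasic.exists_Q_map_eq eW'.hom
  have : QuasiIso w := (DerivedCategory.isIso_Q_map_iff_quasiIso (C := ModuleCat.{u} A) w).1 (by rw [hw]; infer_instance)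
  have := KFlat.quasiIso_whiskerLeft hT w
  have := LTensor.isIso_toTensor W hT
  exact ⟨(shiftFunctor (Dual.D A) (n : ℤ)).mapIso (Rψ.mapIso
      ((DRing.LBaseChange (algebraMap R P)).mapIso eK.symm ≪≫
        LTensor.LBaseChangeIso (algebraMap R P) (isKFlat_kproj Kc)) ≪≫ e1 ≪≫
      DerivedCategory.Q.mapIso (DTen.braidCx W₀ T)) ≪≫
    ((DerivedCategory.Q.commShiftIso (n : ℤ)).app (T ⊗ W₀)).symm ≪≫
    DerivedCategory.Q.mapIso (Tensor.shiftIso T W₀ (n : ℤ)).symm ≪≫
    asIso (DerivedCategory.Q.map (T ◁ w)) ≪≫ (asIso (LTensor.toTensor W T)).symm ≪≫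
    (DRing.LTensorCx A W).mapIso eT⟩

end Groth.Agent.DualCx.ShriekProj
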