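import Groth.Agent.DualCx.ShriekFlatProps
import Groth.Agent.DRing.PCTrunc

/-!
# `φ^!(R)` is relative dualizing for flat `φ`
-/

universe u

open CategoryTheory CategoryTheory.Limits DerivedCategory
open scoped TensorProduct

attribute [local instance] HasDerivedCategory.standard MvPolynomial.algebraMvPolynomial

namespace Groth.Agent.DualCx.ShriekRelDual

open Groth.Agent.DRing Groth.Agent.DTenLib

/-- the right adjoint along a bijection is restriction along the inverse -/
theorem nonempty_radj_of_inverse {P A : Type u} [CommRing P] [CommRing A] (e : P ≃+* A)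
    {F : Dual.D P ⥤ Dual.D A} (adj : DRing.restrictD e.toRingHom ⊣ F) (K : Dual.D P) :
    Nonempty (F.obj K ≅ (DRing.restrictD e.symm.toRingHom).obj K) := by
  obtain ⟨a⟩ := RAdj.nonempty_restrictComp e.toRingHom e.symm.toRingHom (RingHom.id P)
    (RingHom.ext fun x => e.symm_apply_apply x)
  obtain ⟨b⟩ := RAdj.nonempty_restrictComp e.symm.toRingHom e.toRingHom (RingHom.id A)
    (RingHom.ext fun x => e.apply_symm_apply x)
  obtain ⟨p⟩ := RAdj.nonempty_restrictId P
  obtain ⟨q⟩ := RAdj.nonempty_restrictId A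
  let E : Dual.D A ≌ Dual.D P := CategoryTheory.Equivalence.mk (DRing.restrictD e.toRingHom)
    (DRing.restrictD e.symm.toRingHom) (q.symm ≪≫ b) (a.symm ≪≫ p)
  exact ⟨(Adjunction.rightAdjointUniq adj E.toAdjunction).app K⟩

/-- the upper shriek of the identity -/
theorem nonempty_shriekVia_id {A : Type u} [CommRing A] (n : ℕ)
    (χ : MvPolynomial (Fin n) A →ₐ[A] A) [DRing.HasLBaseChange (algebraMap A (MvPolynomial (Fin n) A))]
    {F : Dual.D (MvPolynomial (Fin n) A) ⥤ Dual.D A} (adj : DRing.restrictD χ.toRingHom ⊣ F) :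
    Nonempty (Dual2.shriekVia n F (Dual.inD A A) ≅ Dual.inD A A) := by
  have hχ : Function.Surjective χ := fun a => ⟨MvPolynomial.C a, χ.commutes a⟩
  let e : MvPolynomial (Fin 0) A ≃ₐ[A] A := MvPolynomial.isEmptyAlgEquiv A (Fin 0)
  obtain ⟨F₀, ⟨adj₀⟩⟩ := RAdj.exists_adj e.toAlgHom.toRingHom
  obtain ⟨i⟩ := Indep.nonempty_shriekVia_iso n χ hχ F adj 0 e.toAlgHom e.surjective adj₀ (Dual.inD A A)
  obtain ⟨j⟩ := nonempty_radj_of_inverse e.toRingEquiv (F := F₀) adj₀
    ((BaseChange.FD A (MvPolynomial (Fin 0) A)).obj (Dual.inD A A))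
  let g : (ModuleCat.restrictScalars.{u} e.toRingEquiv.symm.toRingHom).obj
      (ModuleCat.of (MvPolynomial (Fin 0) A) (MvPolynomial (Fin 0) A)) ≅ ModuleCat.of A A :=
    letI : Module A ((ModuleCat.restrictScalars.{u} e.toRingEquiv.symm.toRingHom).obj
      (ModuleCat.of (MvPolynomial (Fin 0) A) (MvPolynomial (Fin 0) A))) :=
      ((ModuleCat.restrictScalars.{u} e.toRingEquiv.symm.toRingHom).obj
        (ModuleCat.of (MvPolynomial (Fin 0) A) (MvPolynomial (Fin 0) A))).isModule
    LinearEquiv.toModuleIso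
      ({ e.toRingEquiv.toAddEquiv with
          map_smul' := fun a x => (map_mul e (e.symm a) x).trans
            (congrArg (· * e x) (e.apply_symm_apply a)) } :
        ((ModuleCat.restrictScalars.{u} e.toRingEquiv.symm.toRingHom).obj
          (ModuleCat.of (MvPolynomial (Fin 0) A) (MvPolynomial (Fin 0) A))) ≃ₗ[A] A)
  let f (Q : Type u) [CommRing Q] : Dual.inD Q Q ≅ DRing.toD (ExactPairingCx.I1 Q) :=
    (DerivedCategory.singleFunctorIsoCompQ (ModuleCat.{u} Q) 0).app (ModuleCat.of Q Q)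
  exact ⟨i ≪≫ (shiftFunctorZero (Dual.D A) ℤ).app _ ≪≫ j ≪≫
    (DRing.restrictD _).mapIso (asIso (BaseChange.θ A (MvPolynomial (Fin 0) A))).symm ≪≫
    (DRing.restrictD _).mapIso (f _) ≪≫ (DTen.resFactors e.toRingEquiv.symm.toRingHom).app _ ≪≫
    DerivedCategory.Q.mapIso ((HomologicalComplex.singleMapHomologicalComplex
      (ModuleCat.restrictScalars.{u} e.toRingEquiv.symm.toRingHom) (ComplexShape.up ℤ) 0).app _ ≪≫
      (HomologicalComplex.single (ModuleCat.{u} A) (ComplexShape.up ℤ) 0).mapIso g) ≪≫ (f A).symm⟩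

variable {R A : Type u} [CommRing R] [CommRing A] [IsNoetherianRing R] [Algebra R A] [Module.Flat R A]

/-- the presentation of `A ⊗ R'` over `R'` -/
noncomputable def presentation (R' : Type u) [CommRing R'] [Algebra R R'] {n : ℕ}
    (ψ : MvPolynomial (Fin n) R →ₐ[R] A) : MvPolynomial (Fin n) R' →+* A ⊗[R] R' :=
  (Algebra.TensorProduct.comm R R' A).toRingHom.comp (ShriekFlatBC.presentation (R' := R') ψ).toRingHom

variable (R' : Type u) [CommRing R'] [Algebra R R'] [IsNoetherianRing R']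

/-- base change along the left coprojection -/
theorem nonempty_left (n : ℕ) (ψ : MvPolynomial (Fin n) R →ₐ[R] A) (hψ : Function.Surjective ψ)
    [DRing.HasLBaseChange (algebraMap R (MvPolynomial (Fin n) R))]
    (Rψ : Dual.D (MvPolynomial (Fin n) R) ⥤ Dual.D A) (adj : DRing.restrictD ψ.toRingHom ⊣ Rψ)
    [hb : DRing.HasLBaseChange (Algebra.TensorProduct.includeLeftRingHom : A →+* A ⊗[R] R')]
    (F₁ : Dual.D (MvPolynomial (Fin n) R') ⥤ Dual.D (A ⊗[R] R'))
    (adj₁ : DRing.restrictD (presentation R' ψ) ⊣ F₁) :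
    Nonempty ((DRing.LBaseChange (Algebra.TensorProduct.includeLeftRingHom : A →+* A ⊗[R] R')).obj
      (Dual2.shriekVia n Rψ (Dual.inD R R)) ≅
        (F₁.obj (Dual.inD (MvPolynomial (Fin n) R') (MvPolynomial (Fin n) R')))⟦(n : ℤ)⟧) := by
  let P := MvPolynomial (Fin n) R
  let P₁ := MvPolynomial (Fin n) R'
  let A' := A ⊗[R] R'
  let : Algebra R' A' := Algebra.TensorProduct.rightAlgebra
  let : Algebra P A := ψ.toRingHom.toAlgebra
  let : Algebra P₁ A' := (presentation R' ψ).toAlgebra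
  have : IsScalarTower R P A := IsScalarTower.of_algebraMap_eq fun x => (ψ.commutes x).symm
  have : IsScalarTower R' P₁ A' := IsScalarTower.of_algebraMap_eq fun x => by
    change ((1 : A) ⊗ₜ[R] x : A') = Algebra.TensorProduct.comm R R' A (ShriekFlatBC.presentation ψ (algebraMap R' P₁ x))
    rw [(ShriekFlatBC.presentation (R' := R') ψ).commutes x]
    rfl
  have : IsScalarTower P A A' := inferInstance
  have : IsScalarTower P P₁ A' := IsScalarTower.of_algebraMap_eq fun p => by
    change (ψ p ⊗ₜ[R] (1 : R') : A') = Algebra.TensorProduct.comm R R' A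
      (ShriekFlatBC.presentation ψ (MvPolynomial.map (algebraMap R R') p))
    rw [ShriekFlatBC.presentation_map, Algebra.TensorProduct.comm_tmul]
  have : IsScalarTower R R' A' := IsScalarTower.of_algebraMap_eq fun r => by
    change ((algebraMap R A r) ⊗ₜ[R] (1 : R') : A') = (1 : A) ⊗ₜ[R] algebraMap R R' r
    rw [Algebra.algebraMap_eq_smul_one, Algebra.algebraMap_eq_smul_one, TensorProduct.smul_tmul]
  have : IsScalarTower R P₁ A' := IsScalarTower.of_algebraMap_eq fun r => by
    rw [IsScalarTower.algebraMap_apply R R' A', IsScalarTower.algebraMap_apply R' P₁ A',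
      ← IsScalarTower.algebraMap_apply R R' P₁]
  have : Algebra.IsPushout R A R' A' := TensorProduct.isPushout
  have : Algebra.IsPushout R P R' P₁ := inferInstance
  have : Algebra.IsPushout R R' P P₁ := Algebra.IsPushout.symm inferInstance
  have : Algebra.IsPushout P A P₁ A' :=
    (Algebra.IsPushout.comp_iff (R := R) (S := P) (R' := R') (S' := P₁) (T := A) (T' := A')).1 inferInstance
  have : Algebra.IsPushout P P₁ A A' := Algebra.IsPushout.symm inferInstance
  have hp := ShriekProj.isPerfectModule_presentation (A := A) n hψ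
  obtain ⟨W₀, hW₀, -, ⟨eW⟩⟩ := DBasic.exists_kproj_iso (Rψ.obj (Dual.inD P P))
  obtain ⟨e₁⟩ := ShriekBC.nonempty_ext_iso R R' (P₁ := P₁) (A' := A') hp adj adj₁ eW
  obtain ⟨eU⟩ := ShriekProj.nonempty_LBaseChange_inD (R := R) (P := P)
  haveI : DRing.HasLBaseChange (algebraMap A A') := hb
  exact ⟨(DRing.LBaseChange (algebraMap A A')).mapIso
      ((shiftFunctor (Dual.D A) (n : ℤ)).mapIso (Rψ.mapIso eU ≪≫ eW.symm) ≪≫
        ((DerivedCategory.Q.commShiftIso (n : ℤ)).app W₀).symm) ≪≫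
    LTensor.LBaseChangeIso (algebraMap A A') (isKFlat_kproj (W₀⟦(n : ℤ)⟧)) ≪≫
    DerivedCategory.Q.mapIso ((((ModuleCat.extendScalars.{u, u, u} (algebraMap A A')).mapHomologicalComplex
      (ComplexShape.up ℤ)).commShiftIso (n : ℤ)).app W₀) ≪≫
    (DerivedCategory.Q.commShiftIso (n : ℤ)).app _ ≪≫ (shiftFunctor _ _).mapIso e₁⟩

/-- the relative dualizing property -/
theorem isRelDualizing {R A : Type u} [CommRing R] [CommRing A] [IsNoetherianRing R] [IsNoetherianRing A]
    [Algebra R A] [Module.Flat R A] (n : ℕ) (ψ : MvPolynomial (Fin n) R →ₐ[R] A)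
    (hψ : Function.Surjective ψ) [DRing.HasLBaseChange (algebraMap R (MvPolynomial (Fin n) R))]
    (Rψ : Dual.D (MvPolynomial (Fin n) R) ⥤ Dual.D A) (adj : DRing.restrictD ψ.toRingHom ⊣ Rψ)
    [DRing.HasLBaseChange (Algebra.TensorProduct.includeLeftRingHom : A →+* A ⊗[R] A)]
    (Rμ : Dual.D (A ⊗[R] A) ⥤ Dual.D A)
    (adjμ : DRing.restrictD (Algebra.TensorProduct.lmul' R (S := A)).toRingHom ⊣ Rμ) :
    Dual2.IsRelDualizing R A Rμ (Dual2.shriekVia n Rψ (Dual.inD R R)) := by
  refine ⟨⟨?_, ShriekFlatProps.finiteTorDim n ψ hψ Rψ adj⟩, ?_⟩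
  · let P := MvPolynomial (Fin n) R
    let : Algebra P A := ψ.toRingHom.toAlgebra
    have : IsScalarTower R P A := IsScalarTower.of_algebraMap_eq fun x => (ψ.commutes x).symm
    have hp := ShriekProj.isPerfectModule_presentation (A := A) n hψ
    obtain ⟨G, a, b, hb, hf, ⟨e⟩⟩ := ShriekFlatProps.exists_rep n ψ hψ Rψ adj
    have hG : DRing.IsPseudoCoherent' P
        ((DRing.restrictD (algebraMap P A)).obj (Dual2.shriekVia n Rψ (Dual.inD R R))) :=
      ((Perfect.perfect_iff _).1 ⟨G, a, b, hb, hf, ⟨e.symm⟩⟩).1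
    exact (PC.pc'_iff _).2 fun m => PCRestrict.pc_of_restrict
      (PC.pcModule'_iff.1 ((Perfect.perfect_iff _).1 hp).1) ((PC.pc'_iff _).1 hG m)
  · obtain ⟨F₁, ⟨adj₁⟩⟩ := RAdj.exists_adj (presentation (A := A) A ψ)
    obtain ⟨e⟩ := nonempty_left (A := A) A n ψ hψ Rψ adj F₁ adj₁
    let χ : MvPolynomial (Fin n) A →ₐ[A] A :=
      { toRingHom := ((Algebra.TensorProduct.lmul' R (S := A)).toRingHom.comp (presentation (A := A) A ψ))
        commutes' := fun a => by
          change Algebra.TensorProduct.lmul' R (S := A) (Algebra.TensorProduct.comm R A A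
            (ShriekFlatBC.presentation (R' := A) ψ (algebraMap A (MvPolynomial (Fin n) A) a))) = a
          rw [(ShriekFlatBC.presentation (R' := A) ψ).commutes]
          change Algebra.TensorProduct.lmul' R (S := A) (Algebra.TensorProduct.comm R A A (a ⊗ₜ[R] (1 : A))) = a
          rw [Algebra.TensorProduct.comm_tmul, Algebra.TensorProduct.lmul'_apply_tmul, one_mul] }
    obtain ⟨Fχ, ⟨adjχ⟩⟩ := RAdj.exists_adj χ.toRingHom
    have := LTensor.hasLBaseChange (algebraMap A (MvPolynomial (Fin n) A))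
    obtain ⟨i⟩ := nonempty_shriekVia_id n χ adjχ
    obtain ⟨c⟩ := RAdj.nonempty_comp (presentation (A := A) A ψ)
      (Algebra.TensorProduct.lmul' R (S := A)).toRingHom χ.toRingHom rfl adj₁ adjμ adjχ
      (Dual.inD (MvPolynomial (Fin n) A) (MvPolynomial (Fin n) A))
    obtain ⟨s⟩ := RAdj.nonempty_shiftIso adjμ
      (F₁.obj (Dual.inD (MvPolynomial (Fin n) A) (MvPolynomial (Fin n) A))) (n : ℤ)
    obtain ⟨eU⟩ := ShriekProj.nonempty_LBaseChange_inD (R := A) (P := MvPolynomial (Fin n) A)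
    exact ⟨Rμ.mapIso e ≪≫ s ≪≫ (shiftFunctor _ _).mapIso (c.symm ≪≫ Fχ.mapIso eU.symm) ≪≫ i⟩

end Groth.Agent.DualCx.ShriekRelDual
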