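import Groth.Agent.DualCx.FibreGrade
import Groth.Agent.DualCx.KoszulShriek
import Groth.Agent.DualCx.Amplitude
import Groth.Agent.DualCx.Gorenstein

/-!
# Vanishing of `φ^!(R)` below minus the fibre dimension
-/

universe u

open CategoryTheory CategoryTheory.Limits DerivedCategory
open scoped TensorProduct

attribute [local instance] HasDerivedCategory.standard

namespace Groth.Agent.DualCx.ShriekVanish

open Groth.Agent.DRing
open Devissage (E)
open BaseChange (FD)

/-- `H^i` of the right adjoint along a surjection -/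
theorem exists_homEquiv {P B : Type u} [CommRing P] [CommRing B] [Algebra P B]
    {F : Dual.D P ⥤ Dual.D B} (adj : DRing.restrictD (algebraMap P B) ⊣ F) (X : Dual.D P) (i : ℤ) :
    ∃ e : Dual.HD B (F.obj X) i ≃+ E B X i,
      ∀ (p : P) (x : Dual.HD B (F.obj X) i), e (algebraMap P B p • x) = p • e x := by
  let eB : (DRing.restrictD (algebraMap P B)).obj (Dual.inD B B) ≅ Dual.inD P B :=
    (DRing.restrictD (algebraMap P B)).mapIso
      ((DerivedCategory.singleFunctorIsoCompQ (ModuleCat.{u} B) 0).app (ModuleCat.of B B)) ≪≫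
    (DTen.resFactors (algebraMap P B)).app _ ≪≫ ShriekProj.resUnitIso P B
  obtain ⟨s⟩ := RAdj.nonempty_shiftIso adj X i
  let a := (Cx.homUnitEquivShift (F.obj X) i).symm.trans (Hom.congr B (Iso.refl (Dual.inD B B)) s.symm)
  let b : (Dual.inD B B ⟶ F.obj (X⟦i⟧)) ≃+
      ((DRing.restrictD (algebraMap P B)).obj (Dual.inD B B) ⟶ X⟦i⟧) :=
    { (adj.homEquiv _ _).symm with
      map_add' := fun f f' => by
        change (adj.homEquiv _ _).symm (f + f') = (adj.homEquiv _ _).symm f + (adj.homEquiv _ _).symm f'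
        rw [Adjunction.homEquiv_counit, Adjunction.homEquiv_counit, Adjunction.homEquiv_counit,
          Functor.map_add, Preadditive.add_comp] }
  refine ⟨(a.toAddEquiv.trans b).trans (Hom.congr P eB (Iso.refl _)).toAddEquiv, fun p x => ?_⟩
  have hb : ∀ f, b (algebraMap P B p • f) = p • b f := fun f => by
    change (adj.homEquiv _ _).symm (algebraMap P B p • f) = p • (adj.homEquiv _ _).symm f
    rw [Adjunction.homEquiv_counit, Adjunction.homEquiv_counit, RegEl.restrictD_map_smul,
      Linear.smul_comp]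
  change Hom.congr P eB (Iso.refl _) (b (a (algebraMap P B p • x))) = p • Hom.congr P eB (Iso.refl _) (b (a x))
  rw [map_smul, hb, map_smul]

/-- `Ext^j(B, P)` dies in `P_Q` below the grade -/
theorem exists_smul_eq_zero {P B : Type u} [CommRing P] [CommRing B] [Algebra P B] [IsNoetherianRing P]
    [Module.Finite P B] (Q : Ideal P) [Q.IsPrime] (j : ℤ) (m : ℕ)
    (hm : (m : ℕ∞) ≤ LocCoh.idealDepth
      ((RingHom.ker (algebraMap P B)).map (algebraMap P (Localization.AtPrime Q))) (Localization.AtPrime Q))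
    (hj : j < m) (x : E B (Dual.inD P P) j) : ∃ t ∈ Q.primeCompl, t • x = 0 := by
  let T := Localization.AtPrime Q
  have : Module.Flat P T := IsLocalization.flat T Q.primeCompl
  rcases lt_or_ge j 0 with h0 | h0
  · have := Amplitude.subsingleton_of_lt (K := Dual.inD P P) 0 B j h0
    exact ⟨1, Q.primeCompl.one_mem, Subsingleton.elim _ _⟩
  lift j to ℕ using h0
  let J := (RingHom.ker (algebraMap P B)).map (algebraMap P T)
  let N : ModuleCat.{u} T := ModuleCat.of T (T ⊗[P] B)
  have hann : J ≤ Module.annihilator T (T ⊗[P] B) := Ideal.map_le_iff_le_comap.2 fun a ha => by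
    rw [Ideal.mem_comap, Module.mem_annihilator]
    intro y
    rw [algebraMap_smul]
    induction y using TensorProduct.induction_on with
    | zero => rw [smul_zero]
    | tmul t b =>
      rw [← TensorProduct.tmul_smul, Algebra.smul_def, RingHom.mem_ker.1 ha, zero_mul, TensorProduct.tmul_zero]
    | add u v hu hv => rw [smul_add, hu, hv, add_zero]
  have hN : ∀ r ∈ J, ∃ k : ℕ, ∀ y : N, r ^ k • y = 0 := fun r hr => ⟨1, fun y => by
    rw [pow_one]
    exact Module.mem_annihilator.1 (hann hr) y⟩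
  have : Subsingleton (Abelian.Ext N (ModuleCat.of T T) j) :=
    Depth.subsingleton_ext_of_lt_idealDepth (I := J) (M := T) N hN hm (by exact_mod_cast hj)
  have : Subsingleton (E (T ⊗[P] B) (Dual.inD T T) (j : ℤ)) :=
    (Gorenstein.extEquiv (T ⊗[P] B) T j).symm.toEquiv.subsingleton
  have : Subsingleton (T ⊗[P] E B (Dual.inD P P) (j : ℤ)) :=
    ((FlatBC.homLEquiv (B := T) (Dual.inD P P) 0 B (j : ℤ)).toEquiv.trans
      (Hom.congr T (Iso.refl _) ((shiftFunctor (Dual.D T) (j : ℤ)).mapIso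
        (asIso (BaseChange.θ P T)).symm)).toEquiv).subsingleton
  let f := TensorProduct.mk P T (E B (Dual.inD P P) (j : ℤ)) 1
  have : IsLocalizedModule Q.primeCompl f :=
    (isLocalizedModule_iff_isBaseChange Q.primeCompl T f).2 (TensorProduct.isBaseChange P _ T)
  obtain ⟨t, ht⟩ := (IsLocalizedModule.eq_zero_iff Q.primeCompl f).1 (Subsingleton.elim (f x) 0)
  exact ⟨t, t.2, ht⟩

variable {R A : Type u} [CommRing R] [CommRing A] [IsNoetherianRing R] [Algebra R A] (n : ℕ)
  (ψ : MvPolynomial (Fin n) R →ₐ[R] A) (hψ : Function.Surjective ψ)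
  [DRing.HasLBaseChange (algebraMap R (MvPolynomial (Fin n) R))]
  (Rψ : Dual.D (MvPolynomial (Fin n) R) ⥤ Dual.D A) (adj : DRing.restrictD ψ.toRingHom ⊣ Rψ)

include hψ adj in
theorem neg_le (q : PrimeSpectrum A) (d : ℕ)
    (hd : FlatMor.fibreDimAt (AlgebraicGeometry.Spec.map (CommRingCat.ofHom (algebraMap R A))) q ≤ d)
    (i : ℤ) (h : Nontrivial (LocalizedModule q.asIdeal.primeCompl
      (Dual.HD A (Dual2.shriekVia n Rψ (Dual.inD R R)) i))) : -(d : ℤ) ≤ i := by
  by_contra hi
  let P := MvPolynomial (Fin n) R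
  let : Algebra P A := ψ.toRingHom.toAlgebra
  have : Module.Finite P A := Module.Finite.of_surjective (Algebra.linearMap P A) hψ
  let Q : Ideal P := q.asIdeal.comap ψ.toRingHom
  obtain ⟨eU⟩ := ShriekProj.nonempty_LBaseChange_inD (R := R) (P := P)
  let eω : Dual2.shriekVia n Rψ (Dual.inD R R) ≅ (Rψ.obj (Dual.inD P P))⟦(n : ℤ)⟧ :=
    (shiftFunctor (Dual.D A) (n : ℤ)).mapIso (Rψ.mapIso eU)
  let eH : Dual.HD A (Dual2.shriekVia n Rψ (Dual.inD R R)) i ≃ₗ[A]
      Dual.HD A (Rψ.obj (Dual.inD P P)) ((n : ℤ) + i) :=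
    ((DRing.DBasic.HF i).mapIso eω ≪≫ DRing.DBasic.HFShiftIso _ (n : ℤ) i _ rfl).toLinearEquiv
  obtain ⟨e, he⟩ := exists_homEquiv adj (Dual.inD P P) ((n : ℤ) + i)
  refine (not_nontrivial_iff_subsingleton.2 ?_) h
  refine LocalizedModule.subsingleton_iff.2 fun x => ?_
  obtain ⟨t, ht, htx⟩ := exists_smul_eq_zero (B := A) Q ((n : ℤ) + i) (n - d)
    (FibreGrade.le_idealDepth n ψ hψ q d hd) (by omega) (e (eH x))
  refine ⟨algebraMap P A t, ht, eH.injective (e.injective ?_)⟩
  rw [map_smul, he, htx, map_zero, map_zero]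

end Groth.Agent.DualCx.ShriekVanish
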