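import Groth.Agent.DualCx.Normalized
import Groth.Agent.EGA4Lib.Stalks
import Mathlib.Data.Int.Interval

/-!
# Serre's condition `(S_k)` through `Ext(-, ω)`
-/

set_option autoImplicit false

universe u

open CategoryTheory CategoryTheory.Limits IsLocalRing
open scoped TensorProduct

attribute [local instance] HasDerivedCategory.standard

namespace Groth.Agent.DualCx.SkCrit

open Devissage (E)
open Dimfun (B Z deg)

variable {A : Type u} [CommRing A] [IsNoetherianRing A] {ω : Dual.D A} (hω : Dual.IsDualizing A ω)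
variable (M : Type u) [AddCommGroup M] [Module A M] [Module.Finite A M]

theorem mem_support_iff_not_Z (p : PrimeSpectrum A) (N : Type*) [AddCommGroup N] [Module A N] :
    p ∈ Module.support A N ↔ ¬ Z p N := by
  rw [Dimfun.Z_iff_localized, not_subsingleton_iff_nontrivial]
  exact Module.mem_support_iff

include hω

theorem nontrivial_of_not_Z {p : PrimeSpectrum A} {j : ℤ} (h : ¬ Z p (E M ω j)) :
    Nontrivial (LocalizedModule p.1.primeCompl M) := by
  by_contra hc
  rw [not_nontrivial_iff_subsingleton] at hc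
  exact h ((Normalized.Z_E_iff hω p M j).mpr (Devissage.subsingleton_of_subsingleton _))

/-- depth and dimension are the two ends of the range of nonvanishing -/
theorem spec (p : PrimeSpectrum A) [Nontrivial (LocalizedModule p.1.primeCompl M)] :
    ∃ n d : ℕ, LocCoh.depth (B p) (LocalizedModule p.1.primeCompl M) = n ∧
      Module.supportDim (B p) (LocalizedModule p.1.primeCompl M) = d ∧ n ≤ d ∧
      (∀ j : ℤ, (j < deg hω p - d ∨ deg hω p - n < j) → Z p (E M ω j)) ∧
      ¬ Z p (E M ω (deg hω p - n)) ∧ ¬ Z p (E M ω (deg hω p - d)) := by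
  have := Normalized.finite_localized p M
  obtain ⟨n, hn, hZ, hnZ⟩ := Normalized.depth_spec hω p M
  obtain ⟨d₀, hd₀⟩ := Normal.exists_supportDim (A := B p) (LocalizedModule p.1.primeCompl M)
  obtain ⟨d, hd⟩ : ∃ d : ℕ,
      Module.supportDim (B p) (LocalizedModule p.1.primeCompl M) = d := by
    have h0 := (Module.supportDim_ne_bot_iff_nontrivial (B p) (LocalizedModule p.1.primeCompl M)).mpr
      inferInstance
    revert hd₀ h0
    generalize Module.supportDim (B p) (LocalizedModule p.1.primeCompl M) = s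
    intro hd₀ h0
    cases s with
    | bot => exact absurd rfl h0
    | coe c =>
      lift c to ℕ using (by
        rintro rfl
        exact (WithBot.coe_lt_coe.mpr (ENat.natCast_lt_top d₀)).not_ge hd₀)
      exact ⟨c, rfl⟩
  have hlow : ∀ j : ℤ, j < deg hω p - d → Z p (E M ω j) := fun j hj => by
    rw [Normalized.Z_E_iff hω]
    exact Normal.subsingleton_E (Normalized.isDualizing_loc hω p) (Normalized.isNormalized_loc hω p)
      d _ hd.le _ (Or.inl (by omega))
  have hdZ : ¬ Z p (E M ω (deg hω p - d)) := by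
    rw [Normalized.Z_E_iff hω, show deg hω p - d - deg hω p = -(d : ℤ) by omega,
      not_subsingleton_iff_nontrivial]
    exact LocalGlobal.nontrivial_E_neg_supportDim (Normalized.isDualizing_loc hω p)
      (Normalized.isNormalized_loc hω p) _ d hd
  refine ⟨n, d, hn, hd, ?_, fun j hj => hj.elim (hlow j) (hZ j), hnZ, hdZ⟩
  by_contra hlt
  exact hnZ (hlow _ (by omega))

omit hω in
theorem min_le_iff_nat (k d n : ℕ) :
    min (k : WithBot ℕ∞) (d : WithBot ℕ∞) ≤ ((n : ℕ∞) : WithBot ℕ∞) ↔ k ≤ n ∨ d ≤ n := by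
  rw [min_le_iff, show ((n : ℕ∞) : WithBot ℕ∞) = (n : WithBot ℕ∞) from rfl, Nat.cast_le, Nat.cast_le]

/-- the `(S_k)` inequality at one prime -/
theorem cond_iff (k : ℕ) (p : PrimeSpectrum A) :
    min (k : WithBot ℕ∞) (Module.supportDim (B p) (LocalizedModule p.1.primeCompl M)) ≤
        ((LocCoh.depth (B p) (LocalizedModule p.1.primeCompl M) : ℕ∞) : WithBot ℕ∞) ↔
      ∀ i j : ℤ, j < i → ¬ Z p (E M ω i) → ¬ Z p (E M ω j) →
        (((k : ℤ) + i - j).toNat : WithBot ℕ∞) ≤
          Module.supportDim (B p) (LocalizedModule p.1.primeCompl M) := by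
  by_cases hM : Subsingleton (LocalizedModule p.1.primeCompl M)
  · refine iff_of_true ?_ fun i j _ hi _ => ?_
    · rw [Module.supportDim_eq_bot_of_subsingleton]
      exact le_trans (min_le_right _ _) bot_le
    · exact absurd (nontrivial_of_not_Z hω M hi) (not_nontrivial_iff_subsingleton.mpr hM)
  · have := not_subsingleton_iff_nontrivial.mp hM
    obtain ⟨n, d, hn, hd, hnd, hZ, hnZ, hdZ⟩ := spec hω M p
    rw [hn, hd, min_le_iff_nat]
    constructor
    · intro h i j hji hi hj
      have h1 : i ≤ deg hω p - n := by_contra fun hc => hi (hZ i (Or.inr (by omega)))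
      have h2 : deg hω p - d ≤ j := by_contra fun hc => hj (hZ j (Or.inl (by omega)))
      exact Nat.cast_le.mpr (by omega)
    · intro h
      by_cases hd' : d ≤ n
      · exact Or.inr hd'
      · have h1 := Nat.cast_le.mp (h _ _ (by omega) hnZ hdZ)
        exact Or.inl (by omega)

theorem supportDim_mono {q p : PrimeSpectrum A} (h : q ≤ p) :
    Module.supportDim (B q) (LocalizedModule q.1.primeCompl M) ≤
      Module.supportDim (B p) (LocalizedModule p.1.primeCompl M) := by
  by_cases hM : Subsingleton (LocalizedModule q.1.primeCompl M)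
  · rw [Module.supportDim_eq_bot_of_subsingleton]
    exact bot_le
  · have := not_subsingleton_iff_nontrivial.mp hM
    obtain ⟨n, d, -, hd, hnd, hZ, -, hdZ⟩ := spec hω M q
    have hdZp : ¬ Z p (E M ω (deg hω q - d)) := fun hc => hdZ (Dimfun.Z_mono h hc)
    have := nontrivial_of_not_Z hω M hdZp
    obtain ⟨n', d', -, hd', -, hZ', -, -⟩ := spec hω M p
    have h1 : deg hω p - d' ≤ deg hω q - d :=
      by_contra fun hc => hdZp (hZ' _ (Or.inl (by omega)))
    have h2 : deg hω q ≤ deg hω p := by
      rcases eq_or_lt_of_le h with e | hlt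
      · rw [e]
      · exact (Dimfun.deg_lt hω hlt).le
    rw [hd, hd', Nat.cast_le]
    omega

/-- the `(S_k)` locus is open -/
theorem isOpen_locus (k : ℕ) :
    IsOpen {p : PrimeSpectrum A | EGA4.HasSkAt k A M p.asIdeal} := by
  obtain ⟨a, b, hab⟩ := hω.finite_injective_dimension
  let J : ℤ → ℤ → Ideal A := fun i j => Module.annihilator A (E M ω i) ⊔ Module.annihilator A (E M ω j)
  let S : Set (PrimeSpectrum A) := {q | ∃ i ∈ Finset.Icc a b, ∃ j ∈ Finset.Icc a b, j < i ∧
    q.1 ∈ (J i j).minimalPrimes ∧ ¬ (((k : ℤ) + i - j).toNat : WithBot ℕ∞) ≤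
      Module.supportDim (B q) (LocalizedModule q.1.primeCompl M)}
  have hS : S.Finite := by
    have h1 : (⋃ i ∈ Finset.Icc a b, ⋃ j ∈ Finset.Icc a b,
        (PrimeSpectrum.asIdeal ⁻¹' (J i j).minimalPrimes)).Finite :=
      Set.Finite.biUnion (Finset.finite_toSet _) fun i _ =>
        Set.Finite.biUnion (Finset.finite_toSet _) fun j _ =>
          (Ideal.finite_minimalPrimes_of_isNoetherianRing A _).preimage
            (fun x _ y _ h => PrimeSpectrum.ext h)
    refine h1.subset fun q hq => ?_
    obtain ⟨i, hi, j, hj, -, hq, -⟩ := hq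
    exact Set.mem_biUnion hi (Set.mem_biUnion hj hq)
  have key : {p : PrimeSpectrum A | EGA4.HasSkAt k A M p.asIdeal} =
      (⋃ q ∈ S, PrimeSpectrum.zeroLocus (q.asIdeal : Set A))ᶜ := by
    ext p
    simp only [Set.mem_compl_iff, Set.mem_iUnion, not_exists, Set.mem_setOf_eq]
    rw [EGA4Lib.hasSkAt_iff M k p.asIdeal]
    constructor
    · rintro h q ⟨i, -, j, -, hji, hqmin, hlt⟩ hqp
      refine hlt ((cond_iff hω M k q).mp (h q.1 (by simpa using hqp)) i j hji ?_ ?_)
      · have := Normal.finite_E hω M i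
        rw [← mem_support_iff_not_Z, Module.mem_support_iff_of_finite]
        exact le_sup_left.trans hqmin.1.2
      · have := Normal.finite_E hω M j
        rw [← mem_support_iff_not_Z, Module.mem_support_iff_of_finite]
        exact le_sup_right.trans hqmin.1.2
    · intro h q _ hqp
      refine (cond_iff hω M k ⟨q, inferInstance⟩).mpr fun i j hji hi hj => ?_
      by_contra hlt
      have hmem : ∀ l : ℤ, ¬ Z (⟨q, inferInstance⟩ : PrimeSpectrum A) (E M ω l) →
          l ∈ Finset.Icc a b := by
        intro l hl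
        by_contra hc
        have := hab M l (by rw [Finset.mem_Icc] at hc; omega)
        exact hl (Dimfun.Z_of_subsingleton _ _)
      have hle : J i j ≤ q := by
        have := Normal.finite_E hω M i
        have := Normal.finite_E hω M j
        rw [← mem_support_iff_not_Z, Module.mem_support_iff_of_finite] at hi hj
        exact sup_le hi hj
      have hi' : i ∈ Finset.Icc a b := hmem i hi
      have hj' : j ∈ Finset.Icc a b := hmem j hj
      obtain ⟨q₀, hq₀, hq₀q⟩ := Ideal.exists_minimalPrimes_le hle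
      refine h ⟨q₀, hq₀.1.1⟩ ⟨i, hi', j, hj', hji, hq₀, fun hc => hlt (hc.trans ?_)⟩ ?_
      · exact supportDim_mono hω M (q := ⟨q₀, hq₀.1.1⟩) (p := ⟨q, inferInstance⟩) hq₀q
      · simpa using hq₀q.trans hqp
  rw [key]
  exact (hS.isClosed_biUnion fun q _ => PrimeSpectrum.isClosed_zeroLocus _).isOpen_compl

section Local

variable [IsLocalRing A] (hn : Dual.IsNormalized A ω) (δ : ℕ) (hδ : Module.supportDim A M = δ)
  (hM : EGA4.IsEquidimModule A M)

include hn hδ hM

/-- equidimensional: the lower end of the range is constant on the support -/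
theorem deg_sub_supportDim (p : PrimeSpectrum A) [Nontrivial (LocalizedModule p.1.primeCompl M)]
    (d : ℕ) (hd : Module.supportDim (B p) (LocalizedModule p.1.primeCompl M) = d) :
    deg hω p - d = -(δ : ℤ) := by
  have hglob : ∀ (q : PrimeSpectrum A) (j : ℤ), j < -(δ : ℤ) → Z q (E M ω j) := fun q j hj => by
    have := Normal.subsingleton_E hω hn δ M hδ.le j (Or.inl hj)
    exact Dimfun.Z_of_subsingleton _ _
  have hp : Module.annihilator A M ≤ p.1 :=
    Module.mem_support_iff_of_finite.mp (Module.mem_support_iff.mpr inferInstance)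
  obtain ⟨q₀, hq₀, hq₀p⟩ := Ideal.exists_minimalPrimes_le hp
  obtain ⟨q, rfl⟩ : ∃ q : PrimeSpectrum A, q.1 = q₀ := ⟨⟨q₀, hq₀.1.1⟩, rfl⟩
  have : Nontrivial (LocalizedModule q.1.primeCompl M) :=
    Module.mem_support_iff.mp ((Module.mem_support_iff_of_finite (p := q)).mpr hq₀.1.2)
  obtain ⟨n₀, d₀, -, -, -, -, -, hdZ₀⟩ := spec hω M q
  have hq : deg hω q = -(δ : ℤ) := by
    have h1 := hM q.1 hq₀
    rw [show ringKrullDim (A ⧸ q.1) = _ from Dimfun.ringKrullDim_quotient_eq hω hn q, hδ,
      Nat.cast_inj] at h1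
    have := Dimfun.deg_nonpos hω hn q
    omega
  have hd0 : deg hω q - d₀ = -(δ : ℤ) := by
    have : ¬ deg hω q - d₀ < -(δ : ℤ) := fun hc => hdZ₀ (hglob q _ hc)
    omega
  have hZp : ¬ Z p (E M ω (-(δ : ℤ))) := fun hc =>
    hdZ₀ (hd0 ▸ Dimfun.Z_mono (q := q) (show q.1 ≤ p.1 from hq₀p) hc)
  obtain ⟨n, d', -, hd', -, hZ, -, hdZ⟩ := spec hω M p
  obtain rfl : d' = d := by rw [hd, Nat.cast_inj] at hd'; exact hd'.symm
  have h1 : ¬ deg hω p - d' < -(δ : ℤ) := fun hc => hdZ (hglob p _ hc)
  have h2 : ¬ -(δ : ℤ) < deg hω p - d' := fun hc => hZp (hZ _ (Or.inl hc))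
  omega

theorem hasSk_iff_supportDim_le (k : ℕ) :
    LocCoh.HasSk k A M ↔
      ∀ j : ℤ, j ≠ -(δ : ℤ) →
        (-j - (k : ℤ) < 0 → Subsingleton (E M ω j)) ∧
        (0 ≤ -j - (k : ℤ) →
          Module.supportDim A (E M ω j) ≤ ((-j - (k : ℤ)).toNat : WithBot ℕ∞)) := by
  constructor
  · intro h j hj
    have key : ∀ p : PrimeSpectrum A, p ∈ Module.support A (E M ω j) →
        0 ≤ -j - (k : ℤ) ∧ (-deg hω p).toNat ≤ (-j - (k : ℤ)).toNat := by
      intro p hp
      rw [mem_support_iff_not_Z] at hp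
      have := nontrivial_of_not_Z hω M hp
      obtain ⟨n, d, hn', hd, hnd, hZ, -, -⟩ := spec hω M p
      have h0 := h p.1
      rw [show Module.supportDim (Localization.AtPrime p.1) (LocalizedModule p.1.primeCompl M) = _
        from hd, show LocCoh.depth (Localization.AtPrime p.1) (LocalizedModule p.1.primeCompl M) = _
        from hn', min_le_iff_nat] at h0
      have h1 := deg_sub_supportDim hω M hn δ hδ hM p d hd
      have h2 : ¬ deg hω p - n < j := fun hc => hp (hZ j (Or.inr hc))
      have h3 : ¬ j < deg hω p - d := fun hc => hp (hZ j (Or.inl hc))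
      have h4 := Dimfun.deg_nonpos hω hn p
      omega
    refine ⟨fun hneg => ?_, fun _ => iSup_le fun l => ?_⟩
    · rw [← Module.support_eq_empty_iff (R := A), Set.eq_empty_iff_forall_notMem]
      exact fun p hp => absurd (key p hp).1 (not_le.mpr hneg)
    · have h1 := Order.length_le_coheight (p := l.map Subtype.val (fun _ _ h => h)) le_rfl
      rw [Dimfun.coheight_eq hω hn] at h1
      exact WithBot.coe_le_coe.mpr (h1.trans (Nat.cast_le.mpr (key _ l.head.2).2))
  · intro h p _
    rw [cond_iff hω M k ⟨p, inferInstance⟩]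
    intro i j hji hi hj
    have := nontrivial_of_not_Z hω M hi
    obtain ⟨n, d, -, hd, hnd, hZ, hnZ, -⟩ := spec hω M ⟨p, inferInstance⟩
    have h1 := deg_sub_supportDim hω M hn δ hδ hM ⟨p, inferInstance⟩ d hd
    have h2 : ¬ deg hω ⟨p, inferInstance⟩ - n < i := fun hc => hi (hZ i (Or.inr hc))
    have h3 : ¬ j < deg hω ⟨p, inferInstance⟩ - d := fun hc => hj (hZ j (Or.inl hc))
    have hne : deg hω ⟨p, inferInstance⟩ - n ≠ -(δ : ℤ) := by omega
    obtain ⟨hA, hB⟩ := h _ hne
    have hpos : 0 ≤ -(deg hω ⟨p, inferInstance⟩ - n) - (k : ℤ) := by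
      by_contra hc
      have := hA (by omega)
      exact hnZ (Dimfun.Z_of_subsingleton _ _)
    have hfin := Normal.finite_E hω M (deg hω ⟨p, inferInstance⟩ - n)
    have hsup : Module.annihilator A (E M ω (deg hω ⟨p, inferInstance⟩ - n)) ≤ p := by
      rw [← mem_support_iff_not_Z, Module.mem_support_iff_of_finite] at hnZ
      exact hnZ
    have hdim := (ringKrullDim_le_of_surjective (Ideal.Quotient.factor hsup)
      (Ideal.Quotient.factor_surjective hsup)).trans
      ((Module.supportDim_eq_ringKrullDim_quotient_annihilator A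
        (E M ω (deg hω ⟨p, inferInstance⟩ - n))).symm.le.trans (hB hpos))
    rw [show ringKrullDim (A ⧸ p) = _ from Dimfun.ringKrullDim_quotient_eq hω hn ⟨p, inferInstance⟩,
      Nat.cast_le] at hdim
    rw [hd]
    exact Nat.cast_le.mpr (by omega)

end Local

end Groth.Agent.DualCx.SkCrit
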