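import Groth.Agent.DualCx.SkCrit

/-!
# `(S_k)` of the ring when every maximal ideal sits in degree zero
-/

set_option autoImplicit false

universe u

open CategoryTheory CategoryTheory.Limits IsLocalRing
open scoped TensorProduct

attribute [local instance] HasDerivedCategory.standard

namespace Groth.Agent.DualCx.SkCritGlobal

open Devissage (E)
open Dimfun (B Z deg)

variable {A : Type u} [CommRing A] [IsNoetherianRing A] {ω : Dual.D A} (hω : Dual.IsDualizing A ω)
variable (hnorm : ∀ (m : Ideal A) (_ : m.IsMaximal) (i : ℤ), i ≠ 0 →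
  Subsingleton (Dual.inD A (A ⧸ m) ⟶ ω⟦i⟧))

include hω hnorm

theorem deg_max (p : PrimeSpectrum A) (hp : p.1.IsMaximal) : deg hω p = 0 := by
  by_contra hne
  have : Subsingleton (E (A ⧸ p.1) ω (deg hω p)) := hnorm p.1 hp _ hne
  exact Dimfun.not_Z_deg hω p (Dimfun.Z_of_subsingleton _ _)

theorem deg_nonpos (p : PrimeSpectrum A) : deg hω p ≤ 0 := by
  obtain ⟨m, hm, hle⟩ := Ideal.exists_le_maximal p.1 p.2.ne_top
  rw [← deg_max hω hnorm ⟨m, hm.isPrime⟩ hm]
  rcases eq_or_lt_of_le (show p ≤ ⟨m, hm.isPrime⟩ from hle) with e | hlt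
  · rw [e]
  · exact (Dimfun.deg_lt hω hlt).le

theorem coheight_eq : ∀ p : PrimeSpectrum A, Order.coheight p = ((-deg hω p).toNat : ℕ∞) := by
  intro p
  refine le_antisymm
    ((Dimfun.coheight_le hω p 0 fun q _ => deg_nonpos hω hnorm q).trans (by simp)) ?_
  induction hk : (-deg hω p).toNat generalizing p with
  | zero => simp
  | succ k ih =>
    obtain ⟨m, hm, hle⟩ := Ideal.exists_le_maximal p.1 p.2.ne_top
    have hne : p ≠ ⟨m, hm.isPrime⟩ := by
      rintro rfl
      rw [deg_max hω hnorm _ hm] at hk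
      simp at hk
    have hlt : p < ⟨m, hm.isPrime⟩ := lt_of_le_of_ne hle hne
    obtain ⟨n, ⟨r, hpr, rfl⟩, hmin⟩ := Int.exists_least_of_bdd
      (P := fun n => ∃ r, p < r ∧ deg hω r = n)
      ⟨deg hω p, fun n ⟨r, hr, h⟩ => h ▸ (Dimfun.deg_lt hω hr).le⟩ ⟨_, _, hlt, rfl⟩
    have hcov : p ⋖ r := ⟨hpr, fun s hps hsr => absurd (Dimfun.deg_lt hω hsr)
      (not_lt.mpr (hmin _ ⟨s, hps, rfl⟩))⟩
    have := Dimfun.deg_covBy hω hcov
    have hr := ih r (by omega)
    calc ((k + 1 : ℕ) : ℕ∞) = (k : ℕ∞) + 1 := by push_cast; rfl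
      _ ≤ Order.coheight r + 1 := by gcongr
      _ ≤ Order.coheight p := Order.coheight_add_one_le hpr

theorem supportDim_le_iff (N : Type*) [AddCommGroup N] [Module A N] [Module.Finite A N] (c : ℕ) :
    Module.supportDim A N ≤ (c : WithBot ℕ∞) ↔
      ∀ p : PrimeSpectrum A, p ∈ Module.support A N → (-deg hω p).toNat ≤ c := by
  constructor
  · intro h p hp
    rw [Module.mem_support_iff_of_finite] at hp
    have hdim := (ringKrullDim_le_of_surjective (Ideal.Quotient.factor hp)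
      (Ideal.Quotient.factor_surjective hp)).trans
      ((Module.supportDim_eq_ringKrullDim_quotient_annihilator A N).symm.le.trans h)
    rw [Dimfun.ringKrullDim_quotient_eq_coheight, coheight_eq hω hnorm] at hdim
    exact Nat.cast_le.mp (WithBot.coe_le_coe.mp hdim)
  · intro h
    refine iSup_le fun l => ?_
    have h1 := Order.length_le_coheight (p := l.map Subtype.val (fun _ _ h => h)) le_rfl
    rw [coheight_eq hω hnorm] at h1
    exact WithBot.coe_le_coe.mpr (h1.trans (Nat.cast_le.mpr (h _ l.head.2)))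

variable (n : ℕ) (hd : ringKrullDim A = n) (hEq : EGA4.IsEquidim A)

include hd hEq

theorem deg_sub_supportDim (p : PrimeSpectrum A) (d : ℕ)
    (hdp : Module.supportDim (B p) (LocalizedModule p.1.primeCompl A) = d) :
    deg hω p - d = -(n : ℤ) := by
  have hh : (p.1.height : WithBot ℕ∞) = d := by
    rw [← IsLocalization.AtPrime.ringKrullDim_eq_height p.1 (B p), ← hdp]
    exact (Module.supportDim_self_eq_ringKrullDim (R := B p)).symm
  have hle : -(n : ℤ) ≤ deg hω p - d := by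
    have h1 : (p.1.height : WithBot ℕ∞) + (Order.coheight p : WithBot ℕ∞) ≤ ringKrullDim A := by
      rw [PrimeSpectrum.height_eq_orderHeight p, ← WithBot.coe_add]
      have : Nonempty (PrimeSpectrum A) := ⟨p⟩
      rw [ringKrullDim, Order.krullDim_eq_iSup_height_add_coheight_of_nonempty]
      exact WithBot.coe_le_coe.mpr (le_iSup (fun a : PrimeSpectrum A => Order.height a + Order.coheight a) p)
    rw [hh, hd, coheight_eq hω hnorm] at h1
    have h2 : d + (-deg hω p).toNat ≤ n := by exact_mod_cast h1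
    have := deg_nonpos hω hnorm p
    omega
  obtain ⟨q₀, hq₀, hq₀p⟩ := Ideal.exists_minimalPrimes_le (bot_le (a := p.1))
  obtain ⟨q, rfl⟩ : ∃ q : PrimeSpectrum A, q.1 = q₀ := ⟨⟨q₀, hq₀.1.1⟩, rfl⟩
  have hq : deg hω q = -(n : ℤ) := by
    have h1 := hEq q.1 hq₀
    rw [Dimfun.ringKrullDim_quotient_eq_coheight, coheight_eq hω hnorm, hd] at h1
    have h2 : (-deg hω q).toNat = n := by exact_mod_cast h1
    have := deg_nonpos hω hnorm q
    omega
  have hZp : ¬ Z p (E A ω (-(n : ℤ))) := fun hc =>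
    (Dimfun.not_Z_HD_iff_minimal hω q hq₀ (-(n : ℤ))).mpr hq.symm
      (Dimfun.Z_equiv (Cx.homUnitEquivShift ω _) (Dimfun.Z_mono (q := q) hq₀p hc))
  have := SkCrit.nontrivial_of_not_Z hω A hZp
  obtain ⟨_, d', -, hd', -, hZ, -, -⟩ := SkCrit.spec hω A p
  obtain rfl : d' = d := by rw [hdp, Nat.cast_inj] at hd'; exact hd'.symm
  have h2 : ¬ -(n : ℤ) < deg hω p - d' := fun hc => hZp (hZ _ (Or.inl hc))
  omega

theorem degrees {p : PrimeSpectrum A} {j : ℤ} (h : ¬ Z p (E A ω j)) :
    ∃ m d : ℕ, m ≤ d ∧ LocCoh.depth (B p) (LocalizedModule p.1.primeCompl A) = m ∧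
      Module.supportDim (B p) (LocalizedModule p.1.primeCompl A) = d ∧
      deg hω p - d = -(n : ℤ) ∧ -(n : ℤ) ≤ j ∧ j ≤ deg hω p - m := by
  have := SkCrit.nontrivial_of_not_Z hω A h
  obtain ⟨m, d, hm, hd', hmd, hZ, -, -⟩ := SkCrit.spec hω A p
  have h1 := deg_sub_supportDim hω hnorm n hd hEq p d hd'
  have h2 : ¬ j < deg hω p - d := fun hc => h (hZ _ (Or.inl hc))
  have h3 : ¬ deg hω p - m < j := fun hc => h (hZ _ (Or.inr hc))
  exact ⟨m, d, hmd, hm, hd', h1, by omega, by omega⟩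

theorem mem_support_HD_iff (p : PrimeSpectrum A) (j : ℤ) :
    p ∈ Module.support A (Dual.HD A ω j) ↔ ¬ Z p (E A ω j) :=
  (SkCrit.mem_support_iff_not_Z p _).trans (not_congr
    ⟨Dimfun.Z_equiv (Cx.homUnitEquivShift ω j).symm, Dimfun.Z_equiv (Cx.homUnitEquivShift ω j)⟩)

theorem subsingleton_HD (i : ℕ) (hi : n < i) : Subsingleton (Dual.HD A ω (-(i : ℤ))) := by
  rw [← Module.support_eq_empty_iff (R := A), Set.eq_empty_iff_forall_notMem]
  intro p hp
  rw [mem_support_HD_iff hω hnorm n hd hEq] at hp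
  obtain ⟨_, _, -, -, -, -, h, -⟩ := degrees hω hnorm n hd hEq hp
  omega

theorem hasSk_iff (k : ℕ) :
    LocCoh.HasSk k A A ↔ ∀ i : ℕ, i ≠ n →
      (i < k → Subsingleton (Dual.HD A ω (-(i : ℤ)))) ∧
      (k ≤ i → Module.supportDim A (Dual.HD A ω (-(i : ℤ))) ≤ ((i - k : ℕ) : WithBot ℕ∞)) := by
  constructor
  · intro h i hi
    have key : ∀ p : PrimeSpectrum A, p ∈ Module.support A (Dual.HD A ω (-(i : ℤ))) →
        k ≤ i ∧ (-deg hω p).toNat ≤ i - k := by
      intro p hp
      rw [mem_support_HD_iff hω hnorm n hd hEq] at hp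
      obtain ⟨m, d, hmd, hm, hd', h1, h2, h3⟩ := degrees hω hnorm n hd hEq hp
      have h0 := h p.1
      rw [show Module.supportDim (Localization.AtPrime p.1) (LocalizedModule p.1.primeCompl A) = _
        from hd', show LocCoh.depth (Localization.AtPrime p.1) (LocalizedModule p.1.primeCompl A) = _
        from hm, SkCrit.min_le_iff_nat] at h0
      have h4 := deg_nonpos hω hnorm p
      omega
    have : Module.Finite A (Dual.HD A ω (-(i : ℤ))) := hω.finite_cohomology _
    refine ⟨fun hik => ?_, fun _ => (supportDim_le_iff hω hnorm _ _).mpr fun p hp => (key p hp).2⟩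
    rw [← Module.support_eq_empty_iff (R := A), Set.eq_empty_iff_forall_notMem]
    exact fun p hp => absurd (key p hp).1 (not_le.mpr hik)
  · intro h p _
    rw [SkCrit.cond_iff hω A k ⟨p, inferInstance⟩]
    intro i j hji hi hj
    obtain ⟨m, d, hmd, hm, hd', h1, h2, h3⟩ := degrees hω hnorm n hd hEq hi
    obtain ⟨_, d'', -, -, hd'', h4, h5, -⟩ := degrees hω hnorm n hd hEq hj
    obtain rfl : d'' = d := by rw [hd', Nat.cast_inj] at hd''; exact hd''.symm
    have := SkCrit.nontrivial_of_not_Z hω A hi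
    obtain ⟨m', _, hm', -, -, -, hmZ, -⟩ := SkCrit.spec hω A ⟨p, inferInstance⟩
    obtain rfl : m' = m := by rw [hm, Nat.cast_inj] at hm'; exact hm'.symm
    have h6 := deg_nonpos hω hnorm ⟨p, inferInstance⟩
    obtain ⟨l, hl⟩ := Int.exists_eq_neg_ofNat (show deg hω ⟨p, inferInstance⟩ - m' ≤ 0 by omega)
    rw [hl, ← mem_support_HD_iff hω hnorm n hd hEq] at hmZ
    obtain ⟨hA, hB⟩ := h l (by omega)
    have hkl : k ≤ l := by
      by_contra hc
      have := hA (by omega)
      rw [Module.support_eq_empty_iff.mpr this] at hmZ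
      exact hmZ
    have : Module.Finite A (Dual.HD A ω (-(l : ℤ))) := hω.finite_cohomology _
    have h7 := (supportDim_le_iff hω hnorm _ _).mp (hB hkl) _ hmZ
    rw [hd']
    exact Nat.cast_le.mpr (by omega)

end Groth.Agent.DualCx.SkCritGlobal
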