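import Groth.Agent.DRing.TensorAmp
import Groth.Agent.DRing.SingleTensor
import Groth.Agent.DualCx.Devissage
import Mathlib.LinearAlgebra.TensorProduct.RightExactness
import Mathlib.RingTheory.PicardGroup
import Mathlib.RingTheory.SimpleModule.Basic

/-!
# Top cohomology of a tensor product of complexes, and invertible objects over a local ring
-/

universe u

open CategoryTheory CategoryTheory.Limits MonoidalCategory DerivedCategory
open scoped TensorProduct

attribute [local instance] HasDerivedCategory.standard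

namespace Groth.Agent.DualCx.TensorTop

open DRing.Homology DRing.Tensor

variable {A : Type u} [CommRing A]

theorem exists_residue_surjection [IsLocalRing A] (M : Type u) [AddCommGroup M] [Module A M]
    [Module.Finite A M] [Nontrivial M] :
    ∃ f : M →ₗ[A] IsLocalRing.ResidueField A, Function.Surjective f := by
  obtain ⟨N, hN⟩ : ∃ N : Submodule A M, IsCoatom N := by
    rcases eq_top_or_exists_le_coatom (⊥ : Submodule A M) with h | ⟨N, hN, -⟩
    · exact absurd h bot_ne_top
    · exact ⟨N, hN⟩
  have : IsSimpleModule A (M ⧸ N) := isSimpleModule_iff_isCoatom.mpr hN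
  obtain ⟨I, hI, ⟨e⟩⟩ := isSimpleModule_iff_quot_maximal.mp this
  obtain rfl := IsLocalRing.eq_maximalIdeal hI
  exact ⟨e.toLinearMap.comp N.mkQ, e.surjective.comp N.mkQ_surjective⟩

theorem nontrivial_tensor [IsLocalRing A] (M N : Type u) [AddCommGroup M] [Module A M]
    [Module.Finite A M] [Nontrivial M] [AddCommGroup N] [Module A N] [Module.Finite A N]
    [Nontrivial N] : Nontrivial (M ⊗[A] N) := by
  obtain ⟨f, hf⟩ := exists_residue_surjection (A := A) M
  obtain ⟨g, hg⟩ := exists_residue_surjection (A := A) N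
  obtain ⟨x, hx⟩ := hf 1
  obtain ⟨y, hy⟩ := hg 1
  refine nontrivial_of_ne (x ⊗ₜ y) 0 fun h => one_ne_zero (α := IsLocalRing.ResidueField A) ?_
  have := congrArg (TensorProduct.lift ((LinearMap.mul A (IsLocalRing.ResidueField A)).compl₁₂ f g)) h
  simp [hx, hy] at this

variable (P : DRing.Cx A) (l : ℤ)

/-- cokernel of the last differential -/
abbrev top : Type u := (P.X l) ⧸ LinearMap.range (P.d (l - 1) l).hom

/-- `top` is the cohomology -/
theorem nonempty_topEquiv (hP : DRing.VanishesAbove P l) :
    Nonempty (top P l ≃ₗ[A] P.homology l) := by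
  have hc : ∀ x : P.X l, IsCyc P l x := fun x => (isCyc_iff rfl x).2
    (@Subsingleton.elim _ (ModuleCat.subsingleton_of_isZero (hP (l + 1) (by omega))) _ _)
  let κ : P.X l →ₗ[A] P.homology l :=
    { toFun := fun x => cls x (hc x)
      map_add' := fun x y => cls_add (hc x) (hc y)
      map_smul' := fun r x => cls_smul (hc x) r }
  have hκ : Function.Surjective κ := fun y => by
    obtain ⟨z, hz, rfl⟩ := cls_surjective y
    exact ⟨z, rfl⟩
  have hker : LinearMap.range (P.d (l - 1) l).hom = LinearMap.ker κ := Submodule.ext fun x =>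
    ((cls_eq_zero_iff (l - 1) (by omega) (hc x))).symm
  exact ⟨(Submodule.quotEquivOfEq _ _ hker).trans (κ.quotKerEquivOfSurjective hκ)⟩

variable (Q : DRing.Cx A) (e : ℤ)

theorem vanishesAbove_tensor (hP : DRing.VanishesAbove P l) (hQ : DRing.VanishesAbove Q e) :
    DRing.VanishesAbove (P ⊗ Q) (l + e) := fun n hn =>
  DRing.TensorAmp.isZero_tensor_X P Q n fun p q hpq => by
    by_cases hp : l < p
    · exact Or.inl (hP p hp)
    · exact Or.inr (hQ q (by omega))

/-- the top cohomology of `P ⊗ Q` -/
theorem nonempty_top_tensor (hP : DRing.VanishesAbove P l) (hQ : DRing.VanishesAbove Q e) :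
    Nonempty ((top P l) ⊗[A] (top Q e) ≃ₗ[A] (P ⊗ Q).homology (l + e)) := by
  obtain ⟨E⟩ := nonempty_topEquiv (P ⊗ Q) (l + e) (vanishesAbove_tensor P l Q e hP hQ)
  let i : P.X l ⊗ Q.X e ⟶ (P ⊗ Q).X (l + e) := ιT P Q l e (l + e) rfl
  let r : (P ⊗ Q).X (l + e) ⟶ P.X l ⊗ Q.X e :=
    HomologicalComplex.mapBifunctorDesc fun p q h =>
      if hp : p = l then
        (P.XIsoOfEq hp).hom ▷ Q.X q ≫ P.X l ◁ (Q.XIsoOfEq (by change p + q = l + e at h; omega)).hom
      else 0
  have hir : i ≫ r = 𝟙 _ := by
    refine (HomologicalComplex.ι_mapBifunctorDesc _ l e rfl).trans ?_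
    rw [dif_pos rfl]
    simp
  have hri : r ≫ i = 𝟙 _ := by
    refine DRing.Tensor.hom_ext fun p q h => ?_
    by_cases hp : p = l
    · subst hp
      obtain rfl : q = e := by omega
      rw [← Category.assoc, Category.comp_id]
      change (i ≫ r) ≫ i = i
      rw [hir, Category.id_comp]
    · have hz : IsZero (P.X p ⊗ Q.X q) := by
        by_cases hp' : l < p
        · exact (tensorRight (Q.X q)).map_isZero (hP p hp')
        · exact (tensorLeft (P.X p)).map_isZero (hQ q (by omega))
      exact hz.eq_of_src _ _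
  let ie : (P.X l : Type u) ⊗[A] (Q.X e : Type u) ≃ₗ[A] (P ⊗ Q).X (l + e) :=
    (⟨i, r, hir, hri⟩ : P.X l ⊗ Q.X e ≅ (P ⊗ Q).X (l + e)).toLinearEquiv
  let π := TensorProduct.map (LinearMap.range (P.d (l - 1) l).hom).mkQ
    (LinearMap.range (Q.d (e - 1) e).hom).mkQ
  let φ : (P ⊗ Q).X (l + e) →ₗ[A] (top P l) ⊗[A] (top Q e) := π.comp ie.symm.toLinearMap
  have hφ : Function.Surjective φ :=
    (TensorProduct.map_surjective (Submodule.mkQ_surjective _) (Submodule.mkQ_surjective _)).comp
      ie.symm.surjective
  have hker : LinearMap.range ((P ⊗ Q).d (l + e - 1) (l + e)).hom = LinearMap.ker φ := by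
    refine le_antisymm ?_ fun x hx => ?_
    · rintro _ ⟨y, rfl⟩
      refine LinearMap.mem_ker.mpr ?_
      suffices h : (P ⊗ Q).d (l + e - 1) (l + e) ≫ ModuleCat.ofHom φ = 0 from
        congrArg (fun f => f.hom y) h
      refine DRing.Tensor.hom_ext fun p q h => ?_
      rw [comp_zero, ← Category.assoc, ιT_d p q _ _ h (by omega), Preadditive.add_comp,
        Linear.units_smul_comp, Category.assoc, Category.assoc]
      have key : ∀ (p' q' : ℤ) (h' : p' + q' = l + e) (X : ModuleCat.{u} A) (g : X ⟶ P.X p' ⊗ Q.X q'),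
          (∀ (hp : p' = l) (hq : q' = e) (x : X), π ((((P.XIsoOfEq hp).hom ▷ Q.X q' ≫
            P.X l ◁ (Q.XIsoOfEq hq).hom)).hom (g.hom x)) = 0) →
          g ≫ ιT P Q p' q' (l + e) h' ≫ ModuleCat.ofHom φ = 0 := by
        intro p' q' h' X g hg
        by_cases hp : p' = l
        · obtain rfl := hp
          obtain rfl : q' = e := by omega
          refine ModuleCat.hom_ext (LinearMap.ext fun x => ?_)
          have := hg rfl rfl x
          simp only [HomologicalComplex.XIsoOfEq_rfl, Iso.refl_hom, MonoidalCategory.id_whiskerRight,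
            MonoidalCategory.whiskerLeft_id, Category.comp_id, ModuleCat.hom_id,
            LinearMap.id_apply] at this
          change π (ie.symm (ie (g.hom x))) = 0
          rw [LinearEquiv.symm_apply_apply]
          exact this
        · have hz : IsZero (P.X p' ⊗ Q.X q') := by
            by_cases hp' : l < p'
            · exact (tensorRight (Q.X q')).map_isZero (hP p' hp')
            · exact (tensorLeft (P.X p')).map_isZero (hQ q' (by omega))
          rw [hz.eq_of_tgt g 0, zero_comp]
      rw [key (p + 1) q (by omega) _ _ ?_, key p (q + 1) (by omega) _ _ ?_, smul_zero, add_zero]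
      · rintro hp hq x
        obtain rfl : p = l := hp
        obtain rfl : q = e - 1 := by omega
        induction x using TensorProduct.induction_on with
        | zero => simp
        | add x y hx hy => simp only [map_add, hx, hy, add_zero]
        | tmul a b =>
          change (LinearMap.range (P.d (p - 1) p).hom).mkQ a ⊗ₜ[A]
            (LinearMap.range (Q.d (e - 1) e).hom).mkQ
              ((Q.XIsoOfEq hq).hom.hom ((Q.d (e - 1) (e - 1 + 1)).hom b)) = 0
          rw [show (Q.XIsoOfEq hq).hom.hom ((Q.d (e - 1) (e - 1 + 1)).hom b) = (Q.d (e - 1) e).hom b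
            from congrArg (fun f => f.hom b) (Q.d_comp_XIsoOfEq_hom hq (e - 1)),
            Submodule.mkQ_apply, Submodule.mkQ_apply, (Submodule.Quotient.mk_eq_zero _).mpr (LinearMap.mem_range_self _ b),
            TensorProduct.tmul_zero]
      · rintro hp hq x
        obtain rfl : q = e := hq
        obtain rfl : p = l - 1 := by omega
        induction x using TensorProduct.induction_on with
        | zero => simp
        | add x y hx hy => simp only [map_add, hx, hy, add_zero]
        | tmul a b =>
          change (LinearMap.range (P.d (l - 1) l).hom).mkQ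
              ((P.XIsoOfEq hp).hom.hom ((P.d (l - 1) (l - 1 + 1)).hom a)) ⊗ₜ[A]
            (LinearMap.range (Q.d (q - 1) q).hom).mkQ b = 0
          rw [show (P.XIsoOfEq hp).hom.hom ((P.d (l - 1) (l - 1 + 1)).hom a) = (P.d (l - 1) l).hom a
            from congrArg (fun f => f.hom a) (P.d_comp_XIsoOfEq_hom hp (l - 1)),
            Submodule.mkQ_apply, Submodule.mkQ_apply, (Submodule.Quotient.mk_eq_zero _).mpr (LinearMap.mem_range_self _ a),
            TensorProduct.zero_tmul]
    · have hx' : ie.symm x ∈ LinearMap.ker π := hx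
      rw [TensorProduct.map_ker (LinearMap.exact_map_mkQ_range _) (Submodule.mkQ_surjective _)
        (LinearMap.exact_map_mkQ_range _) (Submodule.mkQ_surjective _)] at hx'
      obtain ⟨_, ⟨u, rfl⟩, _, ⟨v, rfl⟩, huv⟩ := Submodule.mem_sup.mp hx'
      rw [← ie.apply_symm_apply x, ← huv, map_add]
      have hd : ∀ {p q : ℤ} (h : p + q = l + e - 1) (w : (P.X p ⊗ Q.X q : ModuleCat.{u} A)),
          (((ιT P Q p q (l + e - 1) h) ≫ (P ⊗ Q).d (l + e - 1) (l + e)).hom w) ∈
            LinearMap.range ((P ⊗ Q).d (l + e - 1) (l + e)).hom := fun h w => ⟨_, rfl⟩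
      refine Submodule.add_mem _ ?_ ?_
      · -- from `P^l ⊗ Q^(e-1)`
        have h1 := hd (p := l) (q := e - 1) (by omega) u
        rw [ιT_d l (e - 1) _ _ (by omega) (by omega)] at h1
        have hz : IsZero (P.X (l + 1) ⊗ Q.X (e - 1)) :=
          (tensorRight _).map_isZero (hP (l + 1) (by omega))
        rw [hz.eq_of_tgt (P.d l (l + 1) ▷ Q.X (e - 1)) 0, zero_comp, zero_add] at h1
        have h2 : ie ((Q.d (e - 1) e).hom.lTensor (P.X l) u) =
            (P.X l ◁ Q.d (e - 1) (e - 1 + 1) ≫ ιT P Q l (e - 1 + 1) (l + e) (by omega)).hom u := by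
          have : ∀ (q' : ℤ) (hq : q' = e), ie ((Q.d (e - 1) e).hom.lTensor (P.X l) u) =
              (P.X l ◁ Q.d (e - 1) q' ≫ ιT P Q l q' (l + e) (by omega)).hom u := by
            intro q' hq
            subst hq
            rfl
          exact this _ (by omega)
        rw [h2]
        rcases Int.units_eq_one_or l.negOnePow with hs | hs
        · rw [hs, one_smul] at h1; exact h1
        · rw [hs, Units.neg_smul, one_smul] at h1
          exact neg_mem_iff.mp h1
      · -- from `P^(l-1) ⊗ Q^e`
        have h1 := hd (p := l - 1) (q := e) (by omega) v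
        rw [ιT_d (l - 1) e _ _ (by omega) (by omega)] at h1
        have hz : IsZero (P.X (l - 1) ⊗ Q.X (e + 1)) :=
          (tensorLeft _).map_isZero (hQ (e + 1) (by omega))
        rw [hz.eq_of_tgt (P.X (l - 1) ◁ Q.d e (e + 1)) 0, zero_comp, smul_zero, add_zero] at h1
        have h2 : ie ((P.d (l - 1) l).hom.rTensor (Q.X e) v) =
            (P.d (l - 1) (l - 1 + 1) ▷ Q.X e ≫ ιT P Q (l - 1 + 1) e (l + e) (by omega)).hom v := by
          have : ∀ (p' : ℤ) (hp : p' = l), ie ((P.d (l - 1) l).hom.rTensor (Q.X e) v) =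
              (P.d (l - 1) p' ▷ Q.X e ≫ ιT P Q p' e (l + e) (by omega)).hom v := by
            intro p' hp
            subst hp
            rfl
          exact this _ (by omega)
        rw [h2]; exact h1
  exact ⟨((Submodule.quotEquivOfEq _ _ hker).trans (φ.quotKerEquivOfSurjective hφ)).symm.trans E⟩

end Groth.Agent.DualCx.TensorTop
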