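import Groth.Agent.LocCoh.TorLES
import Groth.Agent.Gor.CechHull
import Groth.Agent.InjHull.Recognize
import Groth.Agent.InjHull.Matlis

/-!
# `Tor_i(E, κ)` over a Gorenstein local ring

By length counting along a maximal regular sequence, from both ends: `E[l]` and `A/(l)` agree for a
full sequence.
-/

set_option autoImplicit false

universe u

open CategoryTheory IsLocalRing RingTheory.Sequence MonoidalCategory

namespace Groth.Agent.DualCx.TorHull

open Groth.Agent.LocCoh

variable {A : Type u} [CommRing A] [IsLocalRing A]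

/-- the length of `Tor_n(M, κ)` -/
noncomputable abbrev t (n : ℕ) (M : ModuleCat.{u} A) : ℕ∞ :=
  Module.length A (Tor.T n M (ModuleCat.of A (ResidueField A)))

theorem t_congr (n : ℕ) {M M' : ModuleCat.{u} A} (e : M ≅ M') : t n M = t n M' :=
  (((CategoryTheory.Tor (ModuleCat.{u} A) n).mapIso e).app _).toLinearEquiv.length_eq

theorem tf_smul_eq_zero {x : A} (hx : x ∈ maximalIdeal A) (M : ModuleCat.{u} A) (n : ℕ)
    (y : Tor.T n M (ModuleCat.of A (ResidueField A))) :
    (Tor.tf (x • 𝟙 M) n (ModuleCat.of A (ResidueField A))).hom y = 0 := by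
  let N := ModuleCat.of A (ResidueField A)
  let R := projectiveResolution N
  have h0 : x • 𝟙 N = 0 := by
    ext c
    exact InjHull.Matlis.residue_smul_eq_zero hx c
  have hφ : (x • 𝟙 R.complex).f 0 ≫ R.π.f 0 = R.π.f 0 ≫ (x • 𝟙 N) := by
    rw [h0, HomologicalComplex.smul_f_apply, HomologicalComplex.id_f, Linear.smul_comp, Category.id_comp]
    ext c
    exact (InjHull.Matlis.residue_smul_eq_zero hx _).trans rfl
  have h1 := Tor.tIso_naturality' R R (x • 𝟙 R.complex) hφ M n
  have h2 := Tor.tIso_naturality R (x • 𝟙 M) n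
  have hc : (Tor.tCφ (x • 𝟙 R.complex)).app M = (Tor.tC R).map (x • 𝟙 M) := by
    ext k : 1
    change M ◁ (x • 𝟙 (R.complex.X k)) = (x • 𝟙 M) ▷ R.complex.X k
    rw [MonoidalLinear.whiskerLeft_smul, MonoidalLinear.smul_whiskerRight, whiskerLeft_id,
      id_whiskerRight]
  have hφ0 : (0 : R.complex ⟶ R.complex).f 0 ≫ R.π.f 0 = R.π.f 0 ≫ (x • 𝟙 N) := by
    rw [h0, HomologicalComplex.zero_f, Limits.zero_comp]
    exact Limits.comp_zero.symm
  have h4 := Tor.tIso_naturality' R R (0 : R.complex ⟶ R.complex) hφ0 M n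
  have hc0 : (Tor.tCφ (0 : R.complex ⟶ R.complex)).app M = 0 :=
    (((tensoringLeft (ModuleCat.{u} A)).obj M).mapHomologicalComplex (ComplexShape.down ℕ)).map_zero _ _
  rw [hc0, HomologicalComplex.homologyMap_zero, Limits.comp_zero] at h4
  rw [h4, hc] at h1
  rw [← h1] at h2
  have h3 : Tor.tf (x • 𝟙 M) n N = 0 := by
    rw [← cancel_mono (Tor.tIso R n M).hom, h2, Limits.zero_comp]
  exact congrArg (fun φ => φ.hom y) h3

omit [IsLocalRing A] in
theorem tf_surjective_zero {M M' : ModuleCat.{u} A} (g : M ⟶ M') (hg : Function.Surjective g.hom)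
    (N : ModuleCat.{u} A) : Function.Surjective (Tor.tf g 0 N).hom := by
  intro y
  obtain ⟨z, hz⟩ := LinearMap.rTensor_surjective N hg ((Tor.t0 M' N).hom.hom y)
  refine ⟨(Tor.t0 M N).inv.hom z, (Tor.t0 M' N).toLinearEquiv.injective ?_⟩
  have := congrArg (fun φ => φ.hom ((Tor.t0 M N).inv.hom z)) (Tor.t0_naturality_left g N)
  refine this.trans ?_
  refine (congrArg _ ((Tor.t0 M N).toLinearEquiv.apply_symm_apply z)).trans ?_
  exact hz

variable {x : A} (hx : x ∈ maximalIdeal A)
include hx

/-- `0 → M →x M → M' → 0` -/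
theorem length_quotient {M M' : ModuleCat.{u} A} (f : M ⟶ M') (hex : Function.Exact (x • 𝟙 M).hom f.hom)
    (hinj : Function.Injective (x • 𝟙 M).hom) (hsurj : Function.Surjective f.hom) :
    t 0 M' = t 0 M ∧ ∀ n, t (n + 1) M' = t (n + 1) M + t n M := by
  let S : ShortComplex (ModuleCat.{u} A) := ShortComplex.mk (x • 𝟙 M) f
    (ModuleCat.hom_ext (LinearMap.ext fun a => hex.apply_apply_eq_zero a))
  have hS : S.ShortExact := ModuleCat.shortComplex_shortExact S hex hinj hsurj
  let N := ModuleCat.of A (ResidueField A)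
  have hg : ∀ n, Function.Injective (Tor.tf f n N).hom := fun n =>
    (injective_iff_map_eq_zero _).mpr fun c hc => by
      obtain ⟨b, rfl⟩ := (Tor.tor_exact₂ hS n N c).mp hc
      exact tf_smul_eq_zero hx M n b
  refine ⟨(LinearEquiv.ofBijective (Tor.tf f 0 N).hom ⟨hg 0, tf_surjective_zero f hsurj N⟩).length_eq.symm,
    fun n => Module.length_eq_add_of_exact (Tor.tf f (n + 1) N).hom (Tor.torδ hS n N).hom (hg _) ?_
      (Tor.tor_exact₃ hS n N)⟩
  intro c
  exact (Tor.tor_exact₁ hS n N c).mp (tf_smul_eq_zero hx M n c)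

/-- `0 → M'' → M →x M → 0` -/
theorem length_torsion {M'' M : ModuleCat.{u} A} (g : M'' ⟶ M) (hex : Function.Exact g.hom (x • 𝟙 M).hom)
    (hinj : Function.Injective g.hom) (hsurj : Function.Surjective (x • 𝟙 M).hom) :
    t 0 M = 0 ∧ ∀ n, t n M'' = t (n + 1) M + t n M := by
  let S : ShortComplex (ModuleCat.{u} A) := ShortComplex.mk g (x • 𝟙 M)
    (ModuleCat.hom_ext (LinearMap.ext fun a => hex.apply_apply_eq_zero a))
  have hS : S.ShortExact := ModuleCat.shortComplex_shortExact S hex hinj hsurj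
  let N := ModuleCat.of A (ResidueField A)
  refine ⟨Module.length_eq_zero_iff.mpr (subsingleton_of_forall_eq 0 fun c => ?_), fun n => ?_⟩
  · obtain ⟨b, rfl⟩ := tf_surjective_zero (x • 𝟙 M) hsurj N c
    exact tf_smul_eq_zero hx M 0 b
  · refine Module.length_eq_add_of_exact (Tor.torδ hS n N).hom (Tor.tf g n N).hom ?_ ?_
      (Tor.tor_exact₁ hS n N)
    · refine (injective_iff_map_eq_zero _).mpr fun c hc => ?_
      obtain ⟨b, rfl⟩ := (Tor.tor_exact₃ hS n N c).mp hc
      exact tf_smul_eq_zero hx M (n + 1) b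
    · intro c
      exact (Tor.tor_exact₂ hS n N c).mp (tf_smul_eq_zero hx M n c)

omit hx

/-- `l` is a regular sequence in `m`, read from the end -/
def Reg : List A → Prop
  | [] => True
  | x :: l => Reg l ∧ x ∈ maximalIdeal A ∧ IsSMulRegular (A ⧸ Ideal.ofList l) x

/-- `A/(l)` -/
noncomputable abbrev Q (l : List A) : ModuleCat.{u} A := ModuleCat.of A (A ⧸ Ideal.ofList l)

theorem t_self (i : ℕ) : t i (ModuleCat.of A A) = ((0 : ℕ).choose i : ℕ) := by
  rcases i with _ | i
  · have : IsSimpleModule A (ResidueField A) :=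
      isSimpleModule_iff_quot_maximal.mpr ⟨maximalIdeal A, inferInstance, ⟨LinearEquiv.refl A _⟩⟩
    exact ((Tor.t0 _ _).toLinearEquiv.trans (TensorProduct.lid A (ResidueField A))).length_eq.trans
      ((Module.length_eq_one_iff.mpr this).trans (by simp))
  · rw [Nat.choose_zero_succ, Nat.cast_zero]
    exact Module.length_eq_zero_iff.mpr (subsingleton_of_forall_eq 0 fun c =>
      Tor.tor_succ_eq_zero_of_flat (ModuleCat.of A A) i _ c)

omit [IsLocalRing A] in
theorem exact_quotient (l : List A) (x : A) : ∃ f : Q l ⟶ Q (x :: l),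
    Function.Exact (x • 𝟙 (Q l)).hom f.hom ∧ Function.Surjective f.hom := by
  have hle : Ideal.ofList l ≤ Ideal.ofList (x :: l) := by
    rw [Ideal.ofList_cons]; exact le_sup_right
  refine ⟨ModuleCat.ofHom (Submodule.factor hle), fun c => ?_, Submodule.factor_surjective hle⟩
  obtain ⟨a, rfl⟩ := Submodule.Quotient.mk_surjective _ c
  constructor
  · intro h
    have h' : a ∈ Ideal.ofList (x :: l) := (Submodule.Quotient.mk_eq_zero _).mp h
    rw [Ideal.ofList_cons, Submodule.mem_sup] at h'
    obtain ⟨y, hy, z, hz, rfl⟩ := h'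
    obtain ⟨r, rfl⟩ := Ideal.mem_span_singleton'.mp hy
    refine ⟨Submodule.Quotient.mk r, ?_⟩
    change x • (Submodule.Quotient.mk r : A ⧸ Ideal.ofList l) = _
    rw [← Submodule.Quotient.mk_smul, Submodule.Quotient.eq, smul_eq_mul]
    have : x * r - (r * x + z) = -z := by ring
    rw [this]
    exact neg_mem hz
  · rintro ⟨b, hb⟩
    obtain ⟨b, rfl⟩ := Submodule.Quotient.mk_surjective _ b
    rw [← hb]
    exact (Submodule.Quotient.mk_eq_zero _).mpr
      (Ideal.mul_mem_right b _ (Ideal.subset_span List.mem_cons_self) : x * b ∈ _)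

theorem t_Q : ∀ (l : List A), Reg l → ∀ i, t i (Q l) = (l.length.choose i : ℕ)
  | [], _, i => by
    exact (t_congr i ((Submodule.quotEquivOfEqBot _ Ideal.ofList_nil).toModuleIso :
      Q ([] : List A) ≅ ModuleCat.of A A)).trans (t_self i)
  | x :: l, h, i => by
    obtain ⟨hl, hxm, hreg⟩ := h
    obtain ⟨f, hex, hsurj⟩ := exact_quotient l x
    obtain ⟨h0, hs⟩ := length_quotient hxm f hex (fun a b hab => hreg hab) hsurj
    rcases i with _ | i
    · rw [h0, t_Q l hl, Nat.choose_zero_right, Nat.choose_zero_right]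
    · rw [hs, t_Q l hl, t_Q l hl, List.length_cons, Nat.choose_succ_succ, Nat.cast_add, add_comm]

section Hull

variable [IsNoetherianRing A] {E : Type u} [AddCommGroup E] [Module A E]
  {f : ResidueField A →ₗ[A] E}

variable (E) in
/-- `E[l]` -/
noncomputable abbrev T (l : List A) : ModuleCat.{u} A :=
  ModuleCat.of A (LocCoh.torsionBy (Ideal.ofList l) E)

omit [IsLocalRing A] [IsNoetherianRing A] in
theorem mem_T {l : List A} {e : E} :
    e ∈ LocCoh.torsionBy (Ideal.ofList l) E ↔ ∀ a ∈ Ideal.ofList l, a • e = 0 :=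
  ⟨fun h a ha => (Submodule.mem_torsionBySet_iff _ _).mp h ⟨a, ha⟩,
    fun h => (Submodule.mem_torsionBySet_iff _ _).mpr fun a => h a a.2⟩

variable (hf : _root_.InjHull.IsInjectiveHull f)
include hf

omit [IsNoetherianRing A] in
theorem exists_T_step (x : A) (l : List A) (hreg : IsSMulRegular (A ⧸ Ideal.ofList l) x) :
    ∃ g : T E (x :: l) ⟶ T E l, Function.Exact g.hom (x • 𝟙 (T E l)).hom ∧
      Function.Injective g.hom ∧ Function.Surjective (x • 𝟙 (T E l)).hom := by
  have hle : LocCoh.torsionBy (Ideal.ofList (x :: l)) E ≤ LocCoh.torsionBy (Ideal.ofList l) E :=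
    fun e he => mem_T.mpr fun a ha => mem_T.mp he a (by
      rw [Ideal.ofList_cons]; exact Submodule.mem_sup_right ha)
  refine ⟨ModuleCat.ofHom (Submodule.inclusion hle), fun c => ?_, Submodule.inclusion_injective hle,
    fun c => ?_⟩
  · constructor
    · intro h
      have hc : x • (c : E) = 0 := congrArg Subtype.val h
      refine ⟨⟨(c : E), mem_T.mpr fun a ha => ?_⟩, rfl⟩
      rw [Ideal.ofList_cons, Submodule.mem_sup] at ha
      obtain ⟨y, hy, z, hz, rfl⟩ := ha
      obtain ⟨r, rfl⟩ := Ideal.mem_span_singleton'.mp hy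
      rw [add_smul, mul_smul, hc, smul_zero, mem_T.mp c.2 z hz, add_zero]
    · rintro ⟨b, rfl⟩
      exact Subtype.ext (mem_T.mp b.2 x (Ideal.subset_span List.mem_cons_self))
  · let g : (A ⧸ Ideal.ofList l) →ₗ[A] E := Submodule.liftQ _ (LinearMap.toSpanSingleton A E c)
      fun a ha => mem_T.mp c.2 a ha
    obtain ⟨k, hk⟩ := InjHull.Basic.extend hf.isInjective
      (x • (LinearMap.id : (A ⧸ Ideal.ofList l) →ₗ[A] A ⧸ Ideal.ofList l)) (fun a b hab => hreg hab) g
    refine ⟨⟨k (Submodule.Quotient.mk 1), mem_T.mpr fun a ha => ?_⟩, Subtype.ext ?_⟩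
    · rw [← map_smul, ← Submodule.Quotient.mk_smul, smul_eq_mul, mul_one,
        (Submodule.Quotient.mk_eq_zero _).mpr ha, map_zero]
    · change x • k (Submodule.Quotient.mk 1) = (c : E)
      rw [← map_smul]
      exact (LinearMap.congr_fun hk (Submodule.Quotient.mk 1)).trans (one_smul A _)

omit [IsNoetherianRing A] in
theorem t_T (d : ℕ) : ∀ (l : List A), Reg l → ∀ m, l.length + m = d →
    ((∀ i < m, t i (T E l) = 0) ∧ ∀ i, t (i + m) (T E l) = (l.length.choose i : ℕ)) →
    (∀ i < d, t i (T E ([] : List A)) = 0) ∧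
      ∀ i, t (i + d) (T E ([] : List A)) = ((0 : ℕ).choose i : ℕ)
  | [], _, m, hm, h => by
    obtain rfl : m = d := by simpa using hm
    exact h
  | x :: l, hr, m, hm, ⟨h1, h2⟩ => by
    obtain ⟨hl, hxm, hreg⟩ := hr
    obtain ⟨g, hex, hinj, hsurj⟩ := exists_T_step hf x l hreg
    obtain ⟨h0, hs⟩ := length_torsion hxm g hex hinj hsurj
    have hlow : ∀ i ≤ m, t i (T E l) = 0 := by
      intro i
      induction i with
      | zero => exact fun _ => h0
      | succ i ih =>
        intro hi
        have := (hs i).symm.trans (h1 i (by omega))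
        rw [ih (by omega), add_zero] at this
        exact this
    refine t_T d l hl (m + 1) (by simp at hm; omega)
      ⟨fun i hi => hlow i (by omega), fun i => ?_⟩
    induction i with
    | zero =>
      have := (hs m).symm.trans (by simpa using h2 0)
      rw [hlow m le_rfl, add_zero] at this
      simpa using this
    | succ i ih =>
      have h3 := (hs (i + 1 + m)).symm.trans (h2 (i + 1))
      rw [show t (i + 1 + m) (T E l) = (l.length.choose i : ℕ) by
        rw [show i + 1 + m = i + (m + 1) by omega]; exact ih,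
        List.length_cons, Nat.choose_succ_succ, Nat.cast_add, add_comm (_ : ℕ∞) (l.length.choose (i + 1) : ℕ∞)] at h3
      rw [show i + 1 + (m + 1) = i + 1 + m + 1 by omega]
      exact WithTop.add_right_cancel (ENat.natCast_ne_top _) h3

theorem nonempty_quotient_hull (l : List A)
    (hinj : Module.Injective (A ⧸ Ideal.ofList l) (A ⧸ Ideal.ofList l)) [IsLocalRing (A ⧸ Ideal.ofList l)]
    {φ : ResidueField (A ⧸ Ideal.ofList l) →ₗ[A ⧸ Ideal.ofList l] A ⧸ Ideal.ofList l}
    (hφ : Function.Injective φ) : Nonempty (Q l ≅ T E l) := by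
  let B := A ⧸ Ideal.ofList l
  have hB := Gor.Basic.hull_of_injective hφ hinj
  have hArt := Gor.Basic.artinian_of_injective hφ hinj
  have hloc : IsLocalHom (Ideal.Quotient.mk (Ideal.ofList l)) :=
    IsLocalHom.of_surjective _ Ideal.Quotient.mk_surjective
  have hker : maximalIdeal A ≤ LinearMap.ker (LinearMap.toSpanSingleton A B (φ 1)) := fun a ha => by
    change Ideal.Quotient.mk (Ideal.ofList l) a * φ 1 = 0
    rw [← smul_eq_mul, ← map_smul, InjHull.Matlis.residue_smul_eq_zero
      ((mem_maximalIdeal _).mpr (map_mem_nonunits_iff _ a |>.mpr ((mem_maximalIdeal a).mp ha))), map_zero]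
  let u : ResidueField A →ₗ[A] B := Submodule.liftQ _ _ hker
  have hu : Function.Injective u := by
    rw [← LinearMap.ker_eq_bot, LinearMap.ker_eq_bot']
    intro c hc
    by_contra hc0
    obtain ⟨a, rfl⟩ := residue_surjective c
    have ha : IsUnit a := by
      by_contra h
      exact hc0 (residue_eq_zero_iff _ |>.mpr ((mem_maximalIdeal a).mpr h))
    have h1 : φ 1 = 0 := (ha.smul_eq_zero).mp hc
    exact one_ne_zero (α := ResidueField B) (hφ (h1.trans (map_zero φ).symm))
  obtain ⟨ψ, hψ⟩ := InjHull.Basic.extend hf.isInjective u hu f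
  have hψi : Function.Injective ψ := (injective_iff_map_eq_zero ψ).mpr fun z hz => by
    by_contra hz0
    obtain ⟨r, c, hc, hr0⟩ := InjHull.Basic.exists_smul_mem_range hB.1 hz0
    obtain ⟨a, rfl⟩ := Ideal.Quotient.mk_surjective r
    obtain ⟨b, rfl⟩ := residue_surjective c
    obtain ⟨b, rfl⟩ := Ideal.Quotient.mk_surjective b
    have hub : u (residue A b) = φ (residue B (Ideal.Quotient.mk _ b)) := by
      change b • φ 1 = _
      rw [show residue B (Ideal.Quotient.mk _ b) = (Ideal.Quotient.mk _ b : B) • (1 : ResidueField B) from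
        (mul_one _).symm.trans (Algebra.smul_def _ _).symm, map_smul]
      rfl
    have h1 : f (residue A b) = 0 := by
      rw [← hψ, LinearMap.comp_apply, hub, hc]
      change ψ (a • z) = 0
      rw [map_smul, hz, smul_zero]
    refine hr0 ?_
    rw [← hc, ← hub, (injective_iff_map_eq_zero f).mp hf.1.1 _ h1, map_zero]
  have hmem : ∀ z, ψ z ∈ LocCoh.torsionBy (Ideal.ofList l) E := fun z => mem_T.mpr fun a ha => by
    rw [← map_smul]
    obtain ⟨z, rfl⟩ := Submodule.Quotient.mk_surjective _ z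
    rw [← Submodule.Quotient.mk_smul, smul_eq_mul, (Submodule.Quotient.mk_eq_zero _).mpr (Ideal.mul_mem_right z _ ha), map_zero]
  let ψ' : B →ₗ[A] LocCoh.torsionBy (Ideal.ofList l) E := ψ.codRestrict _ hmem
  have hBlen : Module.length A B ≠ ⊤ := by
    rw [Module.length_eq_of_surjective (R := B) (S := A) Ideal.Quotient.mk_surjective]
    exact Module.length_ne_top
  have hlen : Module.length A (LocCoh.torsionBy (Ideal.ofList l) E) = Module.length A B :=
    (InjHull.Recognize.homQuotientEquiv _ E).length_eq.symm.trans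
      (InjHull.Matlis.length_dual hf (Module.length_ne_top_iff.mp hBlen))
  have hinj' : Function.Injective ψ' := fun a b h => hψi (congrArg Subtype.val h)
  have hsurj : Function.Surjective ψ' := by
    rw [← LinearMap.range_eq_top]
    by_contra hne
    have h4 := Module.length_eq_add_of_exact ψ' (LinearMap.range ψ').mkQ hinj'
      (Submodule.mkQ_surjective _) (LinearMap.exact_map_mkQ_range ψ')
    rw [hlen] at h4
    have h5 : Module.length A (_ ⧸ LinearMap.range ψ') = 0 :=
      ((WithTop.add_left_inj hBlen).mp ((add_zero _).trans h4)).symm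
    exact hne (Submodule.Quotient.subsingleton_iff.mp (Module.length_eq_zero_iff.mp h5))
  exact ⟨(LinearEquiv.ofBijective ψ' ⟨hinj', hsurj⟩).toModuleIso⟩

end Hull

variable [IsNoetherianRing A]

theorem exists_reg : ∀ (n : ℕ) (l : List A), Reg l → LocCoh.IsGorensteinLocalRing (A ⧸ Ideal.ofList l) →
    ringKrullDim (A ⧸ Ideal.ofList l) = n →
    ∃ l' : List A, Reg l' ∧ l'.length = l.length + n ∧
      ∃ (_ : IsLocalRing (A ⧸ Ideal.ofList l')) (φ : ResidueField (A ⧸ Ideal.ofList l') →ₗ[A ⧸ Ideal.ofList l']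
        A ⧸ Ideal.ofList l'), Function.Injective φ ∧
          Module.Injective (A ⧸ Ideal.ofList l') (A ⧸ Ideal.ofList l') := by
  intro n
  induction n using Nat.strong_induction_on with
  | _ n ih =>
    intro l hl hG hn
    rcases Gor.Basic.exists_regular_or_socle (A := A ⧸ Ideal.ofList l) with ⟨y, hy, hreg⟩ | ⟨φ, hφ⟩
    · obtain ⟨x, rfl⟩ := Ideal.Quotient.mk_surjective y
      have hloc : IsLocalHom (Ideal.Quotient.mk (Ideal.ofList l)) :=
        IsLocalHom.of_surjective _ Ideal.Quotient.mk_surjective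
      have hxm : x ∈ maximalIdeal A := map_mem_nonunits_iff (Ideal.Quotient.mk (Ideal.ofList l)) x |>.mp hy
      have hG' := (Gor.Basic.gorenstein_quotient_iff hy hreg).mp hG
      let e : ((A ⧸ Ideal.ofList l) ⧸ Ideal.span {Ideal.Quotient.mk (Ideal.ofList l) x}) ≃+*
          A ⧸ Ideal.ofList (x :: l) :=
        ((Ideal.quotEquivOfEq (by rw [Ideal.map_span, Set.image_singleton])).trans
          (DoubleQuot.quotQuotEquivQuotSup (Ideal.ofList l) (Ideal.span {x}))).trans
            (Ideal.quotEquivOfEq (by rw [Ideal.ofList_cons, sup_comm]))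
      have := Gor.Basic.isLocalRing_quotient (A ⧸ Ideal.ofList l) hy
      obtain ⟨k, hk⟩ := Gor.Basic.exists_natCast_ringKrullDim
        (A := (A ⧸ Ideal.ofList l) ⧸ Ideal.span {Ideal.Quotient.mk (Ideal.ofList l) x})
      have hnk : n = k + 1 := by
        have := ringKrullDim_quotient_span_singleton_succ_eq_ringKrullDim hreg hy
        rw [hk, hn] at this
        exact_mod_cast this.symm
      obtain ⟨l', h1, h2, h3⟩ := ih k (by omega) (x :: l) ⟨hl, hxm, fun a b h => hreg h⟩
        (Gor.FlatLocal.gorenstein_of_ringEquiv e) ((ringKrullDim_eq_of_ringEquiv e).symm.trans hk)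
      exact ⟨l', h1, by rw [h2, List.length_cons]; omega, h3⟩
    · obtain ⟨k, hk⟩ := Gor.Basic.exists_hasInjectiveDimensionLT (A := A ⧸ Ideal.ofList l)
      have hinj := Gor.Basic.injective_of_socle_of_finite_id hφ k hk
      have := Gor.Basic.artinian_of_injective hφ hinj
      have h0 : ringKrullDim (A ⧸ Ideal.ofList l) = (0 : ℕ) :=
        ringKrullDimZero_iff_ringKrullDim_eq_zero.mp inferInstance
      rw [hn] at h0
      exact ⟨l, hl, by rw [show n = 0 by exact_mod_cast h0, Nat.add_zero], inferInstance, φ, hφ, hinj⟩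

end Groth.Agent.DualCx.TorHull
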