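import Groth.Agent.DualCx.Normal
import Groth.Agent.DualCx.Criterion
import Groth.Agent.DualCx.TorsColim
import Groth.Agent.InjHull.Matlis

/-!
# The trace `colim Hom(A/m^n, ω) ≅ E` of a normalized dualizing complex
-/

universe u

open CategoryTheory CategoryTheory.Limits IsLocalRing

attribute [local instance] HasDerivedCategory.standard

namespace Groth.Agent.DualCx.Trace

open Devissage (E pre)
open TorsColim (L ι qD)

variable {A : Type u} [CommRing A] [IsLocalRing A] [IsNoetherianRing A]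

theorem eq_maximal_of_pow_le {k : ℕ} {N : Type u} [AddCommGroup N] [Module A N]
    (hN : ∀ a ∈ maximalIdeal A ^ k, ∀ x : N, a • x = 0) (q : PrimeSpectrum A)
    (hq : Module.annihilator A N ≤ q.1) : q.1 = maximalIdeal A := by
  have h1 : maximalIdeal A ^ k ≤ q.1 := fun a ha => hq (Module.mem_annihilator.mpr (hN a ha))
  exact le_antisymm (le_maximalIdeal q.2.ne_top) (q.2.le_of_pow_le h1)

variable {ω : Dual.D A} (hω : Dual.IsDualizing A ω) (hn : Dual.IsNormalized A ω)

include hω hn

omit hω in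
theorem subsingleton_of_pow {k : ℕ} (N : Type u) [AddCommGroup N] [Module A N] [Module.Finite A N]
    (hN : ∀ a ∈ maximalIdeal A ^ k, ∀ x : N, a • x = 0) (i : ℤ) (hi : i ≠ 0) :
    Subsingleton (E N ω i) := by
  refine Criterion.subsingleton_of_primes i N fun q hq => ?_
  rw [eq_maximal_of_pow_le hN q hq]
  exact hn i hi

variable {H : Type u} [AddCommGroup H] [Module A H] {f : ResidueField A →ₗ[A] H}
  (hf : _root_.InjHull.IsInjectiveHull f)

/-- `A/m^k → N` sending `1` to `x` -/
noncomputable def xh {N : Type u} [AddCommGroup N] [Module A N] {k : ℕ}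
    (hN : ∀ a ∈ maximalIdeal A ^ k, ∀ x : N, a • x = 0) (x : N) : A ⧸ maximalIdeal A ^ k →ₗ[A] N :=
  Submodule.liftQ _ (LinearMap.toSpanSingleton A N x) fun a ha => hN a ha x

omit hω hn in
theorem xh_mk {N : Type u} [AddCommGroup N] [Module A N] {k : ℕ}
    (hN : ∀ a ∈ maximalIdeal A ^ k, ∀ x : N, a • x = 0) (x : N) (a : A) :
    xh hN x (Submodule.Quotient.mk a) = a • x := rfl

/-- the pairing `Hom(N, ω) → Hom(N, H)` attached to a map `θ` -/
noncomputable def τ (θ : L (maximalIdeal A) (ω⟦(0 : ℤ)⟧) →ₗ[A] H) (N : Type u) [AddCommGroup N]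
    [Module A N] (k : ℕ) (hN : ∀ a ∈ maximalIdeal A ^ k, ∀ x : N, a • x = 0) :
    E N ω 0 →ₗ[A] (N →ₗ[A] H) where
  toFun φ :=
    { toFun := fun x => θ (ι (maximalIdeal A) k _ (pre (xh hN x) ω 0 φ))
      map_add' := fun x y => by
        have : xh hN (x + y) = xh hN x + xh hN y := Submodule.linearMap_qext _ (LinearMap.ext_ring
          (by simp only [LinearMap.comp_apply, Submodule.mkQ_apply, LinearMap.add_apply,
              LinearMap.smul_apply, xh_mk, one_smul]))
        rw [this, Normal.pre_add, map_add, map_add]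
      map_smul' := fun a x => by
        have : xh hN (a • x) = a • xh hN x := Submodule.linearMap_qext _ (LinearMap.ext_ring
          (by simp only [LinearMap.comp_apply, Submodule.mkQ_apply, LinearMap.add_apply,
              LinearMap.smul_apply, xh_mk, one_smul]))
        rw [this, Devissage.pre_smul, map_smul, map_smul, RingHom.id_apply] }
  map_add' φ ψ := LinearMap.ext fun x => by
    change θ (ι _ k _ (pre (xh hN x) ω 0 (φ + ψ))) = θ _ + θ _
    rw [map_add, map_add, map_add]
  map_smul' a φ := LinearMap.ext fun x => by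
    change θ (ι _ k _ (pre (xh hN x) ω 0 (a • φ))) = a • θ _
    rw [map_smul, map_smul, map_smul]

omit hω hn in
theorem τ_apply (θ : L (maximalIdeal A) (ω⟦(0 : ℤ)⟧) →ₗ[A] H) (N : Type u) [AddCommGroup N]
    [Module A N] (k : ℕ) (hN : ∀ a ∈ maximalIdeal A ^ k, ∀ x : N, a • x = 0) (φ : E N ω 0) (x : N) :
    τ θ N k hN φ x = θ (ι (maximalIdeal A) k _ (pre (xh hN x) ω 0 φ)) := rfl

omit hω hn in
theorem τ_natural (θ : L (maximalIdeal A) (ω⟦(0 : ℤ)⟧) →ₗ[A] H) {N N' : Type u} [AddCommGroup N]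
    [Module A N] [AddCommGroup N'] [Module A N'] (g : N →ₗ[A] N') (k : ℕ)
    (hN : ∀ a ∈ maximalIdeal A ^ k, ∀ x : N, a • x = 0)
    (hN' : ∀ a ∈ maximalIdeal A ^ k, ∀ x : N', a • x = 0) (φ : E N' ω 0) :
    τ θ N k hN (pre g ω 0 φ) = (τ θ N' k hN' φ).comp g := LinearMap.ext fun x => by
  have : g.comp (xh hN x) = xh hN' (g x) := Submodule.linearMap_qext _ (LinearMap.ext_ring
    (by simp only [LinearMap.comp_apply, Submodule.mkQ_apply, LinearMap.add_apply,
              LinearMap.smul_apply, xh_mk, one_smul]))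
  rw [LinearMap.comp_apply, τ_apply, τ_apply, ← Devissage.pre_comp, this]

omit hn in
theorem exists_residue : Dual.IsNormalized A ω →
    Nonempty (E (A ⧸ maximalIdeal A ^ 1) ω 0 ≃ₗ[A] ResidueField A) := fun hn => by
  obtain ⟨e⟩ := Normal.nonempty_residue hω hn
  exact ⟨(Devissage.congrE (Submodule.quotEquivOfEq _ _ (pow_one _)) ω 0).trans e⟩

omit hω in
theorem injective_ι_one : Function.Injective (ι (maximalIdeal A) 1 (ω⟦(0 : ℤ)⟧)) := by
  rw [injective_iff_map_eq_zero]
  intro e he
  obtain ⟨m, hm, hme⟩ := (TorsColim.ι_eq_zero_iff _ e).mp he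
  let π : A ⧸ maximalIdeal A ^ m →ₗ[A] A ⧸ maximalIdeal A ^ 1 :=
    Submodule.mapQ _ _ LinearMap.id (Ideal.pow_le_pow_right hm)
  have hπ : Function.Surjective π := fun y => by
    obtain ⟨y, rfl⟩ := Submodule.Quotient.mk_surjective _ y
    exact ⟨Submodule.Quotient.mk y, rfl⟩
  have hK : Subsingleton (E (LinearMap.ker π) ω (0 - 1)) := by
    refine subsingleton_of_pow hn (k := m) _ (fun a ha x => Subtype.ext ?_) _ (by norm_num)
    obtain ⟨y, hy⟩ := Submodule.Quotient.mk_surjective _ (x : A ⧸ maximalIdeal A ^ m)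
    rw [Submodule.coe_smul, ZeroMemClass.coe_zero, ← hy, ← Submodule.Quotient.mk_smul,
      Submodule.Quotient.mk_eq_zero]
    exact Ideal.mul_mem_right _ _ ha
  refine Devissage.injective_pre (K := ω) (Submodule.injective_subtype _) hπ
    (LinearMap.exact_subtype_ker_map π) 0 hK ?_
  change qD _ hm ≫ e = pre π ω 0 0
  rw [hme, map_zero]

include hf

/-- a trace map -/
theorem exists_trace : ∃ θ : L (maximalIdeal A) (ω⟦(0 : ℤ)⟧) →ₗ[A] H,
    Function.Injective (θ.comp (ι (maximalIdeal A) 1 (ω⟦(0 : ℤ)⟧))) := by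
  obtain ⟨e⟩ := exists_residue hω hn
  have := hf.isInjective
  obtain ⟨θ, hθ⟩ := Module.Injective.extension_property A H _ _
    (ι (maximalIdeal A) 1 (ω⟦(0 : ℤ)⟧)) (injective_ι_one hn) (f.comp e.toLinearMap)
  exact ⟨θ, hθ ▸ hf.injective.comp e.injective⟩

variable (θ : L (maximalIdeal A) (ω⟦(0 : ℤ)⟧) →ₗ[A] H)
  (hθ : Function.Injective (θ.comp (ι (maximalIdeal A) 1 (ω⟦(0 : ℤ)⟧))))

include hθ

theorem bijective_τ : ∀ (N : Type u) [AddCommGroup N] [Module A N] [Module.Finite A N] (k : ℕ)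
    (hN : ∀ a ∈ maximalIdeal A ^ k, ∀ x : N, a • x = 0), Function.Bijective (τ θ N k hN) := by
  intro N _ _ _
  induction ‹Module.Finite A N› using IsNoetherianRing.induction_on_isQuotientEquivQuotientPrime A with
  | subsingleton N =>
    intro k hN
    have := Devissage.subsingleton_of_subsingleton (A := A) (M := N) (K := ω) 0
    exact ⟨fun x y _ => Subsingleton.elim _ _, fun y => ⟨0, Subsingleton.elim _ _⟩⟩
  | quotient N q e =>
    intro k hN
    have hq : q.1 = maximalIdeal A := eq_maximal_of_pow_le hN q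
      (by rw [LinearEquiv.annihilator_eq e, Ideal.annihilator_quotient])
    let e' : N ≃ₗ[A] ResidueField A := e.trans (Submodule.quotEquivOfEq _ _ hq)
    have hk : 1 ≤ k := by
      by_contra h
      obtain rfl : k = 0 := by omega
      obtain ⟨x, hx⟩ := e'.surjective 1
      have h1 : x = 0 := (one_smul A x).symm.trans (hN 1 (by simp) x)
      rw [h1, map_zero] at hx
      exact zero_ne_one hx
    obtain ⟨d⟩ := InjHull.Matlis.dual_residueField hf
    obtain ⟨eR⟩ := Normal.nonempty_residue hω hn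
    have : IsSimpleModule A (ResidueField A) :=
      isSimpleModule_iff_quot_maximal.mpr ⟨maximalIdeal A, inferInstance, ⟨LinearEquiv.refl _ _⟩⟩
    have : IsSimpleModule A (E N ω 0) := IsSimpleModule.congr ((Devissage.congrE e' ω 0).trans eR)
    have : IsSimpleModule A (N →ₗ[A] H) :=
      IsSimpleModule.congr ((LinearEquiv.congrLeft H A e').trans d)
    refine (LinearMap.bijective_or_eq_zero _).resolve_right fun h0 => ?_
    have : Nontrivial (E N ω 0) := IsSimpleModule.nontrivial A _
    obtain ⟨φ, hφ⟩ := exists_ne (0 : E N ω 0)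
    refine hφ ?_
    let e₁ : (A ⧸ maximalIdeal A ^ 1) ≃ₗ[A] N :=
      (Submodule.quotEquivOfEq _ _ (pow_one _)).trans e'.symm
    have hx : xh hN (e₁ (Submodule.Quotient.mk 1)) =
        e₁.toLinearMap.comp (Submodule.mapQ _ _ LinearMap.id (Ideal.pow_le_pow_right hk)) :=
      Submodule.linearMap_qext _ (LinearMap.ext_ring (by
        simp only [LinearMap.comp_apply, Submodule.mkQ_apply]
        rw [xh_mk, one_smul]
        rfl))
    have h1 : θ (ι (maximalIdeal A) 1 _ (pre e₁.toLinearMap ω 0 φ)) = 0 := by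
      rw [← TorsColim.ι_qD _ hk]
      have := LinearMap.congr_fun (LinearMap.congr_fun h0 φ) (e₁ (Submodule.Quotient.mk 1))
      rw [τ_apply, hx, Devissage.pre_comp] at this
      exact this
    have h2 : pre e₁.toLinearMap ω 0 φ = 0 := hθ (h1.trans (map_zero _).symm)
    rw [← Devissage.pre_id 0 φ, show (LinearMap.id : N →ₗ[A] N) = e₁.toLinearMap.comp e₁.symm.toLinearMap
      from LinearMap.ext fun y => (e₁.apply_symm_apply y).symm, Devissage.pre_comp, h2, map_zero]
  | exact N₁ N₂ N₃ f' g hf' hg hfg h₁ h₃ =>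
    intro k hN
    have hN₁ : ∀ a ∈ maximalIdeal A ^ k, ∀ x : N₁, a • x = 0 := fun a ha x =>
      hf' (by rw [map_smul, map_zero, hN a ha])
    have hN₃ : ∀ a ∈ maximalIdeal A ^ k, ∀ x : N₃, a • x = 0 := fun a ha x => by
      obtain ⟨y, rfl⟩ := hg x
      rw [← map_smul, hN a ha, map_zero]
    obtain ⟨i₁, s₁⟩ := h₁ k hN₁
    obtain ⟨i₃, s₃⟩ := h₃ k hN₃
    constructor
    · rw [injective_iff_map_eq_zero]
      intro φ hφ
      have h1 : pre f' ω 0 φ = 0 := i₁ (by rw [τ_natural θ f' k hN₁ hN, hφ, LinearMap.zero_comp, map_zero])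
      obtain ⟨ψ, rfl⟩ := (Devissage.exact_mid hf' hg hfg 0 φ).mp h1
      have h3 : τ θ N₃ k hN₃ ψ = 0 := by
        rw [τ_natural θ g k hN hN₃] at hφ
        refine LinearMap.ext fun y => ?_
        obtain ⟨x, rfl⟩ := hg y
        exact LinearMap.congr_fun hφ x
      rw [i₃ (h3.trans (map_zero _).symm), map_zero]
    · intro h
      obtain ⟨φ₁, hφ₁⟩ := s₁ (h.comp f')
      obtain ⟨φ, rfl⟩ := Devissage.surjective_pre hf' hg hfg 0
        (subsingleton_of_pow hn N₃ hN₃ (0 + 1) (by norm_num)) φ₁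
      rw [τ_natural θ f' k hN₁ hN] at hφ₁
      have hker : LinearMap.ker g ≤ LinearMap.ker (h - τ θ N₂ k hN φ) := fun x hx => by
        obtain ⟨y, rfl⟩ := (hfg x).mp hx
        rw [LinearMap.mem_ker, LinearMap.sub_apply, sub_eq_zero]
        exact (LinearMap.congr_fun hφ₁ y).symm
      obtain ⟨ψ, hψ⟩ := s₃ (((LinearMap.ker g).liftQ _ hker).comp
        (g.quotKerEquivOfSurjective hg).symm.toLinearMap)
      refine ⟨φ + pre g ω 0 ψ, ?_⟩
      rw [map_add, τ_natural θ g k hN hN₃, hψ]
      refine LinearMap.ext fun x => ?_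
      rw [LinearMap.add_apply, LinearMap.comp_apply, LinearMap.comp_apply, LinearEquiv.coe_coe,
        show (g.quotKerEquivOfSurjective hg).symm (g x) = Submodule.Quotient.mk x from
          (LinearEquiv.symm_apply_eq _).mpr rfl, Submodule.liftQ_apply, LinearMap.sub_apply,
        add_sub_cancel]

omit hω hn hf hθ in
theorem kills_quot (k : ℕ) : ∀ a ∈ maximalIdeal A ^ k, ∀ x : A ⧸ maximalIdeal A ^ k, a • x = 0 :=
  fun a ha x => by
    obtain ⟨x, rfl⟩ := Submodule.Quotient.mk_surjective _ x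
    rw [← Submodule.Quotient.mk_smul, Submodule.Quotient.mk_eq_zero]
    exact Ideal.mul_mem_right _ _ ha

theorem bijective_trace : Function.Bijective θ := by
  constructor
  · rw [injective_iff_map_eq_zero]
    intro x hx
    obtain ⟨n, e, rfl⟩ := TorsColim.exists_rep _ x
    have h0 : τ θ _ n (kills_quot n) e = 0 := LinearMap.ext fun y => by
      obtain ⟨a, rfl⟩ := Submodule.Quotient.mk_surjective _ y
      have : xh (kills_quot n) (Submodule.Quotient.mk a : A ⧸ maximalIdeal A ^ n) = a • LinearMap.id :=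
        Submodule.linearMap_qext _ (LinearMap.ext_ring (by
          simp only [LinearMap.comp_apply, Submodule.mkQ_apply]
          rw [xh_mk, one_smul, LinearMap.smul_apply, LinearMap.id_apply, ← Submodule.Quotient.mk_smul,
            smul_eq_mul, mul_one]))
      rw [τ_apply, this, Devissage.pre_smul, Devissage.pre_id, map_smul, map_smul, hx, smul_zero,
        LinearMap.zero_apply]
    rw [(bijective_τ hω hn hf θ hθ _ n (kills_quot n)).1 (h0.trans (map_zero _).symm), map_zero]
  · intro z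
    obtain ⟨n, hn'⟩ := InjHull.Matlis.isPowerTorsion_hull hf z
    obtain ⟨φ, hφ⟩ := (bijective_τ hω hn hf θ hθ _ n (kills_quot n)).2
      (Submodule.liftQ _ (LinearMap.toSpanSingleton A H z) hn')
    refine ⟨ι _ n _ φ, ?_⟩
    have h1 := LinearMap.congr_fun hφ (Submodule.Quotient.mk 1)
    have : xh (kills_quot n) (Submodule.Quotient.mk 1 : A ⧸ maximalIdeal A ^ n) = LinearMap.id :=
      Submodule.linearMap_qext _ (LinearMap.ext_ring (by
        simp only [LinearMap.comp_apply, Submodule.mkQ_apply]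
        rw [xh_mk, one_smul, LinearMap.id_apply]))
    rw [τ_apply, this, Devissage.pre_id, Submodule.liftQ_apply,
      LinearMap.toSpanSingleton_apply, one_smul] at h1
    exact h1

omit hω hf hθ in
theorem subsingleton_L (i : ℤ) (hi : i ≠ 0) : Subsingleton (L (maximalIdeal A) (ω⟦i⟧)) := by
  refine subsingleton_of_forall_eq 0 fun x => ?_
  obtain ⟨n, e, rfl⟩ := TorsColim.exists_rep _ x
  have : Subsingleton (Dual.inD A (A ⧸ maximalIdeal A ^ n) ⟶ ω⟦i⟧) :=
    subsingleton_of_pow hn _ (kills_quot n) i hi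
  rw [Subsingleton.elim e 0, map_zero]

end Groth.Agent.DualCx.Trace
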