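import Groth.Agent.DualCx.FlatBC
import Groth.Agent.DualCx.Unique
import Groth.Agent.DTrunc.CohIn
import Groth.Agent.DRing.LTensor
import Mathlib.RingTheory.PicardGroup
import Mathlib.RingTheory.Flat.CategoryTheory

/-!
# Twisting objects of `D(A)` by invertible modules
-/

universe u

open CategoryTheory CategoryTheory.Limits MonoidalCategory TensorProduct

attribute [local instance] HasDerivedCategory.standard

namespace Groth.Agent.DualCx.Twist

variable {A : Type u} [CommRing A]

/-- termwise twist -/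
noncomputable abbrev tw (P : ModuleCat.{u} A) : ModuleCat.{u} A ⥤ ModuleCat.{u} A := tensorRight P

instance linear_tw (P : ModuleCat.{u} A) : (tw P).Linear A := inferInstance

variable (P : ModuleCat.{u} A) [Module.Flat A P]

instance preservesFiniteColimits_tw (P : ModuleCat.{u} A) : PreservesFiniteColimits (tw P) :=
  preservesFiniteColimits_of_natIso (BraidedCategory.tensorLeftIsoTensorRight P)

/-- derived twist by a flat module -/
noncomputable abbrev T : Dual.D A ⥤ Dual.D A := (tw P).mapDerivedCategory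

theorem nonempty_LTensor_iso [DRing.HasLTensor A P] (K : Dual.D A) :
    Nonempty ((DRing.LTensor A P).obj K ≅ (T P).obj K) := by
  obtain ⟨L, hL, -, ⟨e⟩⟩ := DRing.DBasic.exists_kproj_iso K
  exact ⟨(DRing.LTensor A P).mapIso e.symm ≪≫
    DRing.LTensor.LTensorIso P (DRing.KFlat.isKFlat_of_isKProjective L) ≪≫
    ((tw P).mapDerivedCategoryFactors.app L).symm ≪≫ (T P).mapIso e⟩

/-- composition of twists -/
noncomputable def twistComp {Q : ModuleCat.{u} A} [Module.Flat A Q]
    (e : (P ⊗[A] Q : Type u) ≃ₗ[A] A) : T P ⋙ T Q ≅ 𝟭 (Dual.D A) :=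
  let e₀ : tw P ⋙ tw Q ≅ 𝟭 (ModuleCat.{u} A) :=
    (MonoidalCategory.tensorRightTensor P Q).symm ≪≫
      (tensoringRight (ModuleCat.{u} A)).mapIso
        (e.toModuleIso : MonoidalCategoryStruct.tensorObj P Q ≅ 𝟙_ (ModuleCat.{u} A)) ≪≫
      rightUnitorNatIso (ModuleCat.{u} A)
  have : Localization.Lifting (DerivedCategory.Q (C := ModuleCat.{u} A))
      (HomologicalComplex.quasiIso (ModuleCat.{u} A) (ComplexShape.up ℤ))
      (DerivedCategory.Q (C := ModuleCat.{u} A)) (T P ⋙ T Q) :=
    ⟨(Functor.associator _ _ _).symm ≪≫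
      Functor.isoWhiskerRight (tw P).mapDerivedCategoryFactors _ ≪≫ Functor.associator _ _ _ ≪≫
      Functor.isoWhiskerLeft _ (tw Q).mapDerivedCategoryFactors ≪≫
      (Functor.associator _ _ _).symm ≪≫
      Functor.isoWhiskerRight
        (NatIso.mapHomologicalComplex e₀ (ComplexShape.up ℤ) ≪≫
          Functor.mapHomologicalComplexIdIso (ModuleCat.{u} A) (ComplexShape.up ℤ)) _ ≪≫
      Functor.leftUnitor _⟩
  have : Localization.Lifting (DerivedCategory.Q (C := ModuleCat.{u} A))
      (HomologicalComplex.quasiIso (ModuleCat.{u} A) (ComplexShape.up ℤ))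
      (DerivedCategory.Q (C := ModuleCat.{u} A)) (𝟭 (Dual.D A)) := ⟨Functor.rightUnitor _⟩
  Localization.liftNatIso (DerivedCategory.Q (C := ModuleCat.{u} A))
    (HomologicalComplex.quasiIso (ModuleCat.{u} A) (ComplexShape.up ℤ)) DerivedCategory.Q
    DerivedCategory.Q _ _ (Iso.refl _)

omit [Module.Flat A P] in
theorem exists_inverse [Module.Invertible A P] :
    ∃ (Q : ModuleCat.{u} A) (_ : Module.Invertible A Q),
      Nonempty ((P ⊗[A] Q : Type u) ≃ₗ[A] A) ∧ Nonempty ((Q ⊗[A] P : Type u) ≃ₗ[A] A) :=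
  ⟨ModuleCat.of A (Module.Dual A P), inferInstanceAs (Module.Invertible A (Module.Dual A P)),
    ⟨(TensorProduct.comm A _ _).trans (Module.Invertible.linearEquiv A P)⟩,
    ⟨Module.Invertible.linearEquiv A P⟩⟩

theorem isEquivalence_T [Module.Invertible A P] : (T P).IsEquivalence := by
  obtain ⟨Q, hQ, ⟨e⟩, ⟨e'⟩⟩ := exists_inverse P
  exact ((CategoryTheory.Equivalence.mk (T P) (T Q) (twistComp P e).symm
    (twistComp Q e'))).isEquivalence_functor

/-- `Hom(T K, T L) = Hom(K, L)` -/
noncomputable def homEquiv [Module.Invertible A P] (K L : Dual.D A) :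
    (K ⟶ L) ≃ₗ[A] ((T P).obj K ⟶ (T P).obj L) :=
  haveI := isEquivalence_T P
  LinearEquiv.ofBijective
    { toFun := (T P).map
      map_add' := fun _ _ => Functor.map_add _
      map_smul' := fun r f => Functor.map_smul (T P) r f }
    ⟨(T P).map_injective, (T P).map_surjective⟩

/-- `H^i(T K) = H^i(K) ⊗ P` -/
noncomputable def HDEquiv (K : Dual.D A) (i : ℤ) :
    Dual.HD A ((T P).obj K) i ≃ₗ[A] (Dual.HD A K i ⊗[A] (P : Type u) : Type u) :=
  (DTrunc.homologyMapDerivedIso (tw P) K i).toLinearEquiv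

/-- `T (M[0]) = (M ⊗ P)[0]` -/
noncomputable def singleIso (M : Type u) [AddCommGroup M] [Module A M] :
    (T P).obj (Dual.inD A M) ≅ Dual.inD A (M ⊗[A] (P : Type u) : Type u) :=
  ((tw P).mapDerivedCategorySingleFunctor 0).app (ModuleCat.of A M)

theorem isDualizing [Module.Invertible A P] {ω : Dual.D A} (hω : Dual.IsDualizing A ω) :
    Dual.IsDualizing A ((T P).obj ω) := by
  have := hω.isNoetherianRing
  obtain ⟨a, b, hab⟩ := hω.finite_injective_dimension
  refine ⟨hω.isNoetherianRing, ⟨a, b, fun M _ _ i hi => ?_⟩, fun i => ?_, ?_, fun i hi => ?_⟩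
  · obtain ⟨Q, hQ, ⟨e⟩, ⟨e'⟩⟩ := exists_inverse P
    have := hab (M ⊗[A] (Q : Type u) : Type u) i hi
    let e₁ : (T P).obj (Dual.inD A (M ⊗[A] (Q : Type u) : Type u)) ≅ Dual.inD A M :=
      singleIso P _ ≪≫ (DerivedCategory.singleFunctor (ModuleCat.{u} A) 0).mapIso
        ((TensorProduct.assoc A M Q P).trans
          ((TensorProduct.congr (LinearEquiv.refl A M) e').trans (TensorProduct.rid A M))).toModuleIso
    exact ((Linear.homCongr A e₁.symm ((((T P).commShiftIso i).app ω).symm)).trans
      (homEquiv P _ _).symm).toEquiv.subsingleton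
  · have := hω.finite_cohomology i
    exact Module.Finite.equiv (HDEquiv P ω i).symm
  · have := (homEquiv P ω ω).bijective.comp hω.toEnd_bijective
    convert this using 1
    funext x
    change _ = (T P).map (x • 𝟙 ω)
    rw [Functor.map_smul, CategoryTheory.Functor.map_id]
  · have := hω.ext_self_subsingleton i hi
    exact ((Linear.homCongr A (Iso.refl _) ((((T P).commShiftIso i).app ω).symm)).trans
      (homEquiv P _ _).symm).toEquiv.subsingleton

end Groth.Agent.DualCx.Twist
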