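import Groth.Agent.DualCx.Twist
import Groth.Agent.DualCx.Normalized

/-!
# Morphisms into a twist by a finite projective module
-/

universe u

open CategoryTheory CategoryTheory.Limits MonoidalCategory TensorProduct

attribute [local instance] HasDerivedCategory.standard

namespace Groth.Agent.DualCx.TwistHom

open Twist (tw T)

variable {A : Type u} [CommRing A] (L : DRing.Cx A)

/-- `L ⊗ M` in `D(A)` -/
noncomputable abbrev G (M : ModuleCat.{u} A) : Dual.D A :=
  DerivedCategory.Q.obj (((tw M).mapHomologicalComplex (ComplexShape.up ℤ)).obj L)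

/-- functoriality in the module, as a linear map -/
noncomputable def tmap {M N : ModuleCat.{u} A} : (M ⟶ N) →ₗ[A] (G L M ⟶ G L N) where
  toFun g := DerivedCategory.Q.map
    ((NatTrans.mapHomologicalComplex ((tensoringRight _).map g) (ComplexShape.up ℤ)).app L)
  map_add' g h := by
    rw [← Functor.map_add]
    congr 1
    ext i : 1
    exact MonoidalPreadditive.whiskerLeft_add g h
  map_smul' a g := by
    rw [RingHom.id_apply, ← Functor.map_smul]
    congr 1
    ext i : 1
    exact MonoidalLinear.whiskerLeft_smul (R := A) (L.X i) a g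

theorem tmap_id (M : ModuleCat.{u} A) : tmap L (𝟙 M) = 𝟙 (G L M) := by
  refine (congrArg DerivedCategory.Q.map ?_).trans (DerivedCategory.Q.map_id _)
  ext i : 1
  exact whiskerLeft_id (L.X i) M

theorem tmap_comp {M N P : ModuleCat.{u} A} (g : M ⟶ N) (h : N ⟶ P) :
    tmap L (g ≫ h) = tmap L g ≫ tmap L h := by
  refine (congrArg DerivedCategory.Q.map ?_).trans (DerivedCategory.Q.map_comp _ _)
  ext i : 1
  exact whiskerLeft_comp (L.X i) g h

/-- `L ⊗ A = L` -/
noncomputable def rho : G L (𝟙_ (ModuleCat.{u} A)) ≅ DerivedCategory.Q.obj L :=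
  DerivedCategory.Q.mapIso
    ((NatIso.mapHomologicalComplex (rightUnitorNatIso (ModuleCat.{u} A)) (ComplexShape.up ℤ) ≪≫
      Functor.mapHomologicalComplexIdIso (ModuleCat.{u} A) (ComplexShape.up ℤ)).app L)

/-- a point of a module as a map from `A` -/
noncomputable def pt (M : ModuleCat.{u} A) : M →ₗ[A] (𝟙_ (ModuleCat.{u} A) ⟶ M) where
  toFun m := ModuleCat.ofHom (LinearMap.toSpanSingleton A M m)
  map_add' _ _ := ModuleCat.hom_ext (LinearMap.ext fun _ => smul_add _ _ _)
  map_smul' _ _ := ModuleCat.hom_ext (LinearMap.ext fun _ => smul_comm _ _ _)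

theorem pt_comp {M N : ModuleCat.{u} A} (g : M ⟶ N) (m : M) : pt M m ≫ g = pt N (g.hom m) :=
  ModuleCat.hom_ext (LinearMap.ext fun x => g.hom.map_smul x m)

theorem pt_unit (a : A) :
    pt (𝟙_ (ModuleCat.{u} A)) (a : (𝟙_ (ModuleCat.{u} A) : ModuleCat.{u} A)) = a • 𝟙 _ :=
  ModuleCat.hom_ext (LinearMap.ext fun x => mul_comm x a)

/-- `m ↦ (l ↦ l ⊗ m)` -/
noncomputable def Φ (M : ModuleCat.{u} A) : M →ₗ[A] (DerivedCategory.Q.obj L ⟶ G L M) :=
  (Linear.leftComp A (G L M) (rho L).inv).comp ((tmap L).comp (pt M))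

theorem Φ_tmap {M N : ModuleCat.{u} A} (g : M ⟶ N) (m : M) :
    Φ L M m ≫ tmap L g = Φ L N (g.hom m) := by
  change ((rho L).inv ≫ tmap L (pt M m)) ≫ tmap L g = (rho L).inv ≫ tmap L (pt N (g.hom m))
  rw [Category.assoc, ← tmap_comp, pt_comp]

theorem Φ_tmap_rho {M : ModuleCat.{u} A} (g : M ⟶ 𝟙_ (ModuleCat.{u} A)) (m : M) :
    Φ L M m ≫ tmap L g ≫ (rho L).hom = (g.hom m : A) • 𝟙 (DerivedCategory.Q.obj L) := by
  rw [← Category.assoc, Φ_tmap]
  change ((rho L).inv ≫ tmap L (pt _ (g.hom m : A))) ≫ (rho L).hom = _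
  rw [pt_unit, map_smul, tmap_id]
  simp only [Linear.comp_smul, Linear.smul_comp, Category.comp_id, Iso.inv_hom_id]

/-- the identity of `G M` for finite projective `M` -/
theorem exists_decomp (M : ModuleCat.{u} A) [Module.Finite A M] [Module.Projective A M] :
    ∃ (k : ℕ) (ι : Fin k → (M ⟶ 𝟙_ (ModuleCat.{u} A))) (r : Fin k → M),
      (∀ m : M, ∑ j, ((ι j).hom m : A) • r j = m) ∧
      ∑ j, tmap L (ι j) ≫ (rho L).hom ≫ Φ L M (r j) = 𝟙 (G L M) := by
  obtain ⟨k, f, g, -, -, hfg⟩ := Module.Finite.exists_comp_eq_id_of_projective A M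
  let ι : Fin k → (M ⟶ 𝟙_ (ModuleCat.{u} A)) :=
    fun j => ModuleCat.ofHom ((LinearMap.proj j).comp g)
  let r : Fin k → M := fun j => f (Pi.single j 1)
  have key : ∀ m : M, ∑ j, ((ι j).hom m : A) • r j = m := by
    intro m
    change ∑ j, g m j • f (Pi.single j 1) = m
    rw [← Finset.sum_congr rfl (fun j _ => map_smul f (g m j) (Pi.single j 1)), ← map_sum,
      ← pi_eq_sum_univ' (g m)]
    exact LinearMap.congr_fun hfg m
  refine ⟨k, ι, r, key, ?_⟩
  have h : ∑ j, ι j ≫ pt M (r j) = 𝟙 M := by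
    refine ModuleCat.hom_ext (LinearMap.ext fun m => ?_)
    rw [ModuleCat.hom_sum, LinearMap.sum_apply]
    exact key m
  rw [← tmap_id, ← h, map_sum]
  refine Finset.sum_congr rfl fun j _ => ?_
  rw [tmap_comp]
  change tmap L (ι j) ≫ (rho L).hom ≫ (rho L).inv ≫ tmap L (pt M (r j)) = _
  rw [Iso.hom_inv_id_assoc]

theorem Φ_bijective (M : ModuleCat.{u} A) [Module.Finite A M] [Module.Projective A M]
    (hE : Function.Bijective fun a : A => a • 𝟙 (DerivedCategory.Q.obj L)) :
    Function.Bijective (Φ L M) := by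
  obtain ⟨k, ι, r, hm, hd⟩ := exists_decomp L M
  refine ⟨(injective_iff_map_eq_zero _).mpr fun m h => ?_, fun f => ?_⟩
  · rw [← hm m]
    refine Finset.sum_eq_zero fun j _ => ?_
    have h1 := Φ_tmap_rho L (ι j) m
    rw [h, zero_comp] at h1
    have h2 : ((ι j).hom m : A) = 0 := hE.injective (h1.symm.trans (zero_smul A _).symm)
    rw [h2, zero_smul]
  · choose a ha using fun j => hE.surjective (f ≫ tmap L (ι j) ≫ (rho L).hom)
    refine ⟨∑ j, a j • r j, ?_⟩
    conv_rhs => rw [← Category.comp_id f, ← hd, Preadditive.comp_sum]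
    rw [map_sum]
    refine Finset.sum_congr rfl fun j _ => ?_
    calc Φ L M (a j • r j) = (a j • 𝟙 (DerivedCategory.Q.obj L)) ≫ Φ L M (r j) := by
          rw [map_smul, Linear.smul_comp, Category.id_comp]
      _ = (f ≫ tmap L (ι j) ≫ (rho L).hom) ≫ Φ L M (r j) := by rw [← ha j]
      _ = f ≫ tmap L (ι j) ≫ (rho L).hom ≫ Φ L M (r j) := by simp only [Category.assoc]

/-- `G M` is the derived twist of `Q L` -/
noncomputable def GIso (M : ModuleCat.{u} A) [Module.Flat A M] :
    (T M).obj (DerivedCategory.Q.obj L) ≅ G L M :=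
  (tw M).mapDerivedCategoryFactors.app L

end Groth.Agent.DualCx.TwistHom
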