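import Groth.Agent.DualCx.Polynomial
import Groth.Agent.DualCx.Gorenstein
import Groth.Agent.DualCx.Locus
import Mathlib.RingTheory.UniqueFactorizationDomain.Basic
import Mathlib.RingTheory.Nakayama

/-!
# Cohen–Macaulay factorial local rings with dualizing complexes are Gorenstein
-/

universe u

open CategoryTheory IsLocalRing RingTheory.Sequence
open scoped Pointwise

attribute [local instance] HasDerivedCategory.standard

namespace Groth.Agent.DualCx.UFDCanonical

open Devissage (E)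
open Dimfun (Z deg)

variable {A : Type u} [CommRing A] [IsDomain A] [IsLocalRing A] [IsNoetherianRing A]

/-- divide out principal primes -/
theorem exists_primitive (J : Ideal A) : J ≠ ⊥ →
    ∃ J' : Ideal A, Nonempty (J ≃ₗ[A] J') ∧ ∀ π : A, Prime π → ¬ J' ≤ Ideal.span {π} := by
  induction J using IsNoetherian.induction with
  | _ J ih =>
    intro hJ
    by_cases h : ∀ π : A, Prime π → ¬ J ≤ Ideal.span {π}
    · exact ⟨J, ⟨LinearEquiv.refl A J⟩, h⟩
    push Not at h
    obtain ⟨π, hπ, hle⟩ := h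
    let J₁ : Ideal A := Submodule.comap (LinearMap.mulLeft A π) J
    have hsur : ∀ x ∈ J, ∃ y ∈ J₁, π * y = x := fun x hx => by
      obtain ⟨y, rfl⟩ := Ideal.mem_span_singleton'.mp (hle hx)
      exact ⟨y, show π * y ∈ J by rwa [mul_comm], mul_comm π y⟩
    have hle₁ : J ≤ J₁ := fun x hx => Ideal.mul_mem_left J π hx
    have hlt : J < J₁ := by
      refine lt_of_le_of_ne hle₁ fun h => hJ ?_
      refine Submodule.eq_bot_of_le_smul_of_le_jacobson_bot (Ideal.span {π}) J (IsNoetherian.noetherian J) ?_ ?_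
      · intro x hx
        obtain ⟨y, hy, rfl⟩ := hsur x hx
        exact Submodule.smul_mem_smul (Ideal.mem_span_singleton_self π) (h.symm ▸ hy)
      · rw [Ideal.span_singleton_le_iff_mem, IsLocalRing.jacobson_eq_maximalIdeal ⊥ bot_ne_top]
        exact hπ.not_isUnit
    obtain ⟨J', ⟨e⟩, hJ'⟩ := ih J₁ hlt fun h => hJ (le_bot_iff.mp (h ▸ hle₁))
    let μ : J₁ →ₗ[A] J := ((LinearMap.mulLeft A π).comp J₁.subtype).codRestrict J fun y => y.2
    have hμ : Function.Bijective μ := ⟨fun a b hab => Subtype.ext (mul_left_cancel₀ hπ.ne_zero (congrArg Subtype.val hab)),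
      fun x => by
        obtain ⟨y, hy, hxy⟩ := hsur x.1 x.2
        exact ⟨⟨y, hy⟩, Subtype.ext hxy⟩⟩
    exact ⟨J', ⟨(LinearEquiv.ofBijective μ hμ).symm.trans e⟩, hJ'⟩

/-- an ideal of depth at least two at primes of height at least two, without prime divisors, is trivial -/
theorem eq_top_of_depth [UniqueFactorizationMonoid A] (J : Ideal A) (hJ : J ≠ ⊥)
    (hdiv : ∀ π : A, Prime π → ¬ J ≤ Ideal.span {π})
    (hdepth : ∀ q : Ideal A, q.IsPrime → (∃ q' : Ideal A, q'.IsPrime ∧ ⊥ < q' ∧ q' < q) →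
      2 ≤ LocCoh.idealDepth q J) : J = ⊤ := by
  by_contra hne
  have : Nontrivial (A ⧸ J) := Ideal.Quotient.nontrivial_iff.mpr hne
  obtain ⟨q, hq⟩ := associatedPrimes.nonempty A (A ⧸ J)
  have hqp : q.IsPrime := Depth.isPrime_of_mem_associatedPrimes hq
  have hJq : J ≤ q := le_trans (Ideal.annihilator_quotient).ge (Depth.annihilator_le_associatedPrime hq)
  obtain ⟨π, hπq, hπ⟩ := Ideal.IsPrime.exists_mem_prime_of_ne_bot hqp (fun h => hJ (le_bot_iff.mp (h ▸ hJq)))
  have hd := hdepth q hqp ⟨Ideal.span {π}, (Ideal.span_singleton_prime hπ.ne_zero).mpr hπ,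
    bot_lt_iff_ne_bot.mpr (by simpa using hπ.ne_zero),
    lt_of_le_of_ne ((Ideal.span_singleton_le_iff_mem _).mpr hπq) fun h => hdiv π hπ (h ▸ hJq)⟩
  have : Nontrivial J := Submodule.nontrivial_iff_ne_bot.mpr hJ
  have hIM : q • (⊤ : Submodule A J) ≠ ⊤ :=
    Depth.smul_top_ne_top_of_le_maximalIdeal (IsLocalRing.le_maximalIdeal hqp.ne_top)
  obtain ⟨rs, hreg, hmem, hlen⟩ := Depth.exists_isWeaklyRegular_of_le_idealDepth hIM (n := 2) (by simpa using hd)
  match rs, hlen with
  | [a, b], _ =>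
    rw [isWeaklyRegular_cons_iff, isWeaklyRegular_singleton_iff] at hreg
    obtain ⟨ha, hb⟩ := hreg
    obtain ⟨x, hx⟩ : ∃ x : A ⧸ J, q = (⊥ : Submodule A (A ⧸ J)).colon {x} := by
      obtain ⟨-, x, hx⟩ := isAssociatedPrime_iff.mp hq
      exact ⟨x, hx⟩
    obtain ⟨x, rfl⟩ := Ideal.Quotient.mk_surjective x
    have hmul : ∀ c ∈ q, c * x ∈ J := fun c hc => by
      rw [hx, Submodule.mem_colon_singleton, Submodule.mem_bot] at hc
      exact Ideal.Quotient.eq_zero_iff_mem.mp hc
    have hxJ : x ∉ J := fun h => hqp.ne_top (by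
      rw [hx, Ideal.eq_top_iff_one, Submodule.mem_colon_singleton, Submodule.mem_bot, one_smul]
      exact Ideal.Quotient.eq_zero_iff_mem.mpr h)
    have haq : a ∈ q := hmem a (by simp)
    have hbq : b ∈ q := hmem b (by simp)
    have ha0 : a ≠ 0 := fun h => by
      obtain ⟨y, hy⟩ := exists_ne (0 : J)
      exact hy (ha (by simp [h]))
    let z : J := ⟨a * x, hmul a haq⟩
    have hz : (Submodule.Quotient.mk z : QuotSMulTop a J) = 0 := by
      refine hb.right_eq_zero_of_smul ?_
      rw [← Submodule.Quotient.mk_smul, Submodule.Quotient.mk_eq_zero]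
      exact (Submodule.mem_smul_pointwise_iff_exists _ _ _).mpr
        ⟨⟨b * x, hmul b hbq⟩, trivial, Subtype.ext (show a * (b * x) = b * (a * x) by ring)⟩
    rw [Submodule.Quotient.mk_eq_zero, Submodule.mem_smul_pointwise_iff_exists] at hz
    obtain ⟨j, -, hj⟩ := hz
    have : (j : A) = x := mul_left_cancel₀ ha0 (congrArg Subtype.val hj)
    exact hxJ (this ▸ j.2)

variable [UniqueFactorizationMonoid A] {ω : Dual.D A} (hω : Dual.IsDualizing A ω)

include hω

theorem isGorensteinLocalRing (hCM : LocCoh.IsCohenMacaulayLocalRing A) : LocCoh.IsGorensteinLocalRing A := by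
  classical
  -- one cohomology module
  let m : PrimeSpectrum A := ⟨maximalIdeal A, inferInstance⟩
  have hCMm : LocCoh.IsCohenMacaulayLocalRing (Localization.AtPrime m.1) :=
    Depth.isCohenMacaulayLocalRing_localization m.1
  obtain ⟨j₀, hj₀⟩ := (Normalized.cm_iff hω m A).mp ((Locus.cmRing_iff m.1).mp hCMm)
  let b : PrimeSpectrum A := ⟨⊥, Ideal.isPrime_bot⟩
  set e := deg hω b with he
  have hmin : b.1 ∈ minimalPrimes A := by
    rw [IsDomain.minimalPrimes_eq_singleton_bot]; rfl
  have hnz := (Dimfun.not_Z_HD_iff_minimal hω b hmin e).mpr rfl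
  have hvan : ∀ i, i ≠ j₀ → Subsingleton (Dual.HD A ω i) := fun i hi => subsingleton_of_forall_eq 0 fun x => by
    obtain ⟨s, hs, hx⟩ := Dimfun.Z_equiv (Cx.homUnitEquivShift ω i) (hj₀ i hi) x
    obtain ⟨v, rfl⟩ := IsLocalRing.notMem_maximalIdeal.mp hs
    exact (smul_eq_zero_iff_eq v).mp hx
  obtain rfl : j₀ = e := by
    by_contra hne
    have := hvan e (Ne.symm hne)
    exact hnz (Dimfun.Z_of_subsingleton b _)
  let K := Dual.HD A ω e
  have : Module.Finite A K := hω.finite_cohomology e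
  obtain ⟨eω⟩ := Devissage.nonempty_single ω e hvan
  -- `Ext(K, ω)` is concentrated in one degree
  have hEK : ∀ j, j ≠ e → Subsingleton (E K ω j) := fun j hj => by
    have := hω.ext_self_subsingleton (j - e) (by omega)
    exact ((Hom.congr A (Iso.refl _) (Iso.refl _)).trans
      ((Hom.shiftHom A (-e) j (j - e) (by omega) (Dual.inD A K) ω).trans
        (Hom.congr A eω.symm (Iso.refl _)))).toEquiv.subsingleton
  -- depth at primes
  have hdepth : ∀ q : PrimeSpectrum A, ∀ n : ℕ, deg hω b + n ≤ deg hω q →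
      (n : ℕ∞) ≤ LocCoh.idealDepth q.1 K := by
    intro q n hn
    rw [Depth.idealDepth_eq_iInf_depth]
    refine le_iInf₂ fun r hr => ?_
    have hnzr : ¬ Z r K := fun h => hnz (Dimfun.Z_mono (p := r) (q := b) bot_le h)
    rw [Dimfun.Z_iff_localized, not_subsingleton_iff_nontrivial] at hnzr
    obtain ⟨N, hN, -, hnN⟩ := Normalized.depth_spec hω r K
    rw [hN]
    have h1 : deg hω r - N = e := by
      by_contra hne
      have := hEK _ hne
      exact hnN (Dimfun.Z_of_subsingleton r _)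
    have h2 : deg hω q ≤ deg hω r := by
      rcases eq_or_lt_of_le (show q ≤ r from hr) with h | h
      · rw [h]
      · exact (Dimfun.deg_lt hω h).le
    exact_mod_cast (show (n : ℤ) ≤ N by omega)
  -- torsion-free
  have htf : ∀ a : A, a ≠ 0 → ∀ x : K, a • x = 0 → x = 0 := fun a ha x hx => by
    by_contra hne
    obtain ⟨q, hq, hle⟩ := exists_le_isAssociatedPrime_of_isNoetherianRing A x hne
    have haq : a ∈ q := hle (Submodule.mem_colon_singleton.mpr ((Submodule.mem_bot A).mpr hx))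
    have hqp : q.IsPrime := Depth.isPrime_of_mem_associatedPrimes hq
    have hlt : b < (⟨q, hqp⟩ : PrimeSpectrum A) :=
      lt_of_le_of_ne bot_le fun h => ha (by
        have : a ∈ b.1 := (congrArg PrimeSpectrum.asIdeal h).symm ▸ haq
        exact this)
    have h1 := hdepth ⟨q, hqp⟩ 1 (by have := Dimfun.deg_lt hω hlt; omega)
    have h0 : LocCoh.idealDepth q K = 0 := Depth.idealDepth_eq_zero_iff.mpr ⟨q, hq, le_rfl⟩
    rw [h0] at h1
    exact absurd h1 (by simp)
  -- rank one
  obtain ⟨x₀, hgen, -⟩ := Polynomial.exists_gen hω b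
  let eb : E (A ⧸ b.1) ω e ≃ₗ[A] K :=
    (Devissage.congrE (Submodule.quotEquivOfEqBot b.1 rfl) ω e).trans (Cx.homUnitEquivShift ω e)
  have hgen' : ∀ y : K, ∃ s a : A, s ≠ 0 ∧ s • y = a • eb x₀ := fun y => by
    obtain ⟨s, a, hs, h⟩ := hgen (eb.symm y)
    exact ⟨s, a, hs, by rw [← map_smul, ← h, map_smul, eb.apply_symm_apply]⟩
  have hx₀ : eb x₀ ≠ 0 := fun h => hnz fun y => by
    obtain ⟨s, a, hs, hy⟩ := hgen' y
    exact ⟨s, hs, by rw [hy, h, smul_zero]⟩
  obtain ⟨ι, hι⟩ : ∃ ι : K →ₗ[A] A, Function.Injective ι := by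
    obtain ⟨T, hT⟩ := Module.Finite.fg_top (R := A) (M := K)
    choose s a hs hsa using hgen'
    let S := ∏ y ∈ T, s y
    have hS : S ≠ 0 := Finset.prod_ne_zero_iff.mpr fun y _ => hs y
    let L : A →ₗ[A] K := LinearMap.toSpanSingleton A K (eb x₀)
    have hL : Function.Injective L := (injective_iff_map_eq_zero _).mpr fun c hc => by
      by_contra hc0
      exact hx₀ (htf c hc0 _ hc)
    have hmem : ∀ y, S • y ∈ LinearMap.range L := fun y => by
      have hy : y ∈ Submodule.span A (T : Set K) := hT ▸ Submodule.mem_top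
      induction hy using Submodule.span_induction with
      | mem y hy =>
        obtain ⟨c, hc⟩ : s y ∣ S := Finset.dvd_prod_of_mem _ hy
        refine ⟨c * a y, ?_⟩
        rw [LinearMap.toSpanSingleton_apply, hc, mul_smul, ← hsa, smul_smul, mul_comm]
      | zero => rw [smul_zero]; exact Submodule.zero_mem _
      | add y z _ _ hy hz => rw [smul_add]; exact Submodule.add_mem _ hy hz
      | smul c y _ hy => rw [smul_comm]; exact Submodule.smul_mem _ c hy
    refine ⟨(LinearEquiv.ofInjective L hL).symm.toLinearMap.comp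
      ((S • LinearMap.id : K →ₗ[A] K).codRestrict (LinearMap.range L) hmem), ?_⟩
    rw [LinearMap.coe_comp]
    exact (LinearEquiv.injective _).comp ((injective_iff_map_eq_zero _).mpr fun y hy =>
      htf S hS y (congrArg Subtype.val hy))
  -- `K` is free
  have hJ : LinearMap.range ι ≠ ⊥ := fun h => hx₀ (hι (by
    rw [map_zero]; exact (Submodule.eq_bot_iff _).mp h _ ⟨_, rfl⟩))
  obtain ⟨J', ⟨eJ⟩, hdiv⟩ := exists_primitive (LinearMap.range ι) hJ
  let eK : K ≃ₗ[A] J' := (LinearEquiv.ofInjective ι hι).trans eJ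
  have hJ' : J' ≠ ⊥ := fun h => hx₀ (eK.injective (by
    rw [map_zero]; exact Subtype.ext ((Submodule.eq_bot_iff _).mp h _ (eK (eb x₀)).2)))
  obtain rfl : J' = ⊤ := eq_top_of_depth J' hJ' hdiv fun q hq ⟨q', hq', hlt', hlt⟩ => by
    rw [← Depth.idealDepth_congr eK]
    refine hdepth ⟨q, hq⟩ 2 ?_
    have h1 := Dimfun.deg_lt hω (show b < (⟨q', hq'⟩ : PrimeSpectrum A) from hlt')
    have h2 := Dimfun.deg_lt hω (show (⟨q', hq'⟩ : PrimeSpectrum A) < ⟨q, hq⟩ from hlt)
    omega
  let eA : ω⟦e⟧ ≅ Dual.inD A A :=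
    (shiftFunctor (Dual.D A) e).mapIso eω ≪≫ (shiftFunctorCompIsoId (Dual.D A) (-e) e (by omega)).app _ ≪≫
      (DerivedCategory.singleFunctor (ModuleCat.{u} A) 0).mapIso (eK.trans Submodule.topEquiv).toModuleIso
  exact Gorenstein.isGorensteinLocalRing_of_isDualizing
    (FlatBC.isDualizing_of_iso eA (Normalized.isDualizing_shift hω e))

end Groth.Agent.DualCx.UFDCanonical
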