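import Groth.Agent.DualCx.Polynomial
import Groth.Agent.DualCx.Comp
import Mathlib.RingTheory.Unramified.LocalRing

/-!
# Base change of dualizing complexes along flat unramified maps
-/

universe u

open CategoryTheory CategoryTheory.Limits
open scoped TensorProduct

attribute [local instance] HasDerivedCategory.standard

namespace Groth.Agent.DualCx.Unramified

open Devissage (E pre)
open Dimfun (Z deg)

variable {A B : Type u} [CommRing A] [CommRing B] [Algebra A B] [Module.Flat A B]
  [IsNoetherianRing A] [IsNoetherianRing B] {ω : Dual.D A} (hω : Dual.IsDualizing A ω)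

include hω

/-- the residue field of a maximal ideal `m` with `pB_m = mB_m` -/
theorem residue (m : Ideal B) [m.IsMaximal] (p : PrimeSpectrum A) (hp : m.comap (algebraMap A B) = p.1)
    (u : B) (hu : u ∉ m) (hum : ∀ z ∈ m, u * z ∈ p.1.map (algebraMap A B)) :
    (∀ i, i ≠ deg hω p → Subsingleton (E (B ⧸ m) ((BaseChange.FD A B).obj ω) i)) ∧
      Nonempty (E (B ⧸ m) ((BaseChange.FD A B).obj ω) (deg hω p) ≃ₗ[B] (B ⧸ m)) := by
  classical
  set d := deg hω p
  set K := (BaseChange.FD A B).obj ω
  obtain ⟨a₀, ha₀⟩ := Dimfun.exists_isGE hω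
  let q : Ideal B := p.1.map (algebraMap A B)
  have hqm : q ≤ m := Ideal.map_le_iff_le_comap.mpr hp.ge
  obtain ⟨eq⟩ := FlatBC.nonempty_quotient (B := B) p.1
  let eP : ∀ i, B ⊗[A] E (A ⧸ p.1) ω i ≃ₗ[B] E (B ⧸ q) K i := fun i =>
    (FlatBC.homLEquiv ω a₀ (A ⧸ p.1) i).trans (Devissage.congrE eq K i)
  have hP : ∀ i, i ≠ d → ∀ e : E (B ⧸ q) K i, ∃ s : A, s ∉ p.1 ∧ algebraMap A B s • e = 0 := by
    intro i hi e
    obtain ⟨t, rfl⟩ := (eP i).surjective e
    induction t using TensorProduct.induction_on with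
    | zero => exact ⟨1, fun h1 => p.2.ne_top ((Ideal.eq_top_iff_one _).mpr h1), by simp⟩
    | tmul b m =>
      obtain ⟨s, hs, hm⟩ := Dimfun.Z_of_ne hω p i hi m
      refine ⟨s, hs, ?_⟩
      rw [← map_smul, algebraMap_smul, ← TensorProduct.tmul_smul, hm, TensorProduct.tmul_zero, map_zero]
    | add y z hy hz =>
      obtain ⟨s, hs, hsy⟩ := hy
      obtain ⟨t, ht, htz⟩ := hz
      refine ⟨s * t, fun hm => (p.2.mem_or_mem hm).elim hs ht, ?_⟩
      rw [map_add (eP i), smul_add, map_mul, mul_comm, mul_smul, hsy, smul_zero, mul_comm, mul_smul, htz,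
        smul_zero, add_zero]
  obtain ⟨x, hgen, hfree⟩ := Polynomial.exists_gen hω p
  let y : E (B ⧸ q) K d := eP d (1 ⊗ₜ x)
  have hy : ∀ e : E (B ⧸ q) K d, ∃ (s : A) (b : B), s ∉ p.1 ∧ algebraMap A B s • e = b • y := by
    intro e
    obtain ⟨t, rfl⟩ := (eP d).surjective e
    induction t using TensorProduct.induction_on with
    | zero => exact ⟨1, 0, fun h => p.2.ne_top ((Ideal.eq_top_iff_one _).mpr h), by simp⟩
    | tmul b e =>
      obtain ⟨s, a, hs, hse⟩ := hgen e
      refine ⟨s, b * algebraMap A B a, hs, ?_⟩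
      rw [← map_smul, algebraMap_smul, ← TensorProduct.tmul_smul, hse, TensorProduct.tmul_smul,
        TensorProduct.smul_tmul']
      simp only [y]
      rw [← map_smul, TensorProduct.smul_tmul', smul_eq_mul, mul_one, Algebra.smul_def, mul_comm]
    | add e e' he he' =>
      obtain ⟨s, b, hs, h1⟩ := he
      obtain ⟨s', b', hs', h2⟩ := he'
      refine ⟨s * s', algebraMap A B s' * b + algebraMap A B s * b',
        fun h => (p.2.mem_or_mem h).elim hs hs', ?_⟩
      rw [map_add (eP d), smul_add, add_smul, mul_smul, mul_smul, ← h1, ← h2, smul_smul, smul_smul,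
        map_mul, mul_comm (algebraMap A B s') (algebraMap A B s)]
  have huy : u • y ≠ 0 := by
    intro h0
    have h1 : u ⊗ₜ[A] x = 0 := (eP d).injective (by
      rw [map_zero, ← h0, ← map_smul, TensorProduct.smul_tmul', smul_eq_mul, mul_one])
    let T : A →ₗ[A] E (A ⧸ p.1) ω d := LinearMap.toSpanSingleton A _ x
    obtain ⟨t, ht⟩ := (Module.Flat.lTensor_exact B T.exact_subtype_ker_map (u ⊗ₜ[A] (1 : A))).mp
      (by rw [LinearMap.lTensor_tmul, LinearMap.toSpanSingleton_apply, one_smul, h1])
    refine hu (hqm ?_)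
    have h2 := congrArg (TensorProduct.rid A B) ht
    rw [TensorProduct.rid_tmul, one_smul] at h2
    rw [← h2]
    clear ht h2
    induction t using TensorProduct.induction_on with
    | zero => simp
    | tmul b a =>
      rw [LinearMap.lTensor_tmul, TensorProduct.rid_tmul, Algebra.smul_def]
      refine Ideal.mul_mem_right _ _ (Ideal.mem_map_of_mem _ (hfree a ⟨1,
        fun h => p.2.ne_top ((Ideal.eq_top_iff_one _).mpr h), ?_⟩))
      rw [one_smul]
      exact a.2
    | add y z hy hz =>
      rw [map_add, map_add]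
      exact q.add_mem hy hz
  -- compare with the residue field
  let π : B ⧸ q →ₗ[B] B ⧸ m := Submodule.mapQ q m LinearMap.id hqm
  have hπ : Function.Surjective π := fun z => by
    obtain ⟨z, rfl⟩ := Submodule.Quotient.mk_surjective _ z
    exact ⟨Submodule.Quotient.mk z, rfl⟩
  have hkill : ∀ e : LinearMap.ker π, u • e = 0 := by
    rintro ⟨e, he⟩
    obtain ⟨f, rfl⟩ := Submodule.Quotient.mk_surjective _ e
    refine Subtype.ext ?_
    change Submodule.Quotient.mk (p := q) (u • f) = 0
    rw [Submodule.Quotient.mk_eq_zero, smul_eq_mul]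
    exact hum f ((Submodule.Quotient.mk_eq_zero m).mp he)
  have hEker : ∀ i, ∀ e : E (LinearMap.ker π) K i, u • e = 0 := fun i e => by
    rw [← Devissage.pre_id i e, ← Devissage.pre_smul,
      show u • (LinearMap.id : LinearMap.ker π →ₗ[B] _) = (0 : B) • LinearMap.id from
        LinearMap.ext fun z => by rw [LinearMap.smul_apply, LinearMap.smul_apply, zero_smul]; exact hkill z,
      Devissage.pre_smul, zero_smul]
  have hx : Function.Exact (LinearMap.ker π).subtype π := LinearMap.exact_subtype_ker_map π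
  let hS := (Devissage.sc_shortExact (Submodule.injective_subtype _) hπ hx).singleTriangle_distinguished
  have hinvert : ∀ i (e : E (B ⧸ m) K i) (c : B), c ∉ m → c • e = 0 → e = 0 := by
    intro i e c hc hce
    obtain ⟨r, z, hz, hrz⟩ := (‹m.IsMaximal›).exists_inv hc
    rw [← one_smul B e, ← hrz, add_smul, mul_smul, hce, smul_zero, zero_add,
      Dimfun.smul_E_eq_zero m i hz e]
  have hout : ∀ s : A, s ∉ p.1 → algebraMap A B s ∉ m := fun s hs h => hs (hp.le h)
  have hπinj : ∀ i (e : E (B ⧸ m) K i) (c : B), c ∉ m → c • pre π K i e = 0 → e = 0 := by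
    intro i e c hc hce
    obtain ⟨w, hw⟩ := (Hom.exact_cδ_pre B K hS (i - 1) i (by omega) (c • e)).mp
      ((map_smul (pre π K i) _ _).trans hce)
    refine hinvert i e (u * c) (fun h => ((‹m.IsMaximal›).isPrime.mem_or_mem h).elim hu hc) ?_
    rw [mul_smul, ← hw]
    exact (map_smul (Hom.cδ B _ K (i - 1) i (by omega)) _ _).symm.trans
      ((congrArg _ (hEker _ w)).trans (map_zero _))
  refine ⟨fun i hi => subsingleton_of_forall_eq 0 fun e => ?_, ?_⟩
  · obtain ⟨s, hs, hse⟩ := hP i hi (pre π K i e)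
    exact hπinj i e _ (hout s hs) hse
  · obtain ⟨w, hw⟩ := (Devissage.exact_mid (K := K) (Submodule.injective_subtype _) hπ hx d (u • y)).mp
      ((map_smul (pre (LinearMap.ker π).subtype K d) _ _).trans (hEker _ _))
    have hw0 : w ≠ 0 := fun h => huy (by rw [← hw, h, map_zero])
    let ψ : B ⧸ m →ₗ[B] E (B ⧸ m) K d :=
      Submodule.liftQ m (LinearMap.toSpanSingleton B _ w) fun b hb => Dimfun.smul_E_eq_zero m d hb w
    have hs : IsSimpleModule B (B ⧸ m) :=
      isSimpleModule_iff_quot_maximal.mpr ⟨m, inferInstance, ⟨LinearEquiv.refl _ _⟩⟩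
    refine ⟨(LinearEquiv.ofBijective ψ ⟨?_, ?_⟩).symm⟩
    · refine (LinearMap.injective_or_eq_zero ψ).resolve_right fun h0 => hw0 ?_
      have := LinearMap.congr_fun h0 (Submodule.Quotient.mk 1)
      rw [Submodule.liftQ_apply, LinearMap.toSpanSingleton_apply, one_smul] at this
      exact this
    · intro e
      obtain ⟨s, b, hs', hsb⟩ := hy (pre π K d e)
      have hcm : u * algebraMap A B s ∉ m := fun h =>
        ((‹m.IsMaximal›).isPrime.mem_or_mem h).elim hu (hout s hs')
      have h1 : (u * algebraMap A B s) • e - b • w = 0 := hπinj d _ 1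
        (fun h => (‹m.IsMaximal›).ne_top ((Ideal.eq_top_iff_one _).mpr h)) (by
          rw [map_sub, map_smul, map_smul, hw, mul_smul, hsb, smul_comm b, sub_self, smul_zero])
      obtain ⟨r, z, hz, hrz⟩ := (‹m.IsMaximal›).exists_inv hcm
      refine ⟨Submodule.Quotient.mk (r * b), ?_⟩
      rw [Submodule.liftQ_apply, LinearMap.toSpanSingleton_apply, mul_smul, ← sub_eq_zero.mp h1,
        smul_smul, eq_sub_of_add_eq hrz, sub_smul, one_smul,
        Dimfun.smul_E_eq_zero m d hz e, sub_zero]

theorem isDualizing (h : ∀ m : Ideal B, m.IsMaximal → ∃ u, u ∉ m ∧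
      ∀ z ∈ m, u * z ∈ (m.comap (algebraMap A B)).map (algebraMap A B)) :
    Dual.IsDualizing B ((BaseChange.FD A B).obj ω) := by
  obtain ⟨a, ha⟩ := Dimfun.exists_isGE hω
  obtain ⟨a', b, hb⟩ := Dimfun.deg_bounds hω
  have : ((BaseChange.FD A B).obj ω).IsGE a := FlatBC.isGE_FD ω a
  refine Biduality.isDualizing _ a (fun i => ?_) b fun m hm => ?_
  · have := hω.finite_cohomology i
    exact Module.Finite.equiv (BaseChange.HDEquiv A B ω i)
  · let p : PrimeSpectrum A := ⟨m.comap (algebraMap A B), Ideal.IsPrime.comap _⟩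
    obtain ⟨u, hu, hum⟩ := h m hm
    exact ⟨deg hω p, (hb p).2, residue hω m p rfl u hu hum⟩

omit hω [Module.Flat A B] [IsNoetherianRing A] in
/-- unramified maps satisfy the hypothesis -/
theorem exists_unit [Algebra.FormallyUnramified A B] [Algebra.EssFiniteType A B] (m : Ideal B)
    [m.IsMaximal] : ∃ u, u ∉ m ∧
      ∀ z ∈ m, u * z ∈ (m.comap (algebraMap A B)).map (algebraMap A B) := by
  classical
  let P : Ideal A := m.comap (algebraMap A B)
  have : m.LiesOver P := ⟨rfl⟩
  let := Localization.AtPrime.algebraOfLiesOver P m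
  have hmap : (P.map (algebraMap A B)).map (algebraMap B (Localization.AtPrime m)) =
      IsLocalRing.maximalIdeal (Localization.AtPrime m) := by
    rw [Ideal.map_map, ← IsScalarTower.algebraMap_eq]
    exact ((Algebra.isUnramifiedAt_iff_map_eq A P m).mp inferInstance).2
  obtain ⟨t, ht⟩ := (IsNoetherian.noetherian m : m.FG)
  have hpt : ∀ z : B, z ∈ m → ∃ c, c ∉ m ∧ c * z ∈ P.map (algebraMap A B) := fun z hz => by
    have h1 : algebraMap B (Localization.AtPrime m) z ∈
        (P.map (algebraMap A B)).map (algebraMap B (Localization.AtPrime m)) :=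
      hmap.symm ▸ (IsLocalization.AtPrime.to_map_mem_maximal_iff (Localization.AtPrime m) m z).mpr hz
    obtain ⟨c, hc, hcz⟩ := (IsLocalization.algebraMap_mem_map_algebraMap_iff m.primeCompl
      (Localization.AtPrime m) (P.map (algebraMap A B)) z).mp h1
    exact ⟨c, hc, hcz⟩
  choose c hc hcz using hpt
  have ht' : ∀ z ∈ t, z ∈ m := fun z hz => ht ▸ Ideal.subset_span hz
  refine ⟨∏ z ∈ t.attach, c z.1 (ht' _ z.2), fun h => ?_, fun z hz => ?_⟩
  · obtain ⟨z, -, hz⟩ := Ideal.IsPrime.prod_mem_iff.mp h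
    exact hc _ _ hz
  · rw [← ht] at hz
    induction hz using Submodule.span_induction with
    | mem z hz =>
      rw [← Finset.prod_erase_mul _ _ (Finset.mem_attach t ⟨z, hz⟩), mul_assoc]
      exact Ideal.mul_mem_left _ _ (hcz z _)
    | zero => simp
    | add y z _ _ hy hz => rw [mul_add]; exact Ideal.add_mem _ hy hz
    | smul b z _ hz => rw [mul_smul_comm]; exact Submodule.smul_mem _ b hz

end Groth.Agent.DualCx.Unramified
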